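import Mathlib
import Cfsg.Agent.Fus.SatCrit
import Cfsg.Agent.GT.Conj
import Cfsg.Agent.GT.PGroupBasic

/-!
# Saturated fusion systems generated by automorphisms of one minimal centric subgroup
-/

namespace Cfsg.FusionSystem

open Cfsg.Agent Cfsg.Agent.Fus Subgroup

variable {Ω : Type*} [Group Ω] {S E P : Subgroup Ω} {p : ℕ} {f : Ω → Ω}

theorem isMorPred_univ (S : Subgroup Ω) : IsMorPred S fun P f =>
    P ≤ S ∧ MulOn P f ∧ (∀ x ∈ P, f x ∈ S) ∧ Set.InjOn f P where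
  congr := fun ⟨h1, h2, h3, h4⟩ e => ⟨h1, h2.congr e, fun x hx => e x hx ▸ h3 x hx, h4.congr e⟩
  mulOn := fun h => h.2.1
  le := fun h => h.1
  mem := fun h => h.2.2.1
  inj := fun h _ hx _ hy e => h.2.2.2 hx hy e
  conj := fun hP hs => ⟨hP, fun x _ y _ => by group,
    fun x hx => mul_mem (mul_mem hs (hP hx)) (S.inv_mem hs), fun x _ y _ e => by simpa using e⟩
  comp := fun ⟨h1, h2, _, h4⟩ ⟨_, k2, k3, k4⟩ h => ⟨h1, fun x hx y hy => by
    beta_reduce; rw [h2 x hx y hy, k2 _ (h x hx) _ (h y hy)], fun x hx => k3 _ (h x hx),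
    fun x hx y hy e => h4 hx hy (k4 (h x hx) (h y hy) e)⟩
  inv := fun {P f} ⟨h1, h2, h3, h4⟩ => by
    have e : ∀ x ∈ P, Function.invFunOn f P (f x) = x := fun x hx => h4.leftInvOn_invFunOn hx
    refine ⟨_, ⟨img_le_iff.2 h3, fun a ha b hb => ?_, fun a ha => ?_, fun a ha b hb h => ?_⟩, e⟩
    · obtain ⟨x, hx, rfl⟩ := h2.mem_img.1 ha
      obtain ⟨y, hy, rfl⟩ := h2.mem_img.1 hb
      rw [← h2 x hx y hy, e x hx, e y hy, e _ (mul_mem hx hy)]
    · obtain ⟨x, hx, rfl⟩ := h2.mem_img.1 ha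
      rw [e x hx]; exact h1 hx
    · obtain ⟨x, hx, rfl⟩ := h2.mem_img.1 ha
      obtain ⟨y, hy, rfl⟩ := h2.mem_img.1 hb
      rw [e x hx, e y hy] at h; rw [h]

/-- The fusion system of all injective homomorphisms between subgroups of `S`. -/
def univSystem (S : Subgroup Ω) : FusionSystem S := ofMor (isMorPred_univ S)

theorem mor_univ : (univSystem S).Mor P f ↔
    P ≤ S ∧ MulOn P f ∧ (∀ x ∈ P, f x ∈ S) ∧ Set.InjOn f P := mor_ofMor _

theorem mor_univ_totA (hE : E ≤ S) (α : MulAut E) : (univSystem S).Mor E (totA α) :=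
  mor_univ.2 ⟨hE, mulOn_totA α, fun _ hx => hE (totA_mem α hx), fun x hx y hy e => by
    rw [← totA_inv_totA α hx, e, totA_inv_totA α hy]⟩

theorem Gen.mono_base {B B' : Subgroup Ω → (Ω → Ω) → Prop} (hB : ∀ R g, B R g → B' R g)
    (h : Gen S B P f) : Gen S B' P f := by
  induction h with
  | conj hP hs e => exact .conj hP hs e
  | base hb hP e => exact .base (hB _ _ hb) hP e
  | baseInv hb e => exact .baseInv (hB _ _ hb) e
  | comp _ _ h3 e ih1 ih2 => exact .comp ih1 ih2 h3 e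

theorem autGroup_le_of_inner {F : FusionSystem S} (hP : P ≤ S)
    (h : ∀ f, F.Mor P f → ∃ s ∈ S, ∀ x ∈ P, f x = s * x * s⁻¹) :
    F.autGroup P ≤ autInducedBy S P := fun α hα => by
  obtain ⟨s, hs, e⟩ := h _ (mor_totA hP hα)
  exact mem_autInducedBy.2 ⟨s, hs, fun x => by rw [← e x x.2, totA_coe]⟩

/-- The criterion of Broto, Levi and Oliver for a single subgroup. -/
theorem exists_isSaturated_of_aut [Finite S] [Fact p.Prime] (hS : IsPGroup p S) (hE : E ≤ S)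
    {Δ : Subgroup (MulAut E)} (hA : autInducedBy S E ≤ Δ)
    (hi : ¬ p ∣ (autInducedBy S E).relIndex Δ)
    (hs : ∀ α ∈ Δ, ∀ s ∈ normalizerIn S E, s ∉ E → α * cAut E s * α⁻¹ ∈ autInducedBy S E →
      α ∈ autInducedBy S E)
    (hm : ∀ P < E, ∃ α ∈ Δ, ¬ centralizerIn S (img (totA α) P) ≤ img (totA α) P) :
    ∃ F : FusionSystem S, F.IsSaturated p ∧ F.autGroup E = Δ := by
  have := finite_of_le hE
  have hfam : (univSystem S).IsFamily S fun R g => R = E ∧ ∃ α ∈ Δ, g = totA α :=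
    ⟨le_rfl, by rintro _ _ ⟨rfl, α, -, rfl⟩; exact mor_univ_totA hE α,
      by rintro _ _ ⟨rfl, α, -, rfl⟩; exact ⟨hE, fun x hx => hE (totA_mem α hx)⟩⟩
  obtain ⟨F, hF⟩ : ∃ F : FusionSystem S, ∀ {P f}, F.Mor P f ↔
      Gen S (fun R g => R = E ∧ ∃ α ∈ Δ, g = totA α) P f := ⟨_, hfam.mor_generated⟩
  have hΔ : ∀ α ∈ Δ, F.Mor E (totA α) := fun α hα =>
    hF.2 (.base ⟨rfl, α, hα, rfl⟩ le_rfl fun _ _ => rfl)
  have hnorm : ∀ {t : Ω} {α : MulAut E}, (∀ x ∈ E, t * totA α x * t⁻¹ ∈ E) →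
      t ∈ normalizer (E : Set Ω) := fun {t α} h => mem_normalizer_fintype fun x hx => by
    simpa [totA_totA_inv α hx] using h _ (totA_mem α⁻¹ hx)
  have key : ∀ {P f}, F.Mor P f → (∀ g, F.Mor P g → img g P ≤ E → img g P = E) →
      (∃ s ∈ S, ∀ x ∈ P, f x = s * x * s⁻¹) ∨ ∃ s ∈ S, img (fun x => s * x * s⁻¹) P = E ∧
        ∃ t ∈ S, ∃ α ∈ Δ, ∀ x ∈ P, f x = t * totA α (s * x * s⁻¹) * t⁻¹ := by
    intro P f hf hbig
    have hP := hf.le
    let M : (Ω → Ω) → Prop := fun f => F.Mor P f ∧ ((∃ s ∈ S, ∀ x ∈ P, f x = s * x * s⁻¹) ∨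
      ∃ s ∈ S, img (fun x => s * x * s⁻¹) P = E ∧
        ∃ t ∈ S, ∃ α ∈ Δ, ∀ x ∈ P, f x = t * totA α (s * x * s⁻¹) * t⁻¹)
    have hcongr : ∀ {f g}, M f → (∀ x ∈ P, f x = g x) → M g := by
      rintro f g ⟨h, ⟨s, hs, e⟩ | ⟨s, hs, e, t, ht, α, hα, e'⟩⟩ hfg
      · exact ⟨h.congr hfg, Or.inl ⟨s, hs, fun x hx => hfg x hx ▸ e x hx⟩⟩
      · exact ⟨h.congr hfg, Or.inr ⟨s, hs, e, t, ht, α, hα, fun x hx => hfg x hx ▸ e' x hx⟩⟩
    have hbase : ∀ {f}, M f → ∀ β ∈ Δ, (∀ x ∈ P, f x ∈ E) → M fun x => totA β (f x) := by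
      rintro f ⟨h, ⟨s, hs, e⟩ | ⟨s, hs, e, t, ht, α, hα, e'⟩⟩ β hβ hm
      · refine ⟨(hΔ β hβ).comp h hm, Or.inr ⟨s, hs, ?_, 1, one_mem _, β, hβ, fun x hx => ?_⟩⟩
        · rw [← img_congr e]; exact hbig f h (img_le_iff.2 hm)
        · simp [e x hx]
      · have hE' : ∀ x ∈ P, s * x * s⁻¹ ∈ E := img_le_iff.1 e.le
        have htn : t ∈ normalizer (E : Set Ω) := hnorm (α := α) fun y hy => by
          obtain ⟨x, hx, rfl⟩ := ((F.mor_conj hP hs).mem_img le_rfl).1 (e.ge hy)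
          exact e' x hx ▸ hm x hx
        refine ⟨(hΔ β hβ).comp h hm, Or.inr ⟨s, hs, e, 1, one_mem _, β * cAut E t * α,
          mul_mem (mul_mem hβ (hA (cAut_mem_autInducedBy ⟨ht, htn⟩))) hα, fun x hx => ?_⟩⟩
        simp [e' x hx, totA_mul _ _ (hE' x hx), totA_mul _ _ (totA_mem α (hE' x hx)),
          totA_cAut htn (totA_mem α (hE' x hx))]
    refine (Gen.left_induction (M := M) ⟨F.mor_id hP, Or.inl ⟨1, one_mem _, by simp⟩⟩ hcongr
      ?_ ?_ ?_ (hF.1 hf)).2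
    · rintro f u ⟨h, ⟨s, hs, e⟩ | ⟨s, hs, e, t, ht, α, hα, e'⟩⟩ - hu
      · exact ⟨h.conj_comp hu, Or.inl ⟨u * s, mul_mem hu hs, fun x hx => by
          beta_reduce; rw [e x hx]; group⟩⟩
      · exact ⟨h.conj_comp hu, Or.inr ⟨s, hs, e, u * t, mul_mem hu ht, α, hα, fun x hx => by
          beta_reduce; rw [e' x hx]; group⟩⟩
    · rintro f _ _ h ⟨rfl, β, hβ, rfl⟩ hm
      exact hbase h β hβ hm
    · rintro f f' _ _ h ⟨rfl, β, hβ, rfl⟩ hm
      refine hcongr (hbase h β⁻¹ (Δ.inv_mem hβ) fun x hx => ?_) fun x hx => ?_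
      · exact (hm x hx).2 ▸ totA_mem β (hm x hx).1
      · rw [← (hm x hx).2, totA_inv_totA β (hm x hx).1]
  have big : ∀ {P : Subgroup Ω}, Nat.card E ≤ Nat.card P → ∀ g, F.Mor P g → img g P ≤ E → img g P = E :=
    fun hc g hg h => (hg.iso_of_card_le (img_le_iff.1 h) hc).img_eq
  have keyE : ∀ {f}, F.Mor E f → ∃ t ∈ S, ∃ α ∈ Δ, ∀ x ∈ E, f x = t * totA α x * t⁻¹ := by
    intro f hf
    rcases key hf (big le_rfl) with ⟨s, hs, e⟩ | ⟨s, hs, e, t, ht, α, hα, e'⟩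
    · exact ⟨s, hs, 1, one_mem _, fun x hx => by rw [e x hx, totA_one hx]⟩
    · have hsn : s ∈ normalizer (E : Set Ω) := mem_normalizer_fintype (img_le_iff.1 e.le)
      exact ⟨t, ht, α * cAut E s, mul_mem hα (hA (cAut_mem_autInducedBy ⟨hs, hsn⟩)), fun x hx => by
        rw [e' x hx, totA_mul _ _ hx, totA_cAut hsn hx]⟩
  have hAut : F.autGroup E = Δ := le_antisymm (fun α hα => by
    obtain ⟨t, ht, β, hβ, e⟩ := keyE (mor_totA hE hα)
    have htn : t ∈ normalizer (E : Set Ω) := hnorm fun x hx => e x hx ▸ totA_mem α hx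
    rw [show α = cAut E t * β from mulAut_ext_totA fun x hx => by
      rw [e x hx, totA_mul _ _ hx, totA_cAut htn (totA_mem β hx)]]
    exact mul_mem (hA (cAut_mem_autInducedBy ⟨ht, htn⟩)) hβ)
    fun α hα => (mem_autGroup_iff hE).2 (hΔ α hα)
  have inn : ∀ {P}, P ≤ S → ¬ F.IsConj E P → (∀ g, F.Mor P g → img g P ≤ E → img g P = E) →
      ∀ f, F.Mor P f → ∃ s ∈ S, ∀ x ∈ P, f x = s * x * s⁻¹ := fun hP hc hb f hf =>
    (key hf hb).resolve_right fun ⟨s, hs, e, _⟩ => hc (e ▸ (F.mor_conj hP hs).isConj_img).symm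
  have ext : ∀ {P N}, N ≤ normalizerIn S P → ∀ α ∈ autInducedBy S P,
      ∃ g, F.Mor N g ∧ ∀ x ∈ P, g x = totA α x := fun hN α hα => by
    obtain ⟨s, hs, rfl⟩ := mem_autInducedBy_iff_cAut.1 hα
    exact ⟨_, F.mor_conj (hN.trans normalizerIn_le) hs.1, fun x hx => (totA_cAut hs.2 hx).symm⟩
  have satE : F.SatAt p E := by
    refine satAt_of ((isFullyAutomized_iff hS).2 ⟨hE, hAut ▸ hi⟩)
      (isReceptive_of_aut hE (fun R hR => ?_) fun α hα N hN h => ?_)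
    · obtain ⟨f, hf⟩ := hR.symm.exists_iso
      obtain ⟨t, ht, α, hα, e⟩ := keyE hf.mor
      refine ⟨_, F.mor_conj' normalizerIn_le ht, ?_⟩
      rw [← hf.img_eq, ← hf.mor.mulOn.img_comp]
      exact img_eq_of_eqOn_totA (α := α) fun x hx => by rw [e x hx]; group
    · rw [hAut] at hα
      by_cases hNE : N ≤ E
      · exact ⟨_, (hΔ α hα).mono hNE, fun _ _ => rfl⟩
      · obtain ⟨s, hsN, hsE⟩ := SetLike.not_le_iff_exists.1 hNE
        exact ext hN α (hs α hα s (hN hsN) hsE (h s hsN))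
  refine ⟨F, isSaturated_of_gen hS (H := fun P => P = S ∨ F.IsConj E P) ?_ ?_ ?_ ?_, hAut⟩
  · rintro P Q (rfl | h) hc
    · exact Or.inl (eq_of_le_of_card_ge hc.le_right hc.card_eq.le)
    · exact Or.inr (h.trans hc)
  · intro P hP h
    by_cases hc : F.IsConj E P
    · exact satE.of_isConj hc
    obtain rfl := h.resolve_right hc
    have h1 := autGroup_le_of_inner le_rfl (inn le_rfl hc (big (card_le_of_le hE)))
    refine satAt_of ((isFullyAutomized_iff hS).2 ⟨le_rfl, ?_⟩)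
      (isReceptive_of_aut le_rfl (fun R hR => ?_) fun α hα N hN _ => ext hN α (h1 hα))
    · rw [relIndex_eq_one.2 h1]; exact (Fact.out : p.Prime).not_dvd_one
    · obtain rfl : R = P := eq_of_le_of_card_ge hR.le_left hR.card_eq.ge
      exact ⟨_, F.mor_id normalizerIn_le, img_id' _⟩
  · intro P f hf
    refine (hF.1 hf).mono_base ?_
    rintro _ _ ⟨rfl, α, hα, rfl⟩
    exact ⟨Or.inr (IsConj.refl F hE), hΔ α hα⟩
  · intro P hP hn
    rw [not_or] at hn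
    have h1 := autGroup_le_of_inner hP.1 (inn hP.1 hn.2 fun g hg h => by
      by_contra hne
      obtain ⟨α, hα, hc⟩ := hm _ (lt_of_le_of_ne h hne)
      exact hc (hP.2 _ (hg.isConj_img.trans ((hΔ α hα).mono h).isConj_img)))
    obtain ⟨s, hsN, hsP⟩ := SetLike.exists_of_lt (lt_normalizerIn hS (lt_of_le_of_ne hP.1 hn.1))
    exact ⟨P, IsConj.refl F hP.1, s, hsN, hsP, GT.le_pCoreOf le_rfl le_normalizer
      ((isPGroup_autInducedBy hS P).to_le h1) (F.cAut_mem_autGroup hP.1 hsN)⟩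

/-- A non-inner saturated system from an automorphism of order three. -/
theorem exists_isSaturated_of_three [Finite S] (hS : IsPGroup 2 S) (hE : E ≤ S) {t : Ω}
    (ht : t ∈ normalizerIn S E) (hN : ∀ s ∈ normalizerIn S E, s ∈ E ∨ t⁻¹ * s ∈ E) {θ : MulAut E}
    (h3 : θ ^ 3 = 1) (h1 : θ ≠ 1) (hθ : cAut E t * θ * (cAut E t)⁻¹ * θ ∈ Inn E)
    (hm : ∀ P < E, ∃ i : ℕ, ¬ centralizerIn S (img (totA (θ ^ i)) P) ≤ img (totA (θ ^ i)) P) :
    ∃ F : FusionSystem S, F.IsSaturated 2 ∧ F ≠ innerFusionSystem S := by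
  have : Fact (Nat.Prime 2) := ⟨Nat.prime_two⟩
  have := finite_of_le hE
  have hI : (Inn E).Normal := inferInstance
  have hIA : Inn E ≤ autInducedBy S E := inn_le_autInducedBy hE
  have hc := cAut_mem_autInducedBy ht
  have hN' : ∀ s ∈ normalizerIn S E, s ∉ E → (cAut E t)⁻¹ * cAut E s ∈ Inn E := fun s hs h => by
    rw [← cAut_inv ht.2, ← cAut_mul (Subgroup.inv_mem _ ht.2) hs.2]
    exact cAut_mem_inn ((hN s hs).resolve_left h)
  generalize cAut E t = c at hθ hc hN'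
  have odd : ∀ γ ∈ autInducedBy S E, γ ^ 3 = 1 → γ = 1 := fun γ hγ h => by
    obtain ⟨k, hk⟩ := isPGroup_autInducedBy hS E ⟨γ, hγ⟩
    exact (pow_eq_one_iff_of_coprime (Nat.Coprime.pow_left k (by norm_num : Nat.Coprime 2 3))).1
      ⟨congrArg Subtype.val hk, h⟩
  have hθA : θ ∉ autInducedBy S E := fun h => h1 (odd θ h h3)
  have hK : autInducedBy S E ≤ normalizer ((Inn E ⊔ zpowers θ : Subgroup _) : Set (MulAut E)) := by
    intro β hβ
    obtain ⟨s, hs, rfl⟩ := mem_autInducedBy_iff_cAut.1 hβ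
    by_cases hsE : s ∈ E
    · exact le_normalizer (mem_sup_left (cAut_mem_inn hsE))
    refine (mul_mem_cancel_left (Subgroup.inv_mem _ (mem_normalizer_fintype ?_))).1
      (le_normalizer (mem_sup_left (hN' s hs hsE)))
    refine (sup_le (fun a ha => mem_sup_left (hI.conj_mem a ha c)) (zpowers_le.2 ?_) :
      _ ≤ (Inn E ⊔ zpowers θ).comap (MulAut.conj c).toMonoidHom)
    exact (mul_mem_cancel_right (mem_sup_right (mem_zpowers θ))).1 (mem_sup_left hθ)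
  obtain ⟨F, hF, hAut⟩ := exists_isSaturated_of_aut hS hE
    (Δ := autInducedBy S E ⊔ (Inn E ⊔ zpowers θ)) le_sup_left (fun h => by
      rw [GT.relIndex_sup_of_le_normalizer_left hK] at h
      have := h.trans (relIndex_dvd_of_le_left _ hIA)
      rw [GT.PG.relIndex_sup_zpowers Nat.prime_three (le_normalizer_of_normal (mem_top θ))
        (fun h => hθA (hIA h)) (h3 ▸ one_mem _)] at this
      omega)
    (fun α hα s hs hsE h => by
      obtain ⟨β, hβ, _, hk, rfl⟩ := (mem_sup_of_le_normalizer hK).1 hα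
      obtain ⟨ι, hι, _, ⟨i, rfl⟩, rfl⟩ := mem_sup_of_normal_left.1 hk
      beta_reduce at h ⊢
      have h4 := hI.conj_mem _ (hN' s hs hsE) (θ ^ i)
      have h5 : θ ^ i * c * (θ ^ i)⁻¹ * c⁻¹ ∈ autInducedBy S E := by
        have := mul_mem (mul_mem (mul_mem (mul_mem (Subgroup.inv_mem _ (mul_mem hβ (hIA hι))) h)
          (mul_mem hβ (hIA hι))) (Subgroup.inv_mem _ (hIA h4))) (Subgroup.inv_mem _ hc)
        convert this using 1
        group
      have h6 : (θ ^ i * c * (θ ^ i)⁻¹ * c⁻¹)⁻¹ * (θ ^ i) ^ 2 ∈ Inn E := by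
        rw [← QuotientGroup.eq, ← QuotientGroup.mk'_apply, ← QuotientGroup.mk'_apply]
        rw [← QuotientGroup.eq_one_iff, ← QuotientGroup.mk'_apply] at hθ
        simp only [_root_.map_mul, _root_.map_inv, map_zpow, _root_.map_pow] at hθ ⊢
        rw [mul_assoc, mul_assoc, ← mul_assoc _ _⁻¹, ← zpow_neg, ← conj_zpow,
          eq_inv_of_mul_eq_one_left hθ, sq, inv_zpow', neg_neg]
      have h7 := odd _ ((mul_mem_cancel_left (Subgroup.inv_mem _ h5)).1 (hIA h6)) (by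
        rw [← pow_mul, mul_comm, pow_mul, ← zpow_natCast (θ ^ i), ← zpow_mul, mul_comm i,
          zpow_mul, zpow_natCast, h3, one_zpow, one_pow])
      have h8 : θ ^ i = 1 := (pow_eq_one_iff_of_coprime (by norm_num : Nat.Coprime 2 3)).1 ⟨h7, by
        rw [← zpow_natCast (θ ^ i), ← zpow_mul, mul_comm i, zpow_mul, zpow_natCast, h3, one_zpow]⟩
      rw [h8, mul_one]
      exact mul_mem hβ (hIA hι))
    fun P hP => by
      obtain ⟨i, hi⟩ := hm P hP
      exact ⟨_, mem_sup_right (mem_sup_right (pow_mem (mem_zpowers θ) i)), hi⟩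
  refine ⟨F, hF, fun e => hθA ?_⟩
  rw [← autGroup_inner hE, ← e, hAut]
  exact mem_sup_right (mem_sup_right (mem_zpowers θ))

end Cfsg.FusionSystem
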