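import Mathlib
import Cfsg.Agent.Fus.OneEss
import Cfsg.Agent.GT.PGroupIso

/-!
# A non-inner saturated system from a four-group or quaternion group times a central subgroup
-/

set_option linter.unusedSectionVars false

namespace Cfsg.Agent.Fus.Bic

open Subgroup Cfsg.FusionSystem GT.PG

variable {G : Type*} [Group G]

theorem exists_aut_of_graph {E : Subgroup G} {K : Subgroup (G × G)} (hK : IsIsoGraph K)
    (h1 : K.map (MonoidHom.fst G G) = E) (h2 : K.map (MonoidHom.snd G G) = E) :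
    ∃ θ : MulAut E, ∀ k ∈ K, totA θ k.1 = k.2 := by
  have m1 : ∀ k ∈ K, k.1 ∈ E := fun k hk => h1.le ⟨k, hk, rfl⟩
  have m2 : ∀ k ∈ K, k.2 ∈ E := fun k hk => h2.le ⟨k, hk, rfl⟩
  obtain ⟨e, he⟩ := IsIsoGraph.exists_mulEquiv (K := K.comap (E.subtype.prodMap E.subtype))
    (fun x hx => by simpa using hK _ hx)
    (eq_top_iff.2 fun g _ => by
      obtain ⟨k, hk, e⟩ := h1.ge g.2
      exact ⟨(g, ⟨k.2, m2 k hk⟩), by change ((g : G), k.2) ∈ K; rw [← e]; exact hk, rfl⟩)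
    (eq_top_iff.2 fun g _ => by
      obtain ⟨k, hk, e⟩ := h2.ge g.2
      exact ⟨(⟨k.1, m1 k hk⟩, g), by change (k.1, (g : G)) ∈ K; rw [← e]; exact hk, rfl⟩)
  exact ⟨e, fun k hk => by
    rw [totA_apply _ (m1 k hk)]
    exact congrArg Subtype.val (he (⟨k.1, m1 k hk⟩, ⟨k.2, m2 k hk⟩) hk)⟩

theorem mem_or_of_sq {N : Subgroup G} {g a : G} (hn : g ∈ normalizer (N : Set G))
    (h2 : g ^ 2 ∈ N) (ha : a ∈ N ⊔ zpowers g) : a ∈ N ∨ ∃ n ∈ N, a = n * g := by
  obtain ⟨n, hn, i, rfl⟩ := (mem_sup_zpowers_of_mem_normalizer hn).1 ha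
  obtain ⟨k, rfl | rfl⟩ := Int.even_or_odd' i
  · exact Or.inl (mul_mem hn (by rw [zpow_mul, zpow_ofNat]; exact zpow_mem h2 k))
  · exact Or.inr ⟨_, mul_mem hn (zpow_mem h2 k), by group⟩

/-- `E = C ⟨y, x⟩` with `C` central and `⟨y, x⟩` a four-group or quaternion of order eight. -/
structure Dat (C : Subgroup G) (y x t : G) : Prop where
  cC : ∀ c ∈ C, ∀ d ∈ C, Commute c d
  cy : ∀ c ∈ C, Commute c y
  cx : ∀ c ∈ C, Commute c x
  ct : ∀ c ∈ C, Commute c t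
  sq : y ^ 2 = x ^ 2
  inv : x * y * x⁻¹ = y⁻¹
  wC : x ^ 2 ∈ C
  yC : y ∉ C
  ty : Commute t y
  tx : t * x * t⁻¹ = y * x
  cen : ∀ g, Commute g x → g ∈ C ⊔ zpowers y ⊔ zpowers x
  der : ∀ u ∈ commutator G, x * u * x⁻¹ * u⁻¹ ∈ zpowers (x ^ 2) → u ∈ zpowers y

namespace Dat

variable [Finite G] {C : Subgroup G} {y x t : G} (h : Dat C y x t)
include h

local notation "E" => C ⊔ zpowers y ⊔ zpowers x

omit h in
theorem C_le : C ≤ E := le_sup_left.trans le_sup_left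
omit h in
theorem y_mem : y ∈ E := mem_sup_left (mem_sup_right (mem_zpowers y))
omit h in
theorem x_mem : x ∈ E := mem_sup_right (mem_zpowers x)

theorem y_ne : y ≠ 1 := fun e => h.yC (e ▸ one_mem _)

theorem xy : x * y⁻¹ = y * x := by
  rw [← mul_inv_eq_iff_eq_mul, ← conj_inv, h.inv, inv_inv]

theorem xyx : x * (y * x) = y := by
  calc x * (y * x) = x * y * x⁻¹ * x ^ 2 := by group
    _ = y := by rw [h.inv, ← h.sq]; group

theorem norm {g : G} (hg : ∀ c ∈ C, Commute c g) : g ∈ normalizer (C : Set G) :=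
  mem_normalizer_fintype fun c hc => by rwa [← (hg c hc).eq, mul_inv_cancel_right]

theorem le_cen {g : G} (h1 : ∀ c ∈ C, Commute c g) {u : G} (h2 : Commute u g) :
    C ⊔ zpowers u ≤ centralizer {g} :=
  sup_le (fun c hc => mem_centralizer_singleton_iff.2 (h1 c hc))
    (zpowers_le.2 (mem_centralizer_singleton_iff.2 h2))

theorem x_notMem : x ∉ C ⊔ zpowers y := fun e => h.y_ne (by
  have := h.tx
  rwa [← mem_centralizer_singleton_iff.1 (h.le_cen h.ct h.ty.symm e), mul_inv_cancel_right,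
    right_eq_mul] at this)

theorem x_norm : x ∈ normalizer ((C ⊔ zpowers y : Subgroup G) : Set G) :=
  mem_normalizer_fintype (sup_le (fun c hc => mem_sup_left ((h.norm h.cx c).1 hc)) (zpowers_le.2
    (show x * y * x⁻¹ ∈ C ⊔ zpowers y from h.inv ▸ mem_sup_right (inv_mem (mem_zpowers y)))) :
      _ ≤ (C ⊔ zpowers y).comap (MulAut.conj x).toMonoidHom)

theorem nf {g : G} (hg : g ∈ E) :
    ∃ c ∈ C, g = c ∨ g = c * y ∨ g = c * x ∨ g = c * (y * x) := by
  have h1 := fun {a} => mem_or_of_sq (a := a) (h.norm h.cy) (h.sq ▸ h.wC)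
  rcases mem_or_of_sq h.x_norm (mem_sup_left h.wC) hg with e | ⟨n, e, rfl⟩
  · rcases h1 e with e | ⟨c, hc, rfl⟩
    exacts [⟨g, e, Or.inl rfl⟩, ⟨c, hc, Or.inr (Or.inl rfl)⟩]
  · rcases h1 e with e | ⟨c, hc, rfl⟩
    exacts [⟨n, e, Or.inr (Or.inr (Or.inl rfl))⟩, ⟨c, hc, Or.inr (Or.inr (Or.inr (mul_assoc ..)))⟩]

theorem commute_of_mem {c g : G} (hc : c ∈ C) (hg : g ∈ E) : Commute c g := by
  obtain ⟨d, hd, rfl | rfl | rfl | rfl⟩ := h.nf hg
  exacts [h.cC c hc _ hd, (h.cC c hc _ hd).mul_right (h.cy c hc),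
    (h.cC c hc _ hd).mul_right (h.cx c hc),
    (h.cC c hc _ hd).mul_right ((h.cy c hc).mul_right (h.cx c hc))]

theorem comm_mem {u : G} (hu : u ∈ E) : x * u * x⁻¹ * u⁻¹ ∈ zpowers (x ^ 2) := by
  have k : ∀ c ∈ C, ∀ r, x * (c * r) * x⁻¹ * (c * r)⁻¹ = c * (x * r * x⁻¹ * r⁻¹) * c⁻¹ :=
    fun c hc r => by rw [← mul_assoc, ← (h.cx c hc).eq]; group
  have k2 : ∀ c ∈ C, c * (y⁻¹ * y⁻¹) * c⁻¹ ∈ zpowers (x ^ 2) := fun c hc => by
    rw [← pow_two, inv_pow, h.sq, (h.cC c hc _ h.wC).inv_right.eq, mul_inv_cancel_right]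
    exact inv_mem (mem_zpowers _)
  obtain ⟨c, hc, rfl | rfl | rfl | rfl⟩ := h.nf hu
  · rw [← (h.cx _ hc).eq]; simp
  · rw [k c hc, h.inv]; exact k2 c hc
  · rw [k c hc]; simp
  · rw [k c hc, show x * (y * x) * x⁻¹ * (y * x)⁻¹ = x * y * x⁻¹ * y⁻¹ by group, h.inv]
    exact k2 c hc

theorem exists_aut : ∃ θ : MulAut (E : Subgroup G), (∀ c ∈ C, totA θ c = c) ∧ totA θ y = x ∧
    totA θ x = y * x := by
  let D := C.map ((MonoidHom.id G).prod (MonoidHom.id G))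
  have hD : IsIsoGraph D := by rintro _ ⟨c, -, rfl⟩; rfl
  have d1 : D.map (MonoidHom.fst G G) = C := by rw [map_map]; exact map_id C
  have d2 : D.map (MonoidHom.snd G G) = C := by rw [map_map]; exact map_id C
  have hn : ∀ {a b : G}, a ∈ E → b ∈ E → ∀ d ∈ D, (a, b) * d * (a, b)⁻¹ = d := by
    rintro a b ha hb _ ⟨c, hc, rfl⟩
    exact Prod.ext (by simp [← (h.commute_of_mem hc ha).eq])
      (by simp [← (h.commute_of_mem hc hb).eq])
  have hxC : x ∉ C := fun e => h.x_notMem (mem_sup_left e)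
  have h1 := hD.sup_zpowers Nat.prime_two (b := y) (b' := x)
    (mem_normalizer_fintype fun d hd => by rwa [hn y_mem x_mem d hd])
    ⟨x ^ 2, h.wC, Prod.ext h.sq.symm rfl⟩ (d1 ▸ h.yC) (d2 ▸ hxC)
  have e1 : (D ⊔ zpowers (y, x)).map (MonoidHom.fst G G) = C ⊔ zpowers y := by
    rw [Subgroup.map_sup, d1, MonoidHom.map_zpowers]; rfl
  have e2 : (D ⊔ zpowers (y, x)).map (MonoidHom.snd G G) = C ⊔ zpowers x := by
    rw [Subgroup.map_sup, d2, MonoidHom.map_zpowers]; rfl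
  have hyx : (y * x) ^ 2 = x ^ 2 := by rw [pow_two, mul_assoc, h.xyx, ← pow_two, h.sq]
  have h2 := h1.sup_zpowers Nat.prime_two (b := x) (b' := y * x)
    (mem_normalizer_fintype (sup_le (fun d hd => mem_sup_left (by
      change (x, y * x) * d * (x, y * x)⁻¹ ∈ D
      rwa [hn x_mem (mul_mem y_mem x_mem) d hd])) (zpowers_le.2 (mem_sup_right (by
        have : (x, y * x) * (y, x) * (x, y * x)⁻¹ = (y, x)⁻¹ := Prod.ext h.inv (by
          change y * x * x * (y * x)⁻¹ = x⁻¹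
          rw [mul_assoc y, ← pow_two, ← h.sq, ← h.xy, mul_inv_eq_iff_eq_mul, ← mul_assoc,
            inv_mul_cancel, one_mul, eq_inv_iff_mul_eq_one, ← pow_succ', ← pow_succ]
          have := congrArg (· ^ 2) h.inv
          rw [conj_pow, h.sq, ← (Commute.refl x).pow_left 2, mul_inv_cancel_right, ← h.sq,
            inv_pow, eq_inv_iff_mul_eq_one, ← pow_add] at this
          exact this)
        change (x, y * x) * (y, x) * (x, y * x)⁻¹ ∈ _
        rw [this]; exact inv_mem (mem_zpowers _)))) :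
      _ ≤ (D ⊔ zpowers (y, x)).comap (MulAut.conj (x, y * x)).toMonoidHom))
    (mem_sup_left ⟨x ^ 2, h.wC, Prod.ext rfl hyx.symm⟩) (e1 ▸ h.x_notMem) (e2 ▸ fun e => by
      rcases mem_or_of_sq (h.norm h.cx) h.wC e with e | ⟨c, hc, e⟩
      · exact h.x_notMem ((mul_mem_cancel_left (mem_sup_right (mem_zpowers y))).1 (mem_sup_left e))
      · exact h.yC (mul_right_cancel e ▸ hc))
  obtain ⟨θ, hθ⟩ := exists_aut_of_graph h2
    (show _ = E by rw [Subgroup.map_sup, e1, MonoidHom.map_zpowers]; rfl) (by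
      rw [Subgroup.map_sup, e2, MonoidHom.map_zpowers]
      refine le_antisymm (sup_le (sup_le C_le (zpowers_le.2 x_mem))
        (zpowers_le.2 (mul_mem y_mem x_mem))) (sup_le (sup_le (le_sup_left.trans le_sup_left)
          (zpowers_le.2 ?_)) (le_sup_right.trans le_sup_left))
      exact (mul_mem_cancel_right (mem_sup_left (mem_sup_right (mem_zpowers x)))).1
        (mem_sup_right (mem_zpowers _)))
  exact ⟨θ, fun c hc => hθ (c, c) (mem_sup_left (mem_sup_left ⟨c, hc, rfl⟩)),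
    hθ (y, x) (mem_sup_left (mem_sup_right (mem_zpowers _))),
    hθ (x, y * x) (mem_sup_right (mem_zpowers _))⟩

theorem ext {α β : MulAut (E : Subgroup G)} (h1 : ∀ c ∈ C, totA α c = totA β c)
    (h2 : totA α y = totA β y) (h3 : totA α x = totA β x) : α = β :=
  mulAut_ext_totA fun g hg => by
    have a := mulOn_totA α
    have b := mulOn_totA β
    obtain ⟨c, hc, rfl | rfl | rfl | rfl⟩ := h.nf hg
    · exact h1 _ hc
    · rw [a _ (C_le hc) _ y_mem, b _ (C_le hc) _ y_mem, h1 c hc, h2]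
    · rw [a _ (C_le hc) _ x_mem, b _ (C_le hc) _ x_mem, h1 c hc, h3]
    · rw [a _ (C_le hc) _ (mul_mem y_mem x_mem), b _ (C_le hc) _ (mul_mem y_mem x_mem),
        a _ y_mem _ x_mem, b _ y_mem _ x_mem, h1 c hc, h2, h3]

theorem t_norm : t ∈ normalizer ((E : Subgroup G) : Set G) :=
  mem_normalizer_fintype (sup_le (sup_le (fun c hc => C_le ((h.norm h.ct c).1 hc)) (zpowers_le.2
    (show t * y * t⁻¹ ∈ E by rw [h.ty.eq, mul_inv_cancel_right]; exact y_mem))) (zpowers_le.2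
    (show t * x * t⁻¹ ∈ E from h.tx ▸ mul_mem y_mem x_mem)) :
      _ ≤ (E).comap (MulAut.conj t).toMonoidHom)

theorem t_notMem : t ∉ E := fun e => by
  have := h.tx
  obtain ⟨c, hc, rfl | rfl | rfl | rfl⟩ := h.nf e
  · rw [(h.cx _ hc).eq, mul_inv_cancel_right, right_eq_mul] at this
    exact h.y_ne this
  · rw [show c * y * x * (c * y)⁻¹ = c * (y * (x * y⁻¹)) * c⁻¹ by group, h.xy,
      (h.commute_of_mem hc (mul_mem y_mem (mul_mem y_mem x_mem))).eq, mul_inv_cancel_right,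
      mul_eq_right] at this
    exact h.y_ne this
  · rw [show c * x * x * (c * x)⁻¹ = c * x * c⁻¹ by group, (h.cx _ hc).eq, mul_inv_cancel_right,
      right_eq_mul] at this
    exact h.y_ne this
  · rw [show c * (y * x) * x * (c * (y * x))⁻¹ = c * (y * (x * y⁻¹)) * c⁻¹ by group, h.xy,
      (h.commute_of_mem hc (mul_mem y_mem (mul_mem y_mem x_mem))).eq, mul_inv_cancel_right,
      mul_eq_right] at this
    exact h.y_ne this

theorem conj_zpow (i : ℤ) : t ^ i * x * (t ^ i)⁻¹ = y ^ i * x := by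
  have k : ∀ i : ℤ, t * (y ^ i * x) * t⁻¹ = y ^ (i + 1) * x := fun i => by
    rw [← conj_mul, h.tx, (h.ty.zpow_right i).eq, mul_inv_cancel_right, zpow_add_one, mul_assoc]
  induction i using Int.induction_on with
  | zero => simp
  | succ i ih => rw [← k, ← ih, add_comm, zpow_one_add]; group
  | pred i ih =>
    have := k (-i - 1)
    rw [sub_add_cancel, ← ih] at this
    calc _ = t⁻¹ * (t ^ (-i : ℤ) * x * (t ^ (-i : ℤ))⁻¹) * t := by group
      _ = _ := by rw [← this]; group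

theorem mem_or {s : G} (hs : s ∈ normalizer ((E : Subgroup G) : Set G)) :
    s ∈ E ∨ t⁻¹ * s ∈ E := by
  obtain ⟨i, hi⟩ := h.der (s * x * s⁻¹ * x⁻¹) (commutator_mem_commutator (mem_top s) (mem_top x))
    (h.comm_mem (mul_mem ((hs x).1 x_mem) (inv_mem x_mem)))
  have h1 : (t ^ i)⁻¹ * s ∈ E := h.cen _ (by
    have := h.conj_zpow i
    rw [show y ^ i = _ from hi, inv_mul_cancel_right] at this
    calc (t ^ i)⁻¹ * s * x = (t ^ i)⁻¹ * (s * x * s⁻¹) * s := by group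
      _ = _ := by rw [← this]; group)
  have h2 : t ^ 2 ∈ E := (mul_mem_cancel_left (inv_mem y_mem)).1 (h.cen _ (by
    have := h.conj_zpow 2
    calc y⁻¹ * t ^ 2 * x = y⁻¹ * (t ^ (2 : ℤ) * x * (t ^ (2 : ℤ))⁻¹) * t ^ 2 := by group
      _ = y * x * t ^ 2 := by rw [this]; group
      _ = _ := by rw [← h.xy, mul_assoc]))
  obtain ⟨k, rfl | rfl⟩ := Int.even_or_odd' i
  · rw [zpow_mul, zpow_ofNat] at h1
    exact Or.inl ((mul_mem_cancel_left (inv_mem (zpow_mem h2 k))).1 h1)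
  · refine Or.inr ((mul_mem_cancel_left (inv_mem (zpow_mem h2 k))).1 ?_)
    convert h1 using 1
    group

theorem exists_isSaturated (hG : IsPGroup 2 G) :
    ∃ F : FusionSystem (⊤ : Subgroup G), F.IsSaturated 2 ∧ F ≠ innerFusionSystem ⊤ := by
  obtain ⟨θ, h1, h2, h3⟩ := h.exists_aut
  have m := mulOn_totA θ
  have hyx : y * x ∈ E := mul_mem y_mem x_mem
  have h4 : totA θ (y * x) = y := by rw [m _ y_mem _ x_mem, h2, h3, h.xyx]
  have hc : ∀ i : ℕ, ∀ c ∈ C, totA (θ ^ i) c = c := fun i c hc => by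
    induction i with
    | zero => exact totA_one (C_le hc)
    | succ i ih => rw [pow_succ, totA_mul _ _ (C_le hc), h1 c hc, ih]
  have hn := h.t_norm
  have hn' := Subgroup.inv_mem _ hn
  have key : ∀ {g}, g ∈ E → totA (cAut _ t * θ * (cAut _ t)⁻¹ * θ) g =
      t * totA θ (t⁻¹ * totA θ g * t) * t⁻¹ := fun hg => by
    have k1 := totA_mem θ hg
    have k2 := totA_mem (cAut _ t⁻¹) k1
    rw [← cAut_inv hn, totA_mul _ _ hg, totA_mul _ _ k1, totA_mul _ _ k2,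
      totA_cAut hn (totA_mem θ k2), totA_cAut hn' k1, inv_inv]
  refine exists_isSaturated_of_three (hG.to_subgroup ⊤) le_top (t := t) ⟨mem_top t, hn⟩
    (fun s hs => h.mem_or hs.2) (θ := θ) (h.ext (fun c hc' => by rw [hc 3 c hc', totA_one (C_le hc')])
      ?_ ?_) (fun e => h.y_ne ?_) ?_ fun P hP => ?_
  · rw [pow_three', totA_mul _ _ y_mem, h2, totA_mul _ _ x_mem, h3, h4, totA_one y_mem]
  · rw [pow_three', totA_mul _ _ x_mem, h3, totA_mul _ _ hyx, h4, h2, totA_one x_mem]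
  · rwa [e, totA_one x_mem, right_eq_mul] at h3
  · have k1 : t⁻¹ * (y * x) * t = x := by rw [← h.tx]; group
    have k2 : t⁻¹ * x * t = y⁻¹ * x := by
      calc t⁻¹ * x * t = (t⁻¹ * y * t)⁻¹ * (t⁻¹ * (y * x) * t) := by group
        _ = _ := by rw [k1, mul_assoc, ← h.ty.eq, inv_mul_cancel_left]
    refine (h.ext (α := cAut _ t * θ * (cAut _ t)⁻¹ * θ) (β := cAut _ (y * x))
      (fun c hc' => ?_) ?_ ?_).symm ▸ cAut_mem_inn hyx
    · rw [key (C_le hc'), totA_cAut (le_normalizer hyx) (C_le hc'), h1 c hc', mul_assoc t⁻¹,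
        (h.ct c hc').eq, inv_mul_cancel_left, h1 c hc', ← (h.ct c hc').eq,
        ← (h.commute_of_mem hc' hyx).eq, mul_inv_cancel_right, mul_inv_cancel_right]
    · rw [key y_mem, totA_cAut (le_normalizer hyx) y_mem, h2, k2, m _ (inv_mem y_mem) _ x_mem,
        m.map_inv y_mem, h2, h3, show y * x * y * (y * x)⁻¹ = y * (x * y * x⁻¹) * y⁻¹ by group,
        h.inv, ← h.xy, inv_mul_cancel_left, h.ty.inv_right.eq]
      group
    · rw [key x_mem, totA_cAut (le_normalizer hyx) x_mem, h3, k1, h3, ← conj_mul, h.tx, h.ty.eq,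
        mul_inv_cancel_right, show y * x * x * (y * x)⁻¹ = y * (x * y⁻¹) by group, h.xy]
  by_cases hCP : C ≤ P
  swap
  · obtain ⟨c, hcC, hcP⟩ := SetLike.not_le_iff_exists.1 hCP
    have e : img (totA (θ ^ 0)) P = P :=
      (img_congr fun g hg => totA_one (hP.le hg)).trans (img_id' P)
    exact ⟨0, e.symm ▸ fun hle => hcP (hle ⟨mem_top c, fun g hg =>
      (h.commute_of_mem hcC (hP.le hg)).eq.symm⟩)⟩
  have fin : ∀ (i : ℕ) {r : G}, r ∈ E → totA (θ ^ i) r = y →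
      (∀ g ∈ P, ∃ c ∈ C, g = c ∨ g = c * r) →
      ¬ centralizerIn ⊤ (img (totA (θ ^ i)) P) ≤ img (totA (θ ^ i)) P := fun i r hr e hg hle => by
    have k : img (totA (θ ^ i)) P ≤ C ⊔ zpowers y := img_le_iff.2 fun g hgP => by
      obtain ⟨c, hcC, rfl | rfl⟩ := hg g hgP
      · rw [hc i _ hcC]; exact mem_sup_left hcC
      · rw [mulOn_totA _ _ (C_le hcC) _ hr, hc i _ hcC, e]
        exact mul_mem (mem_sup_left hcC) (mem_sup_right (mem_zpowers y))
    exact h.t_notMem (mem_sup_left (k (hle ⟨mem_top t, fun g hg =>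
      mem_centralizer_singleton_iff.1 (h.le_cen h.ct h.ty.symm (k hg))⟩)))
  have hne : ¬ (y ∈ P ∧ x ∈ P) := fun ⟨a, b⟩ =>
    hP.not_ge (sup_le (sup_le hCP (zpowers_le.2 a)) (zpowers_le.2 b))
  have cc : ∀ {c r}, c ∈ C → c * r ∈ P → r ∈ P := fun a b => (mul_mem_cancel_left (hCP a)).1 b
  by_cases hx : x ∈ P
  · refine ⟨2, fin 2 x_mem (by rw [pow_two, totA_mul _ _ x_mem, h3, h4]) fun g hg => ?_⟩
    obtain ⟨c, hcC, rfl | rfl | rfl | rfl⟩ := h.nf (hP.le hg)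
    exacts [⟨_, hcC, Or.inl rfl⟩, absurd ⟨cc hcC hg, hx⟩ hne, ⟨_, hcC, Or.inr rfl⟩,
      absurd ⟨(mul_mem_cancel_right hx).1 (cc hcC hg), hx⟩ hne]
  by_cases hy : y ∈ P
  · refine ⟨0, fin 0 y_mem (totA_one y_mem) fun g hg => ?_⟩
    obtain ⟨c, hcC, rfl | rfl | rfl | rfl⟩ := h.nf (hP.le hg)
    exacts [⟨_, hcC, Or.inl rfl⟩, ⟨_, hcC, Or.inr rfl⟩, absurd (cc hcC hg) hx,
      absurd ((mul_mem_cancel_left hy).1 (cc hcC hg)) hx]
  · refine ⟨1, fin 1 hyx (by rw [pow_one, h4]) fun g hg => ?_⟩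
    obtain ⟨c, hcC, rfl | rfl | rfl | rfl⟩ := h.nf (hP.le hg)
    exacts [⟨_, hcC, Or.inl rfl⟩, absurd (cc hcC hg) hy, absurd (cc hcC hg) hx,
      ⟨_, hcC, Or.inr rfl⟩]

end Dat

end Cfsg.Agent.Fus.Bic
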