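import Mathlib
import Cfsg.Agent.Fus.BicEx
import Cfsg.Agent.FG.Bicyclic

/-!
# Bicyclic non-metacyclic `2`-groups with cyclic derived group carry a non-inner saturated system
-/

set_option linter.unusedSectionVars false

open scoped commutatorElement

namespace Cfsg.Agent.Fus.Bic

open Subgroup Cfsg.FusionSystem GT.PG FG.BC FG.TM

local instance : Fact (Nat.Prime 2) := ⟨Nat.prime_two⟩

universe u

variable {G : Type u} [Group G] [Finite G]

theorem meta_of_commute {a b : G} (h : zpowers a ⊔ zpowers b = ⊤) (hc : Commute a b) :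
    IsMetacyclic G :=
  have := isMulCommutative_of_zpowers_sup_eq_top h hc
  isMetacyclic_iff.2 ⟨a, b, inferInstance, h⟩

theorem top_of_mem {a b c d : G} (h : zpowers a ⊔ zpowers b = ⊤)
    (ha : a ∈ zpowers c ⊔ zpowers d ⊔ frattini G) (hb : b ∈ zpowers c ⊔ zpowers d ⊔ frattini G) :
    zpowers c ⊔ zpowers d = ⊤ :=
  frattini_nongenerating (eq_top_iff.2 (h.ge.trans (sup_le (zpowers_le.2 ha) (zpowers_le.2 hb))))

theorem exists_sq_mem (hG : IsPGroup 2 G) {x y : G} (hb : ∀ g : G, ∃ i j : ℤ, g = x ^ i * y ^ j)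
    (hm : ¬ IsMetacyclic G) (hc : IsCyclic (commutator G)) :
    ∃ a u : G, zpowers a ⊔ zpowers u = ⊤ ∧ u ^ 2 ∈ commutator G := by
  induction hn : Nat.card G using Nat.strong_induction_on generalizing G with
  | _ n ih =>
  have htop : zpowers x ⊔ zpowers y = ⊤ := eq_top_iff.2 fun g _ => by
    obtain ⟨i, j, rfl⟩ := hb g
    exact mul_mem (mem_sup_left (zpow_mem (mem_zpowers x) i))
      (mem_sup_right (zpow_mem (mem_zpowers y) j))
  obtain ⟨z, hzc, hz, hz1, hz2⟩ := exists_mem_center_of_normal hG (commutator G) fun e =>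
    hm (meta_of_commute htop ((commutator_eq_bot_iff.1 e).is_comm.comm x y))
  have hZ := normal_zpowers_of_mem_center hz
  by_cases hq : IsMetacyclic (G ⧸ zpowers z)
  · have h := (meta_lift hG hz hzc hz2 hq).resolve_left hm
    obtain ⟨-, i, j, hi, hj, e⟩ := (meta_or_odd hG hb hz hz1 hz2 h).resolve_left hm
    refine ⟨x ^ i, x ^ i * y ^ j, eq_top_iff.2 (htop.ge.trans (sup_le (zpowers_le.2
      (mem_sup_left (mem_zpowers_zpow_of_odd hG x hi))) (zpowers_le.2 (zpowers_le.2 ?_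
        (mem_zpowers_zpow_of_odd hG y hj))))), ?_⟩
    · exact (mul_mem_cancel_left (mem_sup_left (mem_zpowers _))).1 (mem_sup_right (mem_zpowers _))
    · have := mul_mem (normal_of_commutator_le le_rfl |>.conj_mem _ (commutator_mem_commutator
        (mem_top (x ^ i)⁻¹) (mem_top (y ^ j))) ((x ^ i) ^ 2)) hzc
      rw [e] at this
      convert this using 1
      rw [commutatorElement_def, sq, sq, sq]
      group
  have hcZ : Nat.card (zpowers z) = 2 := by rw [Nat.card_zpowers, orderOf_eq_prime hz2 hz1]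
  have hcard : Nat.card G = Nat.card (G ⧸ zpowers z) * 2 := by
    rw [card_eq_card_quotient_mul_card_subgroup (zpowers z), hcZ]
  have hmap : (commutator G).map (QuotientGroup.mk' (zpowers z)) = commutator _ := by
    rw [commutator_def, map_commutator, map_top_of_surjective _ (QuotientGroup.mk'_surjective _),
      commutator_def]
  obtain ⟨⟨a⟩, ⟨u⟩, h1, h2⟩ := ih _ (by have := Nat.card_pos (α := G ⧸ zpowers z); omega)
    (hG.to_quotient (zpowers z)) (x := (x : G ⧸ zpowers z)) (y := (y : G ⧸ zpowers z))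
    (by rintro ⟨g⟩; obtain ⟨i, j, rfl⟩ := hb g; exact ⟨i, j, rfl⟩) hq
    (hmap ▸ isCyclic_of_surjective _ (MonoidHom.subgroupMap_surjective _ _)) rfl
  change zpowers (QuotientGroup.mk' _ a) ⊔ zpowers (QuotientGroup.mk' _ u) = ⊤ at h1
  change QuotientGroup.mk' _ (u ^ 2) ∈ _ at h2
  rw [← hmap, ← mem_comap, comap_map_eq, QuotientGroup.ker_mk',
    sup_eq_left.2 (zpowers_le.2 hzc)] at h2
  rw [← MonoidHom.map_zpowers, ← MonoidHom.map_zpowers, ← Subgroup.map_sup] at h1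
  have h3 := congrArg (comap (QuotientGroup.mk' (zpowers z))) h1
  rw [comap_map_eq, QuotientGroup.ker_mk', comap_top] at h3
  exact ⟨a, u, frattini_nongenerating (eq_top_iff.2 (h3.ge.trans (sup_le_sup_left
    (zpowers_le.2 (commutator_le_frattini hG hzc)) _))), h2⟩

theorem mem_zpowers_pow {v u : G} {m d : ℕ} (ho : orderOf v = 2 ^ (m + d)) (hu : u ∈ zpowers v)
    (h : u ^ 2 ^ d = 1) : u ∈ zpowers (v ^ 2 ^ m) := by
  obtain ⟨i, rfl⟩ := hu
  rw [← zpow_natCast, ← zpow_mul, ← orderOf_dvd_iff_zpow_eq_one, ho] at h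
  push_cast at h
  rw [pow_add] at h
  obtain ⟨k, rfl⟩ := Int.dvd_of_mul_dvd_mul_right (by positivity) h
  exact ⟨k, by simp [zpow_mul, ← zpow_natCast]⟩

/-- Generators of a non-metacyclic `2`-group with cyclic derived group. -/
structure Gn (a x v : G) : Prop where
  pg : IsPGroup 2 G
  nm : ¬ IsMetacyclic G
  top : zpowers a ⊔ zpowers x = ⊤
  der : commutator G = zpowers v
  ax : a * x * a⁻¹ = v * x
  sq : x ^ 2 ∈ zpowers v

theorem exists_gn (hG : IsPGroup 2 G) (hm : ¬ IsMetacyclic G) (hc : IsCyclic (commutator G))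
    {a x : G} (h : zpowers a ⊔ zpowers x = ⊤) (hx : x ^ 2 ∈ commutator G) : ∃ v, Gn a x v := by
  have hv : ⁅a, x⁆ ∈ commutator G := commutator_mem_commutator (mem_top _) (mem_top _)
  have hn : (zpowers ⁅a, x⁆).Normal := ⟨by
    obtain ⟨w, hw⟩ := (commutator G).isCyclic_iff_exists_zpowers_eq_top.1 hc
    rintro _ ⟨k, rfl⟩ g
    obtain ⟨i, hi⟩ := hw.ge hv
    obtain ⟨l, hl⟩ := hw.ge ((normal_of_commutator_le le_rfl).conj_mem w (hw.le (mem_zpowers w)) g)
    refine ⟨l * k, ?_⟩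
    simp only at hi hl ⊢
    rw [← conj_zpow, ← hi, ← conj_zpow, ← hl, ← zpow_mul, ← zpow_mul, ← zpow_mul]
    congr 1; ring⟩
  have hd : commutator G = zpowers ⁅a, x⁆ := le_antisymm (commutator_le_of_two_generators
    (by rwa [sup_comm]) _ (mem_zpowers _)) (zpowers_le.2 hv)
  exact ⟨_, hG, hm, h, hd, by rw [commutatorElement_def]; group, hd ▸ hx⟩

namespace Gn

variable {a x v : G} (h : Gn a x v)
include h

theorem v_ne : v ≠ 1 := fun e => h.nm (meta_of_commute h.top (by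
  have := h.ax
  rw [e, one_mul] at this
  exact (commute_iff_conj_eq.2 this).symm))

theorem even {g k : G} (ht : zpowers g ⊔ zpowers k = ⊤) {m : ℤ} (e : g ^ 2 = v ^ m) : Even m := by
  by_contra ho
  exact h.nm (isMetacyclic_iff.2 ⟨g, k, normal_of_commutator_le (h.der ▸ zpowers_le.2
    (zpowers_le.2 (e ▸ pow_mem (mem_zpowers g) 2)
      (mem_zpowers_zpow_of_odd h.pg v (Int.not_even_iff_odd.1 ho)))), ht⟩)

theorem exists_conj (g : G) : ∃ l : ℤ, g * v * g⁻¹ = v ^ (2 * l + 1) := by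
  obtain ⟨l, hl⟩ := h.der.le ((normal_of_commutator_le le_rfl).conj_mem v
    (h.der.ge (mem_zpowers v)) g)
  obtain ⟨k, rfl | rfl⟩ := Int.even_or_odd' l
  · exfalso
    obtain ⟨n, hn⟩ := IsPGroup.iff_orderOf.1 h.pg v
    rcases n with _ | n
    · exact h.v_ne (orderOf_eq_one_iff.1 hn)
    have h1 : (g * v * g⁻¹) ^ 2 ^ n = 1 := by
      rw [← hl, ← zpow_natCast, ← zpow_mul, ← orderOf_dvd_iff_zpow_eq_one, hn]
      exact ⟨k, by push_cast; ring⟩
    rw [conj_pow, conj_eq_one_iff, ← orderOf_dvd_iff_pow_eq_one, hn,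
      Nat.pow_dvd_pow_iff_le_right one_lt_two] at h1
    omega
  · exact ⟨k, hl.symm⟩

theorem inv_and : x * v * x⁻¹ = v⁻¹ ∧ (x ^ 2) ^ 2 = 1 := by
  obtain ⟨m, hm⟩ := h.sq
  simp only at hm
  obtain ⟨m, rfl⟩ := h.even (by rw [sup_comm, h.top]) hm.symm
  obtain ⟨l, hl⟩ := h.exists_conj a
  have h1 : x * v * x⁻¹ = v ^ (4 * l * m - 1) := by
    calc x * v * x⁻¹ = v⁻¹ * (v * x) ^ 2 * (x ^ 2)⁻¹ := by rw [pow_two, pow_two]; group
      _ = _ := by rw [← h.ax, conj_pow, ← hm, ← conj_zpow, hl]; group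
  have h2 : (x ^ 2) ^ 2 = 1 := by
    have e : x * v ^ (m + m) * x⁻¹ = v ^ (m + m) := by rw [hm]; group
    rw [← conj_zpow, h1] at e
    obtain ⟨k, hk⟩ := mem_zpowers_zpow_of_odd h.pg ((x ^ 2) ^ 2) (k := 2 * l * m - 1)
      ⟨l * m - 1, by ring⟩
    have e' : ((x ^ 2) ^ 2) ^ (2 * l * m - 1) = 1 := by
      rw [← hm, ← mul_inv_cancel (v ^ (m + m))]
      nth_rw 2 [← e]
      group
    rw [← hk, e']; exact one_zpow k
  refine ⟨?_, h2⟩
  calc _ = ((x ^ 2) ^ 2) ^ l * v⁻¹ := by rw [h1, ← hm]; group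
    _ = _ := by rw [h2, one_zpow, one_mul]

theorem inv {u : G} (hu : u ∈ zpowers v) : x * u * x⁻¹ = u⁻¹ := by
  obtain ⟨i, rfl⟩ := hu
  simp only
  rw [← conj_zpow, h.inv_and.1, inv_zpow]

theorem top' : zpowers (a * x) ⊔ zpowers x = ⊤ :=
  top_of_mem h.top (mem_sup_left ((mul_mem_cancel_right (mem_sup_right (mem_zpowers x))).1
    (mem_sup_left (mem_zpowers _)))) (mem_sup_left (mem_sup_right (mem_zpowers x)))

theorem sq_notMem : a ^ 2 ∉ zpowers v := by
  rintro ⟨m, hm⟩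
  obtain ⟨k, hk⟩ := h.sq
  simp only at hm hk
  obtain ⟨m, rfl⟩ := h.even h.top hm.symm
  obtain ⟨k, rfl⟩ := h.even (by rw [sup_comm, h.top]) hk.symm
  have : (a * x) ^ 2 = v ^ (2 * (k - m) + 1) := by
    calc (a * x) ^ 2 = a * x * a⁻¹ * a ^ 2 * x := by rw [pow_two, pow_two]; group
      _ = v * (x * v ^ (m + m) * x⁻¹) * x ^ 2 := by rw [h.ax, ← hm, pow_two]; group
      _ = _ := by rw [h.inv (zpow_mem (mem_zpowers v) _), ← hk]; group
  exact Int.not_even_iff_odd.2 ⟨_, rfl⟩ (h.even h.top' this)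

theorem sq_mem_center : x ^ 2 ∈ center G := by
  refine mem_center_iff.2 fun g => mem_centralizer_singleton_iff.1 ((sup_le (zpowers_le.2 ?_)
    (zpowers_le.2 ?_) : _ ≤ centralizer {x ^ 2}) (h.top.ge (mem_top g))) <;>
    rw [mem_centralizer_singleton_iff]
  · rw [← mul_inv_eq_iff_eq_mul, ← conj_pow, h.ax]
    calc (v * x) ^ 2 = v * (x * v * x⁻¹) * x ^ 2 := by rw [pow_two, pow_two]; group
      _ = _ := by rw [h.inv_and.1]; group
  · group

theorem wlog : ∃ a, Gn a x v ∧ (v ^ 4 = 1 → Commute a v) := by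
  obtain ⟨l, hl⟩ := h.exists_conj a
  have k : ∀ i : ℤ, v ^ 4 = 1 → v ^ (4 * i) = 1 := fun i e => by
    rw [zpow_mul, zpow_ofNat, e, one_zpow]
  obtain ⟨l, rfl | rfl⟩ := Int.even_or_odd' l
  · refine ⟨a, h, fun e => (commute_iff_conj_eq.2 ?_).symm⟩
    calc _ = v ^ (4 * l) * v := by rw [hl]; group
      _ = v := by rw [k l e, one_mul]
  · refine ⟨a * x, ⟨h.pg, h.nm, h.top', h.der, by rw [← h.ax]; group, h.sq⟩,
      fun e => (commute_iff_conj_eq.2 ?_).symm⟩
    calc _ = (a * (x * v * x⁻¹)⁻¹ * a⁻¹)⁻¹ := by group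
      _ = (v ^ (4 * (l + 1)))⁻¹ * v := by rw [h.inv_and.1, inv_inv, hl]; group
      _ = v := by rw [k _ e, inv_one, one_mul]

theorem exists_e : ∃ j : ℤ, Commute (v ^ j * a ^ 2) x := by
  obtain ⟨l, hl⟩ := h.exists_conj a
  refine ⟨-(l + 1), (commute_iff_conj_eq.2 ?_).symm⟩
  calc _ = v ^ (-(l + 1)) * (a * (a * x * a⁻¹) * a⁻¹) * v ^ (l + 1) := by rw [pow_two]; group
    _ = v ^ (l + 1) * (x * v ^ (l + 1) * x⁻¹) * x := by rw [h.ax, ← conj_mul, hl, h.ax]; group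
    _ = x := by rw [h.inv (zpow_mem (mem_zpowers v) _)]; group

theorem commute_e (j : ℤ) {u : G} (hu : u ∈ zpowers v) (h8 : u ^ 8 = 1) :
    Commute (v ^ j * a ^ 2) u := by
  obtain ⟨l, hl⟩ := h.exists_conj a
  obtain ⟨i, rfl⟩ := hu
  simp only at h8 ⊢
  refine ((Commute.refl v).zpow_zpow j i).mul_left (commute_iff_conj_eq.2 ?_).symm
  obtain ⟨k, hk⟩ := Int.even_mul_succ_self l
  calc _ = a * (a * v ^ i * a⁻¹) * a⁻¹ := by rw [pow_two]; group
    _ = v ^ ((4 * (l * (l + 1)) + 1) * i) := by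
      rw [← conj_zpow, hl, ← zpow_mul, ← conj_zpow, hl, ← zpow_mul]; congr 1; ring
    _ = ((v ^ i) ^ 8) ^ k * v ^ i := by rw [hk]; group
    _ = _ := by rw [h8, one_zpow, one_mul]

theorem e_mem (j : ℤ) : v ^ j * a ^ 2 ∈ frattini G :=
  mul_mem (commutator_le_frattini h.pg (h.der.ge (zpow_mem (mem_zpowers v) j)))
    (pow_mem_frattini h.pg a)

theorem exists_dat (hav : v ^ 4 = 1 → Commute a v) {j : ℤ} (he : Commute (v ^ j * a ^ 2) x)
    {m d : ℕ} (ho : orderOf v = 2 ^ (m + d)) (hd : d ≤ 2) (hw : (v ^ 2 ^ m) ^ 2 = x ^ 2)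
    (hk : ∀ u : G, u ^ 2 ∈ zpowers (x ^ 2) → u ^ 2 ^ d = 1)
    (hy : v ^ 2 ^ m ∉ zpowers (v ^ j * a ^ 2) ⊔ zpowers (x ^ 2)) :
    ∃ t, Dat (zpowers (v ^ j * a ^ 2) ⊔ zpowers (x ^ 2)) (v ^ 2 ^ m) x t := by
  have hC : ∀ {g}, Commute (v ^ j * a ^ 2) g → ∀ c ∈ zpowers (v ^ j * a ^ 2) ⊔ zpowers (x ^ 2),
      Commute c g := fun {g} hg c hc => mem_centralizer_singleton_iff.1 ((sup_le
    (zpowers_le.2 (mem_centralizer_singleton_iff.2 hg)) (zpowers_le.2
      (mem_centralizer_singleton_iff.2 (mem_center_iff.1 h.sq_mem_center g).symm)) :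
        _ ≤ centralizer {g}) hc)
  have h8 : ∀ k, m + d ≤ k + 3 → (v ^ 2 ^ k) ^ 8 = 1 := fun k hk => by
    rw [← pow_mul, ← orderOf_dvd_iff_pow_eq_one, ho, show 2 ^ k * 8 = 2 ^ (k + 3) by ring]
    exact pow_dvd_pow 2 hk
  have hyv : ∀ k, v ^ 2 ^ k ∈ zpowers v := fun k => pow_mem (mem_zpowers v) _
  have hder : ∀ u ∈ zpowers v, u ^ 2 ∈ zpowers (x ^ 2) → u ∈ zpowers (v ^ 2 ^ m) :=
    fun u hu h2 => mem_zpowers_pow ho hu (hk u h2)
  obtain ⟨t, t1, t2, t3⟩ : ∃ t, Commute (v ^ j * a ^ 2) t ∧ Commute t (v ^ 2 ^ m) ∧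
      t * x * t⁻¹ = v ^ 2 ^ m * x := by
    rcases m with _ | m
    · have := hav (by
        rw [← orderOf_dvd_iff_pow_eq_one, ho]; exact pow_dvd_pow 2 (by omega : _ ≤ 2))
      exact ⟨a, (this.symm.zpow_left j).mul_left ((Commute.refl a).pow_left 2),
        this.pow_right _, by simpa using h.ax⟩
    · refine ⟨v ^ 2 ^ m, h.commute_e j (hyv m) (h8 m (by omega)),
        (Commute.refl v).pow_pow _ _, ?_⟩
      calc _ = v ^ 2 ^ m * (x * v ^ 2 ^ m * x⁻¹)⁻¹ * x := by group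
        _ = _ := by rw [h.inv (hyv m), inv_inv, ← pow_add, ← two_mul, ← pow_succ']
  refine ⟨t, fun c hc d hd => hC (hC (Commute.refl _) d hd).symm c hc,
    hC (h.commute_e j (hyv m) (h8 m (by omega))), hC he, hC t1, hw, h.inv (hyv m),
    mem_sup_right (mem_zpowers _), hy, t2, t3, fun g hg => ?_, fun u hu h2 => ?_⟩
  swap
  · rw [h.der] at hu
    rw [h.inv hu, ← pow_two, inv_pow, inv_mem_iff] at h2
    exact hder u hu h2
  have hX : (zpowers v).Normal := normal_of_commutator_le h.der.le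
  have hK : (zpowers v ⊔ (zpowers x ⊔ zpowers (v ^ j * a ^ 2))).Normal :=
    normal_of_commutator_le (h.der.le.trans le_sup_left)
  rcases mem_or_of_sq (N := zpowers v ⊔ (zpowers x ⊔ zpowers (v ^ j * a ^ 2))) (g := a) (a := g)
    (le_normalizer_of_normal (mem_top a)) ((mul_mem_cancel_left (mem_sup_left
      (zpow_mem (mem_zpowers v) j))).1 (mem_sup_right (mem_sup_right (mem_zpowers _))))
    ((sup_le le_sup_right ((le_sup_left.trans le_sup_right).trans le_sup_left) :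
      zpowers a ⊔ zpowers x ≤ _) (h.top.ge (mem_top g))) with e | ⟨k, hk, e⟩
  · obtain ⟨u, hu, d, hd, rfl⟩ := mem_sup_of_normal_left.1 e
    have h1 : Commute d x := mem_centralizer_singleton_iff.1 ((sup_le
      (zpowers_le.2 (mem_centralizer_singleton_iff.2 rfl))
      (zpowers_le.2 (mem_centralizer_singleton_iff.2 he)) : _ ≤ centralizer {x}) hd)
    have h2 : Commute u x := by simpa using hg.mul_left h1.inv_left
    have h3 := h.inv hu
    rw [← h2.eq, mul_inv_cancel_right, eq_inv_iff_mul_eq_one, ← pow_two] at h3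
    refine mul_mem (mem_sup_left (mem_sup_right (hder u hu (h3 ▸ one_mem _)))) ?_
    exact SetLike.le_def.1 (sup_le le_sup_right ((le_sup_left.trans le_sup_left).trans le_sup_left)) hd
  · refine absurd (meta_of_commute (top_of_mem h.top ?_ (mem_sup_left (mem_sup_right
      (mem_zpowers x)))) hg) h.nm
    refine (mul_mem_cancel_left ((sup_le ?_ (sup_le (le_sup_right.trans le_sup_left)
      (zpowers_le.2 (mem_sup_right (h.e_mem j)))) : _ ≤ _) hk)).1
        (e ▸ mem_sup_left (mem_sup_left (mem_zpowers g)))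
    exact (h.der.ge.trans (commutator_le_frattini h.pg)).trans le_sup_right

end Gn

theorem exists_dat_of_ne (hG : IsPGroup 2 G) (hm : ¬ IsMetacyclic G) (hc : IsCyclic (commutator G))
    {a x : G} (h : zpowers a ⊔ zpowers x = ⊤) (hx : x ^ 2 ∈ commutator G) (h1 : x ^ 2 ≠ 1) :
    ∃ (C : Subgroup G) (y x t : G), Dat C y x t := by
  obtain ⟨v, h⟩ := exists_gn hG hm hc h hx
  obtain ⟨a, h, hav⟩ := h.wlog
  obtain ⟨j, he⟩ := h.exists_e
  obtain ⟨n, hn⟩ := IsPGroup.iff_orderOf.1 hG v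
  rcases n with _ | n
  · exact absurd (orderOf_eq_one_iff.1 hn) h.v_ne
  have h2 : x ^ 2 = v ^ 2 ^ n := (eq_one_or_eq_of_mem_zpowers
    (by rw [← pow_mul, ← pow_succ, ← hn, pow_orderOf_eq_one])
    (mem_zpowers_pow hn h.sq h.inv_and.2)).resolve_left h1
  rcases n with _ | m
  · exact absurd (h.even (m := 1) (by rw [sup_comm, h.top]) (by simpa using h2)) (by decide)
  have hw : (v ^ 2 ^ m) ^ 2 = x ^ 2 := by rw [h2, ← pow_mul, ← pow_succ]
  obtain ⟨t, ht⟩ := h.exists_dat hav he (m := m) (d := 2) hn le_rfl hw (fun u hu => by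
      rw [show 2 ^ 2 = 2 * 2 from rfl, pow_mul]
      rcases eq_one_or_eq_of_mem_zpowers h.inv_and.2 hu with e | e <;> rw [e]
      exacts [one_pow 2, h.inv_and.2]) fun e => h1 (by
    have h3 : Commute (v ^ 2 ^ m) x := mem_centralizer_singleton_iff.1 ((sup_le
      (zpowers_le.2 (mem_centralizer_singleton_iff.2 he)) (zpowers_le.2
        (mem_centralizer_singleton_iff.2 ((Commute.refl x).pow_left 2))) : _ ≤ centralizer {x}) e)
    have h4 := h.inv (pow_mem (mem_zpowers v) (2 ^ m))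
    rwa [← h3.eq, mul_inv_cancel_right, eq_inv_iff_mul_eq_one, ← pow_two, hw] at h4)
  exact ⟨_, _, _, t, ht⟩

theorem exists_dat (hG : IsPGroup 2 G) (hm : ¬ IsMetacyclic G) (hc : IsCyclic (commutator G))
    {a x : G} (h : zpowers a ⊔ zpowers x = ⊤) (hx : x ^ 2 ∈ commutator G) :
    ∃ (C : Subgroup G) (y x t : G), Dat C y x t := by
  by_cases h1 : x ^ 2 = 1
  swap
  · exact exists_dat_of_ne hG hm hc h hx h1
  obtain ⟨v, h⟩ := exists_gn hG hm hc h hx
  obtain ⟨a, h, hav⟩ := h.wlog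
  obtain ⟨j, he⟩ := h.exists_e
  obtain ⟨n, hn⟩ := IsPGroup.iff_orderOf.1 hG v
  rcases n with _ | m
  · exact absurd (orderOf_eq_one_iff.1 hn) h.v_ne
  have hw : (v ^ 2 ^ m) ^ 2 = 1 := by rw [← pow_mul, ← pow_succ, ← hn, pow_orderOf_eq_one]
  by_cases hy : v ^ 2 ^ m ∈ zpowers (v ^ j * a ^ 2) ⊔ zpowers (x ^ 2)
  swap
  · obtain ⟨t, ht⟩ := h.exists_dat hav he (m := m) (d := 1) hn one_le_two (hw.trans h1.symm)
      (fun u hu => by simpa [h1] using hu) hy
    exact ⟨_, _, _, t, ht⟩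
  rw [h1, zpowers_one_eq_bot, sup_bot_eq] at hy
  obtain ⟨k, hk⟩ := hy
  simp only at hk
  have hz : v ^ 2 ^ m ∈ zpowers v := pow_mem (mem_zpowers v) _
  rcases Int.even_or_odd k with ⟨k, rfl⟩ | ho
  swap
  · exact absurd ((mul_mem_cancel_left (zpow_mem (mem_zpowers v) j)).1 (zpowers_le.2 (hk ▸ hz)
      (mem_zpowers_zpow_of_odd hG _ ho))) h.sq_notMem
  have h2 : (x * (v ^ j * a ^ 2) ^ k) ^ 2 = v ^ 2 ^ m := by
    rw [(he.zpow_left k).symm.mul_pow, h1, one_mul, ← hk, zpow_add, pow_two]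
  refine exists_dat_of_ne hG hm hc (a := a) (top_of_mem h.top
    (mem_sup_left (mem_sup_left (mem_zpowers a))) ((mul_mem_cancel_right (mem_sup_right
      (zpow_mem (h.e_mem j) k))).1 (mem_sup_left (mem_sup_right (mem_zpowers _)))))
    (h2 ▸ h.der.ge hz) fun e => ?_
  rw [h2, ← orderOf_dvd_iff_pow_eq_one, hn, Nat.pow_dvd_pow_iff_le_right one_lt_two] at e
  omega

theorem exists_ne_inner (hG : IsPGroup 2 G) {x y : G} (hb : ∀ g : G, ∃ i j : ℤ, g = x ^ i * y ^ j)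
    (hm : ¬ IsMetacyclic G) (hc : IsCyclic (commutator G)) :
    ∃ F : FusionSystem (⊤ : Subgroup G), F.IsSaturated 2 ∧ F ≠ innerFusionSystem ⊤ := by
  obtain ⟨a, u, h1, h2⟩ := exists_sq_mem hG hb hm hc
  obtain ⟨C, y, x, t, h⟩ := exists_dat hG hm hc h1 h2
  exact h.exists_isSaturated hG

end Cfsg.Agent.Fus.Bic
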