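import Mathlib
import Cfsg.Agent.Fus.Section
import Cfsg.Agent.Fus.EssSmall

/-!
# Essential subgroups of rank at most three in `2`-fusion systems have automizer `S₃`
-/

set_option linter.unusedSectionVars false

open scoped commutatorElement

namespace Cfsg.Agent.Fus.Bic

open Subgroup Cfsg.FusionSystem GT.PG

section Elem

variable {V : Type*} [Group V] [Finite V]

theorem comm_of_sq (hV : ∀ v : V, v ^ 2 = 1) (a b : V) : a * b = b * a :=
  (FG.TM.isMulCommutative_of_sq hV).is_comm.comm a b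

theorem inv_eq_of_sq (hV : ∀ v : V, v ^ 2 = 1) (a : V) : a⁻¹ = a :=
  inv_eq_of_mul_eq_one_right (by rw [← sq, hV])

theorem mul_self_of_sq (hV : ∀ v : V, v ^ 2 = 1) (a : V) : a * a = 1 := by rw [← sq, hV]

/-- The fixed points of an automorphism. -/
def fixS (s : MulAut V) : Subgroup V := MonoidHom.eqLocus s.toMonoidHom (MonoidHom.id V)

theorem mem_fixS {s : MulAut V} {v : V} : v ∈ fixS s ↔ s v = v := Iff.rfl

theorem card_fixS (hV : ∀ v : V, v ^ 2 = 1) {s : MulAut V} (hs : s ^ 2 = 1) :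
    ∃ R : Subgroup V, R ≤ fixS s ∧ (∀ v, v * s v ∈ R) ∧
      Nat.card (fixS s) * Nat.card R = Nat.card V := by
  let φ : V →* V := MonoidHom.mk' (fun v => v * s v) fun a b => by
    rw [_root_.map_mul, mul_assoc, mul_assoc, ← mul_assoc b, comm_of_sq hV b, mul_assoc]
  have hk : φ.ker = fixS s := by
    ext v
    change v * s v = 1 ↔ s v = v
    rw [mul_eq_one_iff_inv_eq, inv_eq_of_sq hV, eq_comm]
  refine ⟨φ.range, ?_, fun v => ⟨v, rfl⟩, by rw [← hk, ← index_ker, card_mul_index]⟩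
  rintro _ ⟨v, rfl⟩
  change s (v * s v) = v * s v
  rw [_root_.map_mul, ← MulAut.mul_apply, ← sq, hs, MulAut.one_apply, comm_of_sq hV]

theorem isPGroup_of_sq (hV : ∀ v : V, v ^ 2 = 1) : IsPGroup 2 V := fun v => ⟨1, by simpa using hV v⟩

theorem transv (hV : ∀ v : V, v ^ 2 = 1) (hc : Nat.card V ≤ 8) {s : MulAut V} (hs : s ^ 2 = 1)
    (hs1 : s ≠ 1) : Nat.card (fixS s) * 2 = Nat.card V ∧
      ∃ c, c ≠ 1 ∧ s c = c ∧ ∀ v, s v = v ∨ s v = v * c := by
  obtain ⟨R, hR, hm, hcard⟩ := card_fixS hV hs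
  obtain ⟨v, hv⟩ : ∃ v, s v ≠ v := by
    by_contra h
    push Not at h
    exact hs1 (MulEquiv.ext h)
  have hc1 : v * s v ≠ 1 := fun e => hv (by
    rw [mul_eq_one_iff_inv_eq, inv_eq_of_sq hV] at e; exact e.symm)
  have h1 := card_le_of_le hR
  obtain ⟨n, hn⟩ := card_eq_pow_of_isPGroup ((isPGroup_of_sq hV).to_subgroup R)
  have h2 := (one_lt_card_iff_ne_bot R).2 fun e => hc1 (by simpa [e] using hm v)
  have h3 : Nat.card R = 2 := by
    rcases n with _ | _ | n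
    · omega
    · simpa using hn
    · have : 4 ≤ 2 ^ (n + 1 + 1) := by
        have := Nat.one_le_two_pow (n := n); rw [pow_succ, pow_succ]; omega
      nlinarith
  have h4 : zpowers (v * s v) = R := eq_of_le_of_card_le (zpowers_le.2 (hm v)) (by
    rw [Nat.card_zpowers, orderOf_eq_prime (hV _) hc1, h3])
  refine ⟨h3 ▸ hcard, v * s v, hc1, hR (hm v), fun w => ?_⟩
  rcases FG.TM.eq_one_or_eq_of_mem_zpowers (hV _) (h4 ▸ hm w) with e | e
  · left
    rw [mul_eq_one_iff_inv_eq, inv_eq_of_sq hV] at e; exact e.symm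
  · right
    rw [← e, ← mul_assoc, mul_self_of_sq hV, one_mul]

/-- A subgroup of `GL₃(2)` with a strongly embedded subgroup has Sylow `2`-subgroups of order
two. -/
theorem card_le_two (hV : ∀ v : V, v ^ 2 = 1) (hc : Nat.card V ≤ 8)
    {A H T : Subgroup (MulAut V)} (h : LiftSPE 2 A ⊥ H) (hT : IsPGroup 2 T) (hTH : T ≤ H) :
    Nat.card T ≤ 2 := by
  by_contra hlt
  obtain ⟨n, hn⟩ := card_eq_pow_of_isPGroup hT
  have h4 : 4 ≤ Nat.card T := by
    rcases n with _ | _ | n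
    · omega
    · omega
    · have := Nat.one_le_two_pow (n := n); rw [hn, pow_succ, pow_succ]; omega
  obtain ⟨s, hsH, hs1, hs2⟩ := h.ex
  rw [mem_bot] at hs1 hs2
  have hHA := h.lt.le
  obtain ⟨hW, c, hc1, hsc, hsv⟩ := transv hV hc hs2 hs1
  have conj_mem : ∀ g ∈ A, g * s * g⁻¹ ∈ H → g ∈ H := fun g hg e =>
    h.mem_of_conj g hg s hsH hs1 hs2 e
  have f1 : ∀ g ∈ A, g c = c → g ∈ H := fun g hg e => by
    have hgs : g * s * g⁻¹ ∈ A := mul_mem (mul_mem hg (hHA hsH)) (inv_mem hg)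
    have h1 : ∀ v, (g * s * g⁻¹) v = v ∨ (g * s * g⁻¹) v = v * c := fun v => by
      rcases hsv (g⁻¹ v) with e1 | e1
      · left; rw [MulAut.mul_apply, MulAut.mul_apply, e1, MulAut.apply_inv_self]
      · right
        rw [MulAut.mul_apply, MulAut.mul_apply, e1, _root_.map_mul, MulAut.apply_inv_self, e]
    have h2 : (g * s * g⁻¹) c = c := by
      have : g⁻¹ c = c := by rw [MulAut.inv_apply, MulEquiv.symm_apply_eq, e]
      rw [MulAut.mul_apply, MulAut.mul_apply, this, hsc, e]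
    refine conj_mem g hg (conj_mem _ hgs ?_)
    have : g * s * g⁻¹ * s = s * (g * s * g⁻¹) := by
      generalize g * s * g⁻¹ = s' at h1 h2
      ext v
      rw [MulAut.mul_apply, MulAut.mul_apply]
      rcases hsv v with e1 | e1 <;> rcases h1 v with e2 | e2 <;>
        simp [e1, e2, _root_.map_mul, hsc, h2]
    rw [this, mul_inv_cancel_right]
    exact hsH
  have f2 : ∀ g ∈ A, g ∉ H → s (g c) ≠ g c := fun g hg hgH e => hgH (inv_mem_iff.1
    (conj_mem g⁻¹ (inv_mem hg) (f1 _ (mul_mem (mul_mem (inv_mem hg) (hHA hsH))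
      (inv_mem (inv_mem hg))) (by simp [e]))))
  obtain ⟨l, hl, hlH⟩ := SetLike.exists_of_lt h.lt
  have f3 : ∀ u ∈ T, l⁻¹ * u * l ∈ H → u = 1 := fun u hu e => by
    by_contra hu1
    obtain ⟨k, hk⟩ := exists_pow_pow_eq_one_of_mem hT hu
    exact hlH (inv_mem_iff.1 (h.mem_of_conj_pow (inv_mem hl) (hTH hu) hu1 hk (by simpa using e)))
  have f4 : ∀ g ∈ A, g ∉ H → s (g c) = g c * c := fun g hg hgH =>
    (hsv _).resolve_left (f2 g hg hgH)
  have hul : ∀ u ∈ T, u * l ∉ H := fun u hu e => hlH ((mul_mem_cancel_left (hTH hu)).1 e)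
  let f : T → fixS s := fun u => ⟨u.1 (l c) * l c, by
    have := f4 _ (mul_mem (hHA (hTH u.2)) hl) (hul u u.2)
    rw [MulAut.mul_apply] at this
    rw [mem_fixS, _root_.map_mul, this, f4 l hl hlH, mul_assoc, comm_of_sq hV c, mul_assoc,
      mul_self_of_sq hV c, mul_one]⟩
  have hf : Function.Injective f := fun u w e => by
    have e : u.1 (l c) = w.1 (l c) := mul_right_cancel (congrArg Subtype.val e)
    have := f3 _ (mul_mem (inv_mem w.2) u.2) (f1 _ (mul_mem (mul_mem (inv_mem hl)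
      (hHA (hTH (mul_mem (inv_mem w.2) u.2)))) hl) (by simp [e]))
    exact Subtype.ext (inv_mul_eq_one.1 this).symm
  have hb := hf.bijective_of_nat_card_le (by omega)
  have h5 := Nat.card_le_card_of_injective f hf
  have hs' : (l * s * l⁻¹) ^ 2 = 1 := by rw [conj_pow, hs2]; simp
  have hs1' : l * s * l⁻¹ ≠ 1 := fun e => hs1 (by simpa [mul_inv_eq_iff_eq_mul] using e)
  have hW' := (transv hV hc hs' hs1').1
  obtain ⟨w, hw, hw1⟩ : ∃ w ∈ fixS s ⊓ fixS (l * s * l⁻¹), w ≠ 1 := by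
    by_contra hcon
    push Not at hcon
    have h6 := index_inf_le (H := fixS s) (K := fixS (l * s * l⁻¹))
    have h7 := (fixS s).card_mul_index
    have h8 := (fixS (l * s * l⁻¹)).card_mul_index
    rw [(eq_bot_iff_forall _).2 hcon, index_bot] at h6
    have h9 : (fixS s).index = 2 := by nlinarith
    have h10 : (fixS (l * s * l⁻¹)).index = 2 := by nlinarith
    rw [h9, h10] at h6
    omega
  obtain ⟨u, hu⟩ := hb.2 ⟨w, hw.1⟩
  have hu : u.1 (l c) * l c = w := congrArg Subtype.val hu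
  have hu1 : u.1 ≠ 1 := fun e => hw1 (by rw [← hu, e, MulAut.one_apply, mul_self_of_sq hV])
  refine f2 (l⁻¹ * u * l) (mul_mem (mul_mem (inv_mem hl) (hHA (hTH u.2))) hl)
    (fun e => hu1 (f3 u u.2 e)) ?_
  have e1 : u.1 (l c) = w * l c := by rw [← hu, mul_assoc, mul_self_of_sq hV, mul_one]
  have e2 : s (l⁻¹ w) = l⁻¹ w := by
    have := congrArg (fun v => l⁻¹ v) (mem_fixS.1 hw.2)
    simpa only [MulAut.mul_apply, MulAut.inv_apply_self] using this
  simp only [MulAut.mul_apply, e1, _root_.map_mul, MulAut.inv_apply_self, hsc, e2]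

/-- An elementary abelian `2`-group of order at most eight on which a dihedral group acts with
fixed-point-free rotation has order four. -/
theorem card_eq_four (hV : ∀ v : V, v ^ 2 = 1) (hc : Nat.card V ≤ 8) [Nontrivial V]
    {σ τ : MulAut V} (hσ : σ ^ 2 = 1) (hτ : ∀ v, τ (τ v) = v → v = 1)
    (h : σ * τ * σ⁻¹ * τ = 1) : Nat.card V = 4 ∧ σ ≠ 1 := by
  have h1 : σ ≠ 1 := fun e => by
    obtain ⟨v, hv⟩ := exists_ne (1 : V)
    refine hv (hτ v ?_)
    rw [e] at h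
    rw [← MulAut.mul_apply, show τ * τ = 1 by simpa using h, MulAut.one_apply]
  refine ⟨?_, h1⟩
  have hs' : (τ⁻¹ * σ * τ⁻¹⁻¹) ^ 2 = 1 := by rw [conj_pow, hσ]; simp
  have hs1' : τ⁻¹ * σ * τ⁻¹⁻¹ ≠ 1 := fun e => h1 (by
    rw [mul_inv_eq_one, mul_eq_left] at e; exact e)
  have hW := (transv hV hc hσ h1).1
  have hW' := (transv hV hc hs' hs1').1
  have hb : fixS σ ⊓ fixS (τ⁻¹ * σ * τ⁻¹⁻¹) = ⊥ := (eq_bot_iff_forall _).2 fun v hv => by
    have e1 : σ v = v := hv.1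
    have e2 : σ (τ v) = τ v := by
      have := congrArg τ (mem_fixS.1 hv.2)
      simpa using this
    have e3 : σ⁻¹ (τ v) = τ v := by rw [MulAut.inv_apply, MulEquiv.symm_apply_eq, e2]
    have e4 := congrArg (fun α : MulAut V => α v) h
    simp only [MulAut.mul_apply, e3, MulAut.one_apply] at e4
    exact hτ v (σ.injective (e4.trans e1.symm))
  have h6 := index_inf_le (H := fixS σ) (K := fixS (τ⁻¹ * σ * τ⁻¹⁻¹))
  have h7 := (fixS σ).card_mul_index
  have h8 := (fixS (τ⁻¹ * σ * τ⁻¹⁻¹)).card_mul_index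
  have h0 := Nat.card_pos (α := fixS σ)
  have h9 : (fixS σ).index = 2 := by nlinarith
  have h10 : (fixS (τ⁻¹ * σ * τ⁻¹⁻¹)).index = 2 := by nlinarith
  rw [hb, index_bot, h9, h10] at h6
  obtain ⟨c, hc1, hσc, -⟩ := (transv hV hc hσ h1).2
  have := (one_lt_card_iff_ne_bot (fixS σ)).2 fun e => hc1 (by simpa [e] using mem_fixS.2 hσc)
  omega

end Elem

theorem odd_of_liftSPE {X : Type*} [Group X] [Finite X] {A H : Subgroup X}
    (h : LiftSPE 2 A ⊥ H) {s l : X} (hs : s ∈ H) (hs1 : s ≠ 1) (hs2 : s ^ 2 = 1) (hl : l ∈ A)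
    (hlH : l ∉ H) : Odd (orderOf (s * (l * s * l⁻¹))) ∧ s * (l * s * l⁻¹) ≠ 1 := by
  have hsA := h.lt.le hs
  have hs' : l * s * l⁻¹ ∉ H := fun e => hlH (h.mem_of_conj l hl s hs hs1 hs2 e)
  have hs'A : l * s * l⁻¹ ∈ A := mul_mem (mul_mem hl hsA) (inv_mem hl)
  have hs2' : (l * s * l⁻¹) ^ 2 = 1 := by rw [conj_pow, hs2]; simp
  generalize l * s * l⁻¹ = s' at *
  refine ⟨?_, fun e => hs' (by rw [← inv_eq_of_mul_eq_one_right e]; exact inv_mem hs)⟩
  by_contra ho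
  obtain ⟨m, hm⟩ := Nat.not_odd_iff_even.1 ho
  have hpos := orderOf_pos (s * s')
  have h1 : (s * s') ^ m ≠ 1 := pow_ne_one_of_lt_orderOf (by omega) (by omega)
  have h2 : ((s * s') ^ m) ^ 2 = 1 := by
    rw [← pow_mul, mul_two, ← hm, pow_orderOf_eq_one]
  have i1 : s⁻¹ = s := inv_eq_of_mul_eq_one_right (by rw [← sq, hs2])
  have i2 : s'⁻¹ = s' := inv_eq_of_mul_eq_one_right (by rw [← sq, hs2'])
  have i3 : ((s * s') ^ m)⁻¹ = (s * s') ^ m := inv_eq_of_mul_eq_one_right (by rw [← sq, h2])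
  have c1 : s * (s * s') ^ m * s⁻¹ = (s * s') ^ m := by
    rw [← conj_pow, ← i3, ← inv_pow, mul_inv_rev, i1, i2, ← mul_assoc, ← sq, hs2, one_mul]
  have c2 : s' * (s * s') ^ m * s'⁻¹ = (s * s') ^ m := by
    rw [← conj_pow, ← i3, ← inv_pow, mul_inv_rev, i1, ← mul_assoc, mul_inv_cancel_right, i2]
  have hz : (s * s') ^ m ∈ H := h.mem_of_conj _ (pow_mem (mul_mem hsA hs'A) m) s hs hs1 hs2 (by
    rw [← mul_inv_eq_iff_eq_mul.1 c1, mul_inv_cancel_right]; exact hs)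
  exact hs' (h.mem_of_conj s' hs'A _ hz h1 h2 (by rw [c2]; exact hz))

variable {G : Type*} [Group G]

/-- The local data of an essential subgroup with automizer `S₃`. -/
structure Loc (E : Subgroup G) (θ : MulAut E) (t : G) : Prop where
  cen : ∀ s, (∀ x ∈ E, x * s = s * x) → s ∈ E
  odd : Odd (orderOf θ)
  ne : θ ≠ 1
  tN : t ∈ normalizer (E : Set G)
  tE : t ∉ E
  idx : ∀ s ∈ normalizer (E : Set G), s ∉ E → t⁻¹ * s ∈ E
  inv : cAut E t * θ * (cAut E t)⁻¹ * θ ∈ Inn E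

theorem exists_loc [Finite G] (hG : IsPGroup 2 G) {F : FusionSystem (⊤ : Subgroup G)}
    (hF : F.IsSaturated 2) {E : Subgroup G} (hE : F.IsEssential 2 E)
    (h8 : (⁅E, E⁆ ⊔ powerClosure 2 1 E).relIndex E ≤ 8) : ∃ θ t, Loc E θ t := by
  have hS : IsPGroup 2 (⊤ : Subgroup G) := hG.to_subgroup _
  have hD := hE.essData hF hS
  have L := hF.liftSPE_of_isEssential hS hE
  have hI : InvA (F.autGroup E) (⁅E, E⁆ ⊔ powerClosure 2 1 E) :=
    ((invA_top _).commutator (invA_top _)).sup ((invA_top _).powerClosure 2 1)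
  obtain ⟨V, _, π, hπ⟩ := exists_isSec hI.1 ((le_normalizerIn le_top).trans
    (hI.le_normalizer le_top))
  have := hπ.finite
  have hV : ∀ v : V, v ^ 2 = 1 :=
    hπ.pow_eq_one fun x hx => mem_sup_right (pow_mem_powerClosure_one hx)
  have hρ := hπ.mulOn_rep (invA_top _) hI
  have hk : ∀ α ∈ F.autGroup E, hπ.rep α = 1 ↔ α ∈ Inn E := fun α hα => by
    rw [hπ.rep_eq_one_iff' (invA_top _) hI hα]
    refine ⟨fun e => L.le_of_normal (le_normalizer_inn _)
      (N := F.autGroup E ⊓ secStab E E (⁅E, E⁆ ⊔ powerClosure 2 1 E)) inf_le_left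
      (fun a ha => mem_normalizer_fintype fun b hb => ⟨mul_mem (mul_mem ha hb.1) (Subgroup.inv_mem _ ha),
        conj_mem_secStab hb.2 ((invA_top _).le_stabA ha) (hI.le_stabA ha)⟩)
      (isPGroup_of_forall_coprime fun g hg hc => eq_one_of_forall_totA fun x hx =>
        (mem_fixA_zpowers.1 (le_fixA_of_commA_le_frattini (hG.to_subgroup E)
          (coprime_card_zpowers hc) le_rfl (commA_le_of_le_secStab (zpowers_le.2 hg.2)) hx)).2)
      ⟨hα, e⟩, fun e => mem_secStab_of le_rfl hI.1 fun x hx => ?_⟩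
    obtain ⟨g, hg, e⟩ := mem_inn_iff.1 e
    rw [totA_apply _ hx, e, comm_mem_iff_conj]
    exact mem_sup_left (commutator_mem_commutator (Subgroup.inv_mem _ hx) hg)
  have hm : ∀ α ∈ F.autGroup E, hπ.rep α ∈ img hπ.rep (F.extAut E) ↔ α ∈ F.extAut E :=
    fun α hα => ⟨fun e => by
      obtain ⟨β, hβ, e⟩ := (hρ.mem_img_of_le hD.le).1 e
      have := L.le ((hk _ (mul_mem (Subgroup.inv_mem _ (hD.le hβ)) hα)).1 (by
        rw [hρ.map_mul (Subgroup.inv_mem _ (hD.le hβ)) hα, hρ.map_inv (hD.le hβ), e, inv_mul_cancel]))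
      exact (mul_mem_cancel_left (Subgroup.inv_mem _ hβ)).1 this, mem_img_of_mem⟩
  obtain ⟨l, hl, hlH⟩ := hD.exists_not_mem
  have L' : LiftSPE 2 (img hπ.rep (F.autGroup E)) ⊥ (img hπ.rep (F.extAut E)) := by
    refine ⟨bot_le, lt_of_le_of_ne (img_mono hD.le) fun e => hlH ((hm l hl).1
      (e ▸ mem_img_of_mem hl)), ?_, ?_⟩
    · obtain ⟨x, hx, h1, h2⟩ := L.ex
      refine ⟨_, mem_img_of_mem hx, fun e => h1 ((hk x (hD.le hx)).1 e), ?_⟩
      rw [← hρ.map_pow (hD.le hx)]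
      exact (hk _ (pow_mem (hD.le hx) 2)).2 h2
    · intro g' hg' x hx h1 h2 h3
      obtain ⟨g, hg, rfl⟩ := hρ.mem_img.1 hg'
      obtain ⟨y, hy, rfl⟩ := (hρ.mem_img_of_le hD.le).1 hx
      rw [← hρ.map_conj hg (hD.le hy),
        hm _ (mul_mem (mul_mem hg (hD.le hy)) (Subgroup.inv_mem _ hg))] at h3
      rw [← hρ.map_pow (hD.le hy)] at h2
      exact mem_img_of_mem (L.mem_of_conj g hg y hy (fun e => h1 ((hk y (hD.le hy)).2 e))
        ((hk _ (pow_mem (hD.le hy) 2)).1 h2) h3)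
  have hTA := hD.autS_le.trans hD.le
  have h2 := card_le_two hV (hπ.card_eq ▸ h8) L'
    (isPGroup_img (hρ.mono hTA) (isPGroup_autInducedBy hS E)) (img_mono hD.autS_le)
  have hN : ∀ {s}, s ∈ normalizer (E : Set G) → s ∈ normalizerIn ⊤ E := fun hs =>
    mem_normalizerIn.2 ⟨mem_top _, hs⟩
  have hcA : ∀ {s}, s ∈ normalizer (E : Set G) → cAut E s ∈ F.autGroup E := fun hs =>
    hTA (cAut_mem_autInducedBy (hN hs))
  have hne : ∀ {s}, s ∈ normalizer (E : Set G) → s ∉ E → hπ.rep (cAut E s) ≠ 1 := fun hs hsE e =>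
    hD.cAut_notMem_inn (hN hs) hsE ((hk _ (hcA hs)).1 e)
  obtain ⟨t, ht, htE⟩ := hD.exists_notMem
  have ht := ht.2
  have idx : ∀ s ∈ normalizer (E : Set G), s ∉ E → t⁻¹ * s ∈ E := fun s hs hsE => by
    by_contra hc
    have h3 : Nat.card (img hπ.rep (autInducedBy ⊤ E)) = 2 := le_antisymm h2
      ((one_lt_card_iff_ne_bot _).2 fun e => hne ht htE (by
        simpa [e] using mem_img_of_mem (f := hπ.rep) (cAut_mem_autInducedBy (hN ht))))
    obtain ⟨y, -, hy⟩ := (Nat.card_eq_two_iff' (1 : img hπ.rep (autInducedBy ⊤ E))).1 h3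
    have e := (hy ⟨_, mem_img_of_mem (cAut_mem_autInducedBy (hN ht))⟩
      fun e => hne ht htE (congrArg Subtype.val e)).trans
      (hy ⟨_, mem_img_of_mem (cAut_mem_autInducedBy (hN hs))⟩
      fun e => hne hs hsE (congrArg Subtype.val e)).symm
    refine hne (mul_mem (Subgroup.inv_mem _ ht) hs) hc ?_
    rw [cAut_mul (Subgroup.inv_mem _ ht) hs, cAut_inv ht, hρ.map_mul (Subgroup.inv_mem _ (hcA ht)) (hcA hs),
      hρ.map_inv (hcA ht), inv_mul_eq_one]
    exact congrArg Subtype.val e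
  have ht2 : hπ.rep (cAut E t) ^ 2 = 1 := by
    rw [← hρ.map_pow (hcA ht), ← (mulOn_cAut E).map_pow ht, hk _ (hcA (pow_mem ht 2))]
    refine cAut_mem_inn (inv_mem_iff.1 ?_)
    simpa [sq] using idx t⁻¹ (Subgroup.inv_mem _ ht) fun e => htE (inv_mem_iff.1 e)
  obtain ⟨ho, h1⟩ := odd_of_liftSPE L' (mem_img_of_mem (hD.cAut_mem (hN ht))) (hne ht htE) ht2
    (mem_img_of_mem hl) fun e => hlH ((hm l hl).1 e)
  have hl' := mul_mem (mul_mem hl (hcA ht)) (Subgroup.inv_mem _ hl)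
  have hγ := mul_mem (hcA ht) hl'
  have eγ := hρ.map_mul (hcA ht) hl'
  rw [hρ.map_conj hl (hcA ht)] at eγ
  obtain ⟨k, m, hm, e⟩ := Nat.exists_eq_two_pow_mul_odd
    (orderOf_pos (cAut E t * (l * cAut E t * l⁻¹))).ne'
  refine ⟨(cAut E t * (l * cAut E t * l⁻¹)) ^ 2 ^ k, t, fun s hs => hE.mem_of_comm (mem_top s) hs,
    ?_, fun e => h1 ?_, ht, htE, idx, ?_⟩
  · rw [orderOf_pow_of_dvd (by positivity) (e ▸ dvd_mul_right _ _), e, Nat.mul_div_cancel_left _
      (by positivity)]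
    exact hm
  · have := congrArg hπ.rep e
    rw [hρ.map_pow hγ, eγ, hρ.map_one] at this
    exact orderOf_eq_one_iff.1 (Nat.Coprime.eq_one_of_dvd
      (Nat.Coprime.pow_right k (Nat.coprime_two_right.2 ho)) (orderOf_dvd_of_pow_eq_one this))
  · have hγ' := pow_mem hγ (2 ^ k)
    refine (hk _ (mul_mem (mul_mem (mul_mem (hcA ht) hγ') (Subgroup.inv_mem _ (hcA ht))) hγ')).1 ?_
    rw [hρ.map_mul (mul_mem (mul_mem (hcA ht) hγ') (Subgroup.inv_mem _ (hcA ht))) hγ',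
      hρ.map_conj (hcA ht) hγ', hρ.map_pow hγ, eγ, ← conj_pow, mul_eq_one_iff_eq_inv, ← inv_pow]
    congr 1
    have i1 : (hπ.rep (cAut E t))⁻¹ = hπ.rep (cAut E t) :=
      inv_eq_of_mul_eq_one_right (by rw [← sq, ht2])
    rw [mul_inv_rev, conj_inv, i1, ← mul_assoc, ← sq, ht2, one_mul]

end Cfsg.Agent.Fus.Bic
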