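import Mathlib
import Cfsg.Agent.Fus.BicLoc
import Cfsg.Agent.Fus.Meta
import Cfsg.Agent.Fus.KNormalizer
import Cfsg.Agent.FG.Bicyclic

/-!
# The commutator `U = [E, θ]` of the local data `Loc E θ t`
-/

set_option linter.unusedSectionVars false

open scoped commutatorElement

namespace Cfsg.Agent.Fus.Bic

open Subgroup Cfsg.FusionSystem GT.PG FG.BC

local instance : Fact (Nat.Prime 2) := ⟨Nat.prime_two⟩

universe u

variable {G : Type u} [Group G] [Finite G] {E : Subgroup G} {θ : MulAut E} {t : G}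

/-- The Frattini subgroup of a `2`-subgroup. -/
abbrev Ph (U : Subgroup G) : Subgroup G := ⁅U, U⁆ ⊔ powerClosure 2 1 U

/-- The commutator `[E, θ]`. -/
abbrev UU (θ : MulAut E) : Subgroup G := commA (zpowers θ) E

theorem ph_le (U : Subgroup G) : Ph U ≤ U := sup_le (commutator_le_self U) (powerClosure_le 1 U)

theorem sq_mem_ph {U : Subgroup G} {x : G} (hx : x ∈ U) : x ^ 2 ∈ Ph U :=
  mem_sup_right (pow_mem_powerClosure_one hx)

theorem ph_le_of_sq {U N : Subgroup G} (h : ∀ x ∈ U, x ^ 2 ∈ N) : Ph U ≤ N :=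
  sup_le (FG.SR.commutator_le_of_sq h) (powerClosure_one_le_iff.2 h)

theorem invA_ph {A : Subgroup (MulAut E)} {U : Subgroup G} (h : InvA A U) : InvA A (Ph U) :=
  (h.commutator h).sup (h.powerClosure 2 1)

theorem normalizer_le_ph (U : Subgroup G) :
    normalizer (U : Set G) ≤ normalizer ((Ph U : Subgroup G) : Set G) := fun _ hg =>
  mem_normalizer_sup (normalizer_le_normalizer_commutator_self U hg)
    (normalizer_le_normalizer_powerClosure 1 U hg)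

theorem eq_of_sup_ph (hG : IsPGroup 2 G) {U W : Subgroup G} (hW : W ≤ U) (h : U ≤ W ⊔ Ph U) :
    W = U :=
  GT.eq_of_sup_of_le_map_frattini hW (map_frattini_eq (hG.to_subgroup U)).ge h

theorem ph_le_frattini (hG : IsPGroup 2 G) (U : Subgroup G) : Ph U ≤ frattini G :=
  ph_le_of_sq fun x _ => pow_mem_frattini hG x

theorem index_frattini_eq (hG : IsPGroup 2 G) (U : Subgroup G) :
    (frattini U).index = (Ph U).relIndex U := by
  rw [← relIndex_map_subtype_top, map_frattini_eq (hG.to_subgroup U)]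

theorem inv_mul_mem_of_relIndex {X Y : Subgroup G} (hi : Y.relIndex X ≤ 2) {x y : G} (hx : x ∈ X)
    (hy : y ∈ X) (h : x ∈ Y ↔ y ∈ Y) : x⁻¹ * y ∈ Y := by
  have h0 : Y.relIndex X ≠ 0 := relIndex_ne_zero
  by_cases h1 : Y.relIndex X = 1
  · exact relIndex_eq_one.1 h1 (mul_mem (Subgroup.inv_mem _ hx) hy)
  · exact (mul_mem_iff_of_index_two (show (Y.subgroupOf X).index = 2 by
      change Y.relIndex X = 2; omega) (a := ⟨x⁻¹, Subgroup.inv_mem _ hx⟩) (b := ⟨y, hy⟩)).2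
      (inv_mem_iff.trans h)

theorem commA_le_of_relIndex {A : Subgroup (MulAut E)} {X Y : Subgroup G} (hX : InvA A X)
    (hY : InvA A Y) (hi : Y.relIndex X ≤ 2) : commA A X ≤ Y :=
  (commA_le_iff hX.1).2 fun _ hα _ hx =>
    inv_mul_mem_of_relIndex hi hx (hX.mem hα hx) (hY.mem_iff hα (hX.1 hx)).symm

theorem meta_img {K : Subgroup G} (hK : K ≤ E) (α : MulAut E) (h : IsMetacyclic K) :
    IsMetacyclic (img (totA α) K) := by
  rw [((mulOn_totA α).mono hK).img_eq_range]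
  exact FG.TM.isMetacyclic_of_surjective h _ (MonoidHom.rangeRestrict_surjective _)

theorem coset_fix {Y : Subgroup G} {u : G} (hu : u ∈ E) {α β : MulAut E} (hα : α ∈ stabA E Y)
    (e : u⁻¹ * totA α u ∈ Y) (hβ : β ∈ zpowers α) : u⁻¹ * totA β u ∈ Y := by
  let K : Subgroup (MulAut E) :=
    { carrier := {γ | γ ∈ stabA E Y ∧ u⁻¹ * totA γ u ∈ Y}
      one_mem' := ⟨one_mem _, by rw [totA_one hu, inv_mul_cancel]; exact one_mem _⟩
      mul_mem' := fun {a b} ha hb => ⟨mul_mem ha.1 hb.1, by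
        have h1 := (ha.1 _ (mul_mem (E.inv_mem hu) (totA_mem b hu))).2 hb.2
        rw [(mulOn_totA a).map_mul (E.inv_mem hu) (totA_mem b hu), (mulOn_totA a).map_inv hu] at h1
        rw [totA_mul _ _ hu]
        simpa [mul_assoc] using mul_mem ha.2 h1⟩
      inv_mem' := fun {a} ha => ⟨Subgroup.inv_mem _ ha.1, by
        have h1 := (Subgroup.inv_mem _ ha.1 _ (mul_mem (E.inv_mem hu) (totA_mem a hu))).2 ha.2
        rw [(mulOn_totA a⁻¹).map_mul (E.inv_mem hu) (totA_mem a hu), (mulOn_totA a⁻¹).map_inv hu,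
          totA_inv_totA _ hu] at h1
        simpa using Y.inv_mem h1⟩ }
  exact (zpowers_le.2 (show α ∈ K from ⟨hα, e⟩) hβ).2

theorem uu_le : UU θ ≤ E := commA_le_top

theorem mem_uu {x : G} (hx : x ∈ E) : x⁻¹ * totA θ x ∈ UU θ := mem_commA (mem_zpowers θ) hx hx

theorem invA_uu : InvA (zpowers θ) (UU θ) :=
  invA_of_commA_le uu_le le_rfl le_rfl

theorem le_normalizer_uu : E ≤ normalizer (UU θ : Set G) := fun e he =>
  mem_normalizer_fintype fun y hy => (commA_zpowers_le (Y := (UU θ).comap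
    (MulAut.conj e).toMonoidHom) le_rfl (fun _ hx => totA_mem θ hx) (fun x hx => by
      change e * (x⁻¹ * totA θ x) * e⁻¹ ∈ UU θ
      have h1 := mul_mem (mem_uu (θ := θ) (mul_mem hx (E.inv_mem he)))
        ((UU θ).inv_mem (mem_uu (θ := θ) (E.inv_mem he)))
      rw [(mulOn_totA θ).map_mul hx (E.inv_mem he)] at h1
      simpa [mul_assoc] using h1)) hy

namespace Loc

variable (h : Loc E θ t)
include h

theorem cop : (Nat.card (zpowers θ)).Coprime 2 :=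
  coprime_card_zpowers (Nat.coprime_two_right.2 h.odd)

theorem mem_or {s : G} (hs : s ∈ normalizer (E : Set G)) : s ∈ E ∨ ∃ e ∈ E, s = t * e := by
  by_cases hsE : s ∈ E
  · exact Or.inl hsE
  · exact Or.inr ⟨_, h.idx s hs hsE, by group⟩

theorem sq_mem {s : G} (hs : s ∈ normalizer (E : Set G)) : s ^ 2 ∈ E := by
  by_cases hsE : s ∈ E
  · exact pow_mem hsE 2
  · have := mul_mem (E.inv_mem (h.idx s⁻¹ (Subgroup.inv_mem _ hs) fun e => hsE (inv_mem_iff.1 e)))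
      (h.idx s hs hsE)
    have h2 := mul_mem (E.inv_mem (h.idx s hs hsE))
      (h.idx s⁻¹ (Subgroup.inv_mem _ hs) fun e => hsE (inv_mem_iff.1 e))
    simpa [sq, mul_assoc] using E.inv_mem h2

theorem mem_zpowers_sq : θ ∈ zpowers (θ ^ 2) := by
  have := zpowers_pow_mul_eq_of_coprime (x := θ) (k := 2) (by
    have := Nat.isCoprime_iff_coprime.2 (Nat.coprime_two_left.2 h.odd)
    simpa using this)
  rw [← zpow_natCast, Nat.cast_ofNat, this]
  exact mem_zpowers θ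

variable (hG : IsPGroup 2 G)
include hG

theorem comm_uu : commA (zpowers θ) (UU θ) = UU θ :=
  (invA_top _).commA_commA (hG.to_subgroup E) h.cop

theorem not_le_ph : ¬ UU θ ≤ Ph E := fun e => h.ne (eq_one_of_forall_totA fun _ hx =>
  (mem_fixA_zpowers.1 (le_fixA_of_commA_le_frattini (hG.to_subgroup E) h.cop le_rfl e hx)).2)

theorem uu_ne_bot : UU θ ≠ ⊥ := fun e => h.not_le_ph hG (e ▸ bot_le)

theorem dec {x : G} (hx : x ∈ E) : ∃ c ∈ E, totA θ c = c ∧ ∃ u ∈ UU θ, c * u = x := by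
  obtain ⟨c, hc, d, hd, e⟩ := (invA_top _).exists_fixed_mul_commA (hG.to_subgroup E) h.cop hx
  exact ⟨c, hc.1, (mem_fixA_zpowers.1 hc.2).2, d, hd, e⟩

theorem inn_le_stab : Inn E ≤ stabA E (UU θ) := fun α hα => by
  obtain ⟨g, hg, e⟩ := mem_inn_iff.1 hα
  refine mem_stabA_of_maps uu_le fun x hx => ?_
  rw [totA_apply _ (uu_le hx), e]
  exact (mem_normalizer_iff.1 (le_normalizer_uu hg) x).1 hx

theorem t_mem_normalizer : t ∈ normalizer (UU θ : Set G) := by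
  obtain ⟨C, _, π, hπ⟩ := exists_isSec (uu_le (θ := θ)) le_normalizer_uu
  have hU := invA_stabA (E := E) (uu_le (θ := θ))
  have hρ := hπ.mulOn_rep (invA_top _) hU
  have hθ : θ ∈ stabA E (UU θ) := invA_uu.le_stabA (mem_zpowers θ)
  have h1 : hπ.rep θ = 1 := (hπ.rep_eq_one_iff (invA_top _) hU hθ).2 fun x hx => mem_uu hx
  have hι := h.inn_le_stab hG h.inv
  have hθ' : cAut E t * θ * (cAut E t)⁻¹ ∈ stabA E (UU θ) := (mul_mem_cancel_right hθ).1 hι
  obtain ⟨k, hk⟩ := exists_pow_pow_eq_one_of_mem (isPGroup_inn (hG.to_subgroup E)) h.inv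
  have h2 := congrArg hπ.rep hk
  rw [hρ.map_pow hι, hρ.map_mul hθ' hθ, h1, mul_one, hρ.map_one] at h2
  have h3 : hπ.rep (cAut E t * θ * (cAut E t)⁻¹) ^ orderOf θ = 1 := by
    rw [← hρ.map_pow hθ', conj_pow, pow_orderOf_eq_one, mul_one, mul_inv_cancel, hρ.map_one]
  have h4 : hπ.rep (cAut E t * θ * (cAut E t)⁻¹) = 1 := by
    have := pow_gcd_eq_one.2 ⟨h2, h3⟩
    rwa [(Nat.Coprime.pow_left k (Nat.coprime_two_left.2 h.odd) : Nat.gcd _ _ = 1), pow_one] at this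
  have h5 := (hπ.rep_eq_one_iff (invA_top _) hU hθ').1 h4
  refine mem_normalizer_fintype fun y hy => (commA_zpowers_le (Y := (UU θ).comap
    (MulAut.conj t).toMonoidHom) le_rfl (fun _ hx => totA_mem θ hx) (fun x hx => ?_)) hy
  change t * (x⁻¹ * totA θ x) * t⁻¹ ∈ UU θ
  have hx' : t * x * t⁻¹ ∈ E := (mem_normalizer_iff.1 h.tN x).1 hx
  have := h5 _ hx'
  rw [totA_mul _ _ hx', ← totA_cAut h.tN hx, totA_inv_totA _ hx, totA_mul _ _ hx,
    totA_cAut h.tN hx, totA_cAut h.tN (totA_mem θ hx)] at this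
  simpa [mul_assoc] using this

theorem normalizer_le : normalizer (E : Set G) ≤ normalizer (UU θ : Set G) := fun s hs => by
  rcases h.mem_or hs with hs | ⟨e, he, rfl⟩
  · exact le_normalizer_uu hs
  · exact mul_mem (h.t_mem_normalizer hG) (le_normalizer_uu he)

theorem conj_mem {s u : G} (hs : s ∈ normalizer (E : Set G)) (hu : u ∈ UU θ) :
    s * u * s⁻¹ ∈ UU θ := (mem_normalizer_iff.1 (h.normalizer_le hG hs) u).1 hu

theorem two_lt_relIndex {W : Subgroup G} (hW : InvA (zpowers θ) W) (hne : ¬ UU θ ≤ W) :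
    4 ≤ W.relIndex (UU θ) := by
  obtain ⟨n, hn⟩ := relIndex_eq_pow_of_isPGroup (hG.to_subgroup (UU θ)) W
  by_contra hc
  refine hne ((h.comm_uu hG).ge.trans (commA_le_of_relIndex invA_uu hW ?_))
  rcases n with _ | _ | n
  · omega
  · omega
  · have := Nat.one_le_two_pow (n := n); rw [pow_succ, pow_succ] at hn; omega

theorem fix_mem_ph {u : G} (hu : u ∈ UU θ) (e : u⁻¹ * totA θ (totA θ u) ∈ Ph (UU θ)) :
    u ∈ Ph (UU θ) := by
  have hI := invA_ph (invA_uu (θ := θ))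
  rw [← totA_mul _ _ (uu_le hu), ← sq] at e
  obtain ⟨c, hc, e⟩ := hI.exists_fixed (hG.to_subgroup E) h.cop (uu_le hu) fun α hα =>
    coset_fix (uu_le hu) (hI.le_stabA (pow_mem (mem_zpowers θ) 2)) e
      (zpowers_le.2 h.mem_zpowers_sq hα)
  have hcU : c ∈ UU θ := (mul_mem_cancel_left ((UU θ).inv_mem hu)).1 (ph_le _ e)
  have := invA_uu.commA_inf_fixA_le (hG.to_subgroup E) h.cop ⟨(h.comm_uu hG).ge hcU, hc⟩
  exact inv_mem_iff.1 ((mul_mem_cancel_right (mem_sup_left this)).1 e)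

theorem fix_mem_ph' {u : G} (hu : u ∈ UU θ) (e : u⁻¹ * totA θ u ∈ Ph (UU θ)) :
    u ∈ Ph (UU θ) := by
  refine h.fix_mem_ph hG hu ?_
  rw [← totA_mul _ _ (uu_le hu), ← sq]
  exact coset_fix (uu_le hu) ((invA_ph invA_uu).le_stabA (mem_zpowers θ)) e
    (pow_mem (mem_zpowers θ) 2)

theorem not_le_ph_uu : ¬ UU θ ≤ Ph (UU θ) := fun e =>
  h.uu_ne_bot hG (eq_of_sup_ph hG bot_le (by simpa using e)).symm

variable (h8 : (Ph (UU θ)).relIndex (UU θ) ≤ 8)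
include h8

theorem irr {W : Subgroup G} (hW : InvA (zpowers θ) W) (hWU : W ≤ UU θ) :
    W = UU θ ∨ W ≤ Ph (UU θ) := by
  by_cases hne : UU θ ≤ W ⊔ Ph (UU θ)
  · exact Or.inl (eq_of_sup_ph hG hWU hne)
  right
  have hW' := hW.sup (invA_ph invA_uu)
  have h1 := h.two_lt_relIndex hG hW' hne
  have h2 := relIndex_mul_relIndex (Ph (UU θ)) (W ⊔ Ph (UU θ)) (UU θ) le_sup_right
    (sup_le hWU (ph_le _))
  have h3 := commA_le_of_relIndex hW' (invA_ph invA_uu) (by nlinarith)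
  exact fun w hw => h.fix_mem_ph' hG (hWU hw)
    (h3 (mem_commA (mem_zpowers θ) (mem_sup_left hw) (hW.1 hw)))

theorem comm_mem_ph {e u : G} (he : e ∈ E) (hu : u ∈ UU θ) : u⁻¹ * (e * u * e⁻¹) ∈ Ph (UU θ) := by
  have hlt := commutator_lt_of_isPGroup (hG.to_subgroup (UU θ)) (hG.to_subgroup E)
    le_normalizer_uu (h.uu_ne_bot hG)
  have := (h.irr hG h8 (invA_uu.commutator (invA_top _)) hlt.le).resolve_left hlt.ne
  rw [comm_mem_iff_conj]
  exact this (commutator_mem_commutator ((UU θ).inv_mem hu) he)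

theorem exists_sec : ∃ (C : Type u) (_ : Group C) (π : G → C), IsSec π (UU θ) (Ph (UU θ)) ∧
    IsKleinFour C ∧ ∃ u ∈ UU θ, u⁻¹ * (t * u * t⁻¹) ∉ Ph (UU θ) := by
  obtain ⟨C, _, π, hπ⟩ := exists_isSec (ph_le (UU θ)) (le_normalizer.trans (normalizer_le_ph _))
  have hU := invA_stabA (E := E) (uu_le (θ := θ))
  have hP := invA_ph hU
  have hρ := hπ.mulOn_rep hU hP
  have hθ : θ ∈ stabA E (UU θ) := invA_uu.le_stabA (mem_zpowers θ)
  have ht : cAut E t ∈ stabA E (UU θ) := cAut_mem_stabA h.tN (h.t_mem_normalizer hG)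
  have hV : ∀ v : C, v ^ 2 = 1 := hπ.pow_eq_one fun x hx => sq_mem_ph hx
  have := hπ.finite
  have hinn : ∀ α ∈ Inn E, hπ.rep α = 1 := fun α hα => by
    rw [hπ.rep_eq_one_iff hU hP (h.inn_le_stab hG hα)]
    obtain ⟨g, hg, e⟩ := mem_inn_iff.1 hα
    intro x hx
    rw [totA_apply _ (uu_le hx), e]
    exact h.comm_mem_ph hG h8 hg hx
  have : Nontrivial C := by
    obtain ⟨u, hu, hu'⟩ := not_forall₂.1 (h.not_le_ph_uu hG)
    exact ⟨π u, 1, fun e => hu' ((hπ.ker u hu).1 e)⟩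
  obtain ⟨h4, h1⟩ := card_eq_four hV (hπ.card_eq ▸ h8) (σ := hπ.rep (cAut E t)) (τ := hπ.rep θ)
    (by rw [← hρ.map_pow ht, ← (mulOn_cAut E).map_pow h.tN]
        exact hinn _ (cAut_mem_inn (h.sq_mem h.tN)))
    (fun v hv => by
      obtain ⟨u, hu, rfl⟩ := hπ.surj v
      rw [hπ.rep_apply hU hP hθ hu, hπ.rep_apply hU hP hθ (hU.mem hθ hu), eq_comm,
        hπ.eq_iff hu (hU.mem hθ (hU.mem hθ hu))] at hv
      exact hπ.eq_one (h.fix_mem_ph hG hu hv))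
    (by rw [← hρ.map_conj ht hθ, ← hρ.map_mul (mul_mem (mul_mem ht hθ) (Subgroup.inv_mem _ ht)) hθ]
        exact hinn _ h.inv)
  refine ⟨C, _, π, hπ, ⟨h4, (Monoid.exponent_eq_prime_iff Nat.prime_two).2 fun c hc =>
    orderOf_eq_prime (hV c) hc⟩, ?_⟩
  rw [Ne, hπ.rep_eq_one_iff hU hP ht] at h1
  obtain ⟨u, hu, hu'⟩ := not_forall₂.1 h1
  exact ⟨u, hu, by rwa [totA_cAut h.tN (uu_le hu)] at hu'⟩

theorem relIndex_four : (Ph (UU θ)).relIndex (UU θ) = 4 := by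
  obtain ⟨C, _, π, hπ, hK, -⟩ := h.exists_sec hG h8
  rw [← hπ.card_eq, hK.card_four]

theorem mem_of_triv {s : G} (hs : s ∈ normalizer (E : Set G))
    (hc : ∀ u ∈ UU θ, u⁻¹ * (s * u * s⁻¹) ∈ Ph (UU θ)) : s ∈ E := by
  obtain ⟨C, _, π, hπ, hK, u, hu, hu'⟩ := h.exists_sec hG h8
  refine (h.mem_or hs).resolve_right ?_
  rintro ⟨e, he, rfl⟩
  have hu1 := h.conj_mem hG (le_normalizer (E.inv_mem he)) hu
  refine hu' ?_
  simpa [mul_assoc] using mul_mem (h.comm_mem_ph hG h8 (E.inv_mem he) hu) (hc _ hu1)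

theorem gen {u v : G} (hu : u ∈ UU θ) (hv : v ∈ UU θ) (h1 : u ∉ Ph (UU θ)) (h2 : v ∉ Ph (UU θ))
    (h3 : u⁻¹ * v ∉ Ph (UU θ)) {w : G} (hw : w ∈ UU θ) : w ∈ Ph (UU θ) ∨ u⁻¹ * w ∈ Ph (UU θ) ∨
      v⁻¹ * w ∈ Ph (UU θ) ∨ (u * v)⁻¹ * w ∈ Ph (UU θ) := by
  obtain ⟨C, _, π, hπ, hK, -⟩ := h.exists_sec hG h8
  rw [← hπ.ker _ hu] at h1
  rw [← hπ.ker _ hv] at h2
  rw [← hπ.eq_iff hu hv] at h3
  rw [← hπ.ker _ hw, ← hπ.eq_iff hu hw, ← hπ.eq_iff hv hw, ← hπ.eq_iff (mul_mem hu hv) hw,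
    hπ.map_mul hu hv]
  by_contra hc
  push Not at hc
  exact hc.2.2.2 (IsKleinFour.eq_mul_of_ne_all h1 h2 h3 hc.1 hc.2.1.symm hc.2.2.1.symm).symm

theorem eq_of_gen {u v : G} (hu : u ∈ UU θ) (hv : v ∈ UU θ) (h1 : u ∉ Ph (UU θ))
    (h2 : v ∉ Ph (UU θ)) (h3 : u⁻¹ * v ∉ Ph (UU θ)) : zpowers u ⊔ zpowers v = UU θ := by
  refine eq_of_sup_ph hG (sup_le (zpowers_le.2 hu) (zpowers_le.2 hv)) fun w hw => ?_
  have a1 : u ∈ zpowers u ⊔ zpowers v ⊔ Ph (UU θ) := mem_sup_left (mem_sup_left (mem_zpowers u))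
  have a2 : v ∈ zpowers u ⊔ zpowers v ⊔ Ph (UU θ) := mem_sup_left (mem_sup_right (mem_zpowers v))
  rcases h.gen hG h8 hu hv h1 h2 h3 hw with e | e | e | e
  · exact mem_sup_right e
  · simpa using mul_mem a1 (mem_sup_right e)
  · simpa using mul_mem a2 (mem_sup_right e)
  · simpa [mul_assoc] using mul_mem (mul_mem a1 a2) (mem_sup_right e)

/-- The generators `u₂` and `u₁ = ⁅t, u₂⁆` of `U`. -/
theorem exists_pair : ∃ u ∈ UU θ, ⁅t, u⁆ ∈ UU θ ∧ u ∉ Ph (UU θ) ∧ ⁅t, u⁆ ∉ Ph (UU θ) ∧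
    u⁻¹ * ⁅t, u⁆ ∉ Ph (UU θ) := by
  obtain ⟨C, _, π, hπ, hK, u, hu, hu'⟩ := h.exists_sec hG h8
  have hu1 := h.conj_mem hG h.tN hu
  have hn := (mem_normalizer_iff.1 (normalizer_le_ph _ (h.t_mem_normalizer hG)))
  have h1 : u ∉ Ph (UU θ) := fun e => hu' (mul_mem (Subgroup.inv_mem _ e) ((hn u).1 e))
  have hc : ⁅t, u⁆ ∈ UU θ := mul_mem hu1 ((UU θ).inv_mem hu)
  have e1 : π ⁅t, u⁆ = π (t * u * t⁻¹) * (π u)⁻¹ := by
    rw [commutatorElement_def, hπ.map_mul hu1 ((UU θ).inv_mem hu), hπ.map_inv hu]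
  refine ⟨u, hu, hc, h1, fun e => hu' ?_, fun e => h1 ((hn u).2 ?_)⟩
  · rw [← hπ.ker _ hc, e1, mul_inv_eq_one] at e
    exact (hπ.eq_iff hu hu1).1 e.symm
  · rw [← hπ.eq_iff hu hc, e1, eq_mul_inv_iff_mul_eq, IsKleinFour.mul_self] at e
    exact (hπ.ker _ hu1).1 e.symm

theorem exists_orbit {u : G} (hu : u ∈ UU θ) (h1 : u ∉ Ph (UU θ)) {w : G} (hw : w ∈ UU θ)
    (h2 : w ∉ Ph (UU θ)) : ∃ α ∈ zpowers θ, (totA α u)⁻¹ * w ∈ Ph (UU θ) := by
  have hI := invA_ph (invA_uu (θ := θ))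
  have m1 := invA_uu.mem (mem_zpowers θ) hu
  have m2 := invA_uu.mem (mem_zpowers θ) m1
  have n1 : totA θ u ∉ Ph (UU θ) := fun e => h1 ((hI.mem_iff (mem_zpowers θ) (uu_le hu)).1 e)
  have n2 : totA θ (totA θ u) ∉ Ph (UU θ) := fun e =>
    n1 ((hI.mem_iff (mem_zpowers θ) (uu_le m1)).1 e)
  have n3 : u⁻¹ * totA θ u ∉ Ph (UU θ) := fun e => h1 (h.fix_mem_ph' hG hu e)
  rcases h.gen hG h8 hu m1 h1 n1 n3 hw with e | e | e | e
  · exact absurd e h2
  · exact ⟨1, one_mem _, by rwa [totA_one (uu_le hu)]⟩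
  · exact ⟨θ, mem_zpowers θ, e⟩
  refine ⟨θ * θ, mul_mem (mem_zpowers θ) (mem_zpowers θ), ?_⟩
  rw [totA_mul _ _ (uu_le hu)]
  rcases h.gen hG h8 hu m1 h1 n1 n3 m2 with e' | e' | e' | e'
  · exact absurd e' n2
  · exact absurd (h.fix_mem_ph hG hu e') h1
  · exact absurd (h.fix_mem_ph' hG m1 e') n1
  · simpa [mul_assoc] using mul_mem (Subgroup.inv_mem _ e') e

theorem meta_uu {k : G} (hk : k ∈ UU θ) (h1 : k ∉ Ph (UU θ))
    (hm : IsMetacyclic (Ph (UU θ) ⊔ zpowers k : Subgroup G)) : IsMetacyclic (UU θ) := by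
  have hI := invA_ph (invA_uu (θ := θ))
  refine meta_of_proper (hG.to_subgroup _)
    ((index_frattini_eq hG _).trans (h.relIndex_four hG h8)).le fun H hH => ?_
  refine FG.TM.isMetacyclic_of_injective (G := H.map (UU θ).subtype) ?_
    (equivMapOfInjective H _ (UU θ).subtype_injective).toMonoidHom (MulEquiv.injective _)
  have hne : H.map (UU θ).subtype ≠ UU θ := fun e => hH (map_injective (UU θ).subtype_injective
    (by rw [e, ← MonoidHom.range_eq_map, range_subtype]))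
  have hle := map_subtype_le H
  generalize H.map (UU θ).subtype = K at hne hle
  by_cases hK : K ≤ Ph (UU θ)
  · exact FG.TM.isMetacyclic_of_le hm (le_sup_of_le_left hK)
  obtain ⟨w, hw, hw'⟩ := not_forall₂.1 hK
  obtain ⟨α, hα, e⟩ := h.exists_orbit hG h8 hk h1 (hle hw) hw'
  have hP : Ph (UU θ) ≤ img (totA α) (Ph (UU θ) ⊔ zpowers k) := fun y hy => by
    rw [← totA_totA_inv α (hI.1 hy)]
    exact mem_img_of_mem (mem_sup_left (hI.mem (Subgroup.inv_mem _ hα) hy))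
  have hw2 : w ∈ img (totA α) (Ph (UU θ) ⊔ zpowers k) := by
    simpa using mul_mem (mem_img_of_mem (f := totA α) (mem_sup_right (mem_zpowers k))) (hP e)
  refine FG.TM.isMetacyclic_of_le (meta_img (sup_le hI.1 (zpowers_le.2 (uu_le hk))) α hm)
    fun y hy => ?_
  by_cases hy1 : y ∈ Ph (UU θ)
  · exact hP hy1
  by_cases hy2 : w⁻¹ * y ∈ Ph (UU θ)
  · simpa using mul_mem hw2 (hP hy2)
  exact absurd (le_antisymm hle ((h.eq_of_gen hG h8 (hle hw) (hle hy) hw' hy1 hy2).ge.trans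
    (sup_le (zpowers_le.2 hw) (zpowers_le.2 hy)))) hne

theorem small_of_invol {u : G} (hu : u ∈ UU θ) (h1 : u ∉ Ph (UU θ)) {z : G}
    (hz : Ph (UU θ) = zpowers z) (hz2 : z ^ 2 = 1) (hzc : ∀ x ∈ UU θ, Commute x z)
    (h2 : u ^ 2 = 1) : ∀ w ∈ UU θ, w ^ 2 = 1 := fun w hw => by
  by_cases hw' : w ∈ Ph (UU θ)
  · exact (IsElementaryAbelian.zpowers hz2).2 _ (hz ▸ hw')
  obtain ⟨α, hα, e⟩ := h.exists_orbit hG h8 hu h1 hw hw'
  have e1 : totA α u ^ 2 = 1 := by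
    rw [← (mulOn_totA α).map_pow (uu_le hu), h2, (mulOn_totA α).map_one]
  rcases FG.TM.eq_one_or_eq_of_mem_zpowers hz2 (hz ▸ e) with e | e
  · rw [← inv_mul_eq_one.1 e, e1]
  · rw [inv_mul_eq_iff_eq_mul.1 e, (hzc _ (invA_uu.mem hα hu)).mul_pow, e1, hz2, one_mul]

/-- `U` is a four-group or quaternion of order eight, or abelian with all involutions in
`Φ(U)`. -/
theorem cases (hm : IsMetacyclic (UU θ)) :
    (∃ z, z ^ 2 = 1 ∧ Ph (UU θ) = zpowers z ∧ ∀ u ∈ UU θ, u ∉ Ph (UU θ) → u ^ 2 = z) ∨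
      (IsMulCommutative (UU θ) ∧ ∀ u ∈ UU θ, u ^ 2 = 1 → u ∈ Ph (UU θ)) := by
  by_cases hc : IsMulCommutative (UU θ)
  · by_cases hi : ∀ u ∈ UU θ, u ^ 2 = 1 → u ∈ Ph (UU θ)
    · exact Or.inr ⟨hc, hi⟩
    push Not at hi
    obtain ⟨u, hu, h2, h1⟩ := hi
    have hO := (h.irr hG h8 (invA_uu.omegaOne 2) (omegaOne_le _)).resolve_right fun e =>
      h1 (e ((mem_omegaOne_iff hc).2 ⟨hu, h2⟩))
    have hs : ∀ w ∈ UU θ, w ^ 2 = 1 := fun w hw => ((mem_omegaOne_iff hc).1 (hO.ge hw)).2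
    exact Or.inl ⟨1, one_pow 2, by
      rw [zpowers_one_eq_bot]; exact eq_bot_iff.2 (ph_le_of_sq hs), fun w hw _ => hs w hw⟩
  left
  have hθ : θ ∈ stabA E (UU θ) := invA_uu.le_stabA (mem_zpowers θ)
  have hN : NoChain 2 (UU θ) := by
    by_contra hN
    obtain ⟨k, hk⟩ := isPGroup_mulAut_of_not_noChain (hG.to_subgroup (UU θ)) hN (resA (UU θ) θ)
    have h3 : resA (UU θ) θ ^ orderOf θ = 1 := by
      rw [← (mulOn_resA uu_le).map_pow hθ, pow_orderOf_eq_one, (mulOn_resA uu_le).map_one]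
    have := pow_gcd_eq_one.2 ⟨hk, h3⟩
    rw [(Nat.Coprime.pow_left k (Nat.coprime_two_left.2 h.odd) : Nat.gcd _ _ = 1), pow_one] at this
    refine h.not_le_ph_uu hG fun u hu => h.fix_mem_ph' hG hu ?_
    rw [← totA_resA uu_le hθ hu, this, totA_one hu, inv_mul_cancel]
    exact one_mem _
  have h1 := (hN.quaternion_of_metacyclic (hG.to_subgroup _) hm hc).2.1
  have h2 := relIndex_mul_card (ph_le (UU θ))
  rw [h.relIndex_four hG h8, h1] at h2
  obtain ⟨z, hz, hz1, hz2⟩ := exists_mem_ne_one_pow_eq_one (hG.to_subgroup (Ph (UU θ))) fun e => by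
    rw [e, card_bot] at h2; omega
  have h3 : Ph (UU θ) = zpowers z := (eq_of_le_of_card_le (zpowers_le.2 hz) (by
    rw [Nat.card_zpowers, orderOf_eq_prime hz2 hz1]; omega)).symm
  have h4 := le_centralizer_of_card_prime (p := 2) (M := Ph (UU θ)) (by omega)
    (hG.to_subgroup (UU θ)) (le_normalizer.trans (normalizer_le_ph _))
  refine ⟨z, hz2, h3, fun u hu hu' => (FG.TM.eq_one_or_eq_of_mem_zpowers hz2
    (h3 ▸ sq_mem_ph hu)).resolve_left fun e => hc ?_⟩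
  have := h.small_of_invol hG h8 hu hu' h3 hz2 (fun x hx => (h4 hx z hz).symm) e
  exact FG.TM.isMulCommutative_of_sq fun x => Subtype.ext (this x x.2)

end Loc

end Cfsg.Agent.Fus.Bic
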