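import Mathlib
import Cfsg.Agent.Fus.BicLoc2
import Cfsg.Agent.FG.BicyclicNC
import Cfsg.Agent.GT.PGroupMaxClass

/-!
# Essential subgroups of bicyclic `2`-groups
-/

set_option linter.unusedSectionVars false

open scoped commutatorElement

namespace Cfsg.Agent.Fus.Bic

open Subgroup Cfsg.FusionSystem GT.PG FG.BC FG.TM

local instance : Fact (Nat.Prime 2) := ⟨Nat.prime_two⟩

universe u

variable {G : Type u} [Group G] [Finite G] {E : Subgroup G} {θ : MulAut E} {t : G}

namespace Loc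

variable (h : Loc E θ t) (hG : IsPGroup 2 G)
include h hG

theorem fix_eq_one (hc : IsMulCommutative (UU θ)) {u : G} (hu : u ∈ UU θ)
    (e : totA θ (totA θ u) = u) : u = 1 := by
  rw [← totA_mul _ _ (uu_le hu), ← sq] at e
  exact (invA_uu.commA_inf_fixA_eq_bot (hG.to_subgroup E) h.cop hc).le ⟨(h.comm_uu hG).ge hu,
    fixA_anti (zpowers_le.2 h.mem_zpowers_sq) (mem_fixA_zpowers.2 ⟨uu_le hu, e⟩)⟩

theorem four_le_card (hc : IsMulCommutative (UU θ)) {W : Subgroup G} (hW : InvA (zpowers θ) W)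
    (hWU : W ≤ UU θ) (h1 : W ≠ ⊥) : 4 ≤ Nat.card W := by
  obtain ⟨n, hn⟩ := card_eq_pow_of_isPGroup (hG.to_subgroup W)
  by_contra hlt
  have h2 : (⊥ : Subgroup G).relIndex W ≤ 2 := by
    rw [relIndex_bot_left]
    rcases n with _ | _ | n
    · omega
    · omega
    · have := Nat.one_le_two_pow (n := n); rw [pow_succ, pow_succ] at hn; omega
  refine h1 ((eq_bot_iff_forall _).2 fun w hw => h.fix_eq_one hG hc (hWU hw) ?_)
  have e : totA θ w = w := (inv_mul_eq_one.1 (commA_le_of_relIndex hW (invA_bot _) h2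
    (mem_commA (mem_zpowers θ) hw (hW.1 hw)))).symm
  rw [e, e]

theorem omega_ne_bot (hc : IsMulCommutative (UU θ)) : omegaOne 2 (UU θ) ≠ ⊥ := fun e => by
  obtain ⟨z, hz, hz1, hz2⟩ := exists_mem_ne_one_pow_eq_one (hG.to_subgroup _) (h.uu_ne_bot hG)
  exact hz1 (e.le ((mem_omegaOne_iff hc).2 ⟨hz, hz2⟩))

theorem commute_invol (hc : IsMulCommutative (UU θ)) (hm : IsMetacyclic (UU θ)) {e o : G}
    (he : e ∈ E) (ho : o ∈ UU θ) (h2 : o ^ 2 = 1) : Commute e o := by
  have h4 := relIndex_le_of_meta (hG.to_subgroup _) hm (omegaOne_le (p := 2) (UU θ)) (N := ⊥)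
    fun x hx => ((mem_omegaOne_iff hc).1 hx).2
  rw [relIndex_bot_left] at h4
  have h5 := h.four_le_card hG hc ((invA_uu.omegaOne 2).inf_centralizer (invA_top _))
    (inf_le_left.trans (omegaOne_le _)) (inf_centralizer_ne_bot_of_isPGroup (hG.to_subgroup _)
      (hG.to_subgroup E) (le_normalizer_uu.trans (normalizer_le_normalizer_omegaOne _))
      (h.omega_ne_bot hG hc))
  exact ((eq_of_le_of_card_le inf_le_left (h4.trans h5)).ge
    ((mem_omegaOne_iff hc).2 ⟨ho, h2⟩)).2 e he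

theorem mem_of_commute_invol (hc : IsMulCommutative (UU θ)) (hm : IsMetacyclic (UU θ)) {s : G}
    (hs : s ∈ normalizer (E : Set G)) (hcs : ∀ o ∈ UU θ, o ^ 2 = 1 → Commute s o) : s ∈ E := by
  refine (h.mem_or hs).resolve_right ?_
  rintro ⟨e, he, rfl⟩
  have ht : ∀ o ∈ UU θ, o ^ 2 = 1 → totA (cAut E t) o = o := fun o ho h2 => by
    have := (hcs o ho h2).mul_left (h.commute_invol hG hc hm he ho h2).inv_left
    rw [mul_inv_cancel_right] at this
    rw [totA_cAut h.tN (uu_le ho), this.eq, mul_inv_cancel_right]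
  have hθ : ∀ o ∈ UU θ, o ^ 2 = 1 → totA θ o ^ 2 = 1 := fun o ho h2 => by
    rw [← (mulOn_totA θ).map_pow (uu_le ho), h2, (mulOn_totA θ).map_one]
  obtain ⟨z, hz, hz1, hz2⟩ := exists_mem_ne_one_pow_eq_one (hG.to_subgroup _) (h.uu_ne_bot hG)
  obtain ⟨g, hg, e⟩ := mem_inn_iff.1 h.inv
  have e := e ⟨z, uu_le hz⟩
  have m1 := invA_uu.mem (mem_zpowers θ) hz
  rw [← totA_apply, (h.commute_invol hG hc hm hg hz hz2).eq, mul_inv_cancel_right,
    totA_mul _ _ (uu_le hz), totA_mul _ _ (uu_le m1), totA_inv_fix (uu_le m1) (ht _ m1 (hθ z hz hz2)),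
    totA_mul _ _ (uu_le m1), ht _ (invA_uu.mem (mem_zpowers θ) m1) (hθ _ m1 (hθ z hz hz2))] at e
  exact hz1 (h.fix_eq_one hG hc hz e)

theorem uu_eq (hm : IsMetacyclic E) : UU θ = E := by
  by_contra hne
  have h1 := relIndex_le_of_meta (hG.to_subgroup E) hm le_rfl (N := Ph E) fun x hx => sq_mem_ph hx
  have h2 := relIndex_mul_relIndex (Ph E) (UU θ ⊔ Ph E) E le_sup_right (sup_le uu_le (ph_le E))
  have h3 := FG.SR.two_le_relIndex (N := UU θ ⊔ Ph E) (H := E) fun e =>
    hne (eq_of_sup_ph hG uu_le e)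
  have h4 := commA_le_of_relIndex (invA_uu.sup (invA_ph (invA_top (zpowers θ))))
    (invA_ph (invA_top _)) (by nlinarith)
  exact h.not_le_ph hG ((h.comm_uu hG).ge.trans ((commA_mono le_rfl le_sup_left).trans h4))

variable (h8 : (Ph (UU θ)).relIndex (UU θ) ≤ 8)
include h8

theorem small_comm {z : G} (hz2 : z ^ 2 = 1) (hz : Ph (UU θ) = zpowers z) {s : G}
    (hs : s ∈ normalizer (UU θ : Set G)) : Commute s z := by
  have := (mem_normalizer_iff.1 (normalizer_le_ph _ hs) z).1 (hz ▸ mem_zpowers z)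
  rcases eq_one_or_eq_of_mem_zpowers hz2 (hz ▸ this) with e | e
  · rw [conj_eq_one_iff.1 e]; exact Commute.one_right s
  · exact mul_inv_eq_iff_eq_mul.1 e

theorem small_inv {z : G} (hz2 : z ^ 2 = 1) (hz : Ph (UU θ) = zpowers z)
    (hs : ∀ u ∈ UU θ, u ∉ Ph (UU θ) → u ^ 2 = z) {u v : G} (hu : u ∈ UU θ) (hv : v ∈ UU θ)
    (h1 : u ∉ Ph (UU θ)) (h3 : u⁻¹ * v ∉ Ph (UU θ)) :
    u * v * u⁻¹ = v⁻¹ := by
  have e1 := hs _ (mul_mem ((UU θ).inv_mem hu) hv) h3
  have e2 := hs u hu h1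
  have e3 : u⁻¹ * v * u⁻¹ * v = u * u := by rw [← sq, e2, ← e1, sq]; group
  have e4 : u * u * (u * u) = 1 := by rw [← sq u, e2, ← sq, hz2]
  have e5 := (h.small_comm hG h8 hz2 hz (le_normalizer hv)).eq
  rw [← e2, sq] at e5
  calc u * v * u⁻¹ = u * u * (u⁻¹ * v * u⁻¹ * v) * v⁻¹ := by group
    _ = v⁻¹ := by rw [e3, e4, one_mul]

/-- A centric four-group or quaternion group forces maximal class. -/
theorem meta_of_small (hE : UU θ = E) {z : G} (hz2 : z ^ 2 = 1) (hz : Ph (UU θ) = zpowers z)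
    (hs : ∀ u ∈ UU θ, u ∉ Ph (UU θ) → u ^ 2 = z) : IsMetacyclic G := by
  obtain ⟨u, hu, hv, h1, h2, h3⟩ := h.exists_pair hG h8
  have hzc : z ∈ center G := by
    by_cases hz1 : z = 1
    · exact hz1 ▸ one_mem _
    obtain ⟨w, -, hw, hw1, hw2⟩ := exists_mem_center_of_normal hG ⊤ fun e =>
      h.tE (by rw [show t = 1 from e.le (mem_top t)]; exact one_mem _)
    have hwE : w ∈ UU θ := hE.ge (h.cen w fun x _ => mem_center_iff.1 hw x)
    have : w ∈ Ph (UU θ) := by
      by_contra hc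
      exact hz1 ((hs w hwE hc).symm.trans hw2)
    exact (eq_one_or_eq_of_mem_zpowers hz2 (hz ▸ this)).resolve_left hw1 ▸ hw
  have hZ := normal_zpowers_of_mem_center hzc
  have hzE : zpowers z ≤ E := hz.ge.trans ((ph_le _).trans uu_le)
  have hzG : z ∈ commutator G := by
    have := commutator_mem_commutator (mem_top u) (mem_top ⁅t, u⁆)
    rw [commutatorElement_def u, h.small_inv hG h8 hz2 hz hs hu hv h1 h3, ← mul_inv_rev, ← sq,
      hs _ hv h2] at this
    exact inv_mem_iff.1 this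
  have hcE : (E.map (QuotientGroup.mk' (zpowers z))).comap (QuotientGroup.mk' _) = E := by
    rw [comap_map_eq, QuotientGroup.ker_mk', sup_eq_left.2 hzE]
  obtain ⟨m, a, b, hm⟩ := exists_maxTwo_of_self_centralizing (hG.to_quotient (zpowers z))
    (A := E.map (QuotientGroup.mk' _)) (by
      have h4 := h.relIndex_four hG h8
      rw [hz, hE] at h4
      rw [← h4, ← relIndex_bot_left, ← relIndex_comap, MonoidHom.comap_bot, QuotientGroup.ker_mk'])
    (by
      rintro ⟨s⟩ hs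
      have hs' : ∀ x ∈ E, x⁻¹ * (s * x * s⁻¹) ∈ zpowers z := fun x hx => by
        rw [← QuotientGroup.eq, QuotientGroup.mk_mul, QuotientGroup.mk_mul, QuotientGroup.mk_inv,
          eq_mul_inv_iff_mul_eq]
        exact hs _ ⟨x, hx, rfl⟩
      exact ⟨s, h.mem_of_triv hG h8 (mem_normalizer_fintype fun x hx => by
        simpa using mul_mem hx (hzE (hs' x hx))) fun x hx => hz ▸ hs' x (uu_le hx), rfl⟩)
    fun e => h.tE (by rw [← hcE, e]; exact mem_top _)
  have hi : (commutator G).index = 4 := by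
    rw [← hm.index_commutator, ← index_map_eq (commutator G)
      (QuotientGroup.mk'_surjective (zpowers z))
      (by rw [QuotientGroup.ker_mk']; exact zpowers_le.2 hzG), commutator_def, commutator_def,
      map_commutator, ← MonoidHom.range_eq_map, QuotientGroup.range_mk']
  obtain ⟨m, a, b, hm⟩ := maxTwo_of_index_commutator hG (fun hc => h2 (by
    rw [commutatorElement_eq_one_iff_mul_comm.2 (hc.is_comm.comm t u)]; exact one_mem _)) hi
  exact meta_of_maxTwo hm

omit h8 in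
theorem index_two_of_normal (hn : normalizer (E : Set G) = ⊤) : E.index = 2 :=
  index_eq_two_iff_exists_notMem_and'.2 ⟨t⁻¹, fun e => h.tE (inv_mem_iff.1 e), fun b => by
    by_cases hb : b ∈ E
    · exact Or.inr hb
    · exact Or.inl (h.idx b (hn ▸ mem_top b) hb)⟩

/-- A homocyclic essential subgroup of exponent at least four has index two. -/
theorem of_homocyclic (hE : UU θ = E) (hc : IsMulCommutative (UU θ)) (hm : IsMetacyclic (UU θ))
    (hi : ∀ u ∈ UU θ, u ^ 2 = 1 → u ∈ Ph (UU θ)) :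
    IsCyclic (commutator G) ∧ PRankLE 2 2 G := by
  have hcm : ∀ x ∈ E, ∀ y ∈ E, Commute x y := fun x hx y hy =>
    congrArg Subtype.val (hc.is_comm.comm ⟨x, hE.ge hx⟩ ⟨y, hE.ge hy⟩)
  have hn : normalizer (E : Set G) = ⊤ := by
    by_contra hne
    obtain ⟨g, hg, hgN⟩ := SetLike.exists_of_lt (lt_normalizerIn (hG.to_subgroup ⊤)
      (lt_top_iff_ne_top.2 hne))
    refine hgN (mem_normalizer_fintype fun e he => ?_)
    refine h.mem_of_commute_invol hG hc hm ((mem_normalizer_iff.1 hg.2 e).1 (le_normalizer he))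
      fun o ho h2 => ?_
    have h3 : o ∈ powerClosure 2 1 (UU θ) := (sup_le (commutator_le.2 fun x hx y hy => by
      rw [commutatorElement_eq_one_iff_commute.2 (hcm x (uu_le hx) y (uu_le hy))]
      exact one_mem _) le_rfl : Ph (UU θ) ≤ _) (hi o ho h2)
    rw [mem_powerClosure_iff hc] at h3
    obtain ⟨x, hx, rfl⟩ := h3
    have h4 := h.sq_mem ((mem_normalizer_iff.1 (Subgroup.inv_mem _ hg.2) x).1
      (le_normalizer (uu_le hx)))
    have := (hcm e he _ h4).conj g
    simpa [mul_assoc, conj_pow, sq] using this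
  have h2 := h.index_two_of_normal hG hn
  obtain ⟨u, hu, hv, h1, h3, h4⟩ := h.exists_pair hG h8
  have hgen := h.eq_of_gen hG h8 hu hv h1 h3 h4
  have htop : zpowers u ⊔ zpowers t = ⊤ := by
    rw [eq_top_iff, ← sup_zpowers_eq_top_of_index_prime Nat.prime_two h2 h.tE]
    refine sup_le (hE.ge.trans (hgen.ge.trans (sup_le le_sup_left (zpowers_le.2 ?_)))) le_sup_right
    exact commutatorElement_mem' (mem_sup_right (mem_zpowers t)) (mem_sup_left (mem_zpowers u))
  have hvn : (zpowers ⁅t, u⁆).Normal := by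
    refine normal_of_two_generators htop ?_ ?_
    · rw [(hcm _ (uu_le hu) _ (uu_le hv)).eq, mul_inv_cancel_right]; exact mem_zpowers _
    · have e : t * ⁅t, u⁆ * t⁻¹ = ⁅t, u⁆⁻¹ := by
        calc t * ⁅t, u⁆ * t⁻¹ = t ^ 2 * u * t⁻¹ * u⁻¹ * t⁻¹ := by
              rw [commutatorElement_def, sq]; group
          _ = _ := by
            rw [(hcm _ (h.sq_mem h.tN) _ (uu_le hu)).eq, commutatorElement_def, sq]; group
      rw [e]; exact Subgroup.inv_mem _ (mem_zpowers _)
  refine ⟨isCyclic_of_le (commutator_le_of_two_generators htop _ (mem_zpowers _)),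
    fun A hA hA2 => ?_⟩
  have h5 : ∀ B : Subgroup G, B ≤ E → (∀ x ∈ B, x ^ 2 = 1) → Nat.card B ≤ 4 := fun B hB hB2 => by
    have := relIndex_le_of_meta (hG.to_subgroup _) hm (hB.trans hE.ge) (N := ⊥) hB2
    rwa [relIndex_bot_left] at this
  by_cases hAE : A ≤ E
  · exact h5 A hAE hA2
  by_contra hlt
  obtain ⟨s, hs, hsE⟩ := not_forall₂.1 hAE
  have h6 := relIndex_mul_card (inf_le_right : E ⊓ A ≤ A)
  have h7 : (E ⊓ A).relIndex A ≤ 2 := by
    rw [inf_relIndex_right, ← h2, ← relIndex_top_right]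
    exact relIndex_le_of_le_right le_top relIndex_ne_zero
  obtain ⟨n, hn'⟩ := card_eq_pow_of_isPGroup (hG.to_subgroup (E ⊓ A))
  have h9 : 4 ≤ Nat.card (E ⊓ A : Subgroup G) := by
    rcases n with _ | _ | n
    · rw [hn'] at h6; omega
    · rw [hn'] at h6; omega
    · have := Nat.one_le_two_pow (n := n); rw [hn', pow_succ, pow_succ]; omega
  have h10 : E ⊓ A = omegaOne 2 (UU θ) := eq_of_le_of_card_le
    (fun x hx => (mem_omegaOne_iff hc).2 ⟨hE.ge hx.1, hA2 x hx.2⟩)
    ((h5 _ ((omegaOne_le _).trans uu_le) fun x hx => ((mem_omegaOne_iff hc).1 hx).2).trans h9)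
  exact hsE (h.mem_of_commute_invol hG hc hm (hn ▸ mem_top s) fun o ho h2 =>
    congrArg Subtype.val (hA.is_comm.comm ⟨s, hs⟩ ⟨o, (h10.ge ((mem_omegaOne_iff hc).2 ⟨ho, h2⟩)).2⟩))

omit h8 in
/-- A metacyclic essential subgroup. -/
theorem of_meta (hm : IsMetacyclic E) :
    IsMetacyclic G ∨ (IsCyclic (commutator G) ∧ PRankLE 2 2 G) := by
  have hE := h.uu_eq hG hm
  have hm' : IsMetacyclic (UU θ) := isMetacyclic_of_le hm uu_le
  have h8 : (Ph (UU θ)).relIndex (UU θ) ≤ 8 := (relIndex_le_of_meta (hG.to_subgroup _) hm' le_rfl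
    fun x hx => sq_mem_ph hx).trans (by norm_num)
  rcases h.cases hG h8 hm' with ⟨z, h1, h2, h3⟩ | ⟨h1, h2⟩
  · exact Or.inl (h.meta_of_small hG h8 hE h1 h2 h3)
  · exact Or.inr (h.of_homocyclic hG h8 hE h1 hm' h2)

end Loc

variable {M : Subgroup G} {F : FusionSystem (⊤ : Subgroup G)}

theorem mem_iff_of_mor (hM : NM M) {g : G → G} (hg : F.Mor ⊤ g) (x : G) : g x ∈ M ↔ x ∈ M := by
  let φ : G ≃* G := MulEquiv.ofBijective
    (MonoidHom.mk' g fun a b => hg.map_mul (mem_top a) (mem_top b))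
    (Finite.injective_iff_bijective.1 fun a b e => hg.inj (mem_top a) (mem_top b) e)
  exact SetLike.ext_iff.1 (hM.characteristic.fixed φ) x

theorem exists_loc_of_nm (hM : NM M) (hF : F.IsSaturated 2) {E : Subgroup G}
    (hE : F.IsEssential 2 E) : ∃ θ t, Loc E θ t :=
  exists_loc hM.pg hF hE (hM.relIndex_le_eight fun _ hx => sq_mem_ph hx)

/-- If the focal subgroup is everything, a non-metacyclic bicyclic group has rank two. -/
theorem pRankLE_of_focal (hM : NM M) (hF : F.IsSaturated 2) (h : F.focalSubgroup = ⊤) :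
    PRankLE 2 2 G := by
  by_contra hr
  have hS := hM.pg.to_subgroup ⊤
  have key : F.focalSubgroup ≤ M := focal_le_iff.2 fun P f hf =>
    hF.alperin_induction hS (M := fun f => ∀ x ∈ P, x⁻¹ * f x ∈ M)
      (fun x _ => by simp) (fun h e x hx => e x hx ▸ h x hx)
      (fun {f R g} _ h hR hg hm x hx => by
        have h1 : (f x)⁻¹ * g (f x) ∈ M := by
          rcases hR with rfl | hR
          · exact (mul_mem_iff_of_index_two hM.idxM).2
              (inv_mem_iff.trans (mem_iff_of_mor hM hg.mor _).symm)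
          by_cases hle : R ≤ M
          · exact hle (mul_mem (R.inv_mem (hm x hx)) (hg.maps _ (hm x hx)))
          obtain ⟨θ, t, hL⟩ := exists_loc_of_nm hM hF hR
          rcases hL.of_meta hM.pg (hM.mc R (hF.lt_of_isEssential hS hR).ne hle) with h | h
          · exact absurd h hM.nm
          · exact absurd h.2 hr
        simpa [mul_assoc] using mul_mem (h x hx) h1) hf
  obtain ⟨a, ha⟩ := hM.exists_notMem
  exact ha (key (h.ge (mem_top a)))

end Cfsg.Agent.Fus.Bic
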