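import Mathlib
import Cfsg.Agent.Fus.BicMain

/-!
# A bicyclic non-metacyclic `2`-group with an essential subgroup has cyclic derived group
-/

set_option linter.unusedSectionVars false

open scoped commutatorElement

namespace Cfsg.Agent.Fus.Bic

open Subgroup Cfsg.FusionSystem GT.PG FG.BC FG.TM

local instance : Fact (Nat.Prime 2) := ⟨Nat.prime_two⟩

universe u

variable {G : Type u} [Group G] [Finite G] {E M V : Subgroup G} {θ : MulAut E} {t : G}

theorem commute_of_sup {a b x y : G} (ha : Commute x a) (hb : Commute x b)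
    (hy : y ∈ zpowers a ⊔ zpowers b) : Commute x y :=
  (mem_centralizer_singleton_iff.1 ((sup_le
    (zpowers_le.2 (mem_centralizer_singleton_iff.2 ha.eq.symm))
    (zpowers_le.2 (mem_centralizer_singleton_iff.2 hb.eq.symm)) : _ ≤ centralizer {x}) hy)).symm

theorem commute_of_fr (hM : NM M) (hV : Four V) {u : G} (huM : u ∈ M) (hu : u ∉ frattini G)
    (hc : ∀ v ∈ V, Commute v u) {v m : G} (hv : v ∈ V) (hm : m ∈ M) : Commute v m :=
  (mem_centralizer_singleton_iff.1 ((sup_le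
    (fun f hf => mem_centralizer_singleton_iff.2 (hV.cen v hv f hf).eq.symm)
    (zpowers_le.2 (mem_centralizer_singleton_iff.2 (hc v hv).eq.symm)) : _ ≤ centralizer {v})
    ((hM.eq_sup hM.idxM huM hu).ge hm))).symm

namespace Loc

variable (h : Loc E θ t) (hM : NM M) (hV : Four V) (hE : E ≤ M)
include h hM hV hE

theorem false_of_abelian (hne : ¬ E ≤ UU θ) (hc : IsMulCommutative (UU θ))
    (hm : IsMetacyclic (UU θ)) (hi : ∀ u ∈ UU θ, u ^ 2 = 1 → u ∈ frattini G) : False := by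
  have hG := hM.pg
  have h8 := hM.relIndex_le_eight (N := Ph (UU θ)) fun _ hx => sq_mem_ph hx
  have hcm : ∀ x ∈ UU θ, ∀ y ∈ UU θ, Commute x y := fun x hx y hy =>
    congrArg Subtype.val (hc.is_comm.comm ⟨x, hx⟩ ⟨y, hy⟩)
  have hO : omegaOne 2 (UU θ) = V := eq_of_le_of_card_le (fun x hx => by
    obtain ⟨h1, h2⟩ := (mem_omegaOne_iff hc).1 hx
    exact hV.mem x (hi x h1 h2) h2) (hV.card.trans_le (h.four_le_card hG hc (invA_uu.omegaOne 2)
      (omegaOne_le _) (h.omega_ne_bot hG hc)))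
  have hVU : V ≤ UU θ := hO.ge.trans (omegaOne_le _)
  have hC : ∀ c ∈ E, totA θ c = c → c ∈ frattini G → c = 1 := fun c hcE hc1 hcF => by
    by_contra hne
    obtain ⟨_, ⟨k, rfl⟩, h1, h2⟩ := exists_mem_ne_one_pow_eq_one (hG.to_subgroup (zpowers c))
      (by rwa [Ne, zpowers_eq_bot])
    have e : totA θ (c ^ k) = c ^ k := by rw [(mulOn_totA θ).map_zpow hcE, hc1]
    exact h1 (h.fix_eq_one hG hc (hVU (hV.mem _ (zpow_mem hcF k) h2)) (by rw [e, e]))
  obtain ⟨c, hcE, hc1, hcU⟩ : ∃ c ∈ E, totA θ c = c ∧ c ∉ UU θ := by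
    by_contra hcon
    push Not at hcon
    refine hne fun x hx => ?_
    obtain ⟨c, hcE, hc1, u, hu, rfl⟩ := h.dec hG hx
    exact mul_mem (hcon c hcE hc1) hu
  have hcF : c ∉ frattini G := fun e => hcU (hC c hcE hc1 e ▸ one_mem _)
  have hc2 : c ^ 2 = 1 := hC _ (pow_mem hcE 2) (by rw [(mulOn_totA θ).map_pow hcE, hc1])
    (pow_mem_frattini hG c)
  have htM : t ∉ M := fun e => h.tE (h.mem_of_commute_invol hG hc hm h.tN fun o ho h2 =>
    (commute_of_fr hM hV (hE hcE) hcF (fun v hv => (h.commute_invol hG hc hm hcE (hVU hv)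
      (hV.sq v hv)).symm) (hO.le ((mem_omegaOne_iff hc).2 ⟨ho, h2⟩)) e).symm)
  have hn : normalizer (E : Set G) = ⊤ := eq_top_iff.2 ((hM.top_of hM.idxM (hE hcE) hcF htM).ge.trans
    (sup_le (zpowers_le.2 (le_normalizer hcE)) (zpowers_le.2 h.tN)))
  have hEM : E = M := eq_of_index_two hE (h.index_two_of_normal hG hn) hM.idxM
  have hinv := hM.inverts (hE hcE) hcF (hc2 ▸ one_mem _)
  let I : Subgroup G :=
    { carrier := {x | x ∈ UU θ ∧ c * x * c⁻¹ = x⁻¹}
      one_mem' := ⟨one_mem _, by simp⟩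
      mul_mem' := fun {x y} hx hy => ⟨mul_mem hx.1 hy.1, by
        rw [← conj_mul, hx.2, hy.2, (hcm x hx.1 y hy.1).eq, mul_inv_rev]⟩
      inv_mem' := fun {x} hx => ⟨Subgroup.inv_mem _ hx.1, by rw [← conj_inv, hx.2]⟩ }
  obtain ⟨u, hu, hv, h1, h2, h3⟩ := h.exists_pair hG h8
  have hI : I = UU θ := (h.irr hG h8 (W := I) (invA_zpowers (X := I) (fun x hx => uu_le hx.1) fun x hx =>
    ⟨invA_uu.mem (mem_zpowers θ) hx.1, by
      rw [← (mulOn_totA θ).map_inv (uu_le hx.1), ← hx.2, (mulOn_totA θ).map_conj hcE (uu_le hx.1),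
        hc1]⟩) fun x hx => hx.1).resolve_right fun e =>
    h2 (e ⟨hv, hinv _ (commutator_mem_commutator (mem_top _) (mem_top _))⟩)
  have hsq : ∀ w ∈ UU θ, (c * w) ^ 2 = 1 := fun w hw => by
    calc (c * w) ^ 2 = c * w * c⁻¹ * c ^ 2 * w := by rw [sq, sq]; group
      _ = 1 := by rw [(hI.ge hw).2, hc2, mul_one, inv_mul_cancel]
  have hdec : ∀ x ∈ E, x ∈ UU θ ∨ ∃ w ∈ UU θ, x = c * w := fun x hx => by
    obtain ⟨d, hdE, hd1, w, hw, rfl⟩ := h.dec hG hx
    by_cases hd : d ∈ frattini G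
    · rw [hC d hdE hd1 hd, one_mul]; exact Or.inl hw
    · have := hC _ (mul_mem (E.inv_mem hcE) hdE) (by
        rw [(mulOn_totA θ).map_mul (E.inv_mem hcE) hdE, (mulOn_totA θ).map_inv hcE, hc1, hd1])
        (hM.mul_mem_fr hM.idxM (hE hcE) hcF (hE hdE) hd)
      exact Or.inr ⟨w, hw, by rw [inv_mul_eq_one.1 this]⟩
  have hFU : frattini G ≤ UU θ := fun f hf => by
    rcases hdec f (hEM.ge (hM.fr_le hf)) with e | ⟨w, hw, rfl⟩
    · exact e
    · exact hVU (hV.mem _ hf (hsq w hw))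
  have hUF : UU θ ≤ frattini G := fun w hw => by
    by_contra hw'
    exact hcU (sup_le hFU (zpowers_le.2 hw) ((hM.eq_sup hM.idxM (hE (uu_le hw)) hw').ge (hE hcE)))
  have hPn : (Ph (UU θ)).Normal := normalizer_eq_top_iff.1 (eq_top_iff.2
    (hn.ge.trans ((h.normalizer_le hG).trans (normalizer_le_ph _))))
  have key : ∀ x, x ∈ (centralizer {(t : G ⧸ Ph (UU θ))}).comap (QuotientGroup.mk' _) ↔
      x⁻¹ * (t * x * t⁻¹) ∈ Ph (UU θ) := fun x => by
    rw [← QuotientGroup.eq, QuotientGroup.mk_mul, QuotientGroup.mk_mul, QuotientGroup.mk_inv,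
      eq_mul_inv_iff_mul_eq, mem_comap, mem_centralizer_singleton_iff]
    rfl
  refine h.tE (h.mem_of_triv hG h8 h.tN fun x hx => (key x).1 ?_)
  refine (?_ : frattini G ≤ _) (hUF hx)
  rw [frattini_eq_powerClosure_two hG, powerClosure_one_le_iff]
  intro g _
  rw [key]
  rcases h.mem_or (hn.ge (mem_top g)) with hg | ⟨e, he, hg⟩
  · have : g ^ 2 ∈ Ph (UU θ) := by
      rcases hdec g hg with e | ⟨w, hw, rfl⟩
      · exact sq_mem_ph e
      · rw [hsq w hw]; exact one_mem _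
    exact mul_mem (Subgroup.inv_mem _ this) (hPn.conj_mem _ this t)
  · have := hPn.conj_mem _ (h.comm_mem_ph hG h8 (E.inv_mem he) (hFU (pow_mem_frattini hG g))) g
    rw [show t = g * e⁻¹ by rw [hg, mul_inv_cancel_right]]
    convert this using 1
    group

variable {z : G} (hz2 : z ^ 2 = 1) (hz : Ph (UU θ) = zpowers z)
  (hs : ∀ u ∈ UU θ, u ∉ Ph (UU θ) → u ^ 2 = z)
include hz2 hz hs

theorem exists_notMem_zpowers {w : G} (hw : w ^ 2 = 1) : ∃ v ∈ V, v ∉ zpowers w := by
  by_contra hc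
  push Not at hc
  have h1 := card_le_of_le (show V ≤ zpowers w from hc)
  have h2 := Nat.le_of_dvd two_pos (orderOf_dvd_of_pow_eq_one hw)
  rw [Nat.card_zpowers, hV.card] at h1
  omega

theorem false_of_quaternion (hz1 : z ≠ 1) (hU : UU θ ≤ frattini G) : False := by
  have hG := hM.pg
  have h8 := hM.relIndex_le_eight (N := Ph (UU θ)) fun _ hx => sq_mem_ph hx
  obtain ⟨v, hv, hvz⟩ := h.exists_notMem_zpowers hM hV hE hz2 hz hs hz2
  have hvU : v ∉ UU θ := fun e => hz1 ((hs v e (hz ▸ hvz)).symm.trans (hV.sq v hv))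
  have hcv : ∀ x ∈ UU θ, Commute v x := fun x hx => hV.cen v hv x (hU hx)
  have h1 := relIndex_le_of_meta (hG.to_subgroup _) hM.meta_fr (H := UU θ ⊔ zpowers v)
    (N := Ph (UU θ)) (sup_le hU (zpowers_le.2 (commutator_le_frattini hG (hV.le hv))))
    fun x hx => by
      obtain ⟨a, ha, _, ⟨i, rfl⟩, rfl⟩ := (mem_sup_of_le_normalizer' (zpowers_le.2
        (mem_normalizer_fintype fun y hy => by
          rwa [(hcv y hy).eq, mul_inv_cancel_right]))).1 hx
      change (a * v ^ i) ^ 2 ∈ _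
      rw [((hcv a ha).zpow_left i).symm.mul_pow, (IsElementaryAbelian.zpowers (hV.sq v hv)).2 _
        (zpow_mem (mem_zpowers v) i), mul_one]
      exact sq_mem_ph ha
  have h2 := relIndex_mul_relIndex (Ph (UU θ)) (UU θ) (UU θ ⊔ zpowers v) (ph_le _) le_sup_left
  have h3 := FG.SR.two_le_relIndex (N := UU θ) (H := UU θ ⊔ zpowers v) fun e =>
    hvU (e (mem_sup_right (mem_zpowers v)))
  rw [h.relIndex_four hG h8] at h2
  omega

theorem false_of_small (hc : ¬ IsCyclic (commutator G)) (hU : ¬ UU θ ≤ frattini G) : False := by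
  have hG := hM.pg
  have h8 := hM.relIndex_le_eight (N := Ph (UU θ)) fun _ hx => sq_mem_ph hx
  obtain ⟨u, hu, hw, h1, h2, h3⟩ := h.exists_pair hG h8
  have hgen := h.eq_of_gen hG h8 hu hw h1 h2 h3
  have hwX : ⁅t, u⁆ ∈ commutator G := commutator_mem_commutator (mem_top _) (mem_top _)
  generalize ⁅t, u⁆ = w at hw h2 h3 hgen hwX
  have hXF := commutator_le_frattini hG
  have hXn : (commutator G).Normal := inferInstance
  have hPF := ph_le_frattini hG (UU θ)
  have huF : u ∉ frattini G := fun e => hU (hgen.ge.trans (sup_le (zpowers_le.2 e)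
    (zpowers_le.2 (hXF hwX))))
  have huM := hE (uu_le hu)
  have hu2 := hs u hu h1
  have hw2 := hs w hw h2
  have hzV : z ∈ V := hV.mem z (hu2 ▸ pow_mem_frattini hG u) hz2
  have i1 := h.small_inv hG h8 hz2 hz hs hu hw h1 h3
  have i2 := h.small_inv hG h8 hz2 hz hs hw hu h2 fun e => h3 (by simpa using (Ph _).inv_mem e)
  have hinv : ∀ x, x ^ 2 = z → x⁻¹ = x * z := fun x hx => by
    rw [inv_eq_iff_mul_eq_one, ← mul_assoc, ← sq, hx, ← sq, hz2]
  have hVu : ∀ v ∈ V, Commute v u := fun v hv => by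
    by_cases hzc : z ∈ center G
    · have := hM.inverts huM huF (hu2 ▸ hzc) v (hV.le hv)
      rw [show v⁻¹ = v from inv_eq_of_mul_eq_one_right (by rw [← sq, hV.sq v hv])] at this
      exact commute_iff_conj_eq.2 this
    obtain ⟨y, -, hy, -, hy'⟩ := hV.ex
    have c1 : Commute y u := (mem_center_iff.1 hy u).symm
    have c2 : Commute z u := hu2 ▸ (Commute.refl u).pow_left 2
    rcases hy' z hzV with e | e | e
    · exact absurd (e ▸ one_mem _) hzc
    · exact absurd (e ▸ hy) hzc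
    rcases e v hv with rfl | rfl | rfl | rfl
    exacts [Commute.one_left u, c1, c2, c2.mul_left c1]
  have hVM : ∀ {v m}, v ∈ V → m ∈ M → Commute v m := commute_of_fr hM hV huM huF hVu
  have hVE : V ≤ E := fun v hv => h.cen v fun x hx => (hVM hv (hE hx)).eq.symm
  have hdec : ∀ e ∈ E, ∃ y ∈ UU θ, ∀ x ∈ UU θ, Commute (y⁻¹ * e) x := fun e he => by
    have key : ∀ y ∈ UU θ, e * u * e⁻¹ = y * u * y⁻¹ → e * w * e⁻¹ = y * w * y⁻¹ →
        ∃ y ∈ UU θ, ∀ x ∈ UU θ, Commute (y⁻¹ * e) x := fun y hy e1 e2 => by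
      refine ⟨y, hy, fun x hx => commute_of_sup ?_ ?_ (hgen.ge hx)⟩
      · refine (commute_iff_conj_eq.2 ?_).symm
        calc y⁻¹ * e * u * (y⁻¹ * e)⁻¹ = y⁻¹ * (e * u * e⁻¹) * y := by group
          _ = u := by rw [e1]; group
      · refine (commute_iff_conj_eq.2 ?_).symm
        calc y⁻¹ * e * w * (y⁻¹ * e)⁻¹ = y⁻¹ * (e * w * e⁻¹) * y := by group
          _ = w := by rw [e2]; group
    rcases eq_one_or_eq_of_mem_zpowers hz2 (hz ▸ h.comm_mem_ph hG h8 he hu) with e1 | e1 <;>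
      rcases eq_one_or_eq_of_mem_zpowers hz2 (hz ▸ h.comm_mem_ph hG h8 he hw) with e2 | e2 <;>
      rw [inv_mul_eq_iff_eq_mul] at e1 e2
    · exact key 1 (one_mem _) (by rw [e1]; simp) (by rw [e2]; simp)
    · exact key u hu (by rw [e1]; simp) (by rw [e2, i1, hinv w hw2])
    · exact key w hw (by rw [e1, i2, hinv u hu2]) (by rw [e2]; simp)
    · refine key (u * w) (mul_mem hu hw) ?_ ?_
      · calc e * u * e⁻¹ = u * (w * u * w⁻¹) * u⁻¹ := by rw [e1, i2, ← hinv u hu2]; group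
          _ = _ := by group
      · calc e * w * e⁻¹ = u * w * u⁻¹ := by rw [e2, i1, hinv w hw2]
          _ = _ := by group
  have hD : centralizer (UU θ : Set G) ≤ E := by
    by_contra hle
    obtain ⟨s, hs, hsE⟩ := SetLike.exists_of_lt (lt_normalizerIn (hG.to_subgroup _)
      (inf_lt_right.2 hle))
    refine hsE ⟨h.mem_of_triv hG h8 (mem_normalizer_fintype fun e he => ?_) fun x hx => ?_, hs.1⟩
    · obtain ⟨y, hy, hy'⟩ := hdec e he
      have h4 := conj_mem_of_mem_normalizerIn hs (x := y⁻¹ * e)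
        ⟨mul_mem (E.inv_mem (uu_le hy)) he, fun x hx => (hy' x hx).eq.symm⟩
      have := mul_mem (uu_le hy) h4.1
      rw [← conj_eq_of_mem_centralizer hs.1 hy] at this
      nth_rw 2 [conj_eq_of_mem_centralizer hs.1 hy] at this
      simpa [mul_assoc] using this
    · rw [conj_eq_of_mem_centralizer hs.1 hx, inv_mul_cancel]; exact one_mem _
  have fin : ∀ g, ∀ v ∈ V, g * u * g⁻¹ = u * v → v ∈ UU θ := fun g v hv e => by
    have hy := hXn.conj_mem w hwX g
    have hv' : w⁻¹ * (g * w * g⁻¹) ∈ V := by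
      refine hV.mem _ (hXF (mul_mem (Subgroup.inv_mem _ hwX) hy)) ?_
      rw [(hM.der_comm _ hwX _ hy).inv_left.mul_pow, conj_pow, hw2, ← hu2, ← conj_pow, e,
        (hVu v hv).symm.mul_pow, hV.sq v hv, mul_one, inv_pow, hw2, hu2, inv_mul_cancel]
    have e' : g * w * g⁻¹ = w * (w⁻¹ * (g * w * g⁻¹)) := by group
    generalize w⁻¹ * (g * w * g⁻¹) = v' at hv' e'
    have hg : g ∈ normalizer (E : Set G) := mem_normalizer_fintype fun x hx => by
      obtain ⟨y, hy, hy'⟩ := hdec x hx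
      have h4 : g * y * g⁻¹ ∈ E := (sup_le (zpowers_le.2 (show g * u * g⁻¹ ∈ E from
        e ▸ mul_mem (uu_le hu) (hVE hv))) (zpowers_le.2 (show g * w * g⁻¹ ∈ E from
        e' ▸ mul_mem (uu_le hw) (hVE hv'))) : _ ≤ E.comap (MulAut.conj g).toMonoidHom) (hgen.ge hy)
      have hm := hM.normal.conj_mem _ (hE (mul_mem (E.inv_mem (uu_le hy)) hx)) g
      have h5 : g * (y⁻¹ * x) * g⁻¹ ∈ E := hD fun a ha => (commute_of_sup ?_ ?_ (hgen.ge ha)).eq.symm
      · simpa [mul_assoc] using mul_mem h4 h5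
      · have := ((hy' u hu).conj g).mul_right (hVM hv hm).symm.inv_right
        rwa [e, mul_inv_cancel_right] at this
      · have := ((hy' w hw).conj g).mul_right (hVM hv' hm).symm.inv_right
        rwa [e', mul_inv_cancel_right] at this
    exact (mul_mem_cancel_left hu).1 (e ▸ h.conj_mem hG hg hu)
  by_cases hzc : z ∈ center G
  · have hUF : ∀ x ∈ UU θ, x ∈ frattini G → x ∈ zpowers w := fun x hx hxF => by
      have hP : Ph (UU θ) ≤ zpowers w := hz ▸ zpowers_le.2 (hw2 ▸ pow_mem (mem_zpowers w) 2)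
      rcases h.gen hG h8 hu hw h1 h2 h3 hx with e | e | e | e
      · exact hP e
      · exact absurd (inv_mem_iff.1 ((mul_mem_cancel_right hxF).1 (hPF e))) huF
      · simpa using mul_mem (mem_zpowers w) (hP e)
      · exact absurd ((mul_mem_cancel_right (hXF hwX)).1
          (inv_mem_iff.1 ((mul_mem_cancel_right hxF).1 (hPF e)))) huF
    have hVU : V ≤ zpowers w := fun v hv => by
      obtain ⟨g, e⟩ := hM.exists_conj_eq hc huM huF (hM.inverts huM huF (hu2 ▸ hzc)) (hV.le hv)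
      exact hUF v (fin g v hv e) (hXF (hV.le hv))
    have := isCyclic_of_le hVU
    obtain ⟨y, hy⟩ := this.exists_ofOrder_eq_natCard
    have := Nat.le_of_dvd two_pos (orderOf_dvd_of_pow_eq_one
      (show y ^ 2 = 1 from Subtype.ext (hV.sq y y.2)))
    rw [hy, hV.card] at this
    omega
  · obtain ⟨a, ha⟩ := not_forall.1 fun e => hzc (mem_center_iff.2 e)
    have hy := hXn.conj_mem w hwX a
    have e1 : u * (a * w * a⁻¹) * u⁻¹ = (a * w * a⁻¹)⁻¹ := by
      rw [conj_conj_comm hM.der_comm hwX, i1, conj_inv]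
    have hv := hV.normal.conj_mem z hzV a
    have e2 : (a * w * a⁻¹)⁻¹ * u * (a * w * a⁻¹)⁻¹⁻¹ = u * (a * z * a⁻¹) := by
      rw [← e1, ← hw2, ← conj_pow, e1, inv_inv, ← e1, sq]; group
    have h4 := fin _ _ hv e2
    have hz1 : z ≠ 1 := fun e => hzc (e ▸ one_mem _)
    have h5 : a * z * a⁻¹ ∈ Ph (UU θ) := by
      by_contra e
      exact hz1 ((hs _ h4 e).symm.trans (hV.sq _ hv))
    rcases eq_one_or_eq_of_mem_zpowers hz2 (hz ▸ h5) with e | e
    · exact hz1 (conj_eq_one_iff.1 e)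
    · exact ha (mul_inv_eq_iff_eq_mul.1 e)

end Loc

theorem Loc.isCyclic_commutator (h : Loc E θ t) (hM : NM M) : IsCyclic (commutator G) := by
  by_contra hc
  have hG := hM.pg
  obtain ⟨V, hV⟩ := hM.exists_four hc
  have hm : ¬ IsMetacyclic E := fun hm =>
    (h.of_meta hG hm).elim hM.nm fun e => hc e.1
  have hE : E ≤ M := by
    by_contra hle
    exact hm (hM.mc E (fun e => h.tE (e ▸ mem_top t)) hle)
  have h8 := hM.relIndex_le_eight (N := Ph (UU θ)) fun _ hx => sq_mem_ph hx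
  obtain ⟨u, -, hw, -, h2, -⟩ := h.exists_pair hG h8
  have hU := h.meta_uu hG h8 hw h2 (isMetacyclic_of_le hM.meta_fr (sup_le (ph_le_frattini hG _)
    (zpowers_le.2 (commutator_le_frattini hG (commutator_mem_commutator (mem_top _) (mem_top _))))))
  have hne : ¬ E ≤ UU θ := fun e => hm (isMetacyclic_of_le hU e)
  rcases h.cases hG h8 hU with ⟨z, hz2, hz, hs⟩ | ⟨h3, h4⟩
  · by_cases hUF : UU θ ≤ frattini G
    · by_cases hz1 : z = 1
      · refine h.false_of_abelian hM hV hE hne (isMulCommutative_of_sq fun x => Subtype.ext ?_) hU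
          fun x hx _ => hUF hx
        subst hz1
        by_cases hx : (x : G) ∈ Ph (UU θ)
        · rw [hz, zpowers_one_eq_bot, mem_bot] at hx
          simp [hx]
        · exact hs x x.2 hx
      · exact h.false_of_quaternion hM hV hE hz2 hz hs hz1 hUF
    · exact h.false_of_small hM hV hE hz2 hz hs hc hUF
  · exact h.false_of_abelian hM hV hE hne h3 hU fun x hx e => ph_le_frattini hG _ (h4 x hx e)

theorem isCyclic_commutator_of_ne_inner (hM : NM M) {F : FusionSystem (⊤ : Subgroup G)}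
    (hF : F.IsSaturated 2) (hne : F ≠ innerFusionSystem ⊤) : IsCyclic (commutator G) := by
  by_contra hc
  have hS := hM.pg.to_subgroup ⊤
  refine hne (eq_inner_of_no_essential hF hS (fun R hR => ?_)
    ((isPGroup_mulAut_of_not_noChain hS fun hn => ?_).to_subgroup _))
  · obtain ⟨θ, t, hL⟩ := exists_loc_of_nm hM hF hR
    exact hc (hL.isCyclic_commutator hM)
  · have h2 := relIndex_mul_index hM.fr_le
    rw [hM.idxM, hM.idx] at h2
    exact hn.of_equiv topEquiv M M hM.characteristic hM.characteristic le_rfl hM.idxM.dvd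
      (by simp) (by rw [show (frattini G).relIndex M = 2 by omega])

end Cfsg.Agent.Fus.Bic
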