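import Mathlib
import Cfsg.Agent.Fus.SEFF
import Cfsg.Agent.Inv.TwoAut

/-! Groups with abelian Sylow 2-intersections: essential subgroups and fusion. -/

set_option autoImplicit false

namespace Cfsg.Agent.Fus.AS

open Cfsg Subgroup Loc Loc.Am Loc.BH Cfsg.Agent.GT

variable {G : Type*} [Group G] {S E : Subgroup G}

/-- Two non-commuting elements of `S` lie in no other Sylow subgroup. -/
structure AI (S : Subgroup G) : Prop where
  syl : IsSylowOf 2 S ⊤
  ai : ∀ g, ∀ x ∈ S, ∀ y ∈ S, g * x * g⁻¹ ∈ S → g * y * g⁻¹ ∈ S → x * y ≠ y * x →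
    g ∈ normalizer (S : Set G)

/-- The normalizer in `S`. -/
abbrev Nn (S E : Subgroup G) : Subgroup G := S ⊓ normalizer (E : Set G)

/-- Essential subgroups (abelian case). -/
structure Ess (S E : Subgroup G) : Prop where
  le : E ≤ S
  comm : ∀ x ∈ E, ∀ y ∈ E, x * y = y * x
  cent : ∀ s ∈ S, (∀ x ∈ E, s * x = x * s) → s ∈ E
  ne : ¬ S ≤ E
  syl : IsSylowOf 2 (Nn S E) (normalizer (E : Set G))
  nc : ∃ g ∈ normalizer (E : Set G), ∀ n ∈ normalizer (S : Set G),
    ¬ ∀ x ∈ E, g * x * g⁻¹ = n * x * n⁻¹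

/-- Conjugates under `N(E)` of elements of `N_S(E)`. -/
def Gen (S E : Subgroup G) (l : G) : Prop :=
  ∃ g ∈ normalizer (E : Set G), ∃ a ∈ Nn S E, l = g * a * g⁻¹

theorem conj_mem {H : Subgroup G} {g x : G} (hg : g ∈ normalizer (H : Set G)) (hx : x ∈ H) :
    g * x * g⁻¹ ∈ H := (mem_normalizer_iff.1 hg x).1 hx

theorem conj_mem' {H : Subgroup G} {g x : G} (hg : g ∈ normalizer (H : Set G)) (hx : x ∈ H) :
    g⁻¹ * x * g ∈ H := by simpa using conj_mem (inv_mem hg) hx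

theorem Gen.mem {l : G} (h : Gen S E l) : l ∈ normalizer (E : Set G) := by
  obtain ⟨g, hg, a, ha, rfl⟩ := h
  exact mul_mem (mul_mem hg ha.2) (inv_mem hg)

theorem cj_Nn {n : G} (hn : n ∈ normalizer (S : Set G)) (E : Subgroup G) :
    cj n (Nn S E) = Nn S (cj n E) := by
  rw [cj_inf, cj_eq_of_mem_normalizer hn, cj_normalizer]

theorem conj_mem_Nn {n a : G} (hn : n ∈ normalizer (S : Set G)) (ha : a ∈ Nn S E) :
    n * a * n⁻¹ ∈ Nn S (cj n E) := cj_Nn hn E ▸ conj_mem_cj n ha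

theorem mem_Nn_cj {n a : G} (hn : n ∈ normalizer (S : Set G)) :
    a ∈ Nn S (cj n E) ↔ n⁻¹ * a * n ∈ Nn S E := by rw [← cj_Nn hn, mem_cj]

theorem Gen.cj {n l : G} (hn : n ∈ normalizer (S : Set G)) (h : Gen S E l) :
    Gen S (cj n E) (n * l * n⁻¹) := by
  obtain ⟨g, hg, a, ha, rfl⟩ := h
  exact ⟨n * g * n⁻¹, cj_normalizer n E ▸ conj_mem_cj n hg, n * a * n⁻¹, conj_mem_Nn hn ha,
    by group⟩

theorem Gen.of_cj {n l : G} (hn : n ∈ normalizer (S : Set G)) (h : Gen S (Am.cj n E) l) :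
    Gen S E (n⁻¹ * l * n) := by
  have := h.cj (inv_mem hn)
  rwa [cj_inv_cj, inv_inv] at this

theorem Ess.cj (h : Ess S E) {n : G} (hn : n ∈ normalizer (S : Set G)) : Ess S (cj n E) where
  le := by rw [← cj_eq_of_mem_normalizer hn]; exact cj_mono n h.le
  comm := by
    rintro _ ⟨x, hx, rfl⟩ _ ⟨y, hy, rfl⟩
    rw [← map_mul, ← map_mul, h.comm x hx y hy]
  cent := fun s hs hc => mem_cj.2 (h.cent _ (conj_mem' hn hs) fun x hx => by
    have := hc _ (conj_mem_cj n hx)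
    calc n⁻¹ * s * n * x = n⁻¹ * (s * (n * x * n⁻¹)) * n := by group
      _ = x * (n⁻¹ * s * n) := by rw [this]; group)
  ne := fun l => h.ne fun s hs => by simpa [mul_assoc] using mem_cj.1 (l (conj_mem hn hs))
  syl := by rw [← cj_Nn hn, ← cj_normalizer]; exact h.syl.cj n
  nc := by
    obtain ⟨g, hg, hc⟩ := h.nc
    refine ⟨n * g * n⁻¹, cj_normalizer n E ▸ conj_mem_cj n hg, fun m hm hx =>
      hc (n⁻¹ * m * n) (mul_mem (mul_mem (inv_mem hn) hm) hn) fun x hxE => ?_⟩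
    have := hx _ (conj_mem_cj n hxE)
    calc g * x * g⁻¹ = n⁻¹ * (n * g * n⁻¹ * (n * x * n⁻¹) * (n * g * n⁻¹)⁻¹) * n := by group
      _ = _ := by rw [this]; group

theorem Ess.le_Nn (h : Ess S E) : E ≤ Nn S E := le_inf h.le le_normalizer

theorem Ess.exists_not_comm (h : Ess S E) {a : G} (ha : a ∈ S) (haE : a ∉ E) :
    ∃ x ∈ E, a * x ≠ x * a := by
  by_contra hc
  push Not at hc
  exact haE (h.cent a ha hc)

theorem AI.mem_of_le (H : AI S) (h : Ess S E) {R : Subgroup G} (hER : E ≤ R) (hR : R ≤ S)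
    (hne : ¬ R ≤ E) {g : G} (hg : cj g R ≤ S) : g ∈ normalizer (S : Set G) := by
  obtain ⟨a, ha, haE⟩ := SetLike.not_le_iff_exists.1 hne
  obtain ⟨x, hx, hc⟩ := h.exists_not_comm (hR ha) haE
  exact H.ai g a (hR ha) x (h.le hx) (hg (conj_mem_cj g ha)) (hg (conj_mem_cj g (hER hx))) hc

variable [Finite G]

theorem exists_lt_normalizer {A B : Subgroup G} (hB : IsPGroup 2 B) (h : A ≤ B) (hne : ¬ B ≤ A) :
    ∃ b ∈ B, b ∈ normalizer (A : Set G) ∧ b ∉ A := by
  obtain ⟨b, hb, hb'⟩ := SetLike.exists_of_lt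
    (Inv.Fz.lt_inf_normalizer hB (lt_of_le_not_ge h hne))
  exact ⟨b, hb.1, hb.2, hb'⟩

theorem AI.not_Nn_le (H : AI S) (h : Ess S E) : ¬ Nn S E ≤ E := fun l => by
  obtain ⟨b, hb, hb1, hb2⟩ := exists_lt_normalizer H.syl.isPGroup h.le h.ne
  exact hb2 (l ⟨hb, hb1⟩)

theorem AI.mem_of_norm (H : AI S) (h : Ess S E) {g : G}
    (hg : g ∈ normalizer (Nn S E : Set G)) : g ∈ normalizer (S : Set G) :=
  H.mem_of_le h h.le_Nn inf_le_left (H.not_Nn_le h) (by
    rw [cj_eq_of_mem_normalizer hg]; exact inf_le_left)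

/-- Alperin's fusion theorem in the present setting. -/
theorem AI.rel (H : AI S) (r : G → G → Prop) (hr : Equivalence r)
    (hN : ∀ n ∈ normalizer (S : Set G), ∀ x ∈ S, r x (n * x * n⁻¹))
    (hE : ∀ E, Ess S E → ∀ l, Gen S E l → ∀ x ∈ E, r x (l * x * l⁻¹))
    {x g : G} (hx : x ∈ S) (hg : g * x * g⁻¹ ∈ S) : r x (g * x * g⁻¹) := by
  obtain ⟨T, rfl⟩ := H.syl.exists_sylow_top
  refine Inv.Fz.alperin_two_rel T r hr (fun s hs => hN s (le_normalizer hs)) ?_ hx hg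
  intro P hP hs hc _ g hg x hx
  by_cases h1 : ∃ n ∈ normalizer ((T : Subgroup G) : Set G), ∀ x ∈ P, g * x * g⁻¹ = n * x * n⁻¹
  · obtain ⟨n, hn, e⟩ := h1
    rw [e x hx]
    exact hN n hn x (hP hx)
  have h2 : g ∉ normalizer ((T : Subgroup G) : Set G) := fun h => h1 ⟨g, h, fun _ _ => rfl⟩
  have h : Ess (T : Subgroup G) P :=
    { le := hP
      comm := fun a ha b hb => by
        by_contra hab
        exact h2 (H.ai g a (hP ha) b (hP hb) (hP (conj_mem hg ha)) (hP (conj_mem hg hb)) hab)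
      cent := fun s hs h => hc ⟨hs, fun y hy => (h y hy).symm⟩
      ne := fun l => h2 (by rwa [← le_antisymm hP l])
      syl := ⟨hs.1, hs.2.1, fun R h1 h2 h3 => hs.2.2 R h1 h3 h2⟩
      nc := ⟨g, hg, fun n hn hx => h1 ⟨n, hn, hx⟩⟩ }
  let L : Subgroup G := closure {l | Gen T P l}
  have hL : L ≤ normalizer (P : Set G) := (closure_le _).2 fun l hl => Gen.mem hl
  have hNL : Nn T P ≤ L := fun a ha => subset_closure ⟨1, one_mem _, a, ha, by group⟩
  have hgL : g ∈ normalizer (L : Set G) := by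
    refine le_normalizer_of_cj (H := normalizer (P : Set G)) (fun k hk => ?_) hg
    refine (MonoidHom.map_closure _ _).le.trans ((closure_le _).2 ?_)
    rintro _ ⟨_, ⟨m, hm, a, ha, rfl⟩, rfl⟩
    exact subset_closure ⟨k * m, mul_mem hk hm, a, ha, by simp [mul_assoc]⟩
  obtain ⟨l, hl, hm⟩ := (h.syl.mono hNL hL).frattini hgL
  have hrL : ∀ l ∈ L, ∀ x ∈ P, r x (l * x * l⁻¹) := fun l hl => by
    induction hl using closure_induction with
    | mem l hl => exact hE P h l hl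
    | one => intro x _; simpa using hr.refl x
    | mul a b _ hb iha ihb =>
      intro x hx
      have := hr.trans (ihb x hx) (iha _ (conj_mem (hL hb) hx))
      simpa [mul_assoc] using this
    | inv a ha ih =>
      intro x hx
      have := hr.symm (ih _ (conj_mem' (hL ha) hx))
      simpa [mul_assoc] using this
  have := hr.trans (hN _ (H.mem_of_norm h hm) x (hP hx))
    (hrL l hl _ (conj_mem (mul_mem (inv_mem (hL hl)) hg) hx))
  simpa [mul_assoc] using this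

/-- The involutions of `E` together with `1`. -/
def Om (h : Ess S E) : Subgroup G where
  carrier := {x | x ∈ E ∧ x * x = 1}
  one_mem' := ⟨one_mem _, one_mul _⟩
  mul_mem' := fun {x y} hx hy => ⟨mul_mem hx.1 hy.1, by
    rw [mul_assoc, ← mul_assoc y, ← h.comm x hx.1 y hy.1, mul_assoc, hy.2, mul_one, hx.2]⟩
  inv_mem' := fun {x} hx => ⟨inv_mem hx.1, by rw [← mul_inv_rev, hx.2, inv_one]⟩

omit [Finite G] in
theorem mem_Om {h : Ess S E} {x : G} : x ∈ Om h ↔ x ∈ E ∧ x * x = 1 := Iff.rfl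

omit [Finite G] in
theorem Om_le (h : Ess S E) : Om h ≤ E := fun _ hx => hx.1

omit [Finite G] in
theorem ea_Om (h : Ess S E) : IsElementaryAbelian 2 (Om h) :=
  ⟨⟨⟨fun x y => Subtype.ext (h.comm x x.2.1 y y.2.1)⟩⟩, fun x hx => by rw [pow_two]; exact hx.2⟩

omit [Finite G] in
theorem conj_sq {g x : G} (h : x * x = 1) : g * x * g⁻¹ * (g * x * g⁻¹) = 1 := by
  rw [conj_mul, h]; simp

omit [Finite G] in
theorem norm_le_Om (h : Ess S E) : normalizer (E : Set G) ≤ normalizer (Om h : Set G) :=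
  le_normalizer_of_cj fun g hg => by
    rintro _ ⟨x, hx, rfl⟩
    exact ⟨conj_mem hg hx.1, conj_sq hx.2⟩

theorem AI.exists_mul (H : AI S) (h : Ess S E) {c : G} (hc : c ∈ normalizer (E : Set G))
    (hc' : c ∈ centralizer (Om h : Set G)) :
    ∃ t ∈ Nn S E ⊓ centralizer (Om h : Set G), ∃ d ∈ centralizer (E : Set G), c = t * d := by
  set C := normalizer (E : Set G) ⊓ centralizer (Om h : Set G)
  have hn : normalizer (E : Set G) ≤ normalizer (C : Set G) :=
    le_normalizer_inf le_normalizer (le_normalizer_centralizer (norm_le_Om h))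
  have hT := h.syl.inf_of_normal (N := C) inf_le_left hn
  have hT' : Inv.Fz.IsSylIn 2 (Nn S E ⊓ C) C := ⟨hT.le, hT.isPGroup, fun R h1 h2 h3 => hT.max R h1 h3 h2⟩
  obtain ⟨a, ha, b, hb, e⟩ := hT'.exists_mul_of_pow_mem (K := centralizer (E : Set G) ⊓ C)
    inf_le_right (le_normalizer_inf (inf_le_left.trans (normalizer_le_normalizer_centralizer E))
      le_normalizer) (g := c) (fun g hg => by
      obtain ⟨k, hk⟩ := Inv.Fz.exists_pow_odd g
      refine ⟨k, fun x hx => ?_, pow_mem hg _⟩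
      have hg' := pow_mem hg (2 ^ k)
      obtain ⟨j, hj⟩ := H.syl.isPGroup ⟨x, h.le hx⟩
      have := Inv.Fz.fix_of_comm (Inv.Fz.odd_orderOf_conj hk) h.comm
        (fun a ha => conj_mem hg'.1 ha) (fun a ha haa => by
          have := hg'.2 a (⟨ha, haa⟩ : a ∈ Om h)
          rw [MulAut.conj_apply, ← this, mul_inv_cancel_right]) x hx (k := j) (congrArg Subtype.val hj)
      rw [MulAut.conj_apply, mul_inv_eq_iff_eq_mul] at this
      exact this.symm) ⟨hc, hc'⟩
  exact ⟨a, ⟨ha.1, ha.2.2⟩, b, hb.1, e⟩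

theorem AI.mem_of_cent' (H : AI S) (h : Ess S E) :
    Nn S E ⊓ centralizer (Om h : Set G) ≤ E := by
  by_contra hne
  set C := normalizer (E : Set G) ⊓ centralizer (Om h : Set G)
  have hn : normalizer (E : Set G) ≤ normalizer (C : Set G) :=
    le_normalizer_inf le_normalizer (le_normalizer_centralizer (norm_le_Om h))
  have hT := h.syl.inf_of_normal (N := C) inf_le_left hn
  obtain ⟨g, hg, hc⟩ := h.nc
  obtain ⟨c, hcC, hm⟩ := hT.frattini (hn hg)
  have hm' : c⁻¹ * g ∈ normalizer (S : Set G) := by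
    refine H.mem_of_le h (R := Nn S E ⊓ C) (le_inf h.le_Nn (le_inf le_normalizer
      fun x hx y hy => h.comm y hy.1 x hx)) (inf_le_left.trans inf_le_left)
      (fun l => hne fun x hx => l ⟨hx.1, hx.1.2, hx.2⟩) ?_
    rw [cj_eq_of_mem_normalizer hm]
    exact inf_le_left.trans inf_le_left
  obtain ⟨t, ht, d, hd, rfl⟩ := H.exists_mul h hcC.1 hcC.2
  refine hc (t * ((t * d)⁻¹ * g)) (mul_mem (le_normalizer ht.1.1) hm') fun x hx => ?_
  have := hd _ (conj_mem (mul_mem (inv_mem hcC.1) hg) hx)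
  calc g * x * g⁻¹ = t * (d * ((t * d)⁻¹ * g * x * ((t * d)⁻¹ * g)⁻¹)) * d⁻¹ * t⁻¹ := by group
    _ = _ := by rw [← this]; group

/-- `C_S(Ω₁(E)) = E`. -/
theorem AI.mem_of_cent (H : AI S) (h : Ess S E) {s : G} (hs : s ∈ S)
    (hc : ∀ v ∈ Om h, s * v = v * s) : s ∈ E := by
  by_contra hsE
  obtain ⟨b, hb, hb1, hb2⟩ := exists_lt_normalizer (A := E) (B := S ⊓ centralizer (Om h : Set G))
    (H.syl.isPGroup.to_le inf_le_left) (le_inf h.le fun x hx y hy => h.comm y hy.1 x hx)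
    fun l => hsE (l ⟨hs, fun v hv => (hc v hv).symm⟩)
  exact hb2 (H.mem_of_cent' h ⟨⟨hb.1, hb1⟩, hb.2⟩)

theorem AI.cent_of_cent (H : AI S) (h : Ess S E) {c : G} (hc : c ∈ normalizer (E : Set G))
    (hc' : c ∈ centralizer (Om h : Set G)) : c ∈ centralizer (E : Set G) := by
  obtain ⟨t, ht, d, hd, rfl⟩ := H.exists_mul h hc hc'
  exact mul_mem (fun x hx => h.comm x hx t (H.mem_of_cent' h ht)) hd

end Cfsg.Agent.Fus.AS
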