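import Mathlib
import Cfsg.Agent.Fus.AbSylA
import Cfsg.Agent.Loc.BHLocal

/-! Groups with abelian Sylow 2-intersections: failure of factorization on `Ω₁(E)`. -/

set_option autoImplicit false

namespace Cfsg.Agent.Fus.AS

open Cfsg Subgroup Loc Loc.Am Loc.BH Cfsg.Agent.GT
open scoped commutatorElement

variable {G : Type*} [Group G] {S E : Subgroup G} [Finite G]

/-- The consequences of `Ω₁(E)` being a natural module modulo fixed points. -/
structure FF (h : Ess S E) (k : G) : Prop where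
  mem : k ∈ normalizer (E : Set G)
  sep : ∀ a ∈ Nn S E, a ∉ E → ∀ v ∈ Om h, ⁅a, v⁆ ∈ centralizer (cj k (Nn S E) : Set G) →
    v ∈ centralizer (Nn S E : Set G)
  sep' : ∀ a ∈ Nn S E, a ∉ E → ∀ v ∈ Om h, ⁅a, v⁆ ∈ centralizer (cj k⁻¹ (Nn S E) : Set G) →
    v ∈ centralizer (Nn S E : Set G)
  gen : ∀ K : Subgroup G, Nn S E ≤ K → cj k (Nn S E) ≤ K →
    normalizer (E : Set G) ⊓ centralizer (E : Set G) ≤ K → ∀ l, Gen S E l → l ∈ K

theorem AI.ff (H : AI S) (h : Ess S E) {A : Subgroup G} (hA : A ≤ Nn S E)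
    (hA2 : IsElementaryAbelian 2 A) (hne : ¬ A ≤ E)
    (hc : Nat.card (Om h) * Nat.card ↥(A ⊓ E) ≤
      Nat.card A * Nat.card ↥(Om h ⊓ centralizer (A : Set G))) :
    (∀ s ∈ Nn S E, ∃ a ∈ A, ∃ e ∈ E, s = a * e) ∧ ∃ k, FF h k := by
  set M := normalizer (E : Set G) with hM
  have hV := ea_Om h
  have hMV : M ≤ normalizer (Om h : Set G) := norm_le_Om h
  let K : Subgroup M := (centralizer (Om h : Set G)).subgroupOf M
  have : K.Normal := (normal_subgroupOf_iff_le_normalizer_inf.2 (by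
    exact le_normalizer_inf (le_normalizer_centralizer hMV) le_normalizer))
  let f : M →* M ⧸ K := QuotientGroup.mk' K
  let σ : Representation (ZMod 2) (M ⧸ K) (EAV hV) :=
    QuotientGroup.lift K (eaRep hV hMV) fun g hg => eaRep_eq_one_iff.2 hg
  have hσ : Compat hV f σ := fun _ _ => rfl
  have hfs : Function.Surjective f := QuotientGroup.mk'_surjective K
  have hker : ∀ g : M, f g = 1 ↔ (g : G) ∈ centralizer (Om h : Set G) := fun g =>
    QuotientGroup.eq_one_iff g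
  have hinj : Function.Injective σ := (injective_iff_map_eq_one _).2 fun x hx => by
    obtain ⟨g, rfl⟩ := hfs x
    exact (hker g).2 (hσ.rep_eq_one_iff.1 hx)
  have heq : ∀ a b : M, f a = f b → (a : G)⁻¹ * b ∈ centralizer (Om h : Set G) := fun a b e =>
    (hker (a⁻¹ * b)).1 (by rw [map_mul, map_inv, e, inv_mul_cancel])
  have hNM : Nn S E ≤ M := inf_le_right
  have hsyl : IsSylowOf 2 (img f (Nn S E)) ⊤ := isSylowOf_top (h.syl.toSylow.mapSurjective hfs)
  have hone : ∀ a : M, (a : G) ∈ Nn S E → f a = 1 → (a : G) ∈ E := fun a ha e =>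
    H.mem_of_cent' h ⟨ha, (hker a).1 e⟩
  -- the strongly embedded subgroup
  have hse : SEFF.SE 2 (img f (normalizer (S : Set G))) := by
    have hXN : img f (normalizer (S : Set G)) ≤ normalizer (img f (Nn S E) : Set (M ⧸ K)) := by
      rintro _ ⟨n, hn, rfl⟩
      refine cj_eq_self_iff.1 ?_
      rw [← img_cj, cj_Nn (n := (n : G)) hn, cj_eq_of_mem_normalizer n.2]
    refine ⟨fun e => ?_, fun Y hY hne hle g hg => ?_⟩
    · obtain ⟨g, hg, hc⟩ := h.nc
      obtain ⟨n, hn, e'⟩ := mem_img.1 (e ▸ mem_top _ : f ⟨g, hg⟩ ∈ img f (normalizer (S : Set G)))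
      have h1 := H.cent_of_cent h (mul_mem (inv_mem n.2) hg) (heq _ _ e')
      refine hc n hn fun x hx => ?_
      have := h1 x hx
      calc g * x * g⁻¹ = n * ((n : G)⁻¹ * g * x) * g⁻¹ := by group
        _ = _ := by rw [← this]; group
    · obtain ⟨g, rfl⟩ := hfs g
      obtain ⟨y', hy', hy1⟩ := (bot_or_exists_ne_one Y).resolve_left hne
      obtain ⟨y, hy, rfl⟩ := mem_img.1
        (hsyl.le_of_le_normalizer hY le_top (hle.trans hXN) hy')
      obtain ⟨z, hz, e⟩ := mem_img.1 (hsyl.le_of_le_normalizer (isPGroup_cj _ hY) le_top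
        (hg.trans hXN) (conj_mem_cj _ hy'))
      have hyE : (y : G) ∉ E := fun l => hy1 ((hker y).2 fun x hx => h.comm x hx.1 y l)
      set C := M ⊓ centralizer (Om h : Set G)
      have hzC : (z : G)⁻¹ * (g * y * (g : G)⁻¹) ∈ C := by
        refine ⟨(z⁻¹ * (g * y * g⁻¹)).2, ?_⟩
        exact heq z (g * y * g⁻¹) (by rw [e, map_mul, map_mul, map_inv])
      have hR : cj (g : G) (E ⊔ zpowers (y : G)) ≤ Nn S E ⊔ C := by
        rw [cj_sup, cj_eq_of_mem_normalizer g.2]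
        refine sup_le (h.le_Nn.trans le_sup_left) ((MonoidHom.map_zpowers _ _).le.trans
          (zpowers_le.2 ?_))
        have := mul_mem (mem_sup_left hz) (mem_sup_right hzC : _ ∈ Nn S E ⊔ C)
        simpa using this
      have hR' : E ⊔ zpowers (y : G) ≤ Nn S E := sup_le h.le_Nn (zpowers_le.2 hy)
      obtain ⟨m, hm, hle'⟩ := (h.syl.mono le_sup_left (sup_le hNM inf_le_left)).exists_cj_le
        (isPGroup_cj _ (h.syl.isPGroup.to_le hR')) hR
      have h1 : m * g ∈ normalizer (S : Set G) := H.mem_of_le h le_sup_left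
        (hR'.trans inf_le_left) (fun l => hyE (l (mem_sup_right (mem_zpowers _))))
        (by rw [cj_mul]; exact hle'.trans inf_le_left)
      have hmM : m ∈ M := (sup_le hNM inf_le_left : Nn S E ⊔ C ≤ M) hm
      have h2 : f ⟨m, hmM⟩ ∈ img f (normalizer (S : Set G)) := by
        refine coe_mem_pre.1 ((sup_le ?_ ?_ : Nn S E ⊔ C ≤ pre f _) hm)
        · exact (le_pre_iff hNM).2 (img_mono (inf_le_left.trans le_normalizer))
        · intro c hc
          refine (coe_mem_pre (h := ⟨c, hc.1⟩)).2 ?_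
          rw [(hker ⟨c, hc.1⟩).2 hc.2]
          exact one_mem _
      have h3 : f (⟨m, hmM⟩ * g) ∈ img f (normalizer (S : Set G)) := ⟨_, h1, rfl⟩
      rw [map_mul] at h3
      exact (mul_mem_cancel_left h2).1 h3
  -- the offender
  have hAM : A ≤ M := hA.trans hNM
  have hAC : A.subgroupOf M ⊓ K = (A ⊓ E).subgroupOf M := by
    ext x
    exact ⟨fun hx => ⟨hx.1, H.mem_of_cent' h ⟨hA hx.1, hx.2⟩⟩,
      fun hx => ⟨hx.1, fun y hy => h.comm y hy.1 x hx.2⟩⟩
  have hcard : Nat.card (img f A) * Nat.card ↥(A ⊓ E) = Nat.card A := by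
    have := card_map_mk_mul K (A.subgroupOf M)
    rwa [hAC, Nat.card_congr (subgroupOfEquivOfLe hAM).toEquiv,
      Nat.card_congr (subgroupOfEquivOfLe (inf_le_left.trans hAM)).toEquiv] at this
  have hea : IsElementaryAbelian 2 (img f A) := ea_map f (ea_of_comm
    (fun a ha b hb => Subtype.ext (comm_of_ea hA2 ha hb)) fun a ha => Subtype.ext (hA2.2 _ ha))
  have hne' : img f A ≠ ⊥ := fun e => hne fun a ha =>
    hone ⟨a, hAM ha⟩ (hA ha) (mem_bot.1 (e ▸ (⟨⟨a, hAM ha⟩, ha, rfl⟩ : f _ ∈ img f A)))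
  have hmu : Nat.card (EAV hV) ≤ mu σ (img f A) := by
    rw [mu, hσ.card_fx_img hAM, EAV.card_eq]
    rw [← hcard, mul_right_comm] at hc
    exact Nat.le_of_mul_le_mul_right hc Nat.card_pos
  obtain ⟨hS, F, _, _, B, ⟨⟨D⟩, hK⟩, hall⟩ := hse.main hinj hea hne' hmu
    (img_mono (hA.trans (inf_le_left.trans le_normalizer)))
  have hAN : img f A = img f (Nn S E) := (hS.max _ hsyl.isPGroup (img_mono hA) le_top).symm
  refine ⟨fun s hs => ?_, ?_⟩
  · obtain ⟨a, ha, e⟩ := mem_img.1 (hAN.ge (⟨⟨s, hNM hs⟩, hs, rfl⟩ : f _ ∈ img f (Nn S E)))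
    exact ⟨a, ha, (a : G)⁻¹ * s, H.mem_of_cent' h
      ⟨(Nn S E).mul_mem (inv_mem (hA ha)) hs, heq _ _ e⟩, by group⟩
  obtain ⟨k, hk⟩ := hfs D.w
  have hB : B = img f (cj (k : G) (Nn S E)) := by rw [img_cj, hk, ← hAN, D.cj_w hK]
  have hkM : ∀ g ∈ M, cj g (Nn S E) ≤ M := fun g hg => by
    rw [← cj_eq_of_mem hg]; exact cj_mono _ hNM
  clear hk
  rw [hAN] at D hall
  subst hB
  refine ⟨k, k.2, fun a ha haE v hv hc => ?_, fun a ha haE v hv hc => ?_, fun L h1 h2 h3 l hl => ?_⟩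
  · refine (hσ.mem_fx_img hNM (x := EAV.mk hV v hv)).1
      (D.mem_fx_of_sub_mem (a := f ⟨a, hNM ha⟩) ⟨_, ha, rfl⟩ (fun e => haE (hone _ ha e)) ?_)
    rw [hσ.mem_fx_img (hkM _ k.2), hσ.val_sub]
    exact hc
  · have h1 := (hσ.mem_fx_img (hkM _ k.2) (x := EAV.mk hV _ (conj_mem (hMV k.2) hv))).1
      (D.symm.mem_fx_of_sub_mem (a := f (k * ⟨a, hNM ha⟩ * k⁻¹)) ⟨_, conj_mem_cj (k : G) ha, rfl⟩
        (fun e => haE (hone ⟨a, hNM ha⟩ ha (by simpa using e))) (by
          rw [hσ.mem_fx_img hNM, hσ.val_sub]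
          have := conj_mem_cj (k : G) hc
          rw [cj_centralizer, cj_cj_inv, conjugate_commutatorElement] at this
          exact this))
    rw [← cj_centralizer, EAV.val_mk, mem_cj] at h1
    simpa [mul_assoc] using h1
  · obtain ⟨g, hg, a, ha, rfl⟩ := hl
    have h4 : f (⟨g, hg⟩ * ⟨a, hNM ha⟩ * ⟨g, hg⟩⁻¹) ∈ img f (Nn S E ⊔ cj (k : G) (Nn S E)) := by
      rw [img_sup hNM (hkM _ k.2), map_mul, map_mul, map_inv]
      exact hall _ (conj_mem_cj _ ⟨_, ha, rfl⟩)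
    obtain ⟨y, hy, e⟩ := mem_img.1 h4
    have h5 := heq _ _ e
    have h6 : (y : G)⁻¹ * (g * a * g⁻¹) ∈ M :=
      mul_mem (inv_mem y.2) (mul_mem (mul_mem hg (hNM ha)) (inv_mem hg))
    have := mul_mem (sup_le h1 h2 hy) (h3 ⟨h6, H.cent_of_cent h h6 h5⟩)
    simpa using this

end Cfsg.Agent.Fus.AS
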