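import Mathlib
import Cfsg.Agent.Fus.AbSylB

/-! Groups with abelian Sylow 2-intersections: pairs of essential subgroups. -/

set_option autoImplicit false

namespace Cfsg.Agent.Fus.AS

open Cfsg Subgroup Loc Loc.Am
open scoped commutatorElement

variable {G : Type*} [Group G] {S E E' E₀ E₁ : Subgroup G}

theorem comm_mem {A B : Subgroup G} (hA : ∀ a ∈ A, ∀ b ∈ A, a * b = b * a)
    (hB : A ≤ normalizer (B : Set G)) {a b e f : G} (ha : a ∈ A) (hb : b ∈ A) (he : e ∈ B)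
    (hf : f ∈ B) : ⁅a * e, b * f⁆ ∈ B := by
  have := mul_mem (mul_mem (conj_mem (hB ha) he) (conj_mem (hB (mul_mem ha hb))
    (mul_mem hf (inv_mem he)))) (conj_mem (hB hb) (inv_mem hf))
  convert this using 1
  rw [commutatorElement_def]
  calc a * e * (b * f) * (a * e)⁻¹ * (b * f)⁻¹
      = a * e * a⁻¹ * (a * b * (f * e⁻¹) * (a * b)⁻¹) * (a * b * a⁻¹ * f⁻¹ * b⁻¹) := by group
    _ = _ := by rw [hA a ha b hb, mul_inv_cancel_right]

theorem inv_eq_of_sq {x : G} (h : x * x = 1) : x⁻¹ = x := inv_eq_of_mul_eq_one_right h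

/-- `E` has index two in its normalizer. -/
def Two (S E : Subgroup G) : Prop := ∀ a ∈ Nn S E, a ∉ E → ∀ b ∈ Nn S E, b ∉ E → a * b ∈ E

theorem Two.cj (h : Two S E) {n : G} (hn : n ∈ normalizer (S : Set G)) : Two S (cj n E) :=
  fun a ha ha' b hb hb' => mem_cj.2 (by
    have := h _ ((mem_Nn_cj hn).1 ha) (mt mem_cj.2 ha') _ ((mem_Nn_cj hn).1 hb) (mt mem_cj.2 hb')
    simpa [mul_assoc] using this)

theorem Two.of_cj {n : G} (hn : n ∈ normalizer (S : Set G)) (h : Two S (Am.cj n E)) : Two S E := by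
  have := h.cj (inv_mem hn)
  rwa [cj_inv_cj] at this

theorem card_Om_cj (h : Ess S E) {n : G} (hn : n ∈ normalizer (S : Set G)) :
    Nat.card (Om (h.cj hn)) = Nat.card (Om h) := by
  rw [← card_cj n (Om h)]
  congr 2
  ext x
  rw [mem_cj, mem_Om, mem_Om, mem_cj]
  refine and_congr_right fun _ => ⟨fun e => ?_, fun e => ?_⟩
  · simpa using conj_sq (g := n⁻¹) e
  · simpa [mul_assoc] using conj_sq (g := n) e

variable [Finite G]

theorem exists_sq_mem {A B : Subgroup G} (hB : IsPGroup 2 B) (h : A ≤ B) (hne : ¬ B ≤ A) :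
    ∃ s ∈ B, s ∈ normalizer (A : Set G) ∧ s ∉ A ∧ s * s ∈ A := by
  classical
  obtain ⟨b, hb, hb1, hb2⟩ := exists_lt_normalizer hB h hne
  have hex : ∃ k, b ^ 2 ^ k ∈ A := by
    obtain ⟨k, hk⟩ := hB ⟨b, hb⟩
    exact ⟨k, by rw [show b ^ 2 ^ k = 1 from congrArg Subtype.val hk]; exact one_mem _⟩
  have h0 : Nat.find hex ≠ 0 := fun e => hb2 (by simpa [e] using Nat.find_spec hex)
  obtain ⟨j, hj⟩ := Nat.exists_eq_succ_of_ne_zero h0
  refine ⟨b ^ 2 ^ j, pow_mem hb _, pow_mem hb1 _, Nat.find_min hex (by omega), ?_⟩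
  have := Nat.find_spec hex
  rwa [hj, pow_succ, pow_mul, pow_two] at this

theorem AI.eq_of_Om_le (H : AI S) (h : Ess S E) (h' : Ess S E') (l : Om h ≤ E') : E = E' := by
  have l1 : E' ≤ E := fun x hx => H.mem_of_cent h (h'.le hx) fun v hv => h'.comm x hx v (l hv)
  exact le_antisymm (fun x hx => h'.cent x (h.le hx) fun y hy => h.comm x hx y (l1 hy)) l1

theorem AI.ff_pair (H : AI S) (h : Ess S E) (h' : Ess S E') (hne : E ≠ E')
    (hle : Om h' ≤ Nn S E) (hc : Nat.card (Om h) ≤ Nat.card (Om h')) :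
    (∀ s ∈ Nn S E, ∃ a ∈ Om h', ∃ e ∈ E, s = a * e) ∧ ∃ k, FF h k :=
  H.ff h hle (ea_Om h') (fun l => hne (H.eq_of_Om_le h' h l).symm)
    (Nat.mul_le_mul hc (card_le_of_le fun x hx =>
      ⟨⟨hx.2, hx.1.2⟩, fun y hy => h'.comm y hy.1 x hx.1.1⟩))

/-- Two normal essential subgroups force class two. -/
theorem AI.class_two (H : AI S) (h : Ess S E) (h' : Ess S E') (hne : E ≠ E')
    (hn : S ≤ normalizer (E : Set G)) (hn' : S ≤ normalizer (E' : Set G)) :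
    ∀ x ∈ S, ∀ y ∈ S, ∀ z ∈ S, z * ⁅x, y⁆ = ⁅x, y⁆ * z := by
  wlog hc : Nat.card (Om h) ≤ Nat.card (Om h') generalizing E E'
  · exact this h' h hne.symm hn' hn (le_of_not_ge hc)
  have hd := (H.ff_pair h h' hne (le_inf ((Om_le h').trans h'.le)
    (((Om_le h').trans h'.le).trans hn)) hc).1
  intro x hx y hy z hz
  obtain ⟨a, ha, e, he, rfl⟩ := hd x ⟨hx, hn hx⟩
  obtain ⟨b, hb, f, hf, rfl⟩ := hd y ⟨hy, hn hy⟩
  obtain ⟨c, hc, g, hg, rfl⟩ := hd z ⟨hz, hn hz⟩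
  have h1 : ⁅a * e, b * f⁆ ∈ E :=
    comm_mem (A := E') h'.comm (h'.le.trans hn) ha.1 hb.1 he hf
  have h2 : ⁅a * e, b * f⁆ ∈ E' := by
    have := comm_mem (A := E) h.comm (h.le.trans hn') he hf (conj_mem' (hn' (h.le he)) ha.1)
      (conj_mem' (hn' (h.le hf)) hb.1)
    simpa [mul_assoc] using this
  rw [mul_assoc, h.comm g hg _ h1, ← mul_assoc, h'.comm c hc.1 _ h2, mul_assoc]

/-- A pair of essential subgroups with the same normalizer. -/
structure Pr (h : Ess S E) (h' : Ess S E') : Prop where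
  nn : Nn S E' = Nn S E
  ne : E ≠ E'
  card : Nat.card (Om h) = Nat.card (Om h')

omit [Finite G] in
theorem Pr.symm {h : Ess S E} {h' : Ess S E'} (P : Pr h h') : Pr h' h :=
  ⟨P.nn.symm, P.ne.symm, P.card.symm⟩

omit [Finite G] in
theorem Pr.cj {h : Ess S E} {h' : Ess S E'} (P : Pr h h') {n : G}
    (hn : n ∈ normalizer (S : Set G)) : Pr (h.cj hn) (h'.cj hn) :=
  ⟨by rw [← cj_Nn hn, ← cj_Nn hn, P.nn], fun e => P.ne (cj_injective n e),
    by rw [card_Om_cj h hn, card_Om_cj h' hn, P.card]⟩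

theorem AI.exists_pr (H : AI S) (h : Ess S E) (hn : ¬ S ≤ normalizer (E : Set G)) :
    ∃ s, ∃ hs : s ∈ S, Pr h (h.cj (le_normalizer hs)) := by
  obtain ⟨s, hs, h1, h2⟩ := exists_lt_normalizer (A := Nn S E) H.syl.isPGroup inf_le_left
    fun l => hn (l.trans inf_le_right)
  exact ⟨s, hs, by rw [← cj_Nn (le_normalizer hs), cj_eq_of_mem_normalizer h1],
    fun e => h2 ⟨hs, cj_eq_self_iff.1 e.symm⟩, (card_Om_cj h (le_normalizer hs)).symm⟩

namespace Pr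

variable {h : Ess S E} {h' : Ess S E'} (P : Pr h h') (H : AI S)

include P

omit [Finite G] in
theorem le' : E' ≤ Nn S E := P.nn ▸ h'.le_Nn

omit [Finite G] in
theorem comm_mem_Om {v w : G} (hv : v ∈ Om h) (hw : w ∈ E') : ⁅w, v⁆ ∈ Om h :=
  mul_mem (conj_mem (norm_le_Om h (P.le' hw).2) hv) (inv_mem hv)

omit [Finite G] in
theorem comm_mem' {v w : G} (hv : v ∈ E) (hw : w ∈ E') : ⁅w, v⁆ ∈ E' := by
  have := mul_mem hw (conj_mem (P.symm.le' hv).2 (inv_mem hw))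
  simpa [commutatorElement_def, mul_assoc] using this

omit [Finite G] in
theorem mem_of_cent {x : G} (hx : x ∈ S) (hc : x ∈ centralizer (Nn S E : Set G)) : x ∈ E' :=
  h'.cent x hx fun y hy => (hc y (P.le' hy)).symm

include H

theorem not_le : ¬ Om h' ≤ E := fun l => P.ne (H.eq_of_Om_le h' h l).symm

theorem dec {s : G} (hs : s ∈ Nn S E) : ∃ a ∈ Om h', ∃ e ∈ E, s = a * e :=
  (H.ff_pair h h' P.ne ((Om_le h').trans P.le') P.card.le).1 s hs

theorem ff : ∃ k, FF h k := (H.ff_pair h h' P.ne ((Om_le h').trans P.le') P.card.le).2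

theorem cent {z : G} (hz : z ∈ E) (hz' : z ∈ E') : z ∈ centralizer (Nn S E : Set G) := by
  intro s hs
  obtain ⟨a, ha, e, he, rfl⟩ := P.dec H hs
  rw [mul_assoc, h.comm e he z hz, ← mul_assoc, h'.comm a ha.1 z hz', mul_assoc]

theorem dec' {e : G} (he : e ∈ E) : ∃ v ∈ Om h, ∃ z ∈ E, z ∈ E' ∧ e = v * z := by
  obtain ⟨v, hv, z, hz, rfl⟩ := P.symm.dec H (P.symm.le' he)
  exact ⟨v, hv, z, (mul_mem_cancel_left hv.1).1 he, hz, rfl⟩

theorem sq_cent {e : G} (he : e ∈ E) : e * e ∈ centralizer (Nn S E : Set G) := by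
  obtain ⟨v, hv, z, hz, hz', rfl⟩ := P.dec' H he
  rw [mul_assoc, ← mul_assoc z, h.comm z hz v hv.1, ← mul_assoc, ← mul_assoc, hv.2, one_mul]
  exact P.cent H (mul_mem hz hz) (mul_mem hz' hz')

theorem sq_cent' {e g : G} (he : e ∈ E) (hg : g ∈ normalizer (E : Set G)) :
    e * e ∈ centralizer (Am.cj g (Nn S E) : Set G) := by
  rw [← cj_centralizer, mem_cj]
  have := P.sq_cent H (conj_mem' hg he)
  simpa [mul_assoc] using this

theorem comm_ne {v w : G} (hv : v ∈ Om h) (hv' : v ∉ E') (hw : w ∈ Nn S E) (hw' : w ∉ E) :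
    ⁅w, v⁆ ≠ 1 := fun e => by
  obtain ⟨k, hk⟩ := P.ff H
  exact hv' (P.mem_of_cent (h.le hv.1) (hk.sep w hw hw' v hv (e ▸ one_mem _)))

theorem invol {x : G} (hx : x ∈ Nn S E) (h2 : x * x = 1) : x ∈ E ∨ x ∈ E' := by
  obtain ⟨k, hk⟩ := P.ff H
  obtain ⟨w, hw, e, he, rfl⟩ := P.dec H hx
  obtain ⟨v, hv, z, hz, hz', rfl⟩ := P.dec' H he
  by_cases hwE : w ∈ E
  · exact Or.inl (mul_mem hwE he)
  refine Or.inr (mul_mem hw.1 (mul_mem (P.mem_of_cent (h.le hv.1)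
    (hk.sep w (P.le' hw.1) hwE v hv ?_)) hz'))
  have hc := P.cent H hz hz'
  have e1 : ⁅w, v⁆ = z⁻¹ * z⁻¹ := by
    rw [commutatorElement_def, inv_eq_of_sq hw.2, inv_eq_of_sq hv.2, ← mul_inv_rev,
      eq_inv_iff_mul_eq_one, ← h2]
    have := hc _ (mul_mem (P.le' hw.1) (h.le_Nn hv.1))
    calc w * v * w * v * (z * z) = w * v * (w * v * z) * z := by group
      _ = _ := by rw [this]; group
  rw [e1]
  exact P.sq_cent' H (inv_mem hz) hk.mem

theorem eq_or (h₀ : Ess S E₀) (l : Om h₀ ≤ Nn S E) : E₀ = E ∨ E₀ = E' := by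
  by_contra hc
  rw [not_or] at hc
  obtain ⟨x, hx, hx'⟩ := SetLike.not_le_iff_exists.1 fun l => hc.1 (H.eq_of_Om_le h₀ h l)
  obtain ⟨y, hy, hy'⟩ := SetLike.not_le_iff_exists.1 fun l => hc.2 (H.eq_of_Om_le h₀ h' l)
  have h1 := (P.invol H (l hx) hx.2).resolve_left hx'
  have h2 := (P.invol H (l hy) hy.2).resolve_right hy'
  rcases P.invol H (l (mul_mem hx hy)) (mul_mem hx hy : x * y ∈ Om h₀).2 with h3 | h3
  · exact hx' ((mul_mem_cancel_right h2).1 h3)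
  · exact hy' ((mul_mem_cancel_left h1).1 h3)

theorem swap {t : G} (ht : t ∈ S) (hn : t ∈ normalizer (Nn S E : Set G)) (ht' : t ∉ Nn S E) :
    Am.cj t E = E' :=
  (P.eq_or H (h.cj (le_normalizer ht)) ((Om_le _).trans (by
    rw [← cj_eq_of_mem_normalizer hn]; exact cj_mono t h.le_Nn))).resolve_left
    fun e => ht' ⟨ht, cj_eq_self_iff.1 e⟩

theorem swap' {t : G} (ht : t ∈ S) (hn : t ∈ normalizer (Nn S E : Set G)) (ht' : t ∉ Nn S E) :
    Am.cj t E' = E := P.symm.swap H ht (P.nn.symm ▸ hn) (P.nn.symm ▸ ht')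

theorem idx {a b : G} (ha : a ∈ Nn S (Nn S E)) (ha' : a ∉ Nn S E) (hb : b ∈ Nn S (Nn S E))
    (hb' : b ∉ Nn S E) : a * b ∈ Nn S E :=
  ⟨mul_mem ha.1 hb.1, cj_eq_self_iff.1 (by
    rw [cj_mul, P.swap H hb.1 hb.2 hb', P.swap' H ha.1 ha.2 ha'])⟩

/-- Involutions of `N` commuting with an element outside `N` are central. -/
theorem out {x y : G} (hy : y ∈ Nn S (Nn S E)) (hy' : y ∉ Nn S E) (hx : x ∈ Nn S E)
    (h2 : x * x = 1) (hc : y * x = x * y) : x ∈ centralizer (Nn S (Nn S E) : Set G) := by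
  have e : y * x * y⁻¹ = x := by rw [hc, mul_inv_cancel_right]
  have h1 : x ∈ centralizer (Nn S E : Set G) := by
    rcases P.invol H hx h2 with h3 | h3
    · exact P.cent H h3 (by rw [← P.swap H hy.1 hy.2 hy', ← e]; exact conj_mem_cj y h3)
    · exact P.cent H (by rw [← P.swap' H hy.1 hy.2 hy', ← e]; exact conj_mem_cj y h3) h3
  intro t ht
  by_cases ht' : t ∈ Nn S E
  · exact h1 t ht'
  · have := h1 _ (P.idx H hy hy' ht ht')
    calc t * x = y⁻¹ * (y * t * x) := by group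
      _ = y⁻¹ * (x * y) * t := by rw [this]; group
      _ = x * t := by rw [← hc]; group

theorem not_normal (h₀ : Ess S E₀) (hn : ¬ S ≤ normalizer (E : Set G)) :
    ¬ S ≤ normalizer (E₀ : Set G) := fun hn₀ => by
  have hV : S ≤ normalizer (Om h₀ : Set G) := hn₀.trans (norm_le_Om h₀)
  have hVS : Om h₀ ≤ S := (Om_le h₀).trans h₀.le
  by_cases l : Om h₀ ≤ Nn S E
  · rcases P.eq_or H h₀ l with rfl | rfl
    · exact hn hn₀
    · exact hn ((P.nn ▸ le_inf le_rfl hn₀ : S ≤ Nn S E).trans inf_le_right)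
  obtain ⟨b, hb, hb1, hb2⟩ := exists_lt_normalizer (A := Nn S E) (B := Nn S E ⊔ Om h₀)
    (H.syl.isPGroup.to_le (sup_le inf_le_left hVS)) le_sup_left
    fun l' => l (le_sup_right.trans l')
  obtain ⟨n, hn, y, hy, rfl⟩ := (mem_sup_of_normalizes (inf_le_left.trans hV)).1 hb
  have hy1 : y ∈ Nn S (Nn S E) := ⟨hVS hy, (mul_mem_cancel_left (le_normalizer hn)).1 hb1⟩
  have hy2 : y ∉ Nn S E := fun l => hb2 (mul_mem hn l)
  refine P.not_le H fun x hx => ?_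
  have hx1 : y⁻¹ * x * y ∈ E := mem_cj.1 (P.swap H hy1.1 hy1.2 hy2 ▸ hx.1)
  have h1 : x⁻¹ * (y⁻¹ * x * y) ∈ Om h₀ := by
    have := mul_mem (conj_mem' (hV (h'.le hx.1)) (inv_mem hy)) hy
    simpa [mul_assoc] using this
  have h2 : x⁻¹ * (y⁻¹ * x * y) ∈ Nn S E := mul_mem (inv_mem (P.le' hx.1)) (h.le_Nn hx1)
  have h3 := P.out H hy1 hy2 h2 h1.2 (h₀.comm _ hy.1 _ h1.1)
  have h4 := P.symm.mem_of_cent h2.1 (P.nn.symm ▸ centralizer_le
    (le_inf inf_le_left le_normalizer : Nn S E ≤ Nn S (Nn S E)) h3)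
  exact (inv_mem_iff).1 ((mul_mem_cancel_right hx1).1 h4)

theorem two_of_out {h₀ : Ess S E₀} {h₁ : Ess S E₁} (Q : Pr h₀ h₁) (l : Nn S E₀ ≤ Nn S (Nn S E))
    (hne : ¬ Om h₀ ≤ Nn S E) : Two S E₁ := by
  obtain ⟨y, hy, hy'⟩ := SetLike.not_le_iff_exists.1 hne
  have key : ∀ x ∈ Om h₀, x ∈ Nn S E → x ∈ E₁ := fun x hx hx' =>
    Q.mem_of_cent hx'.1 (centralizer_le l
      (P.out H (l (h₀.le_Nn hy.1)) hy' hx' hx.2 (h₀.comm _ hy.1 _ hx.1)))
  intro a ha ha' b hb hb'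
  obtain ⟨v, hv, e, he, rfl⟩ := Q.symm.dec H ha
  obtain ⟨w, hw, f, hf, rfl⟩ := Q.symm.dec H hb
  have h1 := key _ (mul_mem hv hw) (P.idx H (l (h₀.le_Nn hv.1))
    (fun m => ha' (mul_mem (key v hv m) he)) (l (h₀.le_Nn hw.1))
    fun m => hb' (mul_mem (key w hw m) hf))
  have := mul_mem (mul_mem h1 (conj_mem' (Q.symm.le' hw.1).2 he)) hf
  simpa [mul_assoc] using this

end Pr

end Cfsg.Agent.Fus.AS
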