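import Mathlib
import Cfsg.Agent.Fus.Control
import Cfsg.Agent.GT.ThompsonNilp

/-!
# Axiomatic Glauberman--Thompson theorems

An axiomatic form of the ZJ-theorem (after Allcock), the corresponding normal `p`-complement
criterion, and a reduction of nilpotency criteria for fusion systems to their models.
-/

set_option autoImplicit false

namespace Cfsg.Agent.Fus

open Subgroup Cfsg.Agent.GT

universe u

section Group

variable {G : Type*} [Group G] [Finite G] {p : ℕ} [hp : Fact p.Prime]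

/-- Core of the axiomatic ZJ-theorem. -/
theorem ax_inf_normal (P : Sylow p G) {Z : Subgroup G} (hZc : IsMulCommutative Z)
    (hPZ : (P : Subgroup G) ≤ normalizer (Z : Set G))
    (hb : ∀ B : Subgroup G, B ≤ P → ⁅⁅B, B⁆, B⁆ = ⊥ → ⁅B, B⁆ ≤ Z → ¬ B ≤ Z →
      ∃ A : Subgroup G, A ≤ P ∧ IsMulCommutative A ∧ B ≤ normalizer (A : Set G) ∧ ¬ B ≤ A ∧
        ∀ T : Subgroup G, A ≤ T → T ≤ P → ∃ X : Subgroup G, Z ≤ X ∧ X ≤ A ∧
          normalizer (T : Set G) ≤ normalizer (X : Set G))
    (hst : ThStable p (P : Subgroup G)) (B : Subgroup G) [hBn : B.Normal] (hBP : B ≤ P) :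
    (Z ⊓ B).Normal := by
  revert hBn hBP
  refine subgroup_lt_induction
    (P := fun B : Subgroup G => ∀ [B.Normal], B ≤ P → (Z ⊓ B).Normal) ?_ B
  intro B ih hBn hBP
  have hcl : normalClosure ((Z ⊓ B : Subgroup G) : Set G) ≤ B :=
    normalClosure_le_normal inf_le_right
  rcases hcl.lt_or_eq with hlt | hBeq
  · have h1 := ih _ hlt (hcl.trans hBP)
    have h2 : Z ⊓ normalClosure ((Z ⊓ B : Subgroup G) : Set G) = Z ⊓ B :=
      le_antisymm (inf_le_inf_left _ hcl) (le_inf inf_le_left le_normalClosure)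
    rwa [h2] at h1
  by_cases hB0 : B = ⊥
  · subst hB0; rw [inf_bot_eq]; infer_instance
  have hBp : IsPGroup p B := P.isPGroup'.to_le hBP
  have : Group.IsNilpotent B := hBp.isNilpotent
  have hlt : ⁅B, B⁆ < B := commutator_lt_of_isSolvable hB0
  have hWn : (Z ⊓ ⁅B, B⁆).Normal := ih _ hlt (hlt.le.trans hBP)
  have hB'Z : ⁅B, B⁆ ≤ Z := by
    refine (th_commutator_le_of_normalClosure (W := Z ⊓ ⁅B, B⁆) hBeq.ge ?_).trans inf_le_left
    refine le_inf ?_ (commutator_mono inf_le_right le_rfl)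
    exact (commutator_mono inf_le_left le_rfl).trans
      (le_normalizer_iff_commutator_le_left.1 (hBP.trans hPZ))
  have hB2 : ⁅⁅B, B⁆, B⁆ = ⊥ := by
    rw [commutator_comm, commutator_eq_bot_iff_le_centralizer]
    refine hBeq.ge.trans (normalClosure_le_normal ?_)
    exact (inf_le_left.trans (le_centralizer_iff_isMulCommutative.2 hZc)).trans
      (centralizer_le hB'Z)
  by_cases hBZ : B ≤ Z
  · rw [inf_eq_right.2 hBZ]; exact hBn
  exfalso
  obtain ⟨A, hAP, hAc, hBA, hnot, hT⟩ := hb B hBP hB2 hB'Z hBZ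
  set L := (normalizer ((Z ⊓ B : Subgroup G) : Set G)).normalCore with hL
  have hLN : L ≤ normalizer ((Z ⊓ B : Subgroup G) : Set G) := normalCore_le _
  have hOpL : thOp p B ≤ L := by
    rw [hL, normal_le_normalCore]
    refine (thOp_le_sup B P).trans (sup_le ?_ ?_)
    · exact (centralizer_le (SetLike.coe_subset_coe.2 inf_le_right)).trans
        (centralizer_le_normalizer _)
    · exact (le_inf hPZ le_normalizer_of_normal).trans inf_normalizer_le_normalizer_inf
  have hAL : A ≤ L := (hst.le_thOp_of_normalizer hBP hAP hAc hBA).trans hOpL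
  obtain ⟨X, hZX, hXA, hX⟩ := hT ((P : Subgroup G) ⊓ L) (le_inf hAP hAL) inf_le_left
  refine hnot (hBeq.ge.trans (le_trans ?_ hXA))
  unfold normalClosure
  refine (closure_le _).2 fun x hx => ?_
  obtain ⟨z, hz, hzx⟩ := Group.mem_conjugatesOfSet_iff.1 hx
  obtain ⟨g, rfl⟩ := isConj_iff.1 hzx
  obtain ⟨m, hm, k, hk, hg⟩ := Tr.frattini_sylowIn (M := L) (T := (P : Subgroup G) ⊓ L)
    (P.isPGroup'.to_le inf_le_left) inf_le_right (Tr.not_dvd_relIndex_sylow_inf_normal P L)
    (n := g⁻¹) (by rw [normalizer_eq_top]; trivial)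
  have e : g = k⁻¹ * m⁻¹ := by rw [← mul_inv_rev, ← hg, inv_inv]
  have h4 : m⁻¹ * z * m⁻¹⁻¹ ∈ X :=
    hZX (Tr.conj_mem_of_mem_normalizer (hLN (inv_mem hm)) hz).1
  have h5 := Tr.conj_mem_of_mem_normalizer (hX (inv_mem hk)) h4
  subst e
  simpa [mul_assoc] using h5

/-- The axiomatic ZJ-theorem. -/
theorem ax_normal (P : Sylow p G) {Z : Subgroup G} (hZP : Z ≤ P) (hZc : IsMulCommutative Z)
    (hPZ : (P : Subgroup G) ≤ normalizer (Z : Set G))
    (hb : ∀ B : Subgroup G, B ≤ P → ⁅⁅B, B⁆, B⁆ = ⊥ → ⁅B, B⁆ ≤ Z → ¬ B ≤ Z →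
      ∃ A : Subgroup G, A ≤ P ∧ IsMulCommutative A ∧ B ≤ normalizer (A : Set G) ∧ ¬ B ≤ A ∧
        ∀ T : Subgroup G, A ≤ T → T ≤ P → ∃ X : Subgroup G, Z ≤ X ∧ X ≤ A ∧
          normalizer (T : Set G) ≤ normalizer (X : Set G))
    (hst : ThStable p (P : Subgroup G)) (hc : centralizer (pCore p G : Set G) ≤ pCore p G) :
    Z.Normal := by
  have h1 : Z ≤ pCore p G := hst.le_pCore hc hZP hZc ((pCore_le_sylow P).trans hPZ)
  have := ax_inf_normal P hZc hPZ hb hst (pCore p G) (pCore_le_sylow P)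
  rwa [inf_eq_left.2 h1] at this

omit [Finite G] hp in
theorem normalizer_map_le_of_injective {S₀ : Type*} [Group S₀] {ι : S₀ →* G} {A B : Subgroup S₀}
    (h : B ≤ normalizer (A : Set S₀)) :
    B.map ι ≤ normalizer ((A.map ι : Subgroup G) : Set G) :=
  (map_mono h).trans (le_normalizer_map ι)

end Group

/-- The axiomatic Glauberman--Thompson normal `p`-complement theorem. -/
theorem hasNormalPComplement_of_ax {p : ℕ} [Fact p.Prime] (hp2 : p ≠ 2) {S₀ : Type*} [Group S₀]
    (Z : Subgroup S₀) [Z.Normal] (hZc : IsMulCommutative Z)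
    (Rel : Subgroup S₀ → Subgroup S₀ → Prop)
    (hb : ∀ B : Subgroup S₀, ⁅⁅B, B⁆, B⁆ = ⊥ → ⁅B, B⁆ ≤ Z → ¬ B ≤ Z →
      ∃ A : Subgroup S₀, IsMulCommutative A ∧ B ≤ normalizer (A : Set S₀) ∧ ¬ B ≤ A ∧
        ∀ T : Subgroup S₀, A ≤ T → ∃ X : Subgroup S₀, Z ≤ X ∧ X ≤ A ∧ Rel T X)
    {G : Type u} [Group G] [Finite G] (P : Sylow p G) (ι : S₀ →* G)
    (hι : Function.Injective ι) (hr : ι.range = P)
    (hR : ∀ T X, Rel T X → normalizer ((T.map ι : Subgroup G) : Set G) ≤
      normalizer ((X.map ι : Subgroup G) : Set G))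
    (h : HasNormalPComplement p (normalizer ((Z.map ι : Subgroup G) : Set G))) :
    HasNormalPComplement p G := by
  refine th_reduction (p := p) (fun _ _ => True) (fun G _ P => (∃ ι : S₀ →* G,
    Function.Injective ι ∧ ι.range = P ∧ (∀ T X, Rel T X →
      normalizer ((T.map ι : Subgroup G) : Set G) ≤ normalizer ((X.map ι : Subgroup G) : Set G)) ∧
      HasNormalPComplement p (normalizer ((Z.map ι : Subgroup G) : Set G))) ∨
      HasNormalPComplement p G)
    (fun _ _ _ _ _ => trivial) (fun _ _ _ _ _ _ => trivial) ?_ ?_ ?_ ?_ G P trivial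
    (Or.inl ⟨ι, hι, hr, hR, h⟩)
  · rintro G _ _ P H hPH (⟨ι, hι, hr, hR, h⟩ | h)
    · have hm : ∀ x, ι x ∈ H := fun x => hPH (hr ▸ ⟨x, rfl⟩)
      have e : ∀ X : Subgroup S₀, X.map (ι.codRestrict H hm) = (X.map ι).subgroupOf H := by
        intro X
        ext ⟨y, hy⟩
        simp [mem_subgroupOf, Subtype.ext_iff]
      have hle : ∀ X : Subgroup S₀, X.map ι ≤ H := fun X => map_le_iff_le_comap.2 fun x _ => hm x
      refine Or.inl ⟨ι.codRestrict H hm, fun x y e => hι (congrArg Subtype.val e), ?_,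
        fun T X hTX => ?_, ?_⟩
      · rw [MonoidHom.range_eq_map, e, ← MonoidHom.range_eq_map, hr]
      · rw [e, e, ← subgroupOf_normalizer_eq (hle _), ← subgroupOf_normalizer_eq (hle _)]
        exact comap_mono (hR T X hTX)
      · rw [e, ← subgroupOf_normalizer_eq (hle _)]
        exact th_hasNPC_subgroupOf h H
    · exact Or.inr (h.subgroup H)
  · rintro G _ _ P N _ hN (⟨ι, hι, hr, hR, h⟩ | h)
    · have hk : (Nat.card (QuotientGroup.mk' N).ker).Coprime p := by rwa [QuotientGroup.ker_mk']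
      have hXp : ∀ X : Subgroup S₀, IsPGroup p (X.map ι) := fun X =>
        P.isPGroup'.to_le (hr ▸ map_le_range ι X)
      have hi := th_inf_ker_of_coprime P.isPGroup' hk
      refine Or.inl ⟨(QuotientGroup.mk' N).comp ι, fun x y e => hι
        (th_eq_of_map_eq _ hi (hr ▸ ⟨x, rfl⟩) (hr ▸ ⟨y, rfl⟩) e), ?_, fun T X hTX => ?_, ?_⟩
      · rw [← MonoidHom.map_range, hr]
      · rw [← map_map, ← map_map, ← map_normalizer_of_coprime_ker
          (QuotientGroup.mk'_surjective N) hk (hXp _), ← map_normalizer_of_coprime_ker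
          (QuotientGroup.mk'_surjective N) hk (hXp _)]
        exact map_mono (hR T X hTX)
      · rw [← map_map, ← map_normalizer_of_coprime_ker
          (QuotientGroup.mk'_surjective N) hk (hXp _)]
        exact h.map _
    · exact Or.inr (h.quotient N)
  · intro G _ _ P hP h
    exact Or.inr (hasNormalPComplement_of_normalizer_thZ hp2 (Or.inl rfl) P
      (th_isStronglyClosed_self _) (h _ (thChar_thZ 0 _) (thZ_ne_bot (by simp) P.isPGroup' hP)))
  · rintro G _ _ P - hm (⟨ι, hι, hr, hR, h⟩ | h)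
    swap
    · exact hm.not_nilp h
    have hmap : ∀ B : Subgroup G, B ≤ P → (B.comap ι).map ι = B := fun B hB =>
      map_comap_eq_self (hr ▸ hB)
    have : (Z.map ι).Normal := by
      refine ax_normal P (hr ▸ map_le_range ι Z) (th_comm_map ι hZc) ?_ ?_ (hm.stable hp2)
        hm.charP
      · rw [← hr, MonoidHom.range_eq_map]
        exact normalizer_map_le_of_injective le_normalizer_of_normal
      · intro B hBP h2 hBZ hn
        rw [← hmap B hBP] at h2 hBZ hn ⊢
        rw [← map_commutator, ← map_commutator, map_eq_bot_iff_of_injective _ hι] at h2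
        rw [← map_commutator, map_le_map_iff_of_injective hι] at hBZ
        rw [map_le_map_iff_of_injective hι] at hn
        obtain ⟨A, hAc, hBA, hnot, hT⟩ := hb _ h2 hBZ hn
        refine ⟨A.map ι, hr ▸ map_le_range ι A, th_comm_map ι hAc,
          normalizer_map_le_of_injective hBA,
          by rwa [map_le_map_iff_of_injective hι], fun T hAT hTP => ?_⟩
        obtain ⟨X, hZX, hXA, hX⟩ := hT (T.comap ι) (map_le_iff_le_comap.1 hAT)
        refine ⟨X.map ι, map_mono hZX, map_mono hXA, ?_⟩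
        have := hR _ _ hX
        rwa [hmap T hTP] at this
    exact hm.not_nilp (th_hasNPC_of_eq_top h (normalizer_eq_top _))

end Cfsg.Agent.Fus

namespace Cfsg.FusionSystem

open Cfsg.Agent.Fus Cfsg.Agent Subgroup

universe u

variable {p : ℕ} [Fact p.Prime]

/-- The Glauberman--Thompson theorem for fusion systems. -/
theorem IsSaturated.eq_inner_of_nLe_thZ (hp : p ≠ 2) {Ω : Type u} [Group Ω] {S : Subgroup Ω}
    [Finite S] {F : FusionSystem S} (hF : F.IsSaturated p) (hS : IsPGroup p S)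
    (h : F.NLe (inducedFunctor (fun (Q : Type u) [Group Q] => GT.thZ 0 (⊤ : Subgroup Q)) S)
      (innerFusionSystem S)) : F = innerFusionSystem S :=
  hF.eq_inner_of_wf (b := True) (X := PUnit.{1}) (c := False) isCharPFunctor_thZ
    (fun L _ _ P _ _ hN => GT.hasNormalPComplement_of_normalizer_thZ hp (Or.inl rfl) P
      (GT.th_isStronglyClosed_self _)
      (by rwa [wf_thZ, GT.centerThompsonAOf_eq] at hN)) hS (Or.inl trivial) False.elim h

/-- Reduction of nilpotency criteria to models, `p` odd. -/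
theorem IsSaturated.eq_inner_of_models (hp : p ≠ 2) {Ω : Type u} [Group Ω] {S V : Subgroup Ω}
    [Finite S] {F : FusionSystem S} (hF : F.IsSaturated p) (hS : IsPGroup p S) (hV : V ≤ S)
    (hn : S ≤ normalizer (V : Set Ω)) (h : F.NLe V (innerFusionSystem S))
    (h3 : ∀ (E : FusionSystem S) (L : Type u) [Group L] [Finite L] (j : Ω → L) (P : Sylow p L),
      E.IsSubsystemOf F → E.IsModelVia p j → (P : Subgroup L) = img j S →
      HasNormalPComplement p (normalizer ((img j V : Subgroup L) : Set L)) →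
      HasNormalPComplement p L) : F = innerFusionSystem S := by
  refine sub_inner_iff.1 ?_
  by_contra hne
  obtain ⟨Q, hQ⟩ := hF.exists_crit hS hne
  have hW := isCharPFunctor_thZ.{u} (p := p)
  by_cases h1 : normalizerIn S Q = S
  · have hnQ : S ≤ normalizer (Q : Set Ω) := h1.ge.trans normalizerIn_le_normalizer
    by_cases h2 : centralizerIn S Q ≤ Q
    · obtain ⟨E, hE⟩ := F.exists_isKNormalizer (T := S) hQ.le ⊤ (by rw [preAut_top, h1])
      refine hQ.not_le (hE.nLe_iff.2 ?_)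
      obtain ⟨L, _, _, j, P, hL, hP, -, -⟩ :=
        hQ.exists_model (b := True) (X := PUnit.{1}) hF hS h2 hE
      have hz : ∀ {a : L} {x : Ω}, x ∈ S → a * j x * a⁻¹ ∈ img j S →
          ∀ y ∈ zpowers x, a * j y * a⁻¹ ∈ img j S := fun {a x} hx h y ⟨n, hn⟩ => by
        rw [← hn, hL.mulOn.map_zpow hx, ← conj_zpow]; exact zpow_mem h n
      have h4 := h3 E L j P hE.isSubsystemOf hL hP (by
        refine hasNormalPComplement_of_fusion_le P ?_ fun y hy a ha hya => ?_
        · rw [hP, img_le_iff]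
          intro s hs
          refine mem_normalizer_fintype fun y hy => ?_
          obtain ⟨x, hx, rfl⟩ := (hL.mulOn.mem_img_of_le hV).1 hy
          rw [← hL.mulOn.map_conj hs (hV hx)]
          exact mem_img_of_mem ((mem_normalizer_iff.1 (hn hs) x).1 hx)
        rw [hP] at hy hya ⊢
        obtain ⟨x, hx, rfl⟩ := hL.mulOn.mem_img.1 hy
        obtain ⟨f, -, hf, e⟩ := hL.exists_mor_of_nLe hV hn (h.of_sub hE.isSubsystemOf)
          (zpowers_le.2 hx) ha (hz hx hya)
        obtain ⟨-, s, hs, es⟩ := mor_inner_iff.1 hf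
        exact ⟨j s, mem_img_of_mem hs, by
          rw [← e x (mem_zpowers x), es x (mem_zpowers x), hL.mulOn.map_conj hs hx]⟩)
      refine isSubsystemOf_iff_mor.2 fun R f hf => ?_
      obtain ⟨a, -, ha⟩ := hL.exists_conj hf
      obtain ⟨u, hu, eu⟩ := h4.exists_conj_eq P a
      rw [hP] at hu eu
      obtain ⟨s, hs, rfl⟩ := hL.mulOn.mem_img.1 hu
      refine mor_inner_iff.2 ⟨hf.le, s, hs, fun x hx => hL.inj _ (hf.mem hx) _
        (S.mul_mem (S.mul_mem hs (hf.le hx)) (S.inv_mem hs)) ?_⟩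
      rw [hL.mulOn.map_conj hs (hf.le hx), ha x hx]
      exact eu _ (mem_img_of_mem (hf.le hx)) (ha x hx ▸ mem_img_of_mem (hf.mem hx))
    · obtain ⟨D, G, _, _, θ, E, H', hq⟩ := hQ.exists_quotCase hF hS hnQ h2
      have h1 := hq.satE.eq_inner_of_nLe_thZ hp hq.isPGroup ((hq.nLe_wf hW).trans hq.sub_inner)
      exact hq.top_ne_bot (hq.eq_bot_of_normal (h1 ▸ isNormal_top_inner))
  · have hE := F.isNormalizerSystem_normalizerSystem hQ.le
    have hEs := hE.isSaturated hF hS hQ.full
    have hT : IsPGroup p (normalizerIn S Q) := hS.to_le normalizerIn_le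
    refine hQ.not_le ((hE.nLe_iff hQ.le).2 ?_)
    rw [hEs.eq_inner_of_nLe_thZ hp hT
      (((hQ.nLe_wf hW hS h1).of_sub (ns_sub hE)).inner_of hEs hS normalizerIn_le (wf_le _ _)
        (le_normalizer.trans (normalizer_le_normalizer_wf hW hT)))]
    exact inner_sub_inner normalizerIn_le

end Cfsg.FusionSystem
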