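import Mathlib
import Cfsg.Agent.Fus.Hyp
import Cfsg.Agent.Fus.EssBasic
import Cfsg.Agent.Fus.KNormalizer
import Cfsg.Agent.GT.PGroupAlperin
import Cfsg.Agent.GT.PGroupCritical
import Cfsg.Agent.Loc.TechSmall
import Cfsg.Agent.GT.Thompson
import Cfsg.Agent.GT.PConstrained

/-!
# Control of fusion by small abelian subgroups (Benson--Grodal--Henke, Henke--Liao)
-/

set_option autoImplicit false
set_option linter.unusedSectionVars false

namespace Cfsg.Agent.Fus

open Subgroup Cfsg.Agent.GT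

/-- Elements of order dividing `p`, or `4` if `p = 2`. -/
def SmallElt (p : ℕ) {G : Type*} [Group G] (x : G) : Prop := x ^ p = 1 ∨ (p = 2 ∧ x ^ 4 = 1)

section Group

variable {G : Type*} [Group G] [Finite G] {p : ℕ} [hp : Fact p.Prime]

theorem mulAut_fix_of_comm_fixed (hG : IsPGroup p G) {α : MulAut G}
    (hα : (orderOf α).Coprime p) {x : G} (h : α (x⁻¹ * α x) = x⁻¹ * α x) : α x = x := by
  set y := x⁻¹ * α x with hy
  have h1 : ∀ n : ℕ, (α ^ n) x = x * y ^ n := by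
    intro n
    induction n with
    | zero => simp
    | succ n ih =>
      have h2 : α x = x * y := by rw [hy]; group
      rw [pow_succ', MulAut.mul_apply, ih, map_mul, map_pow, h, h2, pow_succ', mul_assoc]
  have h2 := h1 (orderOf α)
  rw [pow_orderOf_eq_one, MulAut.one_apply, left_eq_mul] at h2
  obtain ⟨k, hk⟩ := hG y
  have h3 : y = 1 := by
    have := pow_gcd_eq_one.2 ⟨h2, hk⟩
    rwa [Nat.Coprime.gcd_eq_one (hα.pow_right k), pow_one] at this
  rw [hy, inv_mul_eq_one] at h3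
  exact h3.symm

theorem exists_small_abelian_normal (hG : IsPGroup p G) (N : Subgroup G) [N.Normal] :
    ∃ A : Subgroup G, A.Normal ∧ A ≤ N ∧ IsMulCommutative A ∧ (∀ a ∈ A, SmallElt p a) ∧
      ∀ α : MulAut G, (orderOf α).Coprime p → (∀ x, x⁻¹ * α x ∈ N) → (∀ a ∈ A, α a = a) →
        α = 1 := by
  classical
  set n : ℕ := if p = 2 then 2 else 1 with hn
  have hn2 : p ^ n ≠ 2 := by
    by_cases h : p = 2
    · simp [hn, h]
    · simp [hn, h]
  have hsm : ∀ x : G, x ^ p ^ n = 1 ↔ SmallElt p x := by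
    intro x
    by_cases h : p = 2
    · subst h
      simp only [hn, SmallElt, if_true, true_and]
      refine ⟨fun h => Or.inr h, fun h => h.elim (fun h => ?_) id⟩
      rw [show 2 ^ 2 = 2 * 2 from rfl, pow_mul, h, one_pow]
    · simp [hn, SmallElt, h]
  let T : Set (Subgroup G) :=
    {A | A.Normal ∧ IsMulCommutative A ∧ (∀ a ∈ A, a ^ p ^ n = 1) ∧ A ≤ N}
  obtain ⟨A, ⟨hA1, hA2, hA3, hA4⟩, hmax⟩ := Set.exists_max_image T (fun A => Nat.card A)
    (Set.toFinite T) ⟨⊥, inferInstance, inferInstance, by simp, bot_le⟩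
  refine ⟨A, hA1, hA4, hA2, fun a ha => (hsm a).1 (hA3 a ha), fun α hα hN hA => ?_⟩
  have hinv : ∀ x ∈ N, α x ∈ N := fun x hx => by simpa using N.mul_mem hx (hN x)
  have hcomm : ∀ x, x⁻¹ * α x ∈ centralizer (A : Set G) := fun x a ha => by
    have h1 := hA _ (hA1.conj_mem a ha x)
    rw [map_mul, map_mul, map_inv, hA a ha] at h1
    calc a * (x⁻¹ * α x) = x⁻¹ * (x * a * x⁻¹) * α x := by group
      _ = x⁻¹ * α x * a := by rw [← h1]; group
  have hC : ∀ x ∈ N ⊓ centralizer (A : Set G), α x = x := by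
    refine Loc.mulAut_apply_eq_of_small (hG.to_subgroup _) hα (fun x hx => ⟨hinv x hx.1, ?_⟩)
      fun x hx hs => hA x (PG.mem_of_maximal_abelian_exponent hG hn2 N A hA4 hA2 hA3
        (fun B h1 h2 h3 h4 h5 => (eq_of_le_of_card_ge h4 (hmax B ⟨h1, h2, h3, h5⟩)).symm)
        hx.1 hx.2 ((hsm x).2 hs))
    simpa using (centralizer (A : Set G)).mul_mem hx.2 (hcomm x)
  ext x
  exact mulAut_fix_of_comm_fixed hG hα (hC _ ⟨hN x, hcomm x⟩)

theorem exists_char_small (hG : IsPGroup p G) :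
    ∃ D : Subgroup G, D.Characteristic ∧ (∀ x ∈ D, SmallElt p x) ∧
      ∀ α : MulAut G, (orderOf α).Coprime p → (∀ x ∈ D, α x = x) → α = 1 := by
  by_cases h2 : p = 2
  swap
  · obtain ⟨D, h1, -, -, h3, -, h4, -⟩ := PG.exists_critical_exponent_p h2 hG
    exact ⟨D, h1, fun x hx => Or.inl (h3 x hx), h4⟩
  subst h2
  obtain ⟨H, hH⟩ := PG.exists_isCritical hG
  let D : Subgroup G :=
    { carrier := {x | x ∈ H ∧ x ^ 4 = 1}
      one_mem' := ⟨H.one_mem, one_pow _⟩
      inv_mem' := fun {x} hx => ⟨H.inv_mem hx.1, by rw [inv_pow, hx.2, inv_one]⟩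
      mul_mem' := fun {x y} hx hy => ⟨H.mul_mem hx.1 hy.1, by
        have hx2 : ∀ h ∈ H, Commute h (x ^ 2) := hH.pow_mem x hx.1
        have hy2 : ∀ h ∈ H, Commute h (y ^ 2) := hH.pow_mem y hy.1
        have hxy : ∀ h ∈ H, Commute h ((x * y) ^ 2) := hH.pow_mem _ (H.mul_mem hx.1 hy.1)
        have e1 : (x * y) ^ 4 = x * y * x * ((x * y) ^ 2 * y) := by
          rw [← (hxy y hy.1).eq]; simp only [pow_succ, pow_zero, one_mul, mul_assoc]
        have e2 : (x * y) ^ 4 = x * y * x ^ 2 * (y * x * y ^ 2) := by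
          rw [e1]; simp only [pow_succ, pow_zero, one_mul, mul_assoc]
        have e3 : (x * y) ^ 4 = x ^ 2 * (x * y ^ 2 * x) * y ^ 2 := by
          rw [e2, (hx2 _ (H.mul_mem hx.1 hy.1)).eq]
          simp only [pow_succ, pow_zero, one_mul, mul_assoc]
        rw [e3, (hy2 x hx.1).eq, mul_assoc (y ^ 2), ← sq, ← mul_assoc, (hx2 _ (H.pow_mem hy.1 2)).eq.symm,
          mul_assoc (y ^ 2), ← pow_add, hx.2, mul_one, ← pow_add, hy.2]⟩ }
  refine ⟨D, characteristic_iff_le_comap.2 fun φ x hx => ⟨?_, ?_⟩, fun x hx => Or.inr ⟨rfl, hx.2⟩,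
    fun α hα h => ?_⟩
  · exact characteristic_iff_le_comap.1 hH.char φ hx.1
  · change φ x ^ 4 = 1
    rw [← map_pow, hx.2, map_one]
  · refine PG.aut_eq_one_of_centralizer_le hG hH.centralizer_le hα
      (Loc.mulAut_apply_eq_of_small (hG.to_subgroup _) hα
        (fun x hx => characteristic_iff_le_comap.1 hH.char α hx) fun x hx hs => h x ⟨hx, ?_⟩)
    rcases hs with hs | hs
    · rw [show 4 = 2 * 2 from rfl, pow_mul, hs, one_pow]
    · exact hs.2

end Group

section Amb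

variable {Ω : Type*} [Group Ω] {E N : Subgroup Ω} [Finite E] {p : ℕ} [hp : Fact p.Prime]

theorem exists_small_inv (hE : IsPGroup p E) (hN : N ≤ E) :
    ∃ D ≤ N, (∀ x ∈ D, SmallElt p x) ∧ ∀ α : MulAut E, (∀ x ∈ N, totA α x ∈ N) →
      (∀ x ∈ D, totA α x ∈ D) ∧ ((orderOf α).Coprime p → (∀ x ∈ E, x⁻¹ * totA α x ∈ N) →
        (∀ x ∈ D, totA α x = x) → α = 1) := by
  have := FusionSystem.finite_of_le hN
  obtain ⟨D, h1, h2, h3⟩ := exists_char_small (hE.to_le hN)
  refine ⟨D.map N.subtype, map_subtype_le D, ?_, fun α hα => ?_⟩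
  · rintro _ ⟨x, hx, rfl⟩
    rcases h2 x hx with h | h
    · exact Or.inl (congrArg Subtype.val h)
    · exact Or.inr ⟨h.1, congrArg Subtype.val h.2⟩
  have hst : α ∈ stabA E N := (invA_zpowers hN hα).le_stabA (mem_zpowers α)
  refine ⟨fun x hx => ?_, fun hc hEN hD => ?_⟩
  · rw [← totA_resA hN hst (map_subtype_le D hx)]
    exact (invA_map_of_characteristic ⊤ D).mem (mem_top _) hx
  · have h4 : resA N α = 1 := by
      refine h3 _ (Nat.Coprime.coprime_dvd_left (orderOf_dvd_of_pow_eq_one ?_) hc) fun x hx =>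
        Subtype.ext ?_
      · rw [← (mulOn_resA hN).map_pow hst, pow_orderOf_eq_one, (mulOn_resA hN).map_one]
      · rw [← totA_coe, totA_resA hN hst x.2]
        exact hD _ (mem_map_of_mem N.subtype hx)
    ext x
    refine congrArg Subtype.val (mulAut_fix_of_comm_fixed hE hc (Subtype.ext ?_))
    have h5 : ((x⁻¹ * α x : E) : Ω) ∈ N := by simpa using hEN x x.2
    rw [← totA_coe, ← totA_resA hN hst h5, h4, totA_one h5]

theorem exists_small_abelian (hE : IsPGroup p E) (hN : N ≤ E) (hn : E ≤ normalizer (N : Set Ω)) :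
    ∃ A ≤ N, E ≤ normalizer (A : Set Ω) ∧ IsMulCommutative A ∧ (∀ a ∈ A, SmallElt p a) ∧
      ∀ α : MulAut E, (orderOf α).Coprime p → (∀ x ∈ E, x⁻¹ * totA α x ∈ N) →
        (∀ a ∈ A, totA α a = a) → α = 1 := by
  have : (N.subgroupOf E).Normal := (normal_subgroupOf_iff_le_normalizer hN).2 hn
  obtain ⟨A, h1, h2, h3, h4, h5⟩ := exists_small_abelian_normal hE (N.subgroupOf E)
  refine ⟨A.map E.subtype, map_le_iff_le_comap.2 h2, ?_, th_comm_map _ h3, ?_,
    fun α hα h h' => h5 α hα (fun x => ?_) fun a ha => Subtype.ext ?_⟩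
  · refine (normal_subgroupOf_iff_le_normalizer (map_subtype_le A)).1 ?_
    rwa [subgroupOf, comap_map_eq_self_of_injective E.subtype_injective]
  · rintro _ ⟨x, hx, rfl⟩
    rcases h4 x hx with h | h
    · exact Or.inl (congrArg Subtype.val h)
    · exact Or.inr ⟨h.1, congrArg Subtype.val h.2⟩
  · simpa [mem_subgroupOf] using h x x.2
  · rw [← totA_coe]; exact h' _ (mem_map_of_mem E.subtype ha)

end Amb

end Cfsg.Agent.Fus

namespace Cfsg.FusionSystem

open Cfsg.Agent.Fus Cfsg.Agent Subgroup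

variable {Ω : Type*} [Group Ω] {S : Subgroup Ω} {E F : FusionSystem S} {P Q R A B : Subgroup Ω}
  {f g : Ω → Ω} {p : ℕ}

/-- `p'`-automorphisms of `Q` in `F` act faithfully on `A`. -/
def FaithOn (F : FusionSystem S) (p : ℕ) (Q A : Subgroup Ω) : Prop :=
  ∀ α ∈ F.autGroup Q, (orderOf α).Coprime p → (∀ a ∈ A, totA α a = a) → α = 1

theorem FaithOn.iso (h : F.FaithOn p Q A) (hf : F.Iso Q R f) (hA : A ≤ Q)
    (hB : ∀ a ∈ A, f a ∈ B) : F.FaithOn p R B := by
  intro β hβ hc hfix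
  obtain ⟨α, rfl⟩ := hf.autCongr.surjective β
  rw [h α (hf.autCongr_mem_iff.1 hβ) (by rwa [MulEquiv.orderOf_eq] at hc) fun a ha =>
    hf.mor.inj (totA_mem α (hA ha)) (hA ha) ?_, _root_.map_one]
  rw [← hf.totA_autCongr α (hA ha)]
  exact hfix _ (hB a ha)

variable [Finite S] [Fact p.Prime]

theorem IsSaturated.mor_of_faithOn (hF : F.IsSaturated p) (hS : IsPGroup p S)
    (hB : F.IsFullyCentralized B) (hBQ : B ≤ Q) (hQ : Q ≤ normalizer (B : Set Ω))
    (hfa : F.FaithOn p Q B) (ih : ∀ (R : Subgroup Ω) g, Nat.card Q < Nat.card R → F.Mor R g → E.Mor R g)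
    (hf : F.Mor Q f) (hfix : ∀ x ∈ B, f x = x) : E.Mor Q f := by
  have hN := F.isKNormalizer_kNormalizer hB.le (autInducedBy S B)
  set N := F.kNormalizer hB.le (autInducedBy S B)
  have hNs : N.IsSaturated p :=
    hN.isSaturated hF hS ((hF.receptive hS hB).kFull_of_le inf_le_right)
  have hT : IsPGroup p (preAut S B (autInducedBy S B)) := hS.to_le preAut_le
  have hQT : Q ≤ preAut S B (autInducedBy S B) := fun x hx =>
    mem_preAut.2 ⟨⟨hf.le hx, hQ hx⟩, cAut_mem_autInducedBy ⟨hf.le hx, hQ hx⟩⟩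
  have hNf : N.Mor Q f := hN.mor_of hQT hf le_rfl hBQ (fun _ _ => rfl) (one_mem _)
    fun x hx => by rw [hfix x hx, totA_one hx]
  refine hNs.alperin_induction hT (M := fun f => E.Mor Q f) (E.mor_id hf.le)
    (fun h e => h.congr e) ?_ hNf
  intro k R g hk hEk hR hg hkR
  refine Mor.comp ?_ hEk hkR
  have hRS : R ≤ S := hg.le_left.trans preAut_le
  have := finite_of_le hRS
  rcases (hk.card_le hkR).lt_or_eq with hlt | heq
  · exact ih R g hlt (hN.isSubsystemOf.mor hg.mor)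
  have hk' : N.Iso Q R k := hk.iso_of_card_le hkR heq.ge
  have hkB : ∀ x ∈ B, k x ∈ B := by
    obtain ⟨g', -, e, κ, -, e'⟩ := hN.extend hk
    intro x hx
    rw [← e x (hBQ hx), e' x hx]
    exact totA_mem κ hx
  have hBR : B ≤ R := by
    have := finite_of_le hB.le
    intro y hy
    obtain ⟨x, hx, rfl⟩ := ((hk.mono hBQ).iso_self hkB).surj y hy
    exact hkR x (hBQ hx)
  have hfR : F.FaithOn p R B := hfa.iso (hN.isSubsystemOf.iso hk') hBQ hkB
  have hp : IsPGroup p (N.autGroup R) := by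
    refine GT.isPGroup_of_forall_coprime_eq_one fun β hβ hc =>
      hfR β (hN.isSubsystemOf.autGroup_le R hβ) hc ?_
    obtain ⟨g', -, e, κ, hκ, e'⟩ := hN.extend (mor_totA hg.le_left hβ)
    have hext : ∀ x ∈ B, totA β x = totA κ x := fun x hx => by rw [← e x (hBR hx), e' x hx]
    have h1 : κ ^ orderOf β = 1 := mulAut_ext_totA fun x hx => by
      rw [← totA_pow_of_extends hBR hext _ x hx, pow_orderOf_eq_one, totA_one hx,
        totA_one (hBR hx)]
    obtain ⟨j, hj⟩ := isPGroup_autInducedBy hS B ⟨κ, hκ⟩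
    have h2 : κ = 1 := by
      have := pow_gcd_eq_one.2 ⟨h1, congrArg Subtype.val hj⟩
      rwa [Nat.Coprime.gcd_eq_one (hc.pow_right j), pow_one] at this
    intro a ha
    rw [hext a ha, h2, totA_one ha]
  have h3 := (hNs.fullyAutomized hT (fullyNormalized_of_top_or_essential hR)).le_of_isPGroup hT hp
    le_rfl (N.autInducedBy_le_autGroup hg.le_left) hg.aut_mem
  obtain ⟨s, hs, e⟩ := mem_autInducedBy_iff_cAut.1 h3
  exact (E.mor_conj hRS (preAut_le hs.1)).congr fun x hx => by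
    rw [← hg.totA_aut hx, ← e, totA_cAut hs.2 hx]

theorem Mor.small (hf : F.Mor A f) (hA : IsMulCommutative A) (hs : ∀ a ∈ A, SmallElt p a) :
    IsMulCommutative (img f A) ∧ ∀ a ∈ img f A, SmallElt p a := by
  refine ⟨GT.th_comm_iff.2 fun x hx y hy => ?_, fun x hx => ?_⟩
  · obtain ⟨a, ha, rfl⟩ := (hf.mem_img le_rfl).1 hx
    obtain ⟨b, hb, rfl⟩ := (hf.mem_img le_rfl).1 hy
    exact (hf.commute_iff ha hb).2 (GT.th_comm_iff.1 hA a ha b hb)
  · obtain ⟨a, ha, rfl⟩ := (hf.mem_img le_rfl).1 hx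
    rcases hs a ha with h | h
    · exact Or.inl (by rw [← hf.map_pow ha, h, hf.map_one])
    · exact Or.inr ⟨h.1, by rw [← hf.map_pow ha, h.2, hf.map_one]⟩

/-- Small abelian subgroups of the hyperfocal subgroup control fusion. -/
theorem IsSaturated.mor_of_small (hF : F.IsSaturated p) (hE : E.IsSaturated p)
    (hS : IsPGroup p S) (hEF : E.IsSubsystemOf F)
    (h : ∀ A g, A ≤ F.hyperfocalSubgroup p → IsMulCommutative A → (∀ a ∈ A, SmallElt p a) →
      F.Mor A g → E.Mor A g) (hf : F.Mor Q f) : E.Mor Q f := by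
  induction hn : Nat.card S - Nat.card Q using Nat.strong_induction_on generalizing Q f with
  | _ n ih0 =>
  have ih : ∀ (R : Subgroup Ω) g, Nat.card Q < Nat.card R → F.Mor R g → E.Mor R g := fun R g hlt hg =>
    ih0 _ (by have := card_le_of_le hg.le; omega) hg rfl
  have hT := hF.stronglyClosed_hyp hS
  have := hf.finite
  obtain ⟨A, hA, hQA, hAc, hAs, hfa⟩ := exists_small_abelian (N := Q ⊓ F.hyperfocalSubgroup p)
    (hS.to_le hf.le) inf_le_left ((le_inf Subgroup.le_normalizer (hf.le.trans hT.le_normalizer)).trans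
      inf_normalizer_le_normalizer_inf)
  have hAQ : A ≤ Q := hA.trans inf_le_left
  have hAT : A ≤ F.hyperfocalSubgroup p := hA.trans inf_le_right
  have hfa' : F.FaithOn p Q A := fun α hα hc h' => hfa α hc (fun x hx =>
    ⟨Q.mul_mem (Q.inv_mem hx) (totA_mem α hx), mem_hyperfocal_of_coprime hf.le hα hc hx⟩) h'
  obtain ⟨γ, hγ, hB⟩ := hE.exists_mor_fullyNormalized hS (hf.mono hAQ).img_le
  have hfN : ∀ x ∈ Q, f x ∈ normalizerIn S (img f A) := fun x hx =>
    ⟨hf.mem hx, hf.mem_normalizer_img hAQ hx (hQA hx)⟩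
  have hk : F.Mor Q fun x => γ (f x) := (hEF.mor hγ).comp hf hfN
  rw [← (hf.mono hAQ).mulOn.img_comp] at hB
  set k : Ω → Ω := fun x => γ (f x) with hkdef
  have hkA : E.Mor A k := hγ.comp (h A f hAT hAc hAs (hf.mono hAQ)) fun x hx => hfN x (hAQ hx)
  obtain ⟨hBc, hBs⟩ := hkA.small hAc hAs
  have hBT : img k A ≤ F.hyperfocalSubgroup p := hT.img_le (hk.mono hAQ) hAT
  have hBF : F.IsFullyCentralized (img k A) := by
    have h1 := hE.fullyCentralized hS hB
    refine ⟨h1.1, fun R hR => h1.2 R ?_⟩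
    obtain ⟨g, hg⟩ := hR.exists_iso
    exact ((h _ g hBT hBc hBs hg.mor).iso_of_img_eq hg.img_eq).isConj
  obtain ⟨ψ, hψ, eψ⟩ := (hE.receptive_of_fullyNormalized hS hB).extend hkA.iso_img
  have hψQ : E.Mor Q ψ := hψ.mono fun x hx => mem_extN.2 ⟨hf.le hx, hQA hx, k x, hk.mem hx,
    fun a ha => hk.map_conj hx (hAQ ha)⟩
  obtain ⟨k', hk', e1, e2⟩ := hk.inv
  have hχ : E.Mor (img k Q) fun y => ψ (k' y) := by
    refine hF.mor_of_faithOn hS hBF (img_mono hAQ) (img_le_iff.2 fun x hx =>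
      hk.mem_normalizer_img hAQ hx (hQA hx))
      (hfa'.iso hk.iso_img hAQ fun a ha => mem_img_of_mem ha)
      (fun R g hlt hg => ih R g (by rwa [hk.card_img le_rfl] at hlt) hg)
      ((hEF.mor hψQ).comp hk'.mor hk'.maps) fun y hy => ?_
    obtain ⟨a, ha, rfl⟩ := ((hk.mono hAQ).mem_img le_rfl).1 hy
    rw [e1 a (hAQ ha), eψ a ha]
  obtain ⟨χ', hχ', e3, -⟩ := hχ.inv
  have hEk : E.Mor Q k := (hχ'.mor.comp hψQ fun x hx => by
      have := mem_img_of_mem (f := fun y => ψ (k' y)) (mem_img_of_mem (f := k) hx)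
      rwa [e1 x hx] at this).congr fun x hx => by
    have := e3 _ (mem_img_of_mem (f := k) hx)
    rwa [e1 x hx] at this
  obtain ⟨γ', hγ', e4, -⟩ := hγ.inv
  exact (hγ'.mor.comp hEk fun x hx => mem_img_of_mem (hfN x hx)).congr fun x hx => e4 _ (hfN x hx)

/-- The chain of a small invariant subgroup cut out by the lower central series. -/
theorem exists_small_chain (hS : IsPGroup p S) (hT : F.StronglyClosed A) (hR : R ≤ S) :
    ∃ (D : Subgroup Ω) (L : ℕ → Subgroup Ω) (n : ℕ), D ≤ R ⊓ A ∧ (∀ x ∈ D, SmallElt p x) ∧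
      InvA (F.autGroup R) D ∧ L 0 = S ∧ L n = ⊥ ∧ (∀ i, L (i + 1) ≤ L i) ∧
      (∀ i g, F.Mor S g → ∀ x ∈ L i, g x ∈ L i) ∧
      (∀ i, ∀ s ∈ S, ∀ x ∈ L i, x⁻¹ * (s * x * s⁻¹) ∈ L (i + 1)) ∧
      ∀ α ∈ F.autGroup R, (orderOf α).Coprime p → (∀ x ∈ R, x⁻¹ * totA α x ∈ A) →
        (∀ x ∈ D, totA α x = x) → α = 1 := by
  have := finite_of_le hR
  obtain ⟨D, hD, hs, h⟩ := exists_small_inv (N := R ⊓ A) (hS.to_le hR) inf_le_left
  have hinv : ∀ α ∈ F.autGroup R, ∀ x ∈ R ⊓ A, totA α x ∈ R ⊓ A := fun α hα x hx =>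
    ⟨totA_mem α hx.1, hT.mem (mor_totA hR hα) hx.1 hx.2⟩
  obtain ⟨n, hn⟩ := (isNilpotent_iff_lowerCentralSeries S).1 hS.isNilpotent
  refine ⟨D, fun i => S.lowerCentralSeries i, n, hD, hs,
    ⟨hD.trans inf_le_left, fun α hα => (h α (hinv α hα)).1⟩, rfl, hn,
    fun i => S.lowerCentralSeries_antitone (Nat.le_succ i), fun i g hg x hx => ?_,
    fun i s hs x hx => ?_,
    fun α hα hc h1 h2 => (h α (hinv α hα)).2 hc (fun x hx =>
      ⟨R.mul_mem (R.inv_mem hx) (totA_mem α hx), h1 x hx⟩) h2⟩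
  · beta_reduce at hx ⊢
    rw [← top_subtype_lowerCentralSeries] at hx ⊢
    rw [← hg.iso_top.totA_aut (map_subtype_le _ hx)]
    exact (invA_map_of_characteristic ⊤ _).mem (mem_top _) hx
  · rw [comm_mem_iff_conj]
    exact commutator_mem_commutator (Subgroup.inv_mem _ hx) hs

/-- If `F`-fusion of small elements of the hyperfocal subgroup is controlled by `Aut_F(S)`,
then `S` is normal in `F`. -/
theorem IsSaturated.isNormal_top_of_small (hF : F.IsSaturated p) (hS : IsPGroup p S)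
    (h : ∀ x ∈ F.hyperfocalSubgroup p, SmallElt p x → ∀ f, F.Mor (zpowers x) f →
      ∃ g, F.Mor S g ∧ g x = f x) : F.IsNormal S := by
  refine (hF.isNormal_top_iff hS).2 fun R hR => ?_
  obtain ⟨D, L, n, hD, hs, hI, h0, hn, anti, hL, hc, hf⟩ :=
    exists_small_chain (F := F) hS (hF.stronglyClosed_hyp hS) hR.le
  have := finite_of_le hR.le
  have hDI : ∀ i, InvA (F.autGroup R) (D ⊓ L i) := fun i =>
    ⟨inf_le_left.trans hI.le, fun α hα x hx => ⟨hI.mem hα hx.1, by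
      obtain ⟨g, hg, e⟩ := h x (hD hx.1).2 (hs x hx.1) _
        ((mor_totA hR.le hα).mono (zpowers_le.2 (hD hx.1).1))
      rw [← e]; exact hL i g hg x hx.2⟩⟩
  obtain ⟨s, hs', hsR⟩ := SetLike.exists_of_lt
    (lt_normalizerIn hS (hF.lt_of_isEssential hS hR))
  refine hsR ((hR.isRadical hS).mem_of_normal hR.isCentric
    (K := chainStab R (fun i => D ⊓ L i) n) ?_
    (fun l hl α hα => conj_mem_chainStab hα fun i _ => (hDI i).le_stabA hl) hs' ?_)
  · refine isPGroup_chainStab_inf (hS.to_le hR.le) (hDI 0) fun α hα hco h1 =>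
      hf α hα hco (fun x hx => mem_hyperfocal_of_coprime hR.le hα hco hx) fun x hx => ?_
    have := (mem_inf.1 (h1 x ⟨hx, h0 ▸ hR.le (hD hx).1⟩)).2
    rw [hn, mem_bot, inv_mul_eq_one] at this
    exact this.symm
  · refine mem_chainStab_of (hDI 0).le (fun i _ => inf_le_inf_left _ (anti i)) fun i _ x hx =>
      ⟨D.mul_mem (D.inv_mem hx.1) (hI.mem (F.cAut_mem_autGroup hR.le hs') hx.1), ?_⟩
    rw [totA_cAut hs'.2 (hD hx.1).1]
    exact hc i s hs'.1 x hx.2

/-- If `F`-fusion of small elements of the hyperfocal subgroup is inner then `F` is inner. -/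
theorem IsSaturated.eq_inner_of_small (hF : F.IsSaturated p) (hS : IsPGroup p S)
    (h : ∀ x ∈ F.hyperfocalSubgroup p, SmallElt p x → ∀ f, F.Mor (zpowers x) f →
      ∃ s ∈ S, f x = s * x * s⁻¹) : F = innerFusionSystem S := by
  have h1 := (hF.isNormal_top_iff hS).1 (hF.isNormal_top_of_small hS fun x hx hs f hf => by
    obtain ⟨s, hs, e⟩ := h x hx hs f hf
    exact ⟨_, F.mor_conj le_rfl hs, e.symm⟩)
  obtain ⟨D, L, n, hD, hs, hI, h0, hn, anti, hL, hc, hf⟩ :=
    exists_small_chain (F := F) hS (hF.stronglyClosed_hyp hS) le_rfl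
  have hp : IsPGroup p (F.autGroup S) := by
    refine GT.isPGroup_of_forall_coprime_eq_one fun α hα hco =>
      hf α hα hco (fun x hx => mem_hyperfocal_of_coprime le_rfl hα hco hx) fun x hx => ?_
    have h2 : α ∈ chainStab S (fun i => D ⊓ L i) n :=
      mem_chainStab_of (inf_le_left.trans hI.le) (fun i _ => inf_le_inf_left _ (anti i))
        fun i _ x hx => ⟨D.mul_mem (D.inv_mem hx.1) (hI.mem hα hx.1), by
          obtain ⟨s, hs, e⟩ := h x (hD hx.1).2 (hs x hx.1) _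
            ((mor_totA le_rfl hα).mono (zpowers_le.2 (hD hx.1).1))
          rw [e]; exact hc i s hs x hx.2⟩
    have h3 : InvA (zpowers α) (D ⊓ L 0) := by
      rw [h0, inf_eq_left.2 hI.le]; exact hI.anti (zpowers_le.2 hα)
    have := (mem_inf.1 (commA_le_of_le_chainStab hS (coprime_card_zpowers hco) h3 (zpowers_le.2 h2)
      (mem_commA (mem_zpowers α) ⟨hx, h0 ▸ hI.le hx⟩ (hI.le hx)))).2
    rw [hn, mem_bot, inv_mul_eq_one] at this
    exact this.symm
  refine le_antisymm' (le_iff_mor.2 fun P f hf => hF.mor_of_alperin hS (fun R g hR hg => ?_) hf)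
    (le_iff_mor.2 fun P f hf => ?_)
  · obtain rfl := hR.resolve_right (h1 R)
    obtain ⟨s, hs, e⟩ := mem_autInducedBy_iff_cAut.1 ((hF.fullyAutomized_top hS).le_of_isPGroup hS hp
      le_rfl (F.autInducedBy_le_autGroup le_rfl) hg.aut_mem)
    exact mor_inner_iff.2 ⟨le_rfl, s, hs.1, fun x hx => by
      rw [← hg.totA_aut hx, ← e, totA_cAut hs.2 hx]⟩
  · obtain ⟨hP, s, hs, e⟩ := mor_inner_iff.1 hf
    exact (F.mor_conj hP hs).congr fun x hx => (e x hx).symm

theorem card_zpowers_of_small {x : Ω} (hx : x ≠ 1) (hs : SmallElt p x) :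
    Nat.card (zpowers x) = p ∨ Nat.card (zpowers x) = 4 := by
  rw [Nat.card_zpowers]
  rcases hs with h | ⟨rfl, h⟩
  · exact Or.inl (orderOf_eq_prime h hx)
  · have h1 : orderOf x ∣ 2 ^ 2 := orderOf_dvd_of_pow_eq_one h
    obtain ⟨k, hk, e⟩ := (Nat.dvd_prime_pow Nat.prime_two).1 h1
    interval_cases k
    · exact absurd (orderOf_eq_one_iff.1 e) hx
    · exact Or.inl e
    · exact Or.inr e

/-- Restating hypotheses on `homSet`s of small cyclic subgroups. -/
theorem IsSaturated.hom_mem_of_small (hF : F.IsSaturated p) (hS : IsPGroup p S)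
    {M : ∀ A : Subgroup Ω, Set (A →* Ω)}
    (h : ∀ A B : Subgroup Ω, A ≤ F.hyperfocalSubgroup p → B ≤ F.hyperfocalSubgroup p →
      IsCyclic A → (Nat.card A = p ∨ Nat.card A = 4) → IsCyclic B →
      (Nat.card B = p ∨ Nat.card B = 4) → F.homSet A B ⊆ M A)
    {x : Ω} (hx : x ∈ F.hyperfocalSubgroup p) (h1 : x ≠ 1) (hs : SmallElt p x)
    (hf : F.Mor (zpowers x) f) : hf.mulOn.hom ∈ M (zpowers x) := by
  have hc := card_zpowers_of_small h1 hs
  refine h _ (zpowers (f x)) (zpowers_le.2 hx)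
    (zpowers_le.2 ((hF.stronglyClosed_hyp hS).mem hf (mem_zpowers x) hx)) inferInstance hc
    inferInstance ?_ ⟨hf.hom_mem, ?_⟩
  · rwa [Nat.card_zpowers, hf.orderOf_eq (mem_zpowers x), ← Nat.card_zpowers]
  · rintro ⟨_, n, rfl⟩
    exact ⟨n, (hf.map_zpow (mem_zpowers x) n).symm⟩

end Cfsg.FusionSystem
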