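import Mathlib
import Cfsg.Agent.Fus.SimpleQuot
import Cfsg.Agent.Cl.LinearParabCore

/-!
Groups of matrices in defining characteristic: the unitriangular elements form a Sylow subgroup
whose normalizer is triangular, as soon as every superdiagonal entry is realized.
-/

set_option autoImplicit false

namespace Cfsg.Agent.Fus.LF

open Matrix Subgroup Cl SC

variable {G : Type*} [Group G] {F : Type*} [Field F] {n : ℕ} (φ : G →* GL (Fin n) F)
  {α : Type*} [LinearOrder α]

/-- The matrix of `g`. -/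
abbrev mx (g : G) : Matrix (Fin n) (Fin n) F := (φ g : GL (Fin n) F)

/-- Block unitriangular elements. -/
def uG (b : Fin n → α) : Subgroup G := (unipRad F b).comap φ

/-- Block triangular elements. -/
def pG (b : Fin n → α) : Subgroup G := (parab F b).comap φ

variable {φ} {b : Fin n → α} {g h : G}

theorem mem_uG : g ∈ uG φ b ↔ ∀ i j, b j ≤ b i → mx φ g i j = (1 : Matrix _ _ F) i j :=
  mem_unipRad

theorem mem_pG : g ∈ pG φ b ↔ ∀ i j, b j < b i → mx φ g i j = 0 := mem_parab

theorem mx_mul (g h : G) : mx φ (g * h) = mx φ g * mx φ h := by simp [mx]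

theorem mx_one : mx φ 1 = 1 := by simp [mx]

theorem mx_mul_mulVec (g h : G) (x : Fin n → F) :
    mx φ (g * h) *ᵥ x = mx φ g *ᵥ (mx φ h *ᵥ x) := by rw [mx_mul, mulVec_mulVec]

theorem mx_inv_mulVec (g : G) (x : Fin n → F) : mx φ g⁻¹ *ᵥ (mx φ g *ᵥ x) = x := by
  rw [← mx_mul_mulVec, inv_mul_cancel, mx_one, one_mulVec]

theorem mx_mulVec_inv (g : G) (x : Fin n → F) : mx φ g *ᵥ (mx φ g⁻¹ *ᵥ x) = x := by
  rw [← mx_mul_mulVec, mul_inv_cancel, mx_one, one_mulVec]

theorem mx_inv_of_eq {x y : Fin n → F} (h : mx φ g *ᵥ x = y) : mx φ g⁻¹ *ᵥ y = x := by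
  rw [← h, mx_inv_mulVec]

theorem mx_apply (g : G) (i j : Fin n) : mx φ g i j = (mx φ g *ᵥ Pi.single j 1) i := by
  simp

theorem mx_ext (inj : Function.Injective φ) (e : ∀ x, mx φ g *ᵥ x = mx φ h *ᵥ x) : g = h :=
  inj (Units.ext (Matrix.ext fun i j => by
    have := congrFun (e (Pi.single j 1)) i
    simpa using this))

theorem uG_le_pG : uG φ b ≤ pG φ b := comap_mono (unipRad_le_parab b)

theorem pG_le_normalizer : pG φ b ≤ normalizer (uG φ b : Set G) := fun g hg => by
  have := parab_le_normalizer_unipRad (F := F) b hg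
  rw [mem_set_normalizer_iff] at this ⊢
  intro x
  simpa [uG] using this (φ x)

theorem uG_le_uG_id (hb : Monotone b) : uG φ b ≤ uG φ id :=
  comap_mono (unipRad_mono fun _ _ h => hb.reflect_lt h)

theorem pG_id_le_pG (hb : Monotone b) : pG φ id ≤ pG φ b :=
  comap_mono (parab_anti fun _ _ h => hb.reflect_lt h)

theorem diag_mul (hg : g ∈ pG φ id) (hh : h ∈ pG φ id) (i : Fin n) :
    mx φ (g * h) i i = mx φ g i i * mx φ h i i := by
  rw [mx_mul, mul_apply, Finset.sum_eq_single i]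
  · intro j _ hj
    rcases lt_or_gt_of_ne hj with h1 | h1
    · rw [mem_pG.1 hg i j h1, zero_mul]
    · rw [mem_pG.1 hh j i h1, mul_zero]
  · simp

theorem diag_inv (hg : g ∈ pG φ id) (i : Fin n) : mx φ g⁻¹ i i * mx φ g i i = 1 := by
  rw [← diag_mul (inv_mem hg) hg, inv_mul_cancel, mx_one, one_apply_eq]

theorem diag_ne_zero (hg : g ∈ pG φ id) (i : Fin n) : mx φ g i i ≠ 0 :=
  right_ne_zero_of_mul_eq_one (diag_inv hg i)

theorem diag_pow (hg : g ∈ pG φ id) (i : Fin n) (k : ℕ) :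
    mx φ (g ^ k) i i = mx φ g i i ^ k := by
  induction k with
  | zero => simp [mx]
  | succ k ih => rw [pow_succ, diag_mul (pow_mem hg k) hg, ih, pow_succ]

theorem diag_of_mem_uG (hg : g ∈ uG φ id) (i : Fin n) : mx φ g i i = 1 := by
  rw [mem_uG.1 hg i i le_rfl, one_apply_eq]

theorem mem_uG_of_diag (hg : g ∈ pG φ id) (hd : ∀ i, mx φ g i i = 1) : g ∈ uG φ id :=
  mem_uG.2 fun i j hij => by
    rcases eq_or_lt_of_le hij with h1 | h1
    · obtain rfl : j = i := h1
      rw [hd, one_apply_eq]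
    · rw [mem_pG.1 hg i j h1, one_apply_ne (ne_of_gt (show j < i from h1))]

theorem det_of_mem_pG (hg : g ∈ pG φ id) : (mx φ g).det = ∏ i, mx φ g i i :=
  det_of_isUpperTriangular (mem_parab_iff_blockTriangular.1 hg)

/-- Every superdiagonal entry is realized. -/
def Full (φ : G →* GL (Fin n) F) : Prop :=
  ∀ i j : Fin n, i.val + 1 = j.val → ∃ s ∈ uG φ id, mx φ s i j ≠ 0

theorem low_of_mem_uG (hg : g ∈ uG φ id) {k : ℕ} {v : Fin n → F}
    (hv : ∀ i : Fin n, k + 1 ≤ i.val → v i = 0) (i : Fin n) (hi : k ≤ i.val) :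
    (mx φ g *ᵥ v) i = v i := by
  rw [mulVec, dotProduct, Finset.sum_eq_single i]
  · rw [diag_of_mem_uG hg, one_mul]
  · intro j _ hj
    rcases lt_or_gt_of_ne hj with h1 | h1
    · rw [mem_pG.1 (uG_le_pG hg) i j h1, zero_mul]
    · rw [hv j (by have : i.val < j.val := h1; omega), mul_zero]
  · simp

theorem Full.low (H : Full φ) {k : ℕ} {w : Fin n → F}
    (hw : ∀ s ∈ uG φ id, ∀ i : Fin n, k ≤ i.val → (mx φ s *ᵥ w) i = w i) (i : Fin n)
    (hi : k + 1 ≤ i.val) : w i = 0 := by
  classical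
  by_contra h0
  obtain ⟨m, hm, hmax⟩ := Finset.exists_max_image (Finset.univ.filter fun i => w i ≠ 0) id
    ⟨i, by simpa using h0⟩
  simp only [ne_eq, Finset.mem_filter, Finset.mem_univ, true_and, id] at hm hmax
  have him : i.val ≤ m.val := hmax i h0
  obtain ⟨s, hs, hs0⟩ := H ⟨m.val - 1, by omega⟩ m (by simp only; omega)
  have h1 := hw s hs ⟨m.val - 1, by omega⟩ (by simp only; omega)
  rw [mulVec, dotProduct, Finset.sum_eq_add (⟨m.val - 1, by omega⟩ : Fin n) m
    (by rw [Ne, Fin.ext_iff]; simp only; omega), diag_of_mem_uG hs, one_mul] at h1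
  · exact mul_ne_zero hs0 hm (by linear_combination h1)
  · intro j _ ⟨hj1, hj2⟩
    rw [Ne, Fin.ext_iff] at hj1 hj2
    simp only at hj1
    rcases lt_or_ge j.val m.val with h2 | h2
    · rw [mem_pG.1 (uG_le_pG hs) ⟨m.val - 1, by omega⟩ j (show j.val < m.val - 1 by omega),
        zero_mul]
    · have : w j = 0 := by
        by_contra h3
        have : j.val ≤ m.val := hmax j h3
        omega
      rw [this, mul_zero]
  all_goals simp

theorem Full.normalizer_le (H : Full φ) : normalizer (uG φ id : Set G) ≤ pG φ id := by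
  have key : ∀ k : ℕ, ∀ g ∈ normalizer (uG φ id : Set G), ∀ v : Fin n → F,
      (∀ i : Fin n, k ≤ i.val → v i = 0) → ∀ i : Fin n, k ≤ i.val → (mx φ g *ᵥ v) i = 0 := by
    intro k
    induction k with
    | zero =>
      intro g _ v hv i _
      rw [show v = 0 from funext fun i => hv i (Nat.zero_le _), mulVec_zero, Pi.zero_apply]
    | succ k ih =>
      intro g hg v hv
      refine H.low fun s hs i hi => ?_
      have hs' : g⁻¹ * s * g ∈ uG φ id := by
        refine (mem_set_normalizer_iff.1 hg (g⁻¹ * s * g)).2 ?_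
        simpa [mul_assoc] using hs
      have := ih g hg (mx φ (g⁻¹ * s * g) *ᵥ v - v)
        (fun i hi => by rw [Pi.sub_apply, low_of_mem_uG hs' hv i hi, sub_self]) i hi
      rw [mulVec_sub, ← mx_mul_mulVec, ← mul_assoc, ← mul_assoc, mul_inv_cancel, one_mul,
        mx_mul_mulVec, Pi.sub_apply] at this
      exact sub_eq_zero.1 this
  intro g hg
  refine mem_pG.2 fun i j hij => ?_
  rw [mx_apply]
  refine key (j.val + 1) g hg _ (fun l hl => Pi.single_eq_of_ne ?_ _) i hij
  rintro rfl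
  omega

variable {p : ℕ} [Fact p.Prime] [CharP F p]

theorem mem_uG_of_pow (hg : g ∈ pG φ id) {k : ℕ} (hk : g ^ p ^ k = 1) : g ∈ uG φ id :=
  mem_uG_of_diag hg fun i => by
    have := diag_pow hg i (p ^ k)
    rw [hk, mx_one, one_apply_eq] at this
    have h2 : (mx φ g i i - 1) ^ p ^ k = 0 := by rw [sub_pow_char_pow, ← this, one_pow, sub_self]
    exact sub_eq_zero.1 (pow_eq_zero_iff (pow_ne_zero _ (Fact.out : p.Prime).ne_zero) |>.1 h2)

theorem mem_pGen_of_nilpotent (inj : Function.Injective φ) (hg : g ∈ pG φ b)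
    (hn : IsNilpotent (mx φ g - 1)) : g ∈ pGen p (uG φ b) := by
  obtain ⟨k, hk⟩ := (gl_exists_pow_eq_one_iff p (φ g)).2 hn
  exact mem_pGen (pG_le_normalizer hg) (k := k) (inj (by rw [map_pow, hk, map_one]))

variable [Finite F]

theorem isPGroup_uG (inj : Function.Injective φ) : IsPGroup p (uG φ b) :=
  (isPGroup_unipRad p b).comap_of_injective φ inj

theorem uG_le_pGen (inj : Function.Injective φ) (hb : Monotone b) :
    uG φ id ≤ pGen p (uG φ b) := fun g hg => by
  obtain ⟨k, hk⟩ := isPGroup_uG (p := p) inj ⟨g, hg⟩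
  exact mem_pGen (pG_le_normalizer (pG_id_le_pG hb (uG_le_pG hg))) (k := k)
    (congrArg Subtype.val hk)

theorem Full.not_dvd_index [Finite G] (H : Full φ) (inj : Function.Injective φ) :
    ¬ p ∣ (uG φ id).index := by
  obtain ⟨P, hP⟩ := (isPGroup_uG (p := p) (b := id) inj).exists_le_sylow
  suffices h : uG φ id = P by
    rw [h]
    exact P.not_dvd_index
  refine le_antisymm hP ?_
  have := P.isPGroup'.isNilpotent
  rw [← subgroupOf_eq_top]
  refine (normalizerCondition_iff_only_full_group_self_normalizing.1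
    Group.normalizerCondition_of_isNilpotent) _ (le_antisymm (fun x hx => ?_) le_normalizer)
  rw [← subgroupOf_normalizer_eq hP] at hx
  obtain ⟨k, hk⟩ := P.isPGroup' x
  exact mem_uG_of_pow (H.normalizer_le hx) (k := k) (congrArg Subtype.val hk)

omit [Fact p.Prime] [CharP F p] [Finite F] in
theorem mem_locGen_of (hb : Monotone b)
    (hc : ∀ g ∈ uG φ id, (∀ r ∈ uG φ b, r * g = g * r) → g ∈ uG φ b)
    (hg : g ∈ pG φ id) (h2 : g ∈ pGen p (uG φ b)) : g ∈ locGen p (uG φ id) :=
  mem_locGen (pG_le_normalizer hg) (uG_le_uG_id hb)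
    (uG_le_pG.trans ((pG_id_le_pG hb).trans pG_le_normalizer))
    (fun x hx => hc x hx.1 (mem_centralizer_iff.1 hx.2)) h2

omit [Fact p.Prime] [CharP F p] [Finite F] in
theorem pG_le_of_steps {D : Subgroup G} {k : ℕ}
    (step : ∀ j : Fin n, j.val < k → ∀ a : F, a ≠ 0 → ∃ l ∈ D, l ∈ pG φ id ∧
      (∀ i, i < j → mx φ l i i = 1) ∧ mx φ l j j = a)
    (base : ∀ g ∈ pG φ id, (∀ i : Fin n, i.val < k → mx φ g i i = 1) → g ∈ D) :
    pG φ id ≤ D := by
  have key : ∀ d j : ℕ, j + d = k → ∀ g ∈ pG φ id,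
      (∀ i : Fin n, i.val < j → mx φ g i i = 1) → g ∈ D := by
    intro d
    induction d with
    | zero => intro j hj; obtain rfl : j = k := hj; exact base
    | succ d ih =>
      intro j hj g hg h1
      by_cases hn : j < n
      · obtain ⟨l, hlD, hl, hl1, hl2⟩ := step ⟨j, hn⟩ (by simp only; omega) _
          (diag_ne_zero hg ⟨j, hn⟩)
        have := ih (j + 1) (by omega) (l⁻¹ * g) (mul_mem (inv_mem hl) hg) fun i hi => by
          rw [diag_mul (inv_mem hl) hg, ← diag_inv hl i]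
          rcases eq_or_lt_of_le (Nat.lt_succ_iff.1 hi) with h2 | h2
          · obtain rfl : i = ⟨j, hn⟩ := Fin.ext h2
            rw [hl2]
          · rw [h1 i h2, hl1 i h2]
        simpa using mul_mem hlD this
      · exact ih (j + 1) (by omega) g hg fun i _ => h1 i (by omega)
  exact fun g hg => key k 0 (zero_add k) g hg fun i hi => absurd hi (Nat.not_lt_zero _)

theorem Full.good [Finite G] (H : Full φ) (inj : Function.Injective φ) (hn : 2 ≤ n)
    (sc : ∀ z ∈ uG φ id, z ≠ 1 → (∀ s ∈ uG φ id, s * z = z * s) →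
      ∀ T, IsStronglyClosed T (uG φ id) → z ∈ T → uG φ id ≤ T)
    (aut : pG φ id ≤ locGen p (uG φ id)) : Good p (uG φ id) where
  isP := isPGroup_uG inj
  idx := H.not_dvd_index inj
  ne h := by
    obtain ⟨s, hs, h0⟩ := H ⟨0, by omega⟩ ⟨1, by omega⟩ rfl
    rw [h, mem_bot] at hs
    rw [hs, mx_one, one_apply_ne (by simp)] at h0
    exact h0 rfl
  sc := sc_of_center (isPGroup_uG inj) fun z hz h1 _ h2 => sc z hz h1 h2
  aut g hg := ⟨g, aut (H.normalizer_le hg), fun _ _ => rfl⟩

end Cfsg.Agent.Fus.LF
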