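import Mathlib
import Cfsg.Agent.Fus.LieFlag
import Cfsg.Agent.Cl.LinearTransv

/-! The fusion system of `SL_n(q)`, `n ≥ 3`, in defining characteristic. -/

set_option autoImplicit false

namespace Cfsg.Agent.Fus.LF

open Matrix Subgroup Cl SC

variable {F : Type*} [Field F] {n : ℕ} {α : Type*} [LinearOrder α]

/-- The inclusion of `SL` in `GL`. -/
abbrev slφ (n : ℕ) (F : Type*) [Field F] : SpecialLinearGroup (Fin n) F →* GL (Fin n) F :=
  SpecialLinearGroup.toGL

theorem mx_sl (g : SpecialLinearGroup (Fin n) F) : mx (slφ n F) g = (g : Matrix _ _ F) := rfl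

theorem slφ_transvection {i j : Fin n} (h : i ≠ j) (c : F) :
    slφ n F (SpecialLinearGroup.transvection h c) = tGL h c := rfl

theorem sl_full : Full (slφ n F) := fun i j hij => by
  have h : i < j := by rw [Fin.lt_def]; omega
  refine ⟨SpecialLinearGroup.transvection h.ne 1, tGL_mem_unipRad (b := id) h.ne h 1, ?_⟩
  change (tGL h.ne (1 : F) : Matrix _ _ F) i j ≠ 0
  simp [coe_tGL, h.ne]

theorem sl_cent {b : Fin n → α} {i₀ j₀ : Fin n} (h₀ : b i₀ < b j₀) :
    ∀ g ∈ uG (slφ n F) id, (∀ r ∈ uG (slφ n F) b, r * g = g * r) → g ∈ uG (slφ n F) b := by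
  intro g hg hc
  obtain ⟨c, -, h⟩ := exists_scalar_of_centralizes h₀ (g := slφ n F g) fun i j hij hb => by
    rw [← slφ_transvection, ← map_mul, ← map_mul, hc _ (tGL_mem_unipRad hij hb 1)]
  have h1 : c = 1 := by
    have := h i₀ i₀ le_rfl
    rw [one_apply_eq, mul_one] at this
    exact this.symm.trans (diag_of_mem_uG hg i₀)
  exact mem_uG.2 fun k l hkl => by rw [mx, h k l hkl, h1, one_mul]

theorem sl_le_of_tv {T : Subgroup (SpecialLinearGroup (Fin n) F)}
    (hT : ∀ a φ : Fin n → F, a ≠ 0 → φ ≠ 0 → φ ⬝ᵥ a = 0 → tv a φ ∈ uG (slφ n F) id → tv a φ ∈ T) :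
    uG (slφ n F) id ≤ T := by
  have key : ∀ k : ℕ, ∀ g ∈ uG (slφ n F) id, (∀ j : Fin n, k ≤ j.val →
      mx (slφ n F) g *ᵥ Pi.single j 1 = Pi.single j 1) → g ∈ T := by
    intro k
    induction k with
    | zero =>
      intro g _ h
      have : g = 1 := sl_ext (Matrix.ext fun i j => by
        have := congrFun (h j (Nat.zero_le _)) i
        rw [← mx_apply, mx_sl] at this
        rw [this, Pi.single_apply]
        rfl)
      rw [this]
      exact one_mem T
    | succ k ih =>
      intro g hg h
      by_cases hk : k < n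
      swap
      · exact ih g hg fun j _ => h j (by omega)
      set l : Fin n := ⟨k, hk⟩
      set a : Fin n → F := mx (slφ n F) g *ᵥ Pi.single l 1 - Pi.single l 1 with ha
      have ha0 : ∀ i, l ≤ i → a i = 0 := fun i hi => by
        rw [ha, Pi.sub_apply, ← mx_apply, mem_uG.1 hg i l hi, one_apply, Pi.single_apply, sub_self]
      have hd : Pi.single l 1 ⬝ᵥ a = 0 := by simp [ha0 l le_rfl]
      have ht : tv a (Pi.single l 1) ∈ uG (slφ n F) id := mem_uG.2 fun i j hij => by
        rw [mx_sl, coe_tv hd, Matrix.add_apply, vecMulVec_apply, add_eq_left]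
        by_cases hj : j = l
        · rw [ha0 i (hj ▸ hij), zero_mul]
        · rw [Pi.single_eq_of_ne hj, mul_zero]
      have htT : tv a (Pi.single l 1) ∈ T := by
        by_cases h0 : a = 0
        · rw [(tv_eq_one_iff hd).2 (Or.inl h0)]
          exact one_mem T
        · exact hT _ _ h0 (by simp) hd ht
      have := ih ((tv a (Pi.single l 1))⁻¹ * g) (mul_mem (inv_mem ht) hg) fun j hj => by
        rw [mx_mul_mulVec]
        refine mx_inv_of_eq ?_
        rw [mx_sl, tv_mulVec hd]
        rcases eq_or_lt_of_le hj with h1 | h1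
        · obtain rfl : l = j := Fin.ext h1
          simp [ha]
        · have : j ≠ l := fun e => by rw [e] at h1; exact lt_irrefl _ h1
          rw [h j h1]
          simp [this]
      simpa using mul_mem htT this
  exact fun g hg => key n g hg fun j hj => absurd j.2 (by omega)

theorem sl_sc (hn : 3 ≤ n) : ∀ z ∈ uG (slφ n F) id, z ≠ 1 →
    (∀ s ∈ uG (slφ n F) id, s * z = z * s) →
      ∀ T, IsStronglyClosed T (uG (slφ n F) id) → z ∈ T → uG (slφ n F) id ≤ T := by
  intro z hz h1 hc T hT hzT
  set i₀ : Fin n := ⟨0, by omega⟩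
  set j₀ : Fin n := ⟨n - 1, by omega⟩
  have h₀ : i₀ ≠ j₀ := by rw [Ne, Fin.ext_iff]; simp only [i₀, j₀]; omega
  have hcomm : ∀ (i j : Fin n) (h : i < j), _ := fun i j h =>
    (commute_tGL_iff h.ne (one_ne_zero (α := F)) (g := slφ n F z)).1 (by
      rw [← slφ_transvection, ← map_mul, ← map_mul, hc _ (tGL_mem_unipRad (b := id) h.ne h 1)])
  set c := mx (slφ n F) z i₀ j₀
  have hz' : z = SpecialLinearGroup.transvection h₀ c := sl_ext (Matrix.ext fun i j => by
    change mx (slφ n F) z i j = (1 + single i₀ j₀ c : Matrix _ _ F) i j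
    by_cases hij : i = j
    · subst hij
      rw [diag_of_mem_uG hz, Matrix.add_apply, one_apply_eq, single_apply_of_ne, add_zero]
      rintro ⟨rfl, h⟩
      exact h₀ h.symm
    rw [Matrix.add_apply, one_apply_ne hij, zero_add]
    by_cases hj : j = j₀
    · by_cases hi : i = i₀
      · rw [hi, hj, single_apply_same]
      · rw [single_apply_of_ne _ _ _ _ _ fun h => hi h.1.symm]
        refine (hcomm i₀ i ?_).2.1 j (Ne.symm hij)
        rw [Fin.ext_iff] at hi
        rw [Fin.lt_def]
        simp only [i₀] at hi ⊢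
        omega
    · rw [single_apply_of_ne _ _ _ _ _ fun h => hj h.2.symm]
      refine (hcomm j j₀ ?_).1 i hij
      rw [Fin.ext_iff] at hj
      rw [Fin.lt_def]
      simp only [j₀] at hj ⊢
      omega)
  have hc0 : c ≠ 0 := fun e => h1 (by
    rw [hz', e]
    exact sl_ext (by simp [SpecialLinearGroup.transvection, Matrix.transvection]))
  refine sl_le_of_tv fun a φ ha hφ hd hS => ?_
  obtain ⟨g, hg⟩ := exists_conj_transvection_eq_tv (a := c⁻¹ • a) (φ := φ) (by simpa using hn)
    (by simp [hd]) (by simp [hc0, ha]) hφ h₀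
  have := hg c
  rw [smul_inv_smul₀ hc0, ← hz'] at this
  rw [← this] at hS ⊢
  exact hT.2 z hzT g hS

variable {p : ℕ} [Fact p.Prime] [CharP F p] [Finite F]

omit [Finite F] in
theorem sl_diag_mem_pGen {b : Fin n → α} {i j : Fin n} (h : i ≠ j) (hb : b i = b j) {a : F}
    (ha : a ≠ 0) : SpecialLinearGroup.diag2n h a ha ∈ pGen p (uG (slφ n F) b) := by
  have key : ∀ {i j : Fin n} (h : i ≠ j), b i = b j → ∀ c : F,
      SpecialLinearGroup.transvection h c ∈ pGen p (uG (slφ n F) b) := fun h hb c =>
    mem_pGen_of_nilpotent SpecialLinearGroup.toGL_injective (tGL_mem_parab h hb.le c) ⟨2, by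
      change (((tGL h c : GL (Fin n) F) : Matrix (Fin n) (Fin n) F) - 1) ^ 2 = 0
      rw [coe_tGL, add_sub_cancel_left, sq, single_mul_single_of_ne _ _ _ _ h.symm]⟩
  rw [lin_diag2n_decompose]
  exact mul_mem (mul_mem (mul_mem (mul_mem (mul_mem (key h hb _) (key h.symm hb.symm _))
    (key h hb _)) (key h hb _)) (key h.symm hb.symm _)) (key h hb _)

theorem sl_aut (hn : 3 ≤ n) : pG (slφ n F) id ≤ locGen p (uG (slφ n F) id) := by
  refine pG_le_of_steps (k := n - 1) (fun j hj a ha => ?_) fun g hg h => ?_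
  · set k : Fin n := ⟨j.val + 1, by omega⟩
    have hjk : j ≠ k := by rw [Ne, Fin.ext_iff]; simp [k]
    have hl : SpecialLinearGroup.diag2n hjk a ha ∈ pG (slφ n F) id := mem_pG.2 fun r s hrs => by
      rw [mx_sl]
      exact diagonal_apply_ne _ (ne_of_gt (show s < r from hrs))
    refine ⟨_, ?_, hl, fun i hi => ?_, ?_⟩
    · obtain ⟨t, ht, ht1, ht2⟩ : ∃ t, 0 < t ∧ t < n ∧ t ≠ j.val + 1 := by
        by_cases h : j.val = 0
        · exact ⟨2, by omega, by omega, by omega⟩
        · exact ⟨1, by omega, by omega, by omega⟩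
      refine mem_locGen_of (b := fun i => decide (t ≤ i.val)) ?_
        (sl_cent (i₀ := ⟨0, by omega⟩) (j₀ := ⟨t, ht1⟩) ?_) hl (sl_diag_mem_pGen hjk ?_ ha)
      · intro x y hxy
        have : x.val ≤ y.val := hxy
        simp only [Bool.le_iff_imp, decide_eq_true_eq]
        omega
      · simp only [le_refl, decide_true, Bool.lt_iff, decide_eq_false_iff_not, and_true]
        omega
      · simp only [k, decide_eq_decide]
        omega
    · have h2 : i ≠ k := by
        rw [Ne, Fin.ext_iff]
        have : i.val < j.val := hi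
        simp only [k]
        omega
      rw [mx_sl, SpecialLinearGroup.diag2n_coe]
      simp [hi.ne, h2]
    · rw [mx_sl, SpecialLinearGroup.diag2n_coe]
      simp
  · refine le_locGen (isPGroup_uG SpecialLinearGroup.toGL_injective) (mem_uG_of_diag hg fun i => ?_)
    by_cases hi : i.val < n - 1
    · exact h i hi
    have := det_of_mem_pG hg
    rw [mx_sl, g.2, Finset.prod_eq_single i] at this
    · exact this.symm
    · intro j _ hj
      rw [Ne, Fin.ext_iff] at hj
      exact h j (by omega)
    · simp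

theorem sl_good (hn : 3 ≤ n) : Good p (uG (slφ n F) id) :=
  sl_full.good SpecialLinearGroup.toGL_injective (by omega) (sl_sc hn) (sl_aut hn)

end Cfsg.Agent.Fus.LF
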