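import Mathlib
import Cfsg.Agent.Cl.PSL2Finite

/-!
# Frames in matrix rings and projective representatives

A frame is a pair `A`, `B` of rectangular matrices with `B * A = 1`; it embeds small matrices
into large ones.  `Lf t X` says that the matrix `X` represents `t ∈ PSL` up to a scalar.
-/

set_option autoImplicit false

namespace Cfsg.Agent.Fus.Ln

open Matrix Cfsg.Agent.Cl.L2

variable {F : Type*} [Field F] {ι κ κ' : Type*} [Fintype ι] [DecidableEq ι] [Fintype κ]
  [DecidableEq κ] [Fintype κ'] [DecidableEq κ']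

section Frame

variable {A : Matrix ι κ F} {B : Matrix κ ι F} {A' : Matrix ι κ' F} {B' : Matrix κ' ι F}

/-- The embedding along a frame. -/
def fe (A : Matrix ι κ F) (B : Matrix κ ι F) (X : Matrix κ κ F) : Matrix ι ι F :=
  1 - A * B + A * X * B

theorem fe_mul_A (h : B * A = 1) (X : Matrix κ κ F) : fe A B X * A = A * X := by
  simp [fe, Matrix.add_mul, Matrix.sub_mul, Matrix.mul_assoc, h]

theorem B_mul_fe (h : B * A = 1) (X : Matrix κ κ F) : B * fe A B X = X * B := by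
  simp [fe, Matrix.mul_add, Matrix.mul_sub, ← Matrix.mul_assoc, h]

theorem B_fe_A (h : B * A = 1) (X : Matrix κ κ F) : B * fe A B X * A = X := by
  rw [B_mul_fe h, Matrix.mul_assoc, h, Matrix.mul_one]

theorem fe_mul_compl (h : B * A = 1) (X : Matrix κ κ F) :
    fe A B X * (1 - A * B) = 1 - A * B := by
  rw [mul_sub, ← Matrix.mul_assoc, fe_mul_A h, mul_one, fe, add_sub_cancel_right]

theorem compl_mul_fe (h : B * A = 1) (X : Matrix κ κ F) :
    (1 - A * B) * fe A B X = 1 - A * B := by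
  rw [sub_mul, Matrix.mul_assoc, B_mul_fe h, one_mul, fe, Matrix.mul_assoc, add_sub_cancel_right]

theorem fe_mul (h : B * A = 1) (X Y : Matrix κ κ F) : fe A B X * fe A B Y = fe A B (X * Y) := by
  conv_lhs => rw [fe, add_mul, compl_mul_fe h, Matrix.mul_assoc, B_mul_fe h]
  simp [fe, Matrix.mul_assoc]

theorem fe_one : fe A B 1 = 1 := by simp [fe]

theorem fe_neg_one : fe A B (-1) = 1 - (2 : F) • (A * B) := by
  simp [fe, two_smul, sub_eq_add_neg, add_assoc]

theorem det_fe (h : B * A = 1) (X : Matrix κ κ F) : (fe A B X).det = X.det := by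
  have : fe A B X = 1 + A * ((X - 1) * B) := by
    simp [fe, Matrix.mul_sub, Matrix.sub_mul, Matrix.mul_assoc]; abel
  rw [this, det_one_add_mul_comm, Matrix.mul_assoc, h]
  simp

theorem fe_comm_proj (h : B * A = 1) (X : Matrix κ κ F) :
    fe A B X * (A * B) = A * B * fe A B X := by
  rw [← Matrix.mul_assoc, fe_mul_A h, Matrix.mul_assoc A B, B_mul_fe h, Matrix.mul_assoc]

theorem fe_change (h : B * A = 1) (h' : B' * A' = 1) (e : A * B = A' * B') (X : Matrix κ κ F) :
    fe A B X = fe A' B' (B' * A * X * (B * A')) := by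
  have h1 : A' * (B' * A) = A := by rw [← Matrix.mul_assoc, ← e, Matrix.mul_assoc, h, Matrix.mul_one]
  have h2 : B * A' * B' = B := by rw [Matrix.mul_assoc, ← e, ← Matrix.mul_assoc, h, Matrix.one_mul]
  rw [fe, fe, e]
  congr 1
  calc A * X * B = A' * (B' * A) * X * (B * A' * B') := by rw [h1, h2]
    _ = _ := by simp only [Matrix.mul_assoc]

theorem fe_conj {P P' : Matrix ι ι F} (hP : P * P' = 1) (X : Matrix κ κ F) :
    P * fe A B X * P' = fe (P * A) (B * P') X := by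
  simp [fe, Matrix.mul_add, Matrix.add_mul, Matrix.mul_sub, Matrix.sub_mul, Matrix.mul_assoc, hP]

theorem fe_mul_of_orth (h : B * A' = 0) (X : Matrix κ κ F) : fe A B X * A' = A' := by
  simp [fe, Matrix.add_mul, Matrix.sub_mul, Matrix.mul_assoc, h]

theorem mul_fe_of_orth (h : B' * A = 0) (X : Matrix κ κ F) : B' * fe A B X = B' := by
  simp [fe, Matrix.mul_add, Matrix.mul_sub, ← Matrix.mul_assoc, h]

theorem comm_fe {P : Matrix ι ι F} {Y : Matrix κ κ F} (h1 : P * A = A * Y) (h2 : B * P = Y * B)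
    {X : Matrix κ κ F} (h : Y * X = X * Y) : P * fe A B X = fe A B X * P := by
  simp only [fe, Matrix.mul_add, Matrix.add_mul, Matrix.mul_sub, Matrix.sub_mul, Matrix.mul_one,
    Matrix.one_mul, Matrix.mul_assoc, h2]
  simp only [← Matrix.mul_assoc, h1]
  rw [Matrix.mul_assoc A Y X, h, ← Matrix.mul_assoc]

theorem fe_comm_of_orth (h : B * A' = 0) (h' : B' * A = 0) (X : Matrix κ κ F)
    (Y : Matrix κ' κ' F) : fe A B X * fe A' B' Y = fe A' B' Y * fe A B X :=
  comm_fe (Y := 1) (by rw [fe_mul_of_orth h, Matrix.mul_one])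
    (by rw [mul_fe_of_orth h', Matrix.one_mul]) (by simp)

omit [DecidableEq ι] in
theorem card_le_of_frame (h : B * A = 1) : Fintype.card κ ≤ Fintype.card ι := by
  rw [← rank_one (R := F), ← h]
  exact (rank_mul_le_left _ _).trans (rank_le_card_width _)

theorem card_eq_add (h : B * A = 1) (h' : B' * A' = 1) (e : A * B + A' * B' = 1) :
    Fintype.card ι = Fintype.card κ + Fintype.card κ' := by
  have h1 : B * A' = 0 := by
    have := congrArg (fun M => B * M * A') e
    simpa [Matrix.mul_add, Matrix.add_mul, Matrix.mul_assoc, h', ← Matrix.mul_assoc B A, h]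
      using this
  have h2 : B' * A = 0 := by
    have := congrArg (fun M => B' * M * A) e
    simpa [Matrix.mul_add, Matrix.add_mul, Matrix.mul_assoc, h, ← Matrix.mul_assoc B' A', h']
      using this
  rw [← Fintype.card_sum]
  refine le_antisymm (card_le_of_frame (F := F) (B := fromCols A A') (A := fromRows B B') ?_)
    (card_le_of_frame (F := F) (A := fromCols A A') (B := fromRows B B') ?_)
  · rw [fromCols_mul_fromRows, e]
  · rw [fromRows_mul_fromCols, h, h', h1, h2, fromBlocks_one]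

theorem compl_ne_zero (hc : Fintype.card κ < Fintype.card ι) : (1 : Matrix ι ι F) - A * B ≠ 0 :=
  fun e => hc.not_ge (card_le_of_frame (sub_eq_zero.1 e).symm)

/-- Rank factorisation of an idempotent matrix. -/
theorem exists_frame_of_idem {f : Matrix ι ι F} (hf : f * f = f) :
    ∃ (r : ℕ) (A : Matrix ι (Fin r) F) (B : Matrix (Fin r) ι F), B * A = 1 ∧ A * B = f := by
  let W := LinearMap.range (toLin' f)
  let b := Module.finBasis F W
  refine ⟨_, LinearMap.toMatrix' (W.subtype ∘ₗ b.equivFun.symm.toLinearMap),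
    LinearMap.toMatrix' (b.equivFun.toLinearMap ∘ₗ (toLin' f).rangeRestrict), ?_, ?_⟩
  · rw [← LinearMap.toMatrix'_comp, ← LinearMap.toMatrix'_id]
    congr 1
    refine LinearMap.ext fun x => ?_
    obtain ⟨⟨_, y, rfl⟩, rfl⟩ := b.equivFun.surjective x
    simp only [LinearMap.comp_apply, LinearEquiv.coe_coe, LinearEquiv.symm_apply_apply,
      LinearMap.id_apply]
    congr 1
    refine Subtype.ext ?_
    simp [hf]
  · rw [← LinearMap.toMatrix'_comp]
    refine Eq.trans (congrArg _ ?_) (LinearMap.toMatrix'_toLin' f)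
    refine LinearMap.ext fun x => ?_
    simp

theorem exists_vec_of_not_scalar {a : Matrix κ κ F} (h : ¬ ∃ d : F, a = d • (1 : Matrix κ κ F)) :
    ∃ w ξ : κ → F, ξ ⬝ᵥ w = 0 ∧ ξ ⬝ᵥ (a *ᵥ w) = 1 := by
  by_cases h1 : ∃ i j, i ≠ j ∧ a i j ≠ 0
  · obtain ⟨i, j, hij, h1⟩ := h1
    exact ⟨Pi.single j 1, Pi.single i (a i j)⁻¹, by simp [hij], by simp [h1]⟩
  push Not at h1
  by_cases h2 : ∃ i j, a i i ≠ a j j
  · obtain ⟨i, j, h2⟩ := h2
    have hij : i ≠ j := fun e => h2 (by rw [e])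
    refine ⟨Pi.single i 1 + Pi.single j 1,
      (a i i - a j j)⁻¹ • (Pi.single i 1 - Pi.single j 1), ?_, ?_⟩
    · simp [hij, hij.symm]
    · have := sub_ne_zero.2 h2
      simp [mulVec_add, h1 i j hij, h1 j i hij.symm]
      field_simp
      ring
  push Not at h2
  refine absurd ?_ h
  rcases isEmpty_or_nonempty κ with hk | ⟨⟨i₀⟩⟩
  · exact ⟨0, Subsingleton.elim _ _⟩
  · refine ⟨a i₀ i₀, Matrix.ext fun i j => ?_⟩
    by_cases hij : i = j
    · subst hij; simp [h2 i i₀]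
    · simp [hij, h1 i j hij]

/-- An invariant plane for a non-scalar matrix with scalar square. -/
theorem exists_plane {a f : Matrix ι ι F} (hf : f * f = f) (haf : a * f = f * a) {c : F}
    (hc : a * a * f = c • f) (h : ¬ ∃ d : F, a * f = d • f) :
    ∃ (A : Matrix ι (Fin 2) F) (B : Matrix (Fin 2) ι F), B * A = 1 ∧ f * A = A ∧
      a * A = A * !![0, c; 1, 0] ∧ B * a = !![0, c; 1, 0] * B := by
  obtain ⟨r, A₀, B₀, h0, rfl⟩ := exists_frame_of_idem hf
  have e1 : a * A₀ = A₀ * (B₀ * a * A₀) := by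
    have := congrArg (· * A₀) haf
    simpa [Matrix.mul_assoc, h0] using this
  have e2 : B₀ * a = B₀ * a * A₀ * B₀ := by
    have := congrArg (B₀ * ·) haf
    simpa [← Matrix.mul_assoc, h0] using this.symm
  set a₀ := B₀ * a * A₀ with ha₀
  have e3 : a₀ * a₀ = c • (1 : Matrix _ _ F) := by
    have := congrArg (fun M => B₀ * M * A₀) hc
    simp only [Matrix.mul_smul, Matrix.smul_mul, Matrix.mul_assoc, h0, Matrix.mul_one] at this
    rw [← this, e1, ← Matrix.mul_assoc a, ha₀]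
    simp only [Matrix.mul_assoc]
  obtain ⟨w, ξ, h1, h2⟩ := exists_vec_of_not_scalar (a := a₀) fun ⟨d, hd⟩ => h ⟨d, by
    rw [← Matrix.mul_assoc, e1, hd]; simp⟩
  have h3 : a₀ *ᵥ (a₀ *ᵥ w) = c • w := by rw [mulVec_mulVec, e3]; simp [smul_mulVec]
  have h4 : (ξ ᵥ* a₀) ᵥ* a₀ = c • ξ := by rw [vecMul_vecMul, e3]; simp [vecMul_smul]
  let A₁ : Matrix (Fin r) (Fin 2) F := of fun i j => ![w, a₀ *ᵥ w] j i
  let B₁ : Matrix (Fin 2) (Fin r) F := of fun i j => ![ξ ᵥ* a₀, ξ] i j
  have k1 : B₁ * A₁ = 1 := by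
    ext i j
    change ![ξ ᵥ* a₀, ξ] i ⬝ᵥ ![w, a₀ *ᵥ w] j = _
    fin_cases i <;> fin_cases j <;> simp [← dotProduct_mulVec, h1, h2, h3]
  have k2 : a₀ * A₁ = A₁ * !![0, c; 1, 0] := by
    ext i j
    change (a₀ *ᵥ ![w, a₀ *ᵥ w] j) i = _
    fin_cases j <;> simp [A₁, mul_apply, h3, mul_comm]
  have k3 : B₁ * a₀ = !![0, c; 1, 0] * B₁ := by
    ext i j
    change (![ξ ᵥ* a₀, ξ] i ᵥ* a₀) j = _
    fin_cases i <;> simp [B₁, mul_apply, h4]
  refine ⟨A₀ * A₁, B₁ * B₀, ?_, ?_, ?_, ?_⟩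
  · rw [Matrix.mul_assoc, ← Matrix.mul_assoc B₀, h0, Matrix.one_mul, k1]
  · rw [Matrix.mul_assoc, ← Matrix.mul_assoc B₀, h0, Matrix.one_mul]
  · rw [← Matrix.mul_assoc, e1, Matrix.mul_assoc, k2, Matrix.mul_assoc]
  · rw [Matrix.mul_assoc, e2, ← Matrix.mul_assoc, k3, Matrix.mul_assoc]

end Frame

section Two

theorem exists_sq_sub [Finite F] (h2 : (2 : F) ≠ 0) {c : F} (hc : c ≠ 0) (d : F) :
    ∃ s t : F, s ^ 2 - c * t ^ 2 = d := by
  have := Fintype.ofFinite F
  have h := two_ne_zero_iff_odd.1 h2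
  rw [Nat.card_eq_fintype_card] at h
  obtain ⟨s, t, e⟩ := FiniteField.exists_root_sum_quadratic
    (f := Polynomial.X ^ 2 - Polynomial.C d) (g := Polynomial.C (-c) * Polynomial.X ^ 2)
    (Polynomial.degree_X_pow_sub_C two_pos d)
    (Polynomial.degree_C_mul_X_pow 2 (neg_ne_zero.2 hc)) h
  refine ⟨s, t, ?_⟩
  simp at e
  linear_combination e

/-- A pair of anticommuting square roots of `-1`. -/
def QP (U V : M2 F) : Prop := U * U = -1 ∧ V * V = -1 ∧ U * V = -(V * U)

theorem scalar_or_trace {U : M2 F} {c : F} (h : U * U = c • (1 : M2 F)) :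
    (∃ d : F, U = d • (1 : M2 F)) ∨ (U.trace = 0 ∧ U.det = -c) := by
  have e := mul_self_two U
  rw [h] at e
  by_cases ht : U.trace = 0
  · refine Or.inr ⟨ht, ?_⟩
    have := congrFun (congrFun e 0) 0
    simp [ht] at this
    rw [this, neg_neg]
  · refine Or.inl ⟨(c + U.det) / U.trace, ?_⟩
    rw [div_eq_inv_mul, mul_smul, add_smul, e]
    simp [smul_smul, ht]

theorem trace_of_anti (h2 : (2 : F) ≠ 0) {U V : M2 F} {c : F} (hc : c ≠ 0)
    (hV : V * V = c • (1 : M2 F)) (h : U * V = -(V * U)) : U.trace = 0 := by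
  have e : U * V * V = -(V * U * V) := by rw [h, neg_mul]
  have := congrArg trace e
  rw [trace_neg, trace_mul_comm (V * U), ← mul_assoc, trace_mul_comm (V * V), mul_assoc, hV] at this
  simp only [mul_smul_comm, mul_one, trace_smul, smul_eq_mul] at this
  have h3 : 2 * c * U.trace = 0 := by linear_combination this
  simpa [h2, hc] using h3

theorem QP.symm {U V : M2 F} (h : QP U V) : QP V U := ⟨h.2.1, h.1, by rw [h.2.2, neg_neg]⟩

theorem QP.mul {U V : M2 F} (h : QP U V) : QP U (U * V) := by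
  refine ⟨h.1, ?_, ?_⟩
  · calc U * V * (U * V) = -(U * (-(V * U)) * V) := by noncomm_ring
      _ = -(U * U * (V * V)) := by rw [← h.2.2]; noncomm_ring
      _ = -1 := by rw [h.1, h.2.1]; simp
  · calc U * (U * V) = U * (-(V * U)) := by rw [h.2.2]
      _ = _ := by noncomm_ring

theorem QP.trace (h2 : (2 : F) ≠ 0) {U V : M2 F} (h : QP U V) : U.trace = 0 :=
  trace_of_anti h2 (c := -1) (by simp) (by rw [h.2.1]; simp) h.2.2

theorem QP.det (h2 : (2 : F) ≠ 0) {U V : M2 F} (h : QP U V) : U.det = 1 := by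
  have e := mul_self_two U
  rw [h.1, h.trace h2] at e
  have := congrFun (congrFun e 0) 0
  simpa [eq_comm] using this

theorem QP.conj {U V P P' : M2 F} (h : QP U V) (hP : P' * P = 1) :
    QP (P * U * P') (P * V * P') := by
  have hP' : P * P' = 1 := mul_eq_one_comm.1 hP
  have e : ∀ X Y : M2 F, P * X * P' * (P * Y * P') = P * (X * Y) * P' := fun X Y => by
    calc _ = P * X * (P' * P) * Y * P' := by noncomm_ring
      _ = _ := by rw [hP]; noncomm_ring
  refine ⟨?_, ?_, ?_⟩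
  · rw [e, h.1]; simp [hP']
  · rw [e, h.2.1]; simp [hP']
  · rw [e, e, h.2.2]; simp

theorem QP.scalar (h2 : (2 : F) ≠ 0) {U V X : M2 F} (h : QP U V) (hU : X * U = U * X)
    (hV : X * V = V * X) : ∃ c : F, X = c • (1 : M2 F) := by
  by_contra hX
  obtain ⟨a, b, ha⟩ := (comm_iff_of_nonscalar hX).1 hU
  obtain ⟨c, d, hc⟩ := (comm_iff_of_nonscalar hX).1 hV
  have e : U * V = V * U := by
    rw [ha, hc]
    simp only [add_mul, mul_add, smul_mul_assoc, mul_smul_comm, one_mul, mul_one, smul_add,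
      smul_smul]
    module
  have h3 : (2 : F) • (V * U) = 0 := by rw [two_smul]; nth_rw 1 [← e, h.2.2]; simp
  have h4 := congrArg Matrix.det ((smul_eq_zero.1 h3).resolve_left h2)
  rw [det_mul, h.det h2, h.symm.det h2] at h4
  simp at h4

theorem add_swap_of_trace {U W : M2 F} (hU : U.trace = 0) (hW : W.trace = 0) :
    U * W + W * U = (U * W).trace • (1 : M2 F) := by
  rw [trace_fin_two] at hU hW
  have e1 : U 1 1 = -U 0 0 := by linear_combination hU
  have e2 : W 1 1 = -W 0 0 := by linear_combination hW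
  ext i j
  fin_cases i <;> fin_cases j <;> simp [mul_apply, trace_fin_two, Fin.sum_univ_two, e1, e2] <;> ring

theorem eq_or_eq_neg_of_comm (h2 : (2 : F) ≠ 0) {U W : M2 F} (hU : U * U = -1) (hW : W * W = -1)
    (tU : U.trace = 0) (tW : W.trace = 0) (h : U * W = W * U) : W = U ∨ W = -U := by
  have e := add_swap_of_trace tU tW
  rw [← h, ← two_smul F] at e
  have e1 : W = (-((U * W).trace / 2)) • U := by
    have := congrArg (fun M => (-(2 : F)⁻¹) • (U * M)) e
    simp only [mul_smul_comm, ← mul_assoc, hU, smul_smul, mul_one] at this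
    rw [neg_mul, inv_mul_cancel₀ h2] at this
    simpa [div_eq_inv_mul] using this
  set t := -((U * W).trace / 2)
  have e2 : t * t = 1 := by
    rw [e1, smul_mul_smul_comm, hU] at hW
    simpa using congrFun (congrFun hW 0) 0
  rcases mul_self_eq_one_iff.1 e2 with e3 | e3 <;> rw [e1, e3] <;> simp

theorem exists_QP [Finite F] (h2 : (2 : F) ≠ 0) : ∃ U V : M2 F, QP U V := by
  obtain ⟨a, b, e⟩ := exists_sq_sub h2 (c := -1) (by simp) (-1)
  refine ⟨!![0, -1; 1, 0], !![a, b; b, -a], ?_, ?_, ?_⟩ <;> ext i j <;> fin_cases i <;>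
    fin_cases j <;> simp [mul_apply, Fin.sum_univ_two] <;> first | ring1 | linear_combination e

theorem QP.exists_conj [Finite F] (h2 : (2 : F) ≠ 0) {U V : M2 F} (h : QP U V) :
    ∃ G : M2 F, G.det = 1 ∧ G * U = V * G := by
  have t1 := h.trace h2
  have t2 := h.symm.trace h2
  have d1 : (U + V).det = 2 := by
    have e : (U + V) * (U + V) = (-2 : F) • (1 : M2 F) := by
      rw [add_mul, mul_add, mul_add, h.1, h.2.1, h.2.2]; module
    have e' := mul_self_two (U + V)
    rw [e, trace_add, t1, t2] at e'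
    have := congrFun (congrFun e' 0) 0
    simpa [eq_comm] using this
  obtain ⟨a, b, e⟩ := exists_sq_sub h2 (c := -1) (by simp) 2⁻¹
  have d2 : (a • (1 : M2 F) + b • U).det = 2⁻¹ := by
    have d := h.det h2
    rw [trace_fin_two] at t1
    rw [det_fin_two] at d ⊢
    simp
    linear_combination e + a * b * t1 + b ^ 2 * d
  refine ⟨(U + V) * (a • 1 + b • U), by rw [det_mul, d1, d2, mul_inv_cancel₀ h2], ?_⟩
  have e1 : (U + V) * U = V * (U + V) := by rw [add_mul, mul_add, h.1, h.2.1, add_comm]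
  rw [← mul_assoc, ← e1, mul_assoc, mul_assoc]
  congr 1
  simp [add_mul, mul_add]

theorem exists_anti [Finite F] (h2 : (2 : F) ≠ 0) {c : F} (hc : c ≠ 0) :
    ∃ G : M2 F, G.det = 1 ∧ G * !![0, c; 1, 0] = -(!![0, c; 1, 0] * G) := by
  obtain ⟨s, t, e⟩ := exists_sq_sub h2 hc (-1)
  refine ⟨!![s, -(c * t); t, -s], ?_, ?_⟩
  · rw [det_fin_two_of]; linear_combination -e
  · ext i j
    fin_cases i <;> fin_cases j <;> simp [mul_apply, Fin.sum_univ_two, mul_comm]

end Two

section Lift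

/-- The projective special linear group. -/
abbrev PS (ι F : Type*) [Fintype ι] [DecidableEq ι] [Field F] := ProjectiveSpecialLinearGroup ι F

/-- `X` represents `t` up to a scalar. -/
def Lf (t : PS ι F) (X : Matrix ι ι F) : Prop :=
  ∃ (x : Matrix.SpecialLinearGroup ι F) (c : F), c ≠ 0 ∧ (x : PS ι F) = t ∧
    X = c • (x : Matrix ι ι F)

variable {s t : PS ι F} {X Y : Matrix ι ι F}

theorem lf_coe (x : Matrix.SpecialLinearGroup ι F) : Lf (x : PS ι F) (x : Matrix ι ι F) :=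
  ⟨x, 1, one_ne_zero, rfl, (one_smul _ _).symm⟩

theorem exists_lf (t : PS ι F) : ∃ X, Lf t X ∧ X.det = 1 := by
  obtain ⟨x, rfl⟩ := QuotientGroup.mk_surjective t
  exact ⟨_, lf_coe x, x.det_coe⟩

theorem exists_lf_of_det (h : X.det = 1) : ∃ t, Lf t X := ⟨_, lf_coe ⟨X, h⟩⟩

theorem lf_one : Lf (1 : PS ι F) 1 := lf_coe 1

theorem Lf.mul (h : Lf s X) (h' : Lf t Y) : Lf (s * t) (X * Y) := by
  obtain ⟨x, c, hc, rfl, rfl⟩ := h
  obtain ⟨y, d, hd, rfl, rfl⟩ := h'
  exact ⟨x * y, c * d, mul_ne_zero hc hd, rfl, by rw [smul_mul_smul_comm]; rfl⟩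

theorem Lf.smul (h : Lf t X) {d : F} (hd : d ≠ 0) : Lf t (d • X) := by
  obtain ⟨x, c, hc, rfl, rfl⟩ := h
  exact ⟨x, d * c, mul_ne_zero hd hc, rfl, smul_smul _ _ _⟩

theorem Lf.unique (h : Lf t X) (h' : Lf t Y) : ∃ c : F, c ≠ 0 ∧ Y = c • X := by
  obtain ⟨x, c, hc, rfl, rfl⟩ := h
  obtain ⟨y, d, hd, e, rfl⟩ := h'
  obtain ⟨r, hr, e'⟩ := Matrix.SpecialLinearGroup.mem_center_iff.1 (QuotientGroup.eq.1 e.symm)
  have e1 : (y : Matrix ι ι F) = r • (x : Matrix ι ι F) := by
    rw [show y = x * (x⁻¹ * y) by group, Matrix.SpecialLinearGroup.coe_mul, ← e']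
    simp [scalar_apply, ← smul_one_eq_diagonal]
  rcases isEmpty_or_nonempty ι with hι | hι
  · exact ⟨1, one_ne_zero, Subsingleton.elim _ _⟩
  have hr0 : r ≠ 0 := fun e => by
    rw [e, zero_pow Fintype.card_ne_zero] at hr
    exact zero_ne_one hr
  refine ⟨d * r / c, by positivity, ?_⟩
  rw [e1, smul_smul, smul_smul, div_mul_cancel₀ _ hc]

theorem Lf.eq (h : Lf s X) (h' : Lf t X) : s = t := by
  obtain ⟨x, c, hc, rfl, rfl⟩ := h
  obtain ⟨y, d, hd, rfl, e⟩ := h'
  have e1 : (y : Matrix ι ι F) = (c / d) • (x : Matrix ι ι F) := by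
    rw [div_eq_inv_mul, mul_smul, e, smul_smul, inv_mul_cancel₀ hd, one_smul]
  refine QuotientGroup.eq.2 (Matrix.SpecialLinearGroup.mem_center_iff.2 ⟨c / d, ?_, ?_⟩)
  · have := congrArg Matrix.det e1
    rwa [det_smul, x.det_coe, y.det_coe, mul_one, eq_comm] at this
  · rw [Matrix.SpecialLinearGroup.coe_mul, e1, mul_smul_comm, ← Matrix.SpecialLinearGroup.coe_mul,
      inv_mul_cancel]
    simp [scalar_apply, ← smul_one_eq_diagonal]

theorem Lf.exists_inv (h : Lf t X) : ∃ Y, X * Y = 1 ∧ Y * X = 1 ∧ Lf t⁻¹ Y := by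
  obtain ⟨x, c, hc, rfl, rfl⟩ := h
  refine ⟨c⁻¹ • ((x⁻¹ : Matrix.SpecialLinearGroup ι F) : Matrix ι ι F), ?_, ?_, x⁻¹, c⁻¹, inv_ne_zero hc, rfl, rfl⟩
  · rw [smul_mul_smul_comm, mul_inv_cancel₀ hc, ← Matrix.SpecialLinearGroup.coe_mul, mul_inv_cancel]
    simp
  · rw [smul_mul_smul_comm, inv_mul_cancel₀ hc, ← Matrix.SpecialLinearGroup.coe_mul, inv_mul_cancel]
    simp

theorem Lf.inv (h : Lf t X) (e : X * Y = 1) : Lf t⁻¹ Y := by
  obtain ⟨Z, -, h2, h3⟩ := h.exists_inv
  rwa [show Y = Z by rw [← one_mul Y, ← h2, mul_assoc, e, mul_one]]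

theorem Lf.comm (h : Lf s X) (h' : Lf t Y) (e : X * Y = Y * X) : s * t = t * s :=
  (h.mul h').eq (e ▸ h'.mul h)

theorem Lf.trace_eq_zero (h : Lf s X) (h' : Lf t Y) (hc : IsConj s t) (e : X.trace = 0) :
    Y.trace = 0 := by
  obtain ⟨g, rfl⟩ := isConj_iff.1 hc
  obtain ⟨P, hP, -⟩ := exists_lf g
  obtain ⟨P', -, h2, h3⟩ := hP.exists_inv
  obtain ⟨c, -, rfl⟩ := ((hP.mul h).mul h3).unique h'
  rw [trace_smul, trace_mul_comm, ← mul_assoc, h2, one_mul, e, smul_zero]

end Lift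

end Cfsg.Agent.Fus.Ln
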