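import Mathlib
import Cfsg.Agent.Fus.LnA
import Cfsg.Agent.Inv.FzBasic

/-!
# Fundamental quaternion pairs in `PSL_n(q)`, `q` odd

A fundamental pair generates a quaternion subgroup of order eight of a fundamental `SL_2(q)`.
For `n ≥ 3` these pairs are characterised by conjugacy of elements.
-/

set_option autoImplicit false

namespace Cfsg.Agent.Fus.Ln

open Matrix Cfsg.Agent.Cl.L2

variable {F : Type*} [Field F] {ι κ : Type*} [Fintype ι] [DecidableEq ι] [Fintype κ]
  [DecidableEq κ]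

/-- Fundamental pairs along a given frame. -/
def FundF (A : Matrix ι (Fin 2) F) (B : Matrix (Fin 2) ι F) (u v : PS ι F) : Prop :=
  ∃ U V, QP U V ∧ Lf u (fe A B U) ∧ Lf v (fe A B V)

/-- Fundamental pairs. -/
def Fund (u v : PS ι F) : Prop := ∃ A B, B * A = 1 ∧ FundF A B u v

/-- The quaternion relations. -/
def Rel {G : Type*} [Group G] (u v : G) : Prop :=
  u * u = v * v ∧ u * v = u * u * (v * u) ∧ u * u ≠ 1

/-- Commuting conjugates with the same square generate the same group. -/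
def SC {G : Type*} [Group G] (u : G) : Prop :=
  ∀ a b, IsConj u a → IsConj u b → a * a = b * b → a * b = b * a → b = a ∨ b = a⁻¹

theorem Rel.pow_four {G : Type*} [Group G] {u v : G} (h : Rel u v) : u * u * (u * u) = 1 := by
  obtain ⟨h1, h2, -⟩ := h
  have e1 : u * u * v = v * (u * u) := by rw [h1]; group
  have e2 : u * (u * v) = u * u * (u * u) * (v * (u * u)) := by
    calc u * (u * v) = u * (u * u * (v * u)) := congrArg (u * ·) h2
      _ = u * u * (u * v) * u := by group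
      _ = u * u * (u * u * (v * u)) * u := by rw [h2]
      _ = _ := by group
  rw [← mul_assoc, ← e1] at e2
  exact right_eq_mul.1 e2

theorem Rel.symm {G : Type*} [Group G] {u v : G} (h : Rel u v) : Rel v u := by
  refine ⟨h.1.symm, ?_, h.1 ▸ h.2.2⟩
  rw [h.2.1, ← h.1, ← mul_assoc (u * u), h.pow_four, one_mul]

theorem Rel.conj_eq {G : Type*} [Group G] {u v : G} (h : Rel u v) : v * u * v⁻¹ = u⁻¹ := by
  have e := h.symm.2.1
  rw [← h.1] at e
  rw [e, eq_inv_iff_mul_eq_one, ← h.pow_four]; group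

theorem Rel.isPGroup {G : Type*} [Group G] [Finite G] {u v : G} (h : Rel u v) :
    IsPGroup 2 (Subgroup.zpowers u ⊔ Subgroup.zpowers v : Subgroup G) := by
  have key : ∀ {u v : G}, Rel u v → IsPGroup 2 (Subgroup.zpowers u) := fun {u v} h => by
    have : orderOf u ∣ 2 ^ 2 := orderOf_dvd_of_pow_eq_one
      (by rw [show 2 ^ 2 = 2 + 2 from rfl, pow_add, sq, h.pow_four])
    obtain ⟨k, -, e⟩ := (Nat.dvd_prime_pow Nat.prime_two).1 this
    exact IsPGroup.of_card (by rw [Nat.card_zpowers, e])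
  refine (key h).to_sup_of_normal_left' (key h.symm) (Subgroup.zpowers_le.2 ?_)
  refine Inv.Fz.cj_eq_iff.1 ?_
  rw [Inv.Fz.cj_zpowers, h.conj_eq, Subgroup.zpowers_inv]

section Forward

variable {A A' : Matrix ι (Fin 2) F} {B B' : Matrix (Fin 2) ι F} {u v t : PS ι F}

theorem FundF.symm (h : FundF A B u v) : FundF A B v u :=
  let ⟨U, V, h1, h2, h3⟩ := h; ⟨V, U, h1.symm, h3, h2⟩

theorem FundF.mul (hA : B * A = 1) (h : FundF A B u v) : FundF A B u (u * v) :=
  let ⟨U, V, h1, h2, h3⟩ := h; ⟨U, U * V, h1.mul, h2, fe_mul hA U V ▸ h2.mul h3⟩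

theorem change_inv (hA' : B' * A' = 1) (hA : B * A = 1) (e : A * B = A' * B') :
    B * A' * (B' * A) = 1 := by
  have _ := hA'
  rw [Matrix.mul_assoc, ← Matrix.mul_assoc A', ← e, Matrix.mul_assoc, hA, Matrix.mul_one, hA]

theorem FundF.change (hA : B * A = 1) (hA' : B' * A' = 1) (e : A * B = A' * B')
    (h : FundF A B u v) : FundF A' B' u v :=
  let ⟨U, V, h1, h2, h3⟩ := h
  ⟨_, _, h1.conj (change_inv hA' hA e), fe_change hA hA' e U ▸ h2, fe_change hA hA' e V ▸ h3⟩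

theorem Lf.conj_fe {A : Matrix ι κ F} {B : Matrix κ ι F} {P P' : Matrix ι ι F} {U : Matrix κ κ F}
    (ht : Lf t P) (hP : P * P' = 1) (h : Lf u (fe A B U)) :
    Lf (t * u * t⁻¹) (fe (P * A) (B * P') U) :=
  fe_conj hP U ▸ (ht.mul h).mul (ht.inv hP)

theorem FundF.conj {P P' : Matrix ι ι F} (ht : Lf t P) (hP : P * P' = 1) (h : FundF A B u v) :
    FundF (P * A) (B * P') (t * u * t⁻¹) (t * v * t⁻¹) :=
  let ⟨U, V, h1, h2, h3⟩ := h; ⟨U, V, h1, ht.conj_fe hP h2, ht.conj_fe hP h3⟩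

omit [DecidableEq ι] in
theorem conj_frame [DecidableEq ι] {A : Matrix ι κ F} {B : Matrix κ ι F} {P P' : Matrix ι ι F}
    (hP : P' * P = 1) (hA : B * A = 1) : B * P' * (P * A) = 1 := by
  rw [Matrix.mul_assoc, ← Matrix.mul_assoc P', hP, Matrix.one_mul, hA]

theorem eq_of_fe_smul {A : Matrix ι κ F} {B : Matrix κ ι F} (hA : B * A = 1)
    (hc : Fintype.card κ < Fintype.card ι) {X Y : Matrix κ κ F} {c : F}
    (h : fe A B X = c • fe A B Y) : X = Y := by
  have e := congrArg (· * (1 - A * B)) h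
  simp only [smul_mul_assoc, fe_mul_compl hA] at e
  have hc1 : c = 1 := by
    by_contra hc1
    have : (1 - c) • ((1 : Matrix ι ι F) - A * B) = 0 := by rw [sub_smul, one_smul, ← e, sub_self]
    exact compl_ne_zero hc ((smul_eq_zero.1 this).resolve_left (sub_ne_zero.2 (Ne.symm hc1)))
  rw [hc1, one_smul] at h
  rw [← B_fe_A hA X, h, B_fe_A hA]

theorem neg_one_ne_one_two (h2 : (2 : F) ≠ 0) : (-1 : M2 F) ≠ 1 := fun e => h2 <| by
  have := congrFun (congrFun e 0) 0
  simp at this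
  linear_combination -this

theorem FundF.lf_sq (hA : B * A = 1) (h : FundF A B u v) : Lf (u * u) (fe A B (-1)) := by
  obtain ⟨U, V, h1, h2, -⟩ := h
  have := h2.mul h2
  rwa [fe_mul hA, h1.1] at this

theorem Fund.rel (h2 : (2 : F) ≠ 0) (hn : 2 < Fintype.card ι) (h : Fund u v) : Rel u v := by
  obtain ⟨A, B, hA, h⟩ := h
  have e1 := h.lf_sq hA
  refine ⟨e1.eq (h.symm.lf_sq hA), ?_, fun e => ?_⟩
  · obtain ⟨U, V, h1, hu, hv⟩ := h
    refine (hu.mul hv).eq ?_
    have := e1.mul (hv.mul hu)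
    rwa [fe_mul hA, fe_mul hA, neg_one_mul, ← h1.2.2, ← fe_mul hA] at this
  · rw [e] at e1
    obtain ⟨c, -, e⟩ := lf_one.unique e1
    rw [← fe_one (A := A) (B := B)] at e
    exact neg_one_ne_one_two h2 (eq_of_fe_smul hA (by simpa using hn) e)

theorem eq_or_add_of_smul (h2 : (2 : F) ≠ 0) [Nonempty ι] {e e' : Matrix ι ι F} (he : e * e = e)
    (he' : e' * e' = e') {c : F} (h : 1 - (2 : F) • e = c • (1 - (2 : F) • e')) :
    e = e' ∨ e + e' = 1 := by
  have sq : ∀ {e : Matrix ι ι F}, e * e = e → (1 - (2 : F) • e) * (1 - (2 : F) • e) = 1 :=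
    fun {e} he => by
      simp only [sub_mul, mul_sub, smul_mul_assoc, mul_smul_comm, one_mul, mul_one, he]
      module
  have e1 := sq he
  rw [h, smul_mul_smul_comm, sq he'] at e1
  have e2 : c * c = 1 := by
    obtain ⟨i⟩ := ‹Nonempty ι›
    simpa using congrFun (congrFun e1 i) i
  rcases mul_self_eq_one_iff.1 e2 with rfl | rfl
  · rw [one_smul, sub_right_inj] at h
    exact Or.inl (smul_right_injective _ h2 h)
  · refine Or.inr (smul_right_injective _ h2 ?_)
    change (2 : F) • (e + e') = (2 : F) • (1 : Matrix ι ι F)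
    rw [smul_add, show (2 : F) • e = 1 - (1 - (2 : F) • e) by simp, h]
    module

theorem proj_idem {A : Matrix ι κ F} {B : Matrix κ ι F} (hA : B * A = 1) :
    A * B * (A * B) = A * B := by
  rw [Matrix.mul_assoc, ← Matrix.mul_assoc B, hA, Matrix.one_mul]

theorem Fund.sc (h2 : (2 : F) ≠ 0) (hn : 2 < Fintype.card ι) (h4 : Fintype.card ι ≠ 4)
    (h : Fund u v) : SC u := by
  have : Nonempty ι := Fintype.card_pos_iff.1 (by omega)
  have key : ∀ a, IsConj u a → ∃ b, Fund a b := fun a ha => by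
    obtain ⟨g, rfl⟩ := isConj_iff.1 ha
    obtain ⟨A, B, hA, h⟩ := h
    obtain ⟨P, hP, -⟩ := exists_lf g
    obtain ⟨P', h1, h2, -⟩ := hP.exists_inv
    exact ⟨_, _, _, conj_frame h2 hA, h.conj hP h1⟩
  intro a b ha hb e1 e2
  obtain ⟨a', A, B, hA, ha⟩ := key a ha
  obtain ⟨b', A', B', hA', hb⟩ := key b hb
  obtain ⟨c, -, e⟩ := (hb.lf_sq hA').unique (e1 ▸ ha.lf_sq hA)
  rw [fe_neg_one, fe_neg_one] at e
  rcases eq_or_add_of_smul h2 (proj_idem hA) (proj_idem hA') e with e | e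
  swap
  · exact absurd (by simpa using card_eq_add hA hA' e) h4
  obtain ⟨U, V, h1, hu, -⟩ := ha
  obtain ⟨W, V', h1', hw, -⟩ := hb.change hA' hA e.symm
  obtain ⟨c, -, e3⟩ := (hw.mul hu).unique (e2 ▸ hu.mul hw)
  rw [fe_mul hA, fe_mul hA] at e3
  rcases eq_or_eq_neg_of_comm h2 h1.1 h1'.1 (h1.trace h2) (h1'.trace h2)
    (eq_of_fe_smul hA (by simpa using hn) e3) with rfl | rfl
  · exact Or.inl (hw.eq hu)
  · exact Or.inr (hw.eq (hu.inv (by rw [fe_mul hA, mul_neg, h1.1, neg_neg, fe_one])))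

theorem Fund.isConj [Finite F] (h2 : (2 : F) ≠ 0) (h : Fund u v) : IsConj u v := by
  obtain ⟨A, B, hA, U, V, h1, hu, hv⟩ := h
  obtain ⟨G, hG, e⟩ := h1.exists_conj h2
  obtain ⟨g, hg⟩ := exists_lf_of_det ((det_fe hA G).trans hG)
  refine isConj_iff.2 ⟨g, mul_inv_eq_iff_eq_mul.2 ((hg.mul hu).eq ?_)⟩
  rw [fe_mul hA, e, ← fe_mul hA]
  exact hv.mul hg

theorem Fund.mul (h : Fund u v) : Fund u (u * v) :=
  let ⟨A, B, hA, h⟩ := h; ⟨A, B, hA, h.mul hA⟩

theorem Fund.symm (h : Fund u v) : Fund v u :=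
  let ⟨A, B, hA, h⟩ := h; ⟨A, B, hA, h.symm⟩

end Forward

section Backward

/-- Matrix data attached to the quaternion relations. -/
structure Pre (u v : PS ι F) (X Y e : Matrix ι ι F) (μ ν : F) : Prop where
  lu : Lf u X
  lv : Lf v Y
  μ0 : μ ≠ 0
  ν0 : ν ≠ 0
  idem : e * e = e
  e0 : e ≠ 0
  e1 : 1 - e ≠ 0
  det : (1 - (2 : F) • e).det = 1
  XX : X * X = μ • (1 - (2 : F) • e)
  YY : Y * Y = ν • (1 - (2 : F) • e)
  Xe : X * e = e * X
  Ye : Y * e = e * Y
  XY : X * Y = (1 - (2 : F) • e) * (Y * X)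

variable {u v : PS ι F} {X Y e : Matrix ι ι F} {μ ν : F}

theorem refl_mul_self (he : e * e = e) : (1 - (2 : F) • e) * (1 - (2 : F) • e) = 1 := by
  simp only [sub_mul, mul_sub, smul_mul_assoc, mul_smul_comm, one_mul, mul_one, he]
  module

theorem refl_mul_e (he : e * e = e) : (1 - (2 : F) • e) * e = -e := by
  simp only [sub_mul, smul_mul_assoc, one_mul, he]
  module

theorem refl_mul_compl (he : e * e = e) : (1 - (2 : F) • e) * (1 - e) = 1 - e := by
  simp only [sub_mul, mul_sub, smul_mul_assoc, one_mul, mul_one, he]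
  module

theorem Pre.symm (h : Pre u v X Y e μ ν) : Pre v u Y X e ν μ :=
  ⟨h.lv, h.lu, h.ν0, h.μ0, h.idem, h.e0, h.e1, h.det, h.YY, h.XX, h.Ye, h.Xe, by
    rw [h.XY, ← mul_assoc, refl_mul_self h.idem, one_mul]⟩

theorem Rel.exists_pre (h2 : (2 : F) ≠ 0) (h : Rel u v) : ∃ X Y e μ ν, Pre u v X Y e μ ν := by
  obtain ⟨X, hX, dX⟩ := exists_lf u
  obtain ⟨Y, hY, dY⟩ := exists_lf v
  obtain ⟨X', a1, a2, hX'⟩ := hX.exists_inv
  obtain ⟨Y', b1, b2, hY'⟩ := hY.exists_inv
  obtain ⟨y, hy⟩ : ∃ y, y = X * Y * X' * Y' := ⟨_, rfl⟩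
  have ly : Lf (u * u) y := by
    have := ((hX.mul hY).mul hX').mul hY'
    rwa [show u * v * u⁻¹ * v⁻¹ = u * u by rw [h.2.1]; group, ← hy] at this
  obtain ⟨μ, μ0, XX⟩ := ly.unique (hX.mul hX)
  obtain ⟨ν, ν0, YY⟩ := ly.unique (h.1 ▸ hY.mul hY)
  have XY : X * Y = y * (Y * X) := by
    rw [hy, mul_assoc, mul_assoc, ← mul_assoc Y', b2, one_mul, a2, mul_one]
  have cX : X * y = y * X := smul_right_injective _ μ0 (by
    change μ • _ = μ • _
    rw [← mul_smul_comm, ← smul_mul_assoc, ← XX, mul_assoc])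
  have cY : Y * y = y * Y := smul_right_injective _ ν0 (by
    change ν • _ = ν • _
    rw [← mul_smul_comm, ← smul_mul_assoc, ← YY, mul_assoc])
  have yy : y * y = 1 := by
    have e1 : X * X * Y = y * y * (Y * (X * X)) := by
      calc X * X * Y = X * y * (Y * X) := by rw [mul_assoc, XY, mul_assoc]
        _ = y * (X * Y) * X := by rw [cX]; noncomm_ring
        _ = _ := by rw [XY]; noncomm_ring
    rw [show Y * (X * X) = X * X * Y by rw [XX, mul_smul_comm, smul_mul_assoc, cY]] at e1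
    calc y * y = y * y * (X * (X * (Y * Y') * X') * X') := by rw [b1, mul_one, a1, mul_one, a1,
          mul_one]
      _ = y * y * (X * X * Y) * (Y' * X' * X') := by noncomm_ring
      _ = X * (X * (Y * Y') * X') * X' := by rw [← e1]; noncomm_ring
      _ = 1 := by rw [b1, mul_one, a1, mul_one, a1]
  have ey : 1 - (2 : F) • ((2 : F)⁻¹ • (1 - y)) = y := by
    rw [smul_smul, mul_inv_cancel₀ h2, one_smul, sub_sub_cancel]
  have dy : y.det = 1 := by
    have := congrArg Matrix.det XY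
    rw [det_mul, det_mul, det_mul, dX, dY] at this
    simpa using this.symm
  refine ⟨X, Y, (2 : F)⁻¹ • (1 - y), μ, ν, hX, hY, μ0, ν0, ?_, fun e => h.2.2 ?_,
    fun e => h.2.2 ?_, by rw [ey, dy], by rw [ey, XX], by rw [ey, YY], ?_, ?_, by rw [ey, XY]⟩
  · rw [smul_mul_smul_comm, sub_mul, mul_sub, mul_sub, yy]
    simp only [one_mul, mul_one]
    rw [show (1 : Matrix ι ι F) - y - (y - 1) = (2 : F) • (1 - y) by module, smul_smul,
      mul_assoc, inv_mul_cancel₀ h2, mul_one]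
  · rw [e, smul_zero, sub_zero] at ey
    exact ly.eq (ey ▸ lf_one)
  · rw [← sub_eq_zero.1 e] at ey
    refine ly.eq ?_
    rw [← ey, show (1 : Matrix ι ι F) - (2 : F) • 1 = (-1 : F) • 1 by module]
    exact lf_one.smul (by simp)
  · simp only [mul_smul_comm, smul_mul_assoc, mul_sub, sub_mul, one_mul, mul_one, cX]
  · simp only [mul_smul_comm, smul_mul_assoc, mul_sub, sub_mul, one_mul, mul_one, cY]

theorem Pre.sq_e (h : Pre u v X Y e μ ν) : X * X * e = (-μ) • e := by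
  rw [h.XX, smul_mul_assoc, refl_mul_e h.idem, smul_neg, neg_smul]

theorem Pre.sq_compl (h : Pre u v X Y e μ ν) : X * X * (1 - e) = μ • (1 - e) := by
  rw [h.XX, smul_mul_assoc, refl_mul_compl h.idem]

theorem Pre.anti (h : Pre u v X Y e μ ν) : X * Y * e = -(Y * X * e) := by
  rw [h.XY, mul_assoc, mul_assoc, h.Xe, ← mul_assoc Y, h.Ye, ← mul_assoc, ← mul_assoc,
    refl_mul_e h.idem]
  simp

theorem Pre.comm (h : Pre u v X Y e μ ν) : X * Y * (1 - e) = Y * X * (1 - e) := by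
  have : Y * X * (1 - e) = (1 - e) * (Y * X) := by
    rw [mul_sub, sub_mul, mul_one, one_mul, mul_assoc, h.Xe, ← mul_assoc, h.Ye, mul_assoc]
  rw [h.XY, mul_assoc, this, ← mul_assoc, refl_mul_compl h.idem]

theorem block_mul {A : Matrix ι κ F} {B : Matrix κ ι F} (hA : B * A = 1) {P : Matrix ι ι F}
    (hP : P * (A * B) = A * B * P) (Q : Matrix ι ι F) :
    B * Q * A * (B * P * A) = B * (Q * P * (A * B)) * A := by
  have _ := hA
  rw [Matrix.mul_assoc Q, hP]
  simp only [Matrix.mul_assoc]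

theorem block_proj {A : Matrix ι κ F} {B : Matrix κ ι F} (hA : B * A = 1) :
    B * (A * B) * A = 1 := by
  rw [← Matrix.mul_assoc, hA, Matrix.one_mul, hA]

theorem Pre.lf_fe {A : Matrix ι (Fin 2) F} {B : Matrix (Fin 2) ι F} (hA : B * A = 1)
    (h : Pre u v X Y (A * B) μ ν) {d : F} (hd : X * (1 - A * B) = d • (1 - A * B)) :
    d * d = μ ∧ Lf u (fe A B (d⁻¹ • (B * X * A))) := by
  have e1 : d * d = μ := by
    have := h.sq_compl
    rw [mul_assoc, hd, mul_smul_comm, hd, smul_smul, ← sub_eq_zero, ← sub_smul] at this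
    exact sub_eq_zero.1 ((smul_eq_zero.1 this).resolve_right h.e1)
  have d0 : d ≠ 0 := fun e => h.μ0 (by rw [← e1, e, mul_zero])
  refine ⟨e1, ?_⟩
  convert h.lu.smul (inv_ne_zero d0) using 1
  have e2 : A * (B * X * A) * B = X * (A * B) := by
    calc _ = A * B * X * (A * B) := by simp only [Matrix.mul_assoc]
      _ = _ := by rw [← h.Xe, mul_assoc, h.idem]
  have e3 : X = d • (1 - A * B) + X * (A * B) := by rw [← hd, ← mul_add, sub_add_cancel, mul_one]
  rw [fe, Matrix.mul_smul, Matrix.smul_mul, e2]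
  conv_rhs => rw [e3, smul_add, smul_smul, inv_mul_cancel₀ d0, one_smul]

theorem Pre.fund {A : Matrix ι (Fin 2) F} {B : Matrix (Fin 2) ι F} (hA : B * A = 1)
    (h : Pre u v X Y (A * B) μ ν) {d d' : F} (hd : X * (1 - A * B) = d • (1 - A * B))
    (hd' : Y * (1 - A * B) = d' • (1 - A * B)) : Fund u v := by
  have sq : ∀ {u v : PS ι F} {X Y : Matrix ι ι F} {μ ν d : F}, Pre u v X Y (A * B) μ ν →
      d * d = μ → (d⁻¹ • (B * X * A)) * (d⁻¹ • (B * X * A)) = -1 := by
    intro u v X Y μ ν d h e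
    rw [smul_mul_smul_comm, block_mul hA h.Xe, h.sq_e, Matrix.mul_smul, Matrix.smul_mul,
      block_proj hA, smul_smul, ← mul_inv, e, mul_neg, inv_mul_cancel₀ h.μ0]
    simp
  obtain ⟨a1, a2⟩ := h.lf_fe hA hd
  obtain ⟨b1, b2⟩ := h.symm.lf_fe hA hd'
  refine ⟨A, B, hA, _, _, ⟨sq h a1, sq h.symm b1, ?_⟩, a2, b2⟩
  rw [smul_mul_smul_comm, smul_mul_smul_comm, block_mul hA h.Ye, block_mul hA h.Xe, h.anti,
    mul_comm d⁻¹]
  simp

theorem Pre.not_scalar (h2 : (2 : F) ≠ 0) (h : Pre u v X Y e μ ν) : ¬ ∃ d : F, X * e = d • e := by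
  rintro ⟨d, hd⟩
  have e1 := h.anti
  rw [mul_assoc, h.Ye, ← mul_assoc, hd, mul_assoc, hd, smul_mul_assoc, mul_smul_comm, h.Ye,
    eq_neg_iff_add_eq_zero, ← two_smul F, smul_smul] at e1
  have e2 := h.sq_e
  rw [mul_assoc, hd, mul_smul_comm, hd, smul_smul, ← sub_eq_zero, ← sub_smul] at e2
  have e3 := sub_eq_zero.1 ((smul_eq_zero.1 e2).resolve_right h.e0)
  have d0 : d ≠ 0 := fun e => h.μ0 (by rw [e, mul_zero] at e3; simpa using e3)
  have e4 := (smul_eq_zero.1 e1).resolve_left (mul_ne_zero h2 d0)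
  obtain ⟨Y', b1, -⟩ := h.lv.exists_inv
  exact h.e0 (by rw [← mul_one e, ← b1, ← mul_assoc, e4, zero_mul])

theorem Pre.frame_of_sc [Finite F] (h2 : (2 : F) ≠ 0) (hn : 2 < Fintype.card ι)
    (h : Pre u v X Y e μ ν) (hs : SC u) {f : Matrix ι ι F} (hf : f * f = f) (hXf : X * f = f * X)
    {c : F} (hc : c ≠ 0) (hsq : X * X * f = c • f) (hns : ¬ ∃ d : F, X * f = d • f) :
    ∃ (A : Matrix ι (Fin 2) F) (B : Matrix (Fin 2) ι F), B * A = 1 ∧ f * A = A ∧
      (A * B = e ∨ A * B + e = 1) := by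
  have : Nonempty ι := Fintype.card_pos_iff.1 (by omega)
  obtain ⟨A, B, hA, h1, h3, h4⟩ := exists_plane hf hXf hsq hns
  refine ⟨A, B, hA, h1, ?_⟩
  obtain ⟨G, hG, hJ⟩ := exists_anti h2 hc
  obtain ⟨g, hg⟩ := exists_lf_of_det ((det_fe hA G).trans hG)
  have c1 : X * fe A B (-1) = fe A B (-1) * X := comm_fe h3 h4 (by simp)
  have c2 : fe A B G * X = X * fe A B (-1) * fe A B G := by
    rw [mul_assoc, fe_mul hA]
    simp only [fe, Matrix.mul_add, Matrix.add_mul, Matrix.mul_sub, Matrix.sub_mul, Matrix.mul_one,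
      Matrix.one_mul, Matrix.mul_assoc, h4]
    simp only [← Matrix.mul_assoc, h3]
    rw [Matrix.mul_assoc A G, hJ]
    simp only [Matrix.mul_neg, Matrix.neg_mul, Matrix.mul_one, Matrix.mul_assoc]
  obtain ⟨g', a1, -, hg'⟩ := hg.exists_inv
  have lb : Lf (g * u * g⁻¹) (X * fe A B (-1)) := by
    have := (hg.mul h.lu).mul hg'
    rwa [c2, mul_assoc _ _ g', a1, mul_one] at this
  have c3 : X * fe A B (-1) * (X * fe A B (-1)) = X * X := by
    rw [mul_assoc, ← mul_assoc (fe A B (-1)), ← c1, mul_assoc, fe_mul hA]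
    simp [fe_one]
  obtain ⟨X', b1, b2, -⟩ := h.lu.exists_inv
  rcases hs u _ (IsConj.refl u) (isConj_iff.2 ⟨g, rfl⟩) ((h.lu.mul h.lu).eq (c3 ▸ lb.mul lb))
    (h.lu.comm lb (by rw [mul_assoc, ← c1])) with e1 | e1
  · obtain ⟨c, -, e2⟩ := h.lu.unique (e1 ▸ lb)
    have e3 : fe A B (-1) = c • fe A B 1 := by
      rw [← one_mul (fe A B (-1)), ← b2, mul_assoc, e2, mul_smul_comm, b2, fe_one]
    exact absurd (eq_of_fe_smul hA (by simpa using hn) e3) (neg_one_ne_one_two h2)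
  · have l2 : Lf u⁻¹ (μ⁻¹ • (X * (1 - (2 : F) • e))) := h.lu.inv (by
      rw [mul_smul_comm, ← mul_assoc, h.XX, smul_mul_assoc, refl_mul_self h.idem, smul_smul,
        inv_mul_cancel₀ h.μ0, one_smul])
    obtain ⟨c, -, e2⟩ := l2.unique (e1 ▸ lb)
    have e3 : fe A B (-1) = (c * μ⁻¹) • (1 - (2 : F) • e) := by
      rw [← one_mul (fe A B (-1)), ← b2, mul_assoc, e2, smul_smul, mul_smul_comm, ← mul_assoc, b2,
        one_mul]
    rw [fe_neg_one] at e3
    exact eq_or_add_of_smul h2 (proj_idem hA) h.idem e3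

theorem ne_zero_of_frame {A : Matrix ι (Fin 2) F} {B : Matrix (Fin 2) ι F} (hA : B * A = 1) :
    A ≠ 0 := fun e => by
  rw [e, Matrix.mul_zero] at hA
  exact zero_ne_one hA

theorem Rel.fund_of_sc [Finite F] (h2 : (2 : F) ≠ 0) (hn : 2 < Fintype.card ι)
    (h4 : Fintype.card ι ≠ 4) (h : Rel u v) (hu : SC u) (hv : SC v) : Fund u v := by
  obtain ⟨X, Y, e, μ, ν, h⟩ := h.exists_pre h2
  obtain ⟨A, B, hA, h1, h3⟩ := h.frame_of_sc h2 hn hu h.idem h.Xe (neg_ne_zero.2 h.μ0) h.sq_e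
    (h.not_scalar h2)
  obtain rfl : A * B = e := h3.resolve_right fun e1 => ne_zero_of_frame hA (by
    have := congrArg (· * A) e1
    simpa [Matrix.add_mul, Matrix.mul_assoc, hA, h1] using this)
  have key : ∀ {u v : PS ι F} {X Y : Matrix ι ι F} {μ ν : F}, Pre u v X Y (A * B) μ ν → SC u →
      ∃ d : F, X * (1 - A * B) = d • (1 - A * B) := by
    intro u v X Y μ ν h hu
    by_contra hns
    obtain ⟨A', B', hA', h1, h3⟩ := h.frame_of_sc h2 hn hu (f := 1 - A * B)
      (by rw [sub_mul, mul_sub, mul_sub, h.idem]; simp)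
      (by rw [mul_sub, sub_mul, h.Xe, mul_one, one_mul]) h.μ0 h.sq_compl hns
    rcases h3 with e1 | e1
    · rw [← e1, Matrix.sub_mul, Matrix.mul_assoc, hA'] at h1
      exact ne_zero_of_frame hA' (by simpa using h1.symm)
    · exact h4 (by simpa using card_eq_add hA' hA e1)
  obtain ⟨d, hd⟩ := key h hu
  obtain ⟨d', hd'⟩ := key h.symm hv
  exact h.fund hA hd hd'

theorem Rel.fund_of_conj (h2 : (2 : F) ≠ 0) (h4 : Fintype.card ι = 4) (h : Rel u v)
    (hv : IsConj u v) (huv : IsConj u (u * v)) : Fund u v := by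
  obtain ⟨X, Y, e, μ, ν, h⟩ := h.exists_pre h2
  have he' : (1 - e) * (1 - e) = 1 - e := by rw [sub_mul, mul_sub, mul_sub, h.idem]; simp
  obtain ⟨r, A, B, hA, rfl⟩ := exists_frame_of_idem h.idem
  obtain ⟨r', A', B', hA', e'⟩ := exists_frame_of_idem he'
  have h1 := card_eq_add hA hA' (by rw [e', add_sub_cancel])
  have h3 : (-1 : F) ^ r = 1 := by
    have := h.det
    rw [← fe_neg_one, det_fe hA, det_neg] at this
    simpa using this
  have h5 : r ≠ 0 := by rintro rfl; exact h.e0 (by ext; simp [mul_apply])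
  have h6 : r' ≠ 0 := by rintro rfl; exact h.e1 (by rw [← e']; ext; simp [mul_apply])
  have h7 : Even r := by
    by_contra h7
    rw [(Nat.not_even_iff_odd.1 h7).neg_one_pow] at h3
    exact h2 (by linear_combination -h3)
  simp only [h4, Fintype.card_fin] at h1
  obtain rfl : r = 2 := by obtain ⟨k, rfl⟩ := h7; omega
  obtain rfl : r' = 2 := by omega
  have tr : ∀ P : Matrix ι ι F, P.trace = (B * P * A).trace + (B' * P * A').trace := fun P => by
    rw [Matrix.mul_assoc, Matrix.mul_assoc, trace_mul_comm B, trace_mul_comm B', Matrix.mul_assoc,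
      Matrix.mul_assoc, ← trace_add, ← mul_add, e', add_sub_cancel, mul_one]
  have cm : ∀ {P : Matrix ι ι F}, P * (A * B) = A * B * P → P * (A' * B') = A' * B' * P :=
    fun hP => by rw [e', mul_sub, sub_mul, hP, mul_one, one_mul]
  have key : ∀ {u v : PS ι F} {X Y : Matrix ι ι F} {μ ν : F}, Pre u v X Y (A * B) μ ν →
      B * X * A * (B * X * A) = (-μ) • 1 ∧ B' * X * A' * (B' * X * A') = μ • 1 ∧
      B * X * A * (B * Y * A) = -(B * Y * A * (B * X * A)) := by
    intro u v X Y μ ν h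
    refine ⟨?_, ?_, ?_⟩
    · rw [block_mul hA h.Xe, h.sq_e, Matrix.mul_smul, Matrix.smul_mul, block_proj hA]
    · rw [block_mul hA' (cm h.Xe), e', h.sq_compl, ← e', Matrix.mul_smul, Matrix.smul_mul,
        block_proj hA']
    · rw [block_mul hA h.Ye, block_mul hA h.Xe, h.anti]; simp
  obtain ⟨a1, a2, a3⟩ := key h
  obtain ⟨b1, b2, b3⟩ := key h.symm
  have tX : X.trace = (B' * X * A').trace := by
    rw [tr, trace_of_anti h2 (neg_ne_zero.2 h.ν0) b1 a3, zero_add]
  have tY : Y.trace = (B' * Y * A').trace := by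
    rw [tr, trace_of_anti h2 (neg_ne_zero.2 h.μ0) a1 b3, zero_add]
  have pr : ∀ {A : Matrix ι (Fin 2) F} {B : Matrix (Fin 2) ι F}, B * A = 1 →
      Y * (A * B) = A * B * Y → B * (X * Y) * A = B * X * A * (B * Y * A) := fun hA hY => by
    rw [block_mul hA hY]; simp only [Matrix.mul_assoc, hA, Matrix.mul_one]
  have tXY : (X * Y).trace = (B' * X * A' * (B' * Y * A')).trace := by
    rw [tr, pr hA h.Ye, pr hA' (cm h.Ye), trace_of_anti h2 (neg_ne_zero.2 h.ν0) b1, zero_add]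
    rw [mul_assoc, b1, ← mul_assoc, b3]
    simp [mul_assoc, b1]
  have hX : X.trace ≠ 0 := fun e => by
    have t2 := h.lu.trace_eq_zero h.lv hv e
    have t3 := h.lu.trace_eq_zero (h.lu.mul h.lv) huv e
    have e1 := add_swap_of_trace (tX ▸ e) (tY ▸ t2)
    have e2 : B' * Y * A' * (B' * X * A') = B' * X * A' * (B' * Y * A') := by
      rw [block_mul hA' (cm h.Xe), block_mul hA' (cm h.Ye), e', h.comm]
    rw [← tXY, t3, zero_smul, e2, ← two_smul F] at e1
    have e3 := congrArg (fun M => B' * X * A' * M * (B' * Y * A'))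
      ((smul_eq_zero.1 e1).resolve_left h2)
    simp only [← mul_assoc (B' * X * A'), a2, mul_assoc _ (B' * Y * A'), b2] at e3
    have := congrFun (congrFun e3 0) 0
    simp [h.μ0, h.ν0] at this
  have fin : ∀ {P : Matrix ι ι F} {c : F}, P * (A * B) = A * B * P → P.trace ≠ 0 →
      P.trace = (B' * P * A').trace → B' * P * A' * (B' * P * A') = c • 1 →
      ∃ d : F, P * (1 - A * B) = d • (1 - A * B) := by
    intro P c h1 h2 h3 h4
    obtain ⟨d, hd⟩ := (scalar_or_trace h4).resolve_right fun e => h2 (h3.trans e.1)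
    refine ⟨d, ?_⟩
    rw [← e', ← proj_idem hA', ← mul_assoc, cm h1, proj_idem hA']
    calc _ = A' * (B' * P * A') * B' := by simp only [Matrix.mul_assoc]
      _ = _ := by rw [hd]; simp
  obtain ⟨d, hd⟩ := fin h.Xe hX tX a2
  obtain ⟨d', hd'⟩ := fin h.Ye (fun e => hX (h.lv.trace_eq_zero h.lu hv.symm e)) tY b2
  exact h.fund hA hd hd'

end Backward

/-- Automorphisms of a Sylow `2`-subgroup that preserve conjugacy preserve fundamental pairs. -/
theorem Fund.map [Finite F] (h2 : (2 : F) ≠ 0) (hn : 2 < Fintype.card ι) (T : Sylow 2 (PS ι F))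
    (α : MulAut (T : Subgroup (PS ι F)))
    (hα : ∀ x y : (T : Subgroup (PS ι F)),
      IsConj (x : PS ι F) y ↔ IsConj (α x : PS ι F) (α y))
    {u v : (T : Subgroup (PS ι F))} (h : Fund (u : PS ι F) v) : Fund (α u : PS ι F) (α v) := by
  have : Fact (Nat.Prime 2) := ⟨Nat.prime_two⟩
  have rel : ∀ {u v : (T : Subgroup (PS ι F))}, Rel (u : PS ι F) v → Rel (α u : PS ι F) (α v) := by
    intro u v h
    simp only [Rel, ← Subgroup.coe_mul, ← map_mul, ne_eq, OneMemClass.coe_eq_one,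
      Subtype.coe_inj, EmbeddingLike.apply_eq_iff_eq, EmbeddingLike.map_eq_one_iff] at h ⊢
    exact h
  have hr := h.rel h2 hn
  by_cases h4 : Fintype.card ι = 4
  · refine (rel hr).fund_of_conj h2 h4 ((hα _ _).1 (h.isConj h2)) ?_
    rw [← Subgroup.coe_mul, ← map_mul]
    exact (hα _ _).1 (h.mul.isConj h2)
  have sc : ∀ {u v : (T : Subgroup (PS ι F))}, Rel (u : PS ι F) v → SC (u : PS ι F) →
      SC (α u : PS ι F) := by
    intro u v hr hs a b ha hb e1 e2
    have p2 : ∀ a, IsConj (α u : PS ι F) a → IsPGroup 2 (Subgroup.zpowers a) := fun a ha => by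
      obtain ⟨g, rfl⟩ := isConj_iff.1 ha
      rw [← Inv.Fz.cj_zpowers]
      exact Inv.Fz.isPGroup_cj (T.isPGroup'.to_le (Subgroup.zpowers_le.2 (α u).2)) g
    have hp : IsPGroup 2 (Subgroup.zpowers a ⊔ Subgroup.zpowers b : Subgroup _) := by
      refine (p2 a ha).to_sup_of_normal_left' (p2 b hb) (Subgroup.zpowers_le.2 ?_)
      refine Inv.Fz.cj_eq_iff.1 ?_
      rw [Inv.Fz.cj_zpowers, ← e2, mul_inv_cancel_right]
    obtain ⟨g, hg⟩ := Inv.Fz.exists_cj_le_sylow T hp
    have ma := Inv.Fz.cj_le_iff.1 hg a (Subgroup.mem_sup_left (Subgroup.mem_zpowers a))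
    have mb := Inv.Fz.cj_le_iff.1 hg b (Subgroup.mem_sup_right (Subgroup.mem_zpowers b))
    obtain ⟨a', ha'⟩ := α.surjective ⟨_, ma⟩
    obtain ⟨b', hb'⟩ := α.surjective ⟨_, mb⟩
    have := hs a' b' ((hα _ _).2 (ha' ▸ ha.trans (isConj_iff.2 ⟨g, rfl⟩)))
      ((hα _ _).2 (hb' ▸ hb.trans (isConj_iff.2 ⟨g, rfl⟩)))
      (congrArg Subtype.val (α.injective (Subtype.ext (by
        simp only [map_mul, ha', hb', Subgroup.coe_mul, conj_mul, e1])) : a' * a' = b' * b'))
      (congrArg Subtype.val (α.injective (Subtype.ext (by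
        simp only [map_mul, ha', hb', Subgroup.coe_mul, conj_mul, e2])) : a' * b' = b' * a'))
    rcases this with e | e
    · have := congrArg Subtype.val (hb'.symm.trans ((congrArg α (Subtype.ext e)).trans ha'))
      exact Or.inl (by simpa using this)
    · have := congrArg Subtype.val (hb'.symm.trans ((congrArg α
        (Subtype.ext e : b' = a'⁻¹)).trans (by rw [map_inv, ha'])))
      exact Or.inr (by simpa [mul_assoc] using this)
  exact (rel hr).fund_of_sc h2 hn h4 (sc hr (h.sc h2 hn h4)) (sc hr.symm (h.symm.sc h2 hn h4))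

end Cfsg.Agent.Fus.Ln
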