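import Mathlib
import Cfsg.Agent.Fus.LnB
import Cfsg.Agent.Cl.GLSyl

/-!
# Decompositions into planes and monomial matrices
-/

set_option autoImplicit false

namespace Cfsg.Agent.Fus.Ln

open Matrix Cfsg.Agent.Cl Cfsg.Agent.Cl.L2 Equiv

/-- A decomposition of the space into planes and a remainder. -/
structure Blk (ι F μ κ : Type*) [Field F] [Fintype ι] [DecidableEq ι] [Fintype μ] [Fintype κ]
    [DecidableEq κ] where
  A : μ → Matrix ι (Fin 2) F
  B : μ → Matrix (Fin 2) ι F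
  A0 : Matrix ι κ F
  B0 : Matrix κ ι F
  BA : ∀ j, B j * A j = 1
  orth : ∀ {i j}, i ≠ j → B i * A j = 0
  BA0 : B0 * A0 = 1
  orth0 : ∀ j, B0 * A j = 0
  orth0' : ∀ j, B j * A0 = 0
  sum : ∑ j, A j * B j + A0 * B0 = 1

namespace Blk

variable {F ι μ κ : Type*} [Field F] [Fintype ι] [DecidableEq ι] [Fintype μ] [DecidableEq μ]
  [Fintype κ] [DecidableEq κ] (β : Blk ι F μ κ)

/-- Matrices permuting the planes. -/
def Mon (X : Matrix ι ι F) (σ : Perm μ) : Prop :=
  ∀ j, X * (β.A j * β.B j) = β.A (σ j) * β.B (σ j) * X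

variable {β} {X Y : Matrix ι ι F} {σ τ : Perm μ} {s t u v u' v' : PS ι F} {i j : μ}

omit [DecidableEq μ] in
theorem Mon.mul (h : β.Mon X σ) (h' : β.Mon Y τ) : β.Mon (X * Y) (σ * τ) := fun j => by
  rw [mul_assoc, h' j, ← mul_assoc, h, mul_assoc, Perm.mul_apply]

omit [DecidableEq μ] in
theorem Mon.smul (h : β.Mon X σ) (c : F) : β.Mon (c • X) σ := fun j => by
  rw [smul_mul_assoc, mul_smul_comm, h]

omit [DecidableEq μ] in
theorem Mon.inv (h : β.Mon X σ) (h1 : X * Y = 1) (h2 : Y * X = 1) : β.Mon Y σ⁻¹ := fun j => by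
  have := h (σ⁻¹ j)
  rw [Perm.coe_inv, apply_symm_apply] at this
  rw [← mul_one (Y * _), ← h1, ← mul_assoc, mul_assoc Y, ← this, ← mul_assoc, h2, one_mul,
    Perm.coe_inv]

omit [DecidableEq μ] in
theorem Mon.mul_A (h : β.Mon X σ) (j : μ) :
    X * β.A j = β.A (σ j) * (β.B (σ j) * X * β.A j) := by
  have := congrArg (· * β.A j) (h j)
  simpa only [Matrix.mul_assoc, β.BA, Matrix.mul_one] using this

omit [DecidableEq μ] in
theorem Mon.B_mul (h : β.Mon X σ) (j : μ) :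
    β.B (σ j) * X = β.B (σ j) * X * β.A j * β.B j := by
  have := congrArg (β.B (σ j) * ·) (h j)
  simpa only [← Matrix.mul_assoc, β.BA, Matrix.one_mul] using this.symm

omit [DecidableEq μ] in
theorem Mon.block_zero (h : β.Mon X σ) (hi : i ≠ σ j) : β.B i * X * β.A j = 0 := by
  rw [Matrix.mul_assoc, h.mul_A, ← Matrix.mul_assoc, β.orth hi, Matrix.zero_mul]

omit [DecidableEq μ] in
theorem Mon.block_ne_zero (h : β.Mon X σ) (h2 : Y * X = 1) (j : μ) :
    β.B (σ j) * X * β.A j ≠ 0 := fun e => ne_zero_of_frame (β.BA j) <| by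
  rw [← Matrix.one_mul (β.A j), ← h2, Matrix.mul_assoc, h.mul_A, e]
  simp

omit [DecidableEq μ] in
theorem Mon.unique (h : β.Mon X σ) (h' : β.Mon X τ) (h2 : Y * X = 1) : σ = τ := by
  ext j
  by_contra hj
  exact h.block_ne_zero h2 j (h'.block_zero hj)

omit [DecidableEq μ] in
theorem mon_fe (j : μ) (G : M2 F) : β.Mon (fe (β.A j) (β.B j) G) 1 := fun i => by
  by_cases hi : i = j
  · subst hi; exact fe_comm_proj (β.BA i) G
  · rw [← Matrix.mul_assoc, fe_mul_of_orth (β.orth (Ne.symm hi)), Perm.one_apply, Matrix.mul_assoc,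
      mul_fe_of_orth (β.orth hi)]

omit [DecidableEq μ] in
theorem ext_A (h : ∀ j, X * β.A j = Y * β.A j) (h0 : X * β.A0 = Y * β.A0) : X = Y := by
  rw [← mul_one X, ← mul_one Y, ← β.sum]
  simp only [mul_add, Finset.mul_sum, ← Matrix.mul_assoc, h, h0]

variable (β) in
/-- The monomial matrix with given blocks. -/
def mat (w : Wr (GL (Fin 2) F) μ (Perm μ) × GL κ F) : Matrix ι ι F :=
  ∑ j, β.A j * (w.1.left j : M2 F) * β.B (w.1.right⁻¹ j) + β.A0 * (w.2 : Matrix κ κ F) * β.B0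

theorem mat_mul_A (w : Wr (GL (Fin 2) F) μ (Perm μ) × GL κ F) (j : μ) :
    β.mat w * β.A j = β.A (w.1.right j) * (w.1.left (w.1.right j) : M2 F) := by
  rw [mat, Matrix.add_mul, Matrix.sum_mul, Finset.sum_eq_single (w.1.right j)]
  · simp [Matrix.mul_assoc, β.BA, β.orth0]
  · intro i _ hi
    rw [Matrix.mul_assoc, β.orth fun e => hi (by rw [← e]; simp), Matrix.mul_zero]
  · simp

omit [DecidableEq μ] in
theorem mat_mul_A0 (w : Wr (GL (Fin 2) F) μ (Perm μ) × GL κ F) :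
    β.mat w * β.A0 = β.A0 * (w.2 : Matrix κ κ F) := by
  simp [mat, Matrix.add_mul, Matrix.sum_mul, Matrix.mul_assoc, β.BA0, β.orth0']

theorem B_mul_mat (w : Wr (GL (Fin 2) F) μ (Perm μ) × GL κ F) (j : μ) :
    β.B j * β.mat w = (w.1.left j : M2 F) * β.B (w.1.right⁻¹ j) := by
  rw [mat, Matrix.mul_add, Matrix.mul_sum, Finset.sum_eq_single j]
  · simp [← Matrix.mul_assoc, β.BA, β.orth0']
  · intro i _ hi
    rw [← Matrix.mul_assoc, ← Matrix.mul_assoc, β.orth hi.symm, Matrix.zero_mul, Matrix.zero_mul]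
  · simp

theorem mon_mat (w : Wr (GL (Fin 2) F) μ (Perm μ) × GL κ F) : β.Mon (β.mat w) w.1.right :=
  fun j => by
    rw [← Matrix.mul_assoc, mat_mul_A, Matrix.mul_assoc _ _ (β.mat w), B_mul_mat, Matrix.mul_assoc]
    simp

variable (β) in
/-- The monomial group. -/
def matHom : Wr (GL (Fin 2) F) μ (Perm μ) × GL κ F →* GL ι F := MonoidHom.toHomUnits
  { toFun := β.mat
    map_one' := β.ext_A (fun j => by rw [mat_mul_A]; simp) (by rw [mat_mul_A0]; simp)
    map_mul' := fun a b => β.ext_A (fun j => by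
      rw [Matrix.mul_assoc, mat_mul_A, mat_mul_A, ← Matrix.mul_assoc, mat_mul_A, Prod.fst_mul,
        wr_mul_left, Matrix.mul_assoc]
      simp) (by
      rw [Matrix.mul_assoc, mat_mul_A0, mat_mul_A0, ← Matrix.mul_assoc, mat_mul_A0,
        Matrix.mul_assoc]
      simp) }

theorem coe_matHom (w : Wr (GL (Fin 2) F) μ (Perm μ) × GL κ F) :
    (β.matHom w : Matrix ι ι F) = β.mat w := rfl

theorem matHom_injective : Function.Injective β.matHom := by
  rw [injective_iff_map_eq_one]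
  intro w hw
  have e : β.mat w = 1 := congrArg Units.val hw
  have h1 : w.1.right = 1 :=
    (β.mon_mat w).unique (Y := 1) (by rw [e]; intro j; simp) (by rw [e, one_mul])
  refine Prod.ext (SemidirectProduct.ext (funext fun j => Units.ext ?_) h1) (Units.ext ?_)
  · have := congrArg (β.B j * ·) (β.mat_mul_A w j)
    simpa [e, h1, ← Matrix.mul_assoc, β.BA] using this.symm
  · have := congrArg (β.B0 * ·) (β.mat_mul_A0 w)
    simpa [e, ← Matrix.mul_assoc, β.BA0] using this.symm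

variable (β) in
/-- Transport along an invertible matrix. -/
def conj {P P' : Matrix ι ι F} (h : P * P' = 1) (h' : P' * P = 1) : Blk ι F μ κ where
  A j := P * β.A j
  B j := β.B j * P'
  A0 := P * β.A0
  B0 := β.B0 * P'
  BA j := conj_frame h' (β.BA j)
  orth hi := by rw [Matrix.mul_assoc, ← Matrix.mul_assoc P', h', Matrix.one_mul, β.orth hi]
  BA0 := conj_frame h' β.BA0
  orth0 j := by rw [Matrix.mul_assoc, ← Matrix.mul_assoc P', h', Matrix.one_mul, β.orth0]
  orth0' j := by rw [Matrix.mul_assoc, ← Matrix.mul_assoc P', h', Matrix.one_mul, β.orth0']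
  sum := by
    have := congrArg (fun M => P * M * P') β.sum
    simpa only [mul_add, add_mul, Finset.mul_sum, Finset.sum_mul, Matrix.mul_assoc, h,
      Matrix.mul_one, Matrix.one_mul] using this

omit [DecidableEq μ] in
theorem mon_conj {P P' : Matrix ι ι F} (h : P * P' = 1) (h' : P' * P = 1)
    (hX : β.Mon (P' * X * P) σ) : (β.conj h h').Mon X σ := fun j => by
  have := congrArg (fun M => P * M * P') (hX j)
  simp only [Matrix.mul_assoc, h, Matrix.mul_one, ← Matrix.mul_assoc P P', Matrix.one_mul] at this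
  simpa only [conj, Matrix.mul_assoc] using this

/-- The standard decomposition. -/
def std (F : Type*) [Field F] (e : (μ × Fin 2) ⊕ κ ≃ ι) : Blk ι F μ κ where
  A j := (1 : Matrix ι ι F).submatrix (Equiv.refl ι) fun b => e (.inl (j, b))
  B j := (1 : Matrix ι ι F).submatrix (fun b => e (.inl (j, b))) (Equiv.refl ι)
  A0 := (1 : Matrix ι ι F).submatrix (Equiv.refl ι) fun b => e (.inr b)
  B0 := (1 : Matrix ι ι F).submatrix (fun b => e (.inr b)) (Equiv.refl ι)
  BA j := by rw [submatrix_mul_equiv]; ext; simp [one_apply]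
  orth hi := by rw [submatrix_mul_equiv]; ext; simp [one_apply, hi]
  BA0 := by rw [submatrix_mul_equiv]; ext; simp [one_apply]
  orth0 j := by rw [submatrix_mul_equiv]; ext; simp [one_apply]
  orth0' j := by rw [submatrix_mul_equiv]; ext; simp [one_apply]
  sum := by
    ext a b
    have := Fintype.sum_equiv e (fun x => (1 : Matrix ι ι F) a (e x) * (1 : Matrix ι ι F) (e x) b)
      (fun x => (1 : Matrix ι ι F) a x * (1 : Matrix ι ι F) x b) fun _ => rfl
    rw [← mul_apply, Matrix.mul_one, Fintype.sum_sum_type, Fintype.sum_prod_type] at this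
    rw [← this, Matrix.add_apply, Matrix.sum_apply]
    rfl

variable (β) in
/-- `t` permutes the planes according to `σ`. -/
def Pm (t : PS ι F) (σ : Perm μ) : Prop := ∃ X, Lf t X ∧ β.Mon X σ

omit [DecidableEq μ]

theorem Pm.mon (h : β.Pm t σ) (hX : Lf t X) : β.Mon X σ := by
  obtain ⟨Y, h1, h2⟩ := h
  obtain ⟨c, -, rfl⟩ := h1.unique hX
  exact h2.smul c

theorem Pm.mul (h : β.Pm s σ) (h' : β.Pm t τ) : β.Pm (s * t) (σ * τ) :=
  let ⟨_, a, b⟩ := h; let ⟨_, c, d⟩ := h'; ⟨_, a.mul c, b.mul d⟩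

theorem Pm.inv (h : β.Pm t σ) : β.Pm t⁻¹ σ⁻¹ :=
  let ⟨_, a, b⟩ := h; let ⟨_, c, d, e⟩ := a.exists_inv; ⟨_, e, b.inv c d⟩

theorem pm_one : β.Pm 1 1 := ⟨1, lf_one, fun j => by simp⟩

theorem Pm.unique (h : β.Pm t σ) (h' : β.Pm t τ) : σ = τ :=
  let ⟨_, a, b⟩ := h; let ⟨_, _, d, _⟩ := a.exists_inv; b.unique (h'.mon a) d

variable (β) in
/-- The stabiliser of the decomposition. -/
def NB : Subgroup (PS ι F) where
  carrier := {t | ∃ σ, β.Pm t σ}
  mul_mem' := fun ⟨_, a⟩ ⟨_, b⟩ => ⟨_, a.mul b⟩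
  one_mem' := ⟨1, pm_one⟩
  inv_mem' := fun ⟨_, a⟩ => ⟨_, a.inv⟩

variable (β) in
/-- The stabiliser of all planes. -/
def BB : Subgroup (PS ι F) where
  carrier := {t | β.Pm t 1}
  mul_mem' := fun a b => by simpa using Pm.mul a b
  one_mem' := pm_one
  inv_mem' := fun a => by simpa using Pm.inv a

theorem BB_le : β.BB ≤ β.NB := fun _ h => ⟨1, h⟩

theorem le_normalizer_BB [Finite F] : β.NB ≤ Subgroup.normalizer (β.BB : Set (PS ι F)) :=
  fun _ ⟨σ, h⟩ => Inv.Fz.mem_normalizer_of_conj_mem fun x hx => by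
    have := (h.mul hx).mul h.inv
    rwa [mul_one, mul_inv_cancel] at this

variable (β) in
/-- The action on the planes. -/
noncomputable def pi : β.NB →* Perm μ := MonoidHom.mk' (fun t => t.2.choose) fun s t =>
  (s * t).2.choose_spec.unique (s.2.choose_spec.mul t.2.choose_spec)

theorem pm_pi (t : β.NB) : β.Pm t (β.pi t) := t.2.choose_spec

theorem pi_surjective : Function.Surjective β.pi := by
  classical
  intro σ
  rcases isEmpty_or_nonempty μ with hμ | ⟨⟨j⟩⟩
  · exact ⟨1, Subsingleton.elim _ _⟩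
  let x := β.matHom (SemidirectProduct.inr σ, 1)
  have h1 : β.Mon ((x : Matrix ι ι F) * fe (β.A j) (β.B j) !![(x : Matrix ι ι F).det⁻¹, 0; 0, 1]) (σ * 1) :=
    (β.mon_mat _).mul (mon_fe j _)
  obtain ⟨t, ht⟩ := exists_lf_of_det
    (X := (x : Matrix ι ι F) * fe (β.A j) (β.B j) !![(x : Matrix ι ι F).det⁻¹, 0; 0, 1])
    (by rw [det_mul, det_fe (β.BA j), det_fin_two_of]; simp [x.det_ne_zero])
  exact ⟨⟨t, _, _, ht, h1⟩, (pm_pi _).unique ⟨_, ht, by simpa using h1⟩⟩

theorem exists_fix [Subsingleton κ] (hn : 2 < Fintype.card ι) (j : μ) (δ : F) :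
    ∃ h : Matrix ι ι F, h.det = δ ∧ β.Mon h 1 ∧ h * β.A j = β.A j := by
  classical
  by_cases hi : ∃ i, i ≠ j
  · obtain ⟨i, hi⟩ := hi
    exact ⟨_, by rw [det_fe (β.BA i), det_fin_two_of]; simp, mon_fe i !![δ, 0; 0, 1],
      fe_mul_of_orth (β.orth hi) _⟩
  push Not at hi
  rcases isEmpty_or_nonempty κ with hκ | ⟨⟨k⟩⟩
  · have := β.sum
    rw [Finset.sum_eq_single j (fun i _ h => absurd (hi i) h) (by simp),
      show β.A0 * β.B0 = 0 by ext; simp [mul_apply], add_zero] at this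
    exact absurd (card_le_of_frame this) (by simpa using hn)
  have : Unique κ := ⟨⟨k⟩, fun _ => Subsingleton.elim _ _⟩
  refine ⟨fe β.A0 β.B0 (δ • 1), by rw [det_fe β.BA0]; simp, fun i => ?_,
    fe_mul_of_orth (β.orth0 j) _⟩
  rw [← Matrix.mul_assoc, fe_mul_of_orth (β.orth0 i), Perm.one_apply, Matrix.mul_assoc,
    mul_fe_of_orth (β.orth0' i)]

variable (β) in
/-- Fundamental pairs on the `j`-th plane. -/
abbrev FJ (j : μ) (u v : PS ι F) : Prop := FundF (β.A j) (β.B j) u v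

theorem FJ.mem (h : β.FJ j u v) : u ∈ β.BB :=
  let ⟨U, _, _, h, _⟩ := h; ⟨_, h, mon_fe j U⟩

theorem FJ.comm (h : β.FJ i u v) (h' : β.FJ j u' v') (hij : i ≠ j) : u' * u = u * u' :=
  let ⟨U, _, _, h, _⟩ := h; let ⟨U', _, _, h', _⟩ := h'
  h'.comm h (fe_comm_of_orth (β.orth hij.symm) (β.orth hij) U' U)

theorem FJ.conj (h : β.FJ j u v) (ht : β.Pm t σ) : β.FJ (σ j) (t * u * t⁻¹) (t * v * t⁻¹) := by
  obtain ⟨X, h1, h2⟩ := ht
  obtain ⟨Y, a, b, -⟩ := h1.exists_inv
  refine (FundF.conj h1 a h).change (conj_frame b (β.BA j)) (β.BA _) ?_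
  rw [← Matrix.mul_assoc, Matrix.mul_assoc X, h2, Matrix.mul_assoc, a, Matrix.mul_one]

theorem FJ.comm_iff (h2 : (2 : F) ≠ 0) (hn : 2 < Fintype.card ι) (h : β.FJ j u v)
    (ht : t ∈ β.BB) (hX : Lf t X) :
    (t * u = u * t ∧ t * v = v * t) ↔ ∃ c : F, β.B j * X * β.A j = c • 1 := by
  obtain ⟨U, V, h1, hu, hv⟩ := h
  have hm : β.Mon X 1 := Pm.mon ht hX
  have e1 := hm.mul_A j
  have e2 := hm.B_mul j
  rw [Perm.one_apply] at e1 e2
  refine ⟨fun h => ?_, fun ⟨c, hc⟩ => ⟨hX.comm hu (comm_fe e1 e2 (by simp [hc])),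
    hX.comm hv (comm_fe e1 e2 (by simp [hc]))⟩⟩
  obtain ⟨Y, a, b, -⟩ := hX.exists_inv
  have key : ∀ {u : PS ι F} {U : M2 F}, Lf u (fe (β.A j) (β.B j) U) → t * u = u * t →
      β.B j * X * β.A j * U = U * (β.B j * X * β.A j) := by
    intro u U hu e
    obtain ⟨c, -, e3⟩ := hu.unique
      (show t * u * t⁻¹ = u by rw [e, mul_inv_cancel_right] ▸ hX.conj_fe a hu)
    have hA := conj_frame b (β.BA j)
    rw [fe_change hA (β.BA j) (by rw [← Matrix.mul_assoc, Matrix.mul_assoc X, hm j,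
      Matrix.mul_assoc, a, Matrix.mul_one, Perm.one_apply])] at e3
    have e4 := eq_of_fe_smul (β.BA j) (by simpa using hn) e3
    conv_rhs => rw [← e4]
    simp only [Matrix.mul_assoc]
    rw [← Matrix.mul_assoc (β.A j) (β.B j), ← Matrix.mul_assoc (β.A j * β.B j),
      ← Perm.one_apply j, ← hm j, Matrix.mul_assoc X, ← Matrix.mul_assoc Y, b]
    simp [Matrix.mul_assoc, β.BA]
  exact h1.scalar h2 (key hu h.1) (key hv h.2)

theorem FJ.not_comm (h2 : (2 : F) ≠ 0) (hn : 2 < Fintype.card ι) (h : β.FJ j u v)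
    (h' : β.FJ j u' v') : ¬ (u' * u = u * u' ∧ u' * v = v * u') := by
  intro e
  obtain ⟨U, V, h1, hu, -⟩ := id h'
  obtain ⟨c, hc⟩ := (h.comm_iff h2 hn h'.mem hu).1 e
  rw [B_fe_A (β.BA j)] at hc
  have e1 := h1.trace h2
  have e2 := h1.det h2
  rw [hc] at e1 e2
  simp [h2] at e1
  simp [e1] at e2

theorem FJ.unique (h2 : (2 : F) ≠ 0) (hn : 2 < Fintype.card ι) (h : β.FJ i u v)
    (h' : β.FJ j u v) : i = j := by
  by_contra hij
  exact h.not_comm h2 hn h ⟨rfl, FJ.comm h.symm h' hij⟩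

theorem mon_one_of_fe (h2 : (2 : F) ≠ 0) {A : Matrix ι (Fin 2) F} {B : Matrix (Fin 2) ι F}
    (hA : B * A = 1) {U : M2 F} (hU : U * U = -1) (h : β.Mon (fe A B U) σ) : σ = 1 := by
  ext a
  by_contra ha
  rw [Perm.one_apply] at ha
  have e1 := h.block_zero (Ne.symm ha)
  have e2 : β.B a * A * (1 - U) * (B * β.A a) = 1 := by
    rw [← sub_eq_zero, ← neg_eq_zero, ← e1]
    simp [fe, Matrix.mul_add, Matrix.add_mul, Matrix.mul_sub, Matrix.sub_mul, Matrix.mul_assoc,
      β.BA]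
    abel
  have e3 := mul_eq_one_comm.1 e2
  have e4 := mul_eq_one_comm.1 ((mul_assoc _ _ _).symm.trans e2)
  have hy := h.mul h
  rw [fe_mul hA, hU, fe_neg_one] at hy
  by_cases hc : a = (σ * σ) a
  · have e5 := hy.block_zero (i := σ a) (j := a) (hc ▸ ha)
    have e6 : β.B (σ a) * A * (B * β.A a) = 0 := by
      simpa [Matrix.mul_sub, Matrix.sub_mul, Matrix.mul_assoc, β.orth ha, h2] using e5
    have e7 : β.B (σ a) * A = 0 := by
      rw [← mul_one (β.B (σ a) * A), ← e3, ← mul_assoc, e6, zero_mul]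
    refine h.block_ne_zero (Y := fe A B (-U)) (by rw [fe_mul hA, neg_mul, hU, neg_neg, fe_one]) a ?_
    rw [mul_fe_of_orth e7, β.orth ha]
  · have e5 := hy.block_zero hc
    have e6 : (2 : F) • (β.B a * A * (B * β.A a)) = 1 := by
      refine (sub_eq_zero.1 ?_).symm
      simpa [Matrix.mul_sub, Matrix.sub_mul, Matrix.mul_assoc, β.BA] using e5
    have e7 : β.B a * A * (1 + U) * (B * β.A a) = 0 := by
      rw [show 1 + U = (2 : F) • 1 - (1 - U) by module, mul_sub, sub_mul, e2, mul_smul_comm,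
        smul_mul_assoc, mul_one, e6, sub_self]
    have e8 : 1 + U = 0 := by
      calc 1 + U = (1 - U) * (B * β.A a) * (β.B a * A) * (1 + U) *
          (B * β.A a * (β.B a * A * (1 - U))) := by rw [e3, e4, one_mul, mul_one]
        _ = (1 - U) * (B * β.A a) * (β.B a * A * (1 + U) * (B * β.A a)) *
          (β.B a * A * (1 - U)) := by simp only [mul_assoc]
        _ = 0 := by rw [e7, mul_zero, zero_mul]
    rw [eq_neg_of_add_eq_zero_right e8, neg_mul_neg, one_mul] at hU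
    exact neg_one_ne_one_two h2 hU.symm

theorem exists_FJ [Subsingleton κ] (h2 : (2 : F) ≠ 0) (h : Fund u v) (hu : u ∈ β.NB)
    (hv : v ∈ β.NB) : ∃ j, β.FJ j u v := by
  obtain ⟨A, B, hA, h⟩ := h
  obtain ⟨U, V, h1, lu, lv⟩ := id h
  obtain ⟨σ, hu⟩ := hu
  obtain ⟨τ, hv⟩ := hv
  have mu := hu.mon lu
  have mv := hv.mon lv
  obtain rfl := mon_one_of_fe h2 hA h1.1 mu
  obtain rfl := mon_one_of_fe h2 hA h1.2.1 mv
  have c0 : ∀ j, A * B * (β.A j * β.B j) = β.A j * β.B j * (A * B) := fun j => by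
    have := mu.mul mu j
    rw [fe_mul hA, h1.1, fe_neg_one, mul_one, Perm.one_apply, sub_mul, mul_sub, one_mul, mul_one,
      sub_right_inj, smul_mul_assoc, mul_smul_comm] at this
    exact smul_right_injective _ h2 this
  have key : ∀ {U : M2 F}, β.Mon (fe A B U) 1 → ∀ j,
      B * (β.A j * β.B j) * A * U = U * (B * (β.A j * β.B j) * A) := by
    intro U mu j
    rw [Matrix.mul_assoc, ← fe_mul_A hA, Matrix.mul_assoc, ← Matrix.mul_assoc _ (fe A B U),
      ← Perm.one_apply j, ← mu j, ← Matrix.mul_assoc, ← Matrix.mul_assoc, B_mul_fe hA]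
    simp only [Matrix.mul_assoc, Perm.one_apply]
  by_contra hne
  push Not at hne
  have z : ∀ j, B * (β.A j * β.B j) * A = 0 := fun j => by
    obtain ⟨c, hc⟩ := h1.scalar h2 (key mu j) (key mv j)
    have e1 : B * (β.A j * β.B j) * A * (B * (β.A j * β.B j) * A) = B * (β.A j * β.B j) * A := by
      rw [block_mul hA (c0 j).symm, proj_idem (β.BA j)]
      simp only [Matrix.mul_assoc, hA, Matrix.mul_one]
    rw [hc, smul_mul_smul_comm, mul_one] at e1
    have e2 : c * c = c := by simpa using congrFun (congrFun e1 0) 0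
    rcases (mul_right_eq_self₀.1 e2) with rfl | rfl
    swap
    · rw [hc, zero_smul]
    refine absurd (h.change hA (β.BA j) ?_) (hne j)
    rw [one_smul] at hc
    have e3 : β.B j * A * (B * β.A j) = 1 :=
      mul_eq_one_comm.1 (by rw [← hc]; simp only [Matrix.mul_assoc])
    calc A * B = A * (B * (β.A j * β.B j) * A) * B := by rw [hc, Matrix.mul_one]
      _ = A * B * (β.A j * β.B j) * (A * B) := by simp only [Matrix.mul_assoc]
      _ = β.A j * β.B j * (A * B) * (β.A j * β.B j) := by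
        rw [c0, mul_assoc, proj_idem hA, mul_assoc, c0, ← mul_assoc, proj_idem (β.BA j)]
      _ = β.A j * (β.B j * A * (B * β.A j)) * β.B j := by simp only [Matrix.mul_assoc]
      _ = _ := by rw [e3, Matrix.mul_one]
  have e1 := congrArg (fun M => B * M * A) β.sum
  simp only [Matrix.mul_add, Matrix.add_mul, Matrix.mul_sum, Matrix.sum_mul, z, Matrix.mul_one, hA,
    Finset.sum_const_zero, zero_add] at e1
  have e2 := card_le_of_frame (A := β.B0 * A) (B := B * β.A0)
    (by rw [← e1]; simp only [Matrix.mul_assoc])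
  have := Fintype.card_le_one_iff_subsingleton.2 ‹Subsingleton κ›
  simp at e2
  omega

end Blk

/-- A Sylow `2`-subgroup of `PSL_n(q)`, `q` odd, permutes the planes of a decomposition. -/
theorem exists_blk {F : Type*} [Field F] [Finite F] (h2 : (2 : F) ≠ 0) (m : ℕ) {k : ℕ} (hk : k ≤ 1)
    (T : Sylow 2 (PS (Fin (2 * m + k)) F)) :
    ∃ β : Blk (Fin (2 * m + k)) F (Fin m) (Fin k), (T : Subgroup _) ≤ β.NB := by
  have : Fact (Nat.Prime 2) := ⟨Nat.prime_two⟩
  have := Fintype.ofFinite F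
  have hF : Odd (Fintype.card F) := by
    rw [← Nat.card_eq_fintype_card, Nat.odd_iff]; exact two_ne_zero_iff_odd.1 h2
  let β := Blk.std F (Fintype.equivOfCardEq (by simp [mul_comm]) :
    (Fin m × Fin 2) ⊕ Fin k ≃ Fin (2 * m + k))
  let D : Sylow 2 (GL (Fin 2) F) := default
  let W : Sylow 2 (Perm (Fin m)) := default
  let E : Sylow 2 (GL (Fin k) F) := default
  let f := β.matHom.comp (GLS.resW D.1 W.1 E.1)
  have hf : Function.Injective f := Blk.matHom_injective.comp (GLS.resW_injective _ _ _)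
  let P : Sylow 2 (GL (Fin (2 * m + k)) F) := Sylow.ofCard f.range (by
    rw [← GLS.card_W2 hF m hk D W E]
    exact (Nat.card_congr (f.ofInjective hf).toEquiv).symm)
  obtain ⟨P₀, rfl⟩ := Sylow.mapSurjective_surjective
    (QuotientGroup.mk'_surjective (Subgroup.center (Matrix.SpecialLinearGroup (Fin (2 * m + k)) F)))
    2 T
  obtain ⟨g, hg⟩ := Inv.Fz.exists_cj_le_sylow P
    (P₀.isPGroup'.map Matrix.SpecialLinearGroup.toGL)
  refine ⟨β.conj (P := (g⁻¹ : GL _ F)) (P' := g) (Units.inv_mul g) (Units.mul_inv g), ?_⟩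
  rintro _ ⟨x, hx, rfl⟩
  obtain ⟨w, hw⟩ := Inv.Fz.cj_le_iff.1 hg _ ⟨x, hx, rfl⟩
  have := β.mon_mat (GLS.resW D.1 W.1 E.1 w)
  rw [← Blk.coe_matHom, show β.matHom _ = _ from hw] at this
  exact ⟨_, _, lf_coe x, Blk.mon_conj _ _ this⟩

end Cfsg.Agent.Fus.Ln
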