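import Mathlib
import Cfsg.Agent.Fus.LnC
import Cfsg.Agent.Fus.FactorSat
import Cfsg.Agent.Inv.TwoAut
import Cfsg.Agent.Sym.SylowTwo
import Cfsg.Agent.Cl.PSL2Struct

/-!
# Automorphisms of odd order of a Sylow `2`-subgroup of `PSL_n(q)` preserving conjugacy are trivial
-/

set_option autoImplicit false

namespace Cfsg.Agent.Fus.Ln

open Matrix Cfsg.Agent.Cl Cfsg.Agent.Cl.L2 Equiv Subgroup Cfsg.Agent.Inv
open scoped MatrixGroups

theorem isPGroup_mulAut_pgl {F : Type*} [Field F] [Finite F] (h2 : (2 : F) ≠ 0)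
    {D : Subgroup PGL(2, F)} (hD : IsPGroup 2 D) (h : 4 < Nat.card D ∨ ∃ g ∈ D, g * g ≠ 1) :
    IsPGroup 2 (MulAut D) := by
  have : Fact (Nat.Prime 2) := ⟨Nat.prime_two⟩
  have : Nontrivial D := by
    rcases h with h | ⟨g, hg, h⟩
    · exact Finite.one_lt_card_iff_nontrivial.1 (by omega)
    · exact ⟨⟨⟨g, hg⟩, 1, fun e => h (by rw [show g = 1 from congrArg Subtype.val e, mul_one])⟩⟩
  have := hD.center_nontrivial
  obtain ⟨k, hk, e⟩ := (hD.to_subgroup (Subgroup.center D)).nontrivial_iff_card.1 this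
  obtain ⟨w, hw⟩ := exists_prime_orderOf_dvd_card' (G := Subgroup.center D) 2
    (e ▸ dvd_pow_self 2 hk.ne')
  have ho : orderOf ((w : D) : PGL(2, F)) = 2 := by rw [orderOf_coe, orderOf_coe, hw]
  have ht : tau ((w : D) : PGL(2, F)) ≠ 4 := by
    rw [tau_of_orderOf_two ho]; exact (four_ne_zero_of_two h2).symm
  have hle : D ≤ ntor ((w : D) : PGL(2, F)) := fun x hx => mem_ntor_of_comm (ne_one_of_tau ht)
    (congrArg Subtype.val (mem_center_iff.1 w.2 ⟨x, hx⟩))
  set K := (tor ((w : D) : PGL(2, F))).subgroupOf D with hK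
  have hmem : ∀ x : D, x * x ≠ 1 → x ∈ K := fun x hx => by
    by_contra hx'
    exact hx (Subtype.ext (mul_self_of_mem_ntor ht (hle x.2) hx'))
  have hi : K.index ∣ 2 := by
    have h1 := relIndex_le_of_le_right (H := tor ((w : D) : PGL(2, F))) hle
      (by rw [relIndex_tor_ntor ht]; omega)
    rw [relIndex_tor_ntor ht] at h1
    have h3 : K.index ≠ 0 := index_ne_zero_of_finite
    change K.index ≤ 2 at h1
    interval_cases K.index <;> simp_all
  have := isCyclic_tor ht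
  have : IsCyclic K := isCyclic_of_injective
    ((D.subtype.comp K.subtype).codRestrict (tor ((w : D) : PGL(2, F))) fun x => x.2)
    fun a b e => Subtype.ext (Subtype.ext (Subtype.ext_iff.1 e :))
  obtain ⟨x, hx⟩ := IsCyclic.exists_generator (α := K)
  have e1 : zpowers (x : D) = K := le_antisymm (zpowers_le.2 x.2) fun y hy => by
    obtain ⟨n, hn⟩ := hx ⟨y, hy⟩
    exact ⟨n, congrArg Subtype.val hn⟩
  have e2 : (x : D) * x ≠ 1 := fun e2 => by
    have h3 : orderOf (x : D) ∣ 2 := orderOf_dvd_of_pow_eq_one (by rw [sq, e2])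
    rcases h with h | ⟨g, hg, h⟩
    · have h4 := K.card_mul_index
      rw [← e1, Nat.card_zpowers, e1] at h4
      have := Nat.mul_le_mul (Nat.le_of_dvd two_pos h3) (Nat.le_of_dvd two_pos hi)
      omega
    · have h4 : (⟨g, hg⟩ : D) * ⟨g, hg⟩ ≠ 1 := fun e => h (congrArg Subtype.val e)
      obtain ⟨n, hn⟩ := e1.ge (hmem _ h4)
      exact h4 (by rw [← hn, ← (Commute.refl _).mul_zpow, e2, _root_.one_zpow])
  refine Fz.isPGroup_mulAut_of_zpowers hD (x := (x : D)) (by rw [e1]; exact hi) fun ψ _ => e1.ge (hmem _ ?_)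
  rwa [← map_mul, ne_eq, EmbeddingLike.map_eq_one_iff]

theorem fix_mod {X Y : Type*} [Group X] [Finite X] [Group Y] {ψ : MulAut X}
    (hψ : Odd (orderOf ψ)) {K : Subgroup X} (hK : ∀ x ∈ K, ψ x ∈ K) (ρ : K →* Y)
    (hker : ∀ x : K, ρ x = 1 → ρ ⟨ψ x, hK x x.2⟩ = 1) (hA : IsPGroup 2 (MulAut ρ.range))
    (x : K) : ρ ⟨ψ x, hK x x.2⟩ = ρ x := by
  let f : K →* K := (ψ.toMonoidHom.comp K.subtype).codRestrict K fun x => hK x x.2
  have hf : Function.Injective f := fun a b e =>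
    Subtype.ext (ψ.injective (congrArg Subtype.val e))
  let φ : MulAut K := MulEquiv.ofBijective f (Finite.injective_iff_bijective.1 hf)
  have hpow : ∀ (n : ℕ) (y : K), (((φ ^ n) y : K) : X) = (ψ ^ n) y := fun n => by
    induction n with
    | zero => intro y; rfl
    | succ n ih => intro y; rw [pow_succ, pow_succ, MulAut.mul_apply, MulAut.mul_apply, ih]; rfl
  have h1 : φ ^ orderOf ψ = 1 := MulEquiv.ext fun y => Subtype.ext (by
    rw [hpow, pow_orderOf_eq_one]; rfl)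
  obtain ⟨τ, hτ⟩ := exists_autPush ρ.rangeRestrict ρ.rangeRestrict_surjective (zpowers φ) (by
    intro α hα y hy
    obtain ⟨n, rfl⟩ := mem_powers_iff_mem_zpowers.2 hα
    refine Subtype.ext ?_
    replace hy : ρ y = 1 := congrArg Subtype.val hy
    change ρ ((φ ^ n) y) = 1
    induction n with
    | zero => exact hy
    | succ n ih => rw [pow_succ']; exact hker _ (ih (pow_mem (mem_zpowers φ) n)))
  obtain ⟨k, hk⟩ := hA (τ ⟨φ, mem_zpowers φ⟩)
  have h3 : τ ⟨φ, mem_zpowers φ⟩ = 1 := by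
    rw [← orderOf_eq_one_iff]
    refine Nat.eq_one_of_dvd_coprimes (Nat.Coprime.pow_left k (Nat.coprime_two_left.2 hψ))
      (orderOf_dvd_of_pow_eq_one hk) (orderOf_dvd_of_pow_eq_one ?_)
    rw [← map_pow, show (⟨φ, mem_zpowers φ⟩ : zpowers φ) ^ orderOf ψ = 1 from Subtype.ext h1,
      map_one]
  have := hτ ⟨φ, mem_zpowers φ⟩ x
  rw [h3] at this
  exact (congrArg Subtype.val this).symm

namespace Blk

variable {F ι μ κ : Type*} [Field F] [Fintype ι] [DecidableEq ι] [Fintype μ] [Fintype κ]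
  [DecidableEq κ] {β : Blk ι F μ κ} {X Y : Matrix ι ι F} {t u v : PS ι F} {j : μ}

theorem Mon.block_mul (h : β.Mon Y 1) (X : Matrix ι ι F) (j : μ) :
    β.B j * (X * Y) * β.A j = β.B j * X * β.A j * (β.B j * Y * β.A j) := by
  rw [Ln.block_mul (β.BA j) (h j)]
  simp only [Matrix.mul_assoc, β.BA, Matrix.mul_one]

theorem det_block_ne (ht : t ∈ β.BB) (hX : Lf t X) (j : μ) : (β.B j * X * β.A j).det ≠ 0 := by
  obtain ⟨Y, -, b, -⟩ := hX.exists_inv
  have := congrArg Matrix.det ((Pm.mon ht hX).block_mul Y j)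
  rw [b, Matrix.mul_one, β.BA, det_one, det_mul] at this
  exact right_ne_zero_of_mul_eq_one this.symm

theorem pm_block_eq (hX : Lf t X) (hY : Lf t Y) (j : μ) :
    pm (β.B j * X * β.A j) = pm (β.B j * Y * β.A j) := by
  obtain ⟨c, hc, rfl⟩ := hX.unique hY
  rw [Matrix.mul_smul, Matrix.smul_mul, pm_smul hc]

variable (β) in
/-- The projective action on a plane. -/
noncomputable def rho (j : μ) : β.BB →* PGL(2, F) :=
  MonoidHom.mk' (fun t => pm (β.B j * (exists_lf t.1).choose * β.A j)) fun s t => by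
    have h1 := (exists_lf s.1).choose_spec.1
    have h2 := (exists_lf t.1).choose_spec.1
    rw [pm_block_eq (exists_lf (s * t).1).choose_spec.1 (h1.mul h2), (Pm.mon t.2 h2).block_mul,
      pm_mul (det_block_ne s.2 h1 j) (det_block_ne t.2 h2 j)]

theorem rho_eq {t : β.BB} (hX : Lf t.1 X) (j : μ) : β.rho j t = pm (β.B j * X * β.A j) :=
  pm_block_eq (exists_lf t.1).choose_spec.1 hX j

theorem FJ.rho_eq_one_iff (h2 : (2 : F) ≠ 0) (hn : 2 < Fintype.card ι) (h : β.FJ j u v)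
    (t : β.BB) : β.rho j t = 1 ↔ t * u = u * t ∧ t * v = v * t := by
  obtain ⟨X, hX, -⟩ := exists_lf t.1
  rw [h.comm_iff h2 hn t.2 hX, rho_eq hX, pm_eq_one_iff' (det_block_ne t.2 hX j)]

theorem exists_diag [Subsingleton κ] {t : β.BB} (h : ∀ j, β.rho j t = 1) (hX : Lf t.1 X) :
    ∃ (l : μ → F) (c : F), (∀ j, X * β.A j = l j • β.A j) ∧ X * β.A0 = c • β.A0 := by
  have hm : β.Mon X 1 := Pm.mon t.2 hX
  have h1 : ∀ j, ∃ c : F, β.B j * X * β.A j = c • 1 := fun j =>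
    (pm_eq_one_iff' (det_block_ne t.2 hX j)).1 (rho_eq hX j ▸ h j)
  choose l hl using h1
  have h2 : ∃ c : F, β.B0 * X * β.A0 = c • 1 := by
    by_contra h2
    obtain ⟨w, ξ, e1, e2⟩ := exists_vec_of_not_scalar h2
    rcases isEmpty_or_nonempty κ with hκ | ⟨⟨k⟩⟩
    · simp [dotProduct] at e2
    · have : Unique κ := ⟨⟨k⟩, fun _ => Subsingleton.elim _ _⟩
      exact h2 ⟨_, Matrix.ext fun a b => by
        rw [Subsingleton.elim a default, Subsingleton.elim b default, Matrix.smul_apply,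
          one_apply_eq, smul_eq_mul, mul_one]⟩
  obtain ⟨c, hc⟩ := h2
  refine ⟨l, c, fun j => by rw [hm.mul_A, Perm.one_apply, hl]; simp, ?_⟩
  have e : ∀ j, β.A j * β.B j * (X * β.A0) = 0 := fun j => by
    rw [← Matrix.mul_assoc, ← Perm.one_apply j, ← hm j, Matrix.mul_assoc, Matrix.mul_assoc,
      β.orth0']
    simp
  rw [← Matrix.one_mul (X * β.A0), ← β.sum, Matrix.add_mul, Matrix.sum_mul]
  simp only [e, Finset.sum_const_zero, zero_add]
  rw [Matrix.mul_assoc, ← Matrix.mul_assoc β.B0, hc]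
  simp

variable [Finite F] (h2 : (2 : F) ≠ 0) (hn : 2 < Fintype.card ι) {T : Sylow 2 (PS ι F)}
  (hT : (T : Subgroup (PS ι F)) ≤ β.NB)
include h2 hn hT

theorem exists_FJ_mem (j : μ) : ∃ u v : (T : Subgroup (PS ι F)), β.FJ j u v := by
  have : Fact (Nat.Prime 2) := ⟨Nat.prime_two⟩
  obtain ⟨U, V, h⟩ := exists_QP h2
  obtain ⟨u, hu⟩ := exists_lf_of_det ((det_fe (β.BA j) U).trans (h.det h2))
  obtain ⟨v, hv⟩ := exists_lf_of_det ((det_fe (β.BA j) V).trans (h.symm.det h2))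
  have h1 : β.FJ j u v := ⟨U, V, h, hu, hv⟩
  obtain ⟨b, hb, h3⟩ := ((Fz.isSylIn_sylow T hT).inf_of_le_normalizer BB_le
    le_normalizer_BB).exists_cj_le (Fund.rel h2 hn ⟨_, _, β.BA j, h1⟩).isPGroup
    (sup_le (zpowers_le.2 h1.mem) (zpowers_le.2 (FJ.mem h1.symm)))
  exact ⟨⟨_, (Fz.cj_le_iff.1 h3 u (mem_sup_left (mem_zpowers u))).1⟩,
    ⟨_, (Fz.cj_le_iff.1 h3 v (mem_sup_right (mem_zpowers v))).1⟩, h1.conj hb⟩

theorem exists_rho_sq_ne [Subsingleton κ] (j : μ) :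
    ∃ t : β.BB, t.1 ∈ (T : Subgroup (PS ι F)) ∧ β.rho j t * β.rho j t ≠ 1 := by
  have : Fact (Nat.Prime 2) := ⟨Nat.prime_two⟩
  obtain ⟨h, d, m1, m2⟩ := β.exists_fix hn j 2⁻¹
  have dU : (!![1, -1; 1, 1] : M2 F).det = 2 := by rw [det_fin_two_of]; norm_num
  obtain ⟨t, ht⟩ := exists_lf_of_det (X := fe (β.A j) (β.B j) !![1, -1; 1, 1] * h)
    (by rw [det_mul, det_fe (β.BA j), dU, d, mul_inv_cancel₀ h2])
  let t₀ : β.BB := ⟨t, _, ht, by simpa using (mon_fe j _).mul m1⟩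
  have e1 : β.rho j t₀ = pm !![1, -1; 1, 1] := by
    rw [rho_eq (t := t₀) ht, Matrix.mul_assoc, Matrix.mul_assoc, m2, ← Matrix.mul_assoc,
      B_fe_A (β.BA j)]
  have dJ : (!![0, -2; 2, 0] : M2 F).det ≠ 0 := by rw [det_fin_two_of]; simp [h2]
  have e2 : β.rho j t₀ ^ 2 = pm !![0, -2; 2, 0] := by
    rw [e1, sq, ← pm_mul (dU ▸ h2) (dU ▸ h2)]; congr 1; simp; norm_num
  have e3 : orderOf (β.rho j t₀ ^ 2) = 2 := by
    refine orderOf_eq_prime ?_ ?_
    · rw [e2, sq, ← pm_mul dJ dJ, pm_eq_one_iff (by rw [det_mul]; exact mul_ne_zero dJ dJ)]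
      simp
    · rw [e2, ne_eq, pm_eq_one_iff dJ]; simp [h2]
  obtain ⟨k, o, ho, e4⟩ := Nat.exists_eq_two_pow_mul_odd (orderOf_pos t₀).ne'
  have hp : IsPGroup 2 (zpowers ((t₀ ^ o : β.BB) : PS ι F)) := by
    have : orderOf ((t₀ ^ o : β.BB) : PS ι F) ∣ 2 ^ k := by
      rw [orderOf_coe, orderOf_dvd_iff_pow_eq_one, ← pow_mul, mul_comm, ← e4, pow_orderOf_eq_one]
    obtain ⟨i, -, e⟩ := (Nat.dvd_prime_pow Nat.prime_two).1 this
    exact IsPGroup.of_card (by rw [Nat.card_zpowers, e])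
  obtain ⟨b, hb, h3⟩ := ((Fz.isSylIn_sylow T hT).inf_of_le_normalizer BB_le
    le_normalizer_BB).exists_cj_le hp (zpowers_le.2 (t₀ ^ o).2)
  refine ⟨⟨b, hb⟩ * t₀ ^ o * ⟨b, hb⟩⁻¹, (Fz.cj_le_iff.1 h3 _ (mem_zpowers _)).1, fun e => ?_⟩
  rw [map_mul, map_mul, map_inv, conj_mul, conj_eq_one_iff, map_pow, ← sq, ← pow_mul, mul_comm,
    pow_mul, ← orderOf_dvd_iff_pow_eq_one, e3] at e
  exact (Nat.not_even_iff_odd.2 ho) (even_iff_two_dvd.2 e)

variable {α : MulAut (T : Subgroup (PS ι F))} (ho : Odd (orderOf α))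
  (hα : ∀ x y : (T : Subgroup (PS ι F)), IsConj (x : PS ι F) y ↔ IsConj (α x : PS ι F) (α y))
include ho hα

theorem FJ_map [Subsingleton κ] {u v : (T : Subgroup (PS ι F))} (h : β.FJ j u v) :
    β.FJ j (α u) (α v) := by
  classical
  have : Fact (Nat.Prime 2) := ⟨Nat.prime_two⟩
  have ex : ∀ {j} {u v : (T : Subgroup (PS ι F))}, β.FJ j u v → ∃ i, β.FJ i (α u) (α v) :=
    fun h => exists_FJ h2 (Fund.map h2 hn T α hα ⟨_, _, β.BA _, h⟩) (hT (α _).2) (hT (α _).2)
  have cm : ∀ {a b : (T : Subgroup (PS ι F))},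
      (α a : PS ι F) * α b = α b * α a ↔ (a : PS ι F) * b = b * a := by
    intro a b
    simp only [← Subgroup.coe_mul, ← map_mul, Subtype.coe_inj, EmbeddingLike.apply_eq_iff_eq]
  choose a b hab using exists_FJ_mem h2 hn hT
  choose s hs using fun j => ex (hab j)
  have h1 : ∀ {j} {u v : (T : Subgroup (PS ι F))}, β.FJ j u v → β.FJ (s j) (α u) (α v) := by
    intro j u v h
    obtain ⟨i, hi⟩ := ex h
    by_cases e : s j = i
    · rwa [e]
    · exact absurd ⟨cm.1 ((hs j).comm hi e), cm.1 (FJ.comm (hs j).symm hi e)⟩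
        ((hab j).not_comm h2 hn h)
  have h3 : Function.Injective s := fun i j e => by
    by_contra hij
    exact (hs i).not_comm h2 hn (e ▸ hs j)
      ⟨cm.2 ((hab i).comm (hab j) hij), cm.2 (FJ.comm (hab i).symm (hab j) hij)⟩
  let σ : Perm μ := Equiv.ofBijective s (Finite.injective_iff_bijective.1 h3)
  have h4 : ∀ (n : ℕ) j, β.FJ ((σ ^ n) j) ((α ^ n) (a j)) ((α ^ n) (b j)) := fun n j => by
    induction n with
    | zero => exact hab j
    | succ n ih => rw [pow_succ', pow_succ']; exact h1 ih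
  have h5 : σ ^ orderOf α = 1 := Equiv.ext fun j => by
    have := h4 (orderOf α) j
    rw [pow_orderOf_eq_one] at this
    exact this.unique h2 hn (hab j)
  let W := (T.subtype hT).mapSurjective β.pi_surjective
  have h6 : σ ∈ normalizer (W : Set (Perm μ)) := Fz.mem_normalizer_of_conj_mem (by
    rintro _ ⟨t, ht, rfl⟩
    refine ⟨⟨α ⟨t, ht⟩, hT (α _).2⟩, (α _).2, ?_⟩
    rw [eq_mul_inv_iff_mul_eq]
    ext j
    have e1 := (hs j).conj (pm_pi ⟨α ⟨t, ht⟩, hT (α _).2⟩)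
    have e2 := h1 (u := ⟨t, ht⟩ * a j * ⟨t, ht⟩⁻¹) (v := ⟨t, ht⟩ * b j * ⟨t, ht⟩⁻¹)
      ((hab j).conj (pm_pi t))
    simp only [map_mul, map_inv] at e2
    exact e1.unique h2 hn e2)
  obtain ⟨k, hk⟩ := W.isPGroup' ⟨σ, (Sym.normalizer_sylow_two_perm W).le h6⟩
  have h7 : σ = 1 := by
    rw [← orderOf_eq_one_iff]
    exact Nat.eq_one_of_dvd_coprimes (Nat.Coprime.pow_left k (Nat.coprime_two_left.2 ho))
      (orderOf_dvd_of_pow_eq_one (congrArg Subtype.val hk)) (orderOf_dvd_of_pow_eq_one h5)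
  have := h1 h
  rwa [show s j = σ j from rfl, h7] at this

theorem aut_eq_one [Subsingleton κ] [Nonempty μ] : α = 1 := by
  classical
  choose a b hab using exists_FJ_mem h2 hn hT
  have hm := fun j => FJ_map h2 hn hT ho hα (hab j)
  have h1 : ∀ (t : (T : Subgroup (PS ι F))) σ, β.Pm t σ → β.Pm (α t) σ := fun t σ ht => by
    obtain ⟨τ, h⟩ := hT (α t).2
    convert h
    ext j
    have e2 := FJ_map h2 hn hT ho hα (u := t * a j * t⁻¹) (v := t * b j * t⁻¹) ((hab j).conj ht)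
    simp only [map_mul, map_inv] at e2
    exact e2.unique h2 hn ((hm j).conj h)
  let K := β.BB.subgroupOf (T : Subgroup (PS ι F))
  have hK : ∀ x ∈ K, α x ∈ K := fun x hx => h1 x 1 hx
  let inc : K →* β.BB := ((T : Subgroup (PS ι F)).subtype.comp K.subtype).codRestrict _
    fun x => x.2
  have hker : ∀ j (x : K), β.rho j (inc x) = 1 → β.rho j (inc ⟨α x, hK x x.2⟩) = 1 := by
    intro j x hx
    rw [(hab j).rho_eq_one_iff h2 hn] at hx
    rw [(hm j).rho_eq_one_iff h2 hn]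
    have e1 : (x : (T : Subgroup (PS ι F))) * a j = a j * x := Subtype.ext hx.1
    have e2 : (x : (T : Subgroup (PS ι F))) * b j = b j * x := Subtype.ext hx.2
    have e3 := congrArg (fun y => ((α y : (T : Subgroup (PS ι F))) : PS ι F)) e1
    have e4 := congrArg (fun y => ((α y : (T : Subgroup (PS ι F))) : PS ι F)) e2
    simp only [map_mul] at e3 e4
    exact ⟨e3, e4⟩
  have h3 : ∀ j (x : K), β.rho j (inc ⟨α x, hK x x.2⟩) = β.rho j (inc x) := fun j => by
    refine fix_mod ho hK ((β.rho j).comp inc) (hker j) (isPGroup_mulAut_pgl h2 ?_ (Or.inr ?_))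
    · exact (T.isPGroup'.to_subgroup K).of_surjective _ (MonoidHom.rangeRestrict_surjective _)
    · obtain ⟨t, ht, e⟩ := exists_rho_sq_ne h2 hn hT j
      exact ⟨_, ⟨⟨⟨t, ht⟩, t.2⟩, rfl⟩, e⟩
  let C := (⨅ j, ((β.rho j).comp inc).ker).map K.subtype
  have hC : ∀ x ∈ C, ∀ X, Lf (x : PS ι F) X →
      ∃ (l : μ → F) (c : F), (∀ j, X * β.A j = l j • β.A j) ∧ X * β.A0 = c • β.A0 := by
    rintro _ ⟨x, hx, rfl⟩ X hX
    exact exists_diag (t := inc x) (mem_iInf.1 hx) hX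
  have hz : ∀ j, α (a j * a j) = a j * a j := fun j => Subtype.ext (by
    rw [map_mul]
    exact (FundF.lf_sq (β.BA j) (hm j)).eq (FundF.lf_sq (β.BA j) (hab j)))
  have ind : ∀ (l₀ : F) (s : Finset μ) (x : (T : Subgroup (PS ι F))) (X : Matrix ι ι F),
      Lf (x : PS ι F) X → (∀ j, X * β.A j = (if j ∈ s then -l₀ else l₀) • β.A j) →
      X * β.A0 = l₀ • β.A0 → α x = x := by
    intro l₀ s
    induction s using Finset.induction_on with
    | empty =>
      intro x X hX e1 e2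
      have e3 : X = l₀ • 1 := β.ext_A (fun j => by simpa using e1 j) (by simpa using e2)
      obtain ⟨Y, e4, -⟩ := hX.exists_inv
      have e5 : l₀ ≠ 0 := by
        rintro rfl
        obtain ⟨j⟩ := ‹Nonempty μ›
        rw [e3, zero_smul, zero_mul] at e4
        exact ne_zero_of_frame (β.BA j) (by rw [← Matrix.one_mul (β.A j), ← e4, Matrix.zero_mul])
      rw [show x = 1 from Subtype.ext (hX.eq (e3 ▸ lf_one.smul e5)), map_one]
    | insert i s hi ih =>
      intro x X hX e1 e2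
      have := ih (a i * a i * x) _ ((FundF.lf_sq (β.BA i) (hab i)).mul hX) (fun j => by
        rw [Matrix.mul_assoc, e1, Matrix.mul_smul]
        by_cases hj : j = i
        · subst hj; rw [fe_mul_A (β.BA j)]; simp [hi]
        · rw [fe_mul_of_orth (β.orth (Ne.symm hj))]; simp [hj])
        (by rw [Matrix.mul_assoc, e2, Matrix.mul_smul, fe_mul_of_orth (β.orth0' i)])
      rwa [map_mul, hz, mul_right_inj] at this
  have h4 : ∀ x ∈ C, α x = x := fun x hx => by
    obtain ⟨k, hk⟩ := T.isPGroup' x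
    refine Fz.fix_of_comm ho (A := C) (fun x hx y hy => ?_) ?_ (fun x hx e => ?_) x hx hk
    · obtain ⟨X, hX, -⟩ := exists_lf (x : PS ι F)
      obtain ⟨Y, hY, -⟩ := exists_lf (y : PS ι F)
      obtain ⟨l, c, e1, e2⟩ := hC x hx X hX
      obtain ⟨l', c', e3, e4⟩ := hC y hy Y hY
      refine Subtype.ext (hX.comm hY (β.ext_A (fun j => ?_) ?_))
      · simp only [Matrix.mul_assoc, e1, e3, Matrix.mul_smul, smul_smul, mul_comm]
      · simp only [Matrix.mul_assoc, e2, e4, Matrix.mul_smul, smul_smul, mul_comm]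
    · rintro _ ⟨x, hx, rfl⟩
      exact ⟨⟨α x, hK x x.2⟩, mem_iInf.2 fun j => hker j x (mem_iInf.1 hx j), rfl⟩
    · obtain ⟨X, hX, -⟩ := exists_lf (x : PS ι F)
      obtain ⟨l, c, e1, e2⟩ := hC x hx X hX
      have l1 := hX.mul hX
      rw [show (x : PS ι F) * x = 1 from congrArg Subtype.val e] at l1
      obtain ⟨ν, -, e3⟩ := lf_one.unique l1
      have sq : ∀ {r : Type _} [Fintype r] {A : Matrix ι r F} {c : F}, A ≠ 0 → X * A = c • A →
          c * c = ν := by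
        intro r _ A c hA h
        have := congrArg (· * A) e3
        simp only [Matrix.mul_assoc, h, Matrix.mul_smul, smul_smul, Matrix.smul_mul,
          Matrix.one_mul] at this
        rw [← sub_eq_zero, ← sub_smul] at this
        exact sub_eq_zero.1 ((smul_eq_zero.1 this).resolve_right hA)
      obtain ⟨l₀, e4, e5⟩ : ∃ l₀, l₀ * l₀ = ν ∧ X * β.A0 = l₀ • β.A0 := by
        by_cases h0 : β.A0 = 0
        · obtain ⟨j⟩ := ‹Nonempty μ›
          exact ⟨l j, sq (ne_zero_of_frame (β.BA j)) (e1 j), by simp [h0]⟩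
        · have := congrArg (· * β.A0) e3
          simp only [Matrix.mul_assoc, e2, Matrix.mul_smul, smul_smul, Matrix.smul_mul,
            Matrix.one_mul] at this
          rw [← sub_eq_zero, ← sub_smul] at this
          exact ⟨c, sub_eq_zero.1 ((smul_eq_zero.1 this).resolve_right h0), e2⟩
      refine ind l₀ (Finset.univ.filter fun j => l j ≠ l₀) x X hX (fun j => ?_) e5
      rw [e1]
      congr 1
      have := mul_self_eq_mul_self_iff.1 ((sq (ne_zero_of_frame (β.BA j)) (e1 j)).trans e4.symm)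
      by_cases hj : l j = l₀
      · simp [hj]
      · simp [hj, this.resolve_left hj]
  have h5 : ∀ x ∈ K, α x = x := fun x hx => by
    obtain ⟨k, hk⟩ := T.isPGroup' (x⁻¹ * α x)
    refine Fz.fix_of_eq_mul_fixed ho (by group) (h4 _ ?_) hk
    refine ⟨⟨x, hx⟩⁻¹ * ⟨α x, hK x hx⟩, mem_iInf.2 fun j => ?_, rfl⟩
    rw [MonoidHom.mem_ker, map_mul, map_inv, inv_mul_eq_one]
    exact (h3 j ⟨x, hx⟩).symm
  refine MulEquiv.ext fun x => ?_
  obtain ⟨k, hk⟩ := T.isPGroup' (x⁻¹ * α x)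
  refine Fz.fix_of_eq_mul_fixed ho (by group) (h5 _ ?_) hk
  obtain ⟨σ, hσ⟩ := hT x.2
  have := hσ.inv.mul (h1 x σ hσ)
  rwa [inv_mul_cancel] at this

end Blk

/-- Automorphisms of odd order preserving conjugacy are trivial. -/
theorem psl_aut_eq_one {F : Type*} [Field F] [Finite F] (h2 : (2 : F) ≠ 0) {n : ℕ} (hn : 2 ≤ n)
    (hq : n = 2 → Nat.card F % 8 = 1 ∨ Nat.card F % 8 = 7) (T : Sylow 2 PSL(n, F))
    {α : MulAut (T : Subgroup PSL(n, F))} (ho : Odd (orderOf α))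
    (hα : ∀ x y : (T : Subgroup PSL(n, F)),
      IsConj (x : PSL(n, F)) y ↔ IsConj (α x : PSL(n, F)) (α y)) : α = 1 := by
  have : Fact (Nat.Prime 2) := ⟨Nat.prime_two⟩
  rcases hn.eq_or_lt with rfl | hn
  · have e := (T : Subgroup PSL(2, F)).equivMapOfInjective emb emb_injective
    have h8 : 2 ^ 3 ∣ Nat.card PSL(2, F) := by
      have h := card_PSL_mul (F := F)
      rw [gcd_of_two_ne_zero h2] at h
      have h16 : 2 ^ 3 * 2 ∣ Nat.card F * (Nat.card F - 1) * (Nat.card F + 1) := by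
        rw [mul_assoc]
        refine Dvd.dvd.mul_left ?_ _
        rcases hq rfl with h1 | h1
        · exact Nat.mul_dvd_mul (by omega) (by omega)
        · rw [mul_comm (Nat.card F - 1)]; exact Nat.mul_dvd_mul (by omega) (by omega)
      rw [← h] at h16
      exact Nat.dvd_of_mul_dvd_mul_right two_pos h16
    have h9 := Nat.le_of_dvd Nat.card_pos (T.pow_dvd_card_of_pow_dvd_card h8)
    have hA := Fz.isPGroup_mulAut_of_equiv e.symm (isPGroup_mulAut_pgl h2 (T.isPGroup'.map emb)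
      (Or.inl (by rw [← Nat.card_congr e.toEquiv]; omega)))
    obtain ⟨k, hk⟩ := hA α
    rw [← orderOf_eq_one_iff]
    exact Nat.eq_one_of_dvd_coprimes (Nat.Coprime.pow_left k (Nat.coprime_two_left.2 ho))
      (orderOf_dvd_of_pow_eq_one hk) dvd_rfl
  · obtain ⟨m, k, hk, rfl⟩ : ∃ m k, k ≤ 1 ∧ n = 2 * m + k := ⟨n / 2, n % 2, by omega, by omega⟩
    obtain ⟨β, hβ⟩ := exists_blk h2 m hk T
    have : Subsingleton (Fin k) := Fin.subsingleton_iff_le_one.2 hk
    have : Nonempty (Fin m) := ⟨⟨0, by omega⟩⟩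
    exact Blk.aut_eq_one h2 (by simpa using hn) hβ ho hα

end Cfsg.Agent.Fus.Ln
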