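import Mathlib
import Cfsg.Agent.Fus.CommP
import Cfsg.Agent.Fus.AbIndex
import Cfsg.Agent.Fus.EssSmall
import Cfsg.Agent.Fus.Transfer

/-! Small `p`-groups with fusion: extension along invariant chains, the focal subgroup when all
essential subgroups are of `SL(2, p)`-type, weights of automorphisms on sections. -/

set_option autoImplicit false

namespace Cfsg.Agent.Fus.R3

open Subgroup Cfsg.Agent.GT
open Cfsg.FusionSystem hiding inv_mem
open scoped Matrix MatrixGroups commutatorElement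

variable {G : Type*} [Group G] {p : ℕ}

/-! ### Weights -/

/-- `τ x ≡ x ^ m` modulo `B`. -/
def Wt (τ : G → G) (B : Subgroup G) (x : G) (m : ℤ) : Prop := (x ^ m)⁻¹ * τ x ∈ B

section Wt
variable {τ : G → G} {A B C D : Subgroup G} {x y : G} {m n k : ℤ}

theorem wt_iff [B.Normal] : Wt τ B x m ↔ (τ x : G ⧸ B) = (x : G ⧸ B) ^ m := by
  rw [Wt, ← QuotientGroup.eq, eq_comm, QuotientGroup.mk_zpow]

theorem Wt.mono (h : Wt τ A x m) (k : A ≤ B) : Wt τ B x m := k h

theorem Wt.congr {σ : G → G} (h : Wt τ A x m) (e : σ x = τ x) : Wt σ A x m := by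
  rwa [Wt, e]

theorem Wt.inf (h : Wt τ A x m) (h1 : x ∈ B) (h2 : τ x ∈ B) : Wt τ (A ⊓ B) x m :=
  ⟨h, B.mul_mem (B.inv_mem (B.zpow_mem h1 m)) h2⟩

theorem Wt.uniq [hp : Fact p.Prime] (h : Wt τ B x m) (h' : Wt τ B x n) (hx : x ∉ B)
    (hxp : x ^ p ∈ B) : (m : ZMod p) = n := by
  have h1 := mul_mem h (inv_mem h')
  rw [show (x ^ m)⁻¹ * τ x * ((x ^ n)⁻¹ * τ x)⁻¹ = x ^ (n - m) by group,
    PG.zpow_mem_iff_of_pow_prime_mem hp.out hx hxp] at h1
  exact (ZMod.intCast_eq_intCast_iff_dvd_sub m n p).2 h1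

theorem Wt.of_cast [B.Normal] (h : Wt τ B x m) (hxp : x ^ p ∈ B)
    (e : (m : ZMod p) = n) : Wt τ B x n := by
  obtain ⟨j, hj⟩ := (ZMod.intCast_eq_intCast_iff_dvd_sub m n p).1 e
  rw [wt_iff] at h ⊢
  have : (x : G ⧸ B) ^ (p : ℤ) = 1 := by
    rw [zpow_natCast, ← QuotientGroup.mk_pow, QuotientGroup.eq_one_iff]; exact hxp
  rw [h, show n = m + p * j by omega, zpow_add, zpow_mul, this, one_zpow, mul_one]

theorem mem_nz [B.Normal] : x ∈ normalizer (B : Set G) := normalizer_eq_top B ▸ mem_top x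

theorem exists_wt [B.Normal] (h : τ x ∈ B ⊔ zpowers x) : ∃ m, Wt τ B x m := by
  obtain ⟨b, hb, i, e⟩ := (PG.mem_sup_zpowers_of_mem_normalizer mem_nz).1 h
  exact ⟨i, by rw [wt_iff, ← e, QuotientGroup.mk_mul, (QuotientGroup.eq_one_iff b).2 hb, one_mul,
    QuotientGroup.mk_zpow]⟩

theorem Wt.sec {τ : G →* G} [B.Normal] (h : Wt τ B x m) (hB : ∀ b ∈ B, τ b ∈ B)
    (hy : y ∈ B ⊔ zpowers x) : Wt τ B y m := by
  obtain ⟨b, hb, i, rfl⟩ := (PG.mem_sup_zpowers_of_mem_normalizer mem_nz).1 hy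
  rw [wt_iff] at h ⊢
  rw [map_mul, map_zpow, QuotientGroup.mk_mul, QuotientGroup.mk_mul,
    (QuotientGroup.eq_one_iff b).2 hb, (QuotientGroup.eq_one_iff _).2 (hB b hb), one_mul, one_mul,
    QuotientGroup.mk_zpow, QuotientGroup.mk_zpow, h, ← zpow_mul, ← zpow_mul, mul_comm]

theorem cm_zpow_left {a b : G} (h : Commute ⁅a, b⁆ a) (n : ℤ) : ⁅a ^ n, b⁆ = ⁅a, b⁆ ^ n := by
  have e : b * a⁻¹ * b⁻¹ = a⁻¹ * ⁅a, b⁆ := by rw [commutatorElement_def]; group
  have e2 : b * (a ^ n)⁻¹ * b⁻¹ = (a ^ n)⁻¹ * ⁅a, b⁆ ^ n := by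
    rw [← inv_zpow, ← conj_zpow, e, h.inv_right.symm.mul_zpow]
  calc ⁅a ^ n, b⁆ = a ^ n * (b * (a ^ n)⁻¹ * b⁻¹) := by rw [commutatorElement_def]; group
    _ = _ := by rw [e2, mul_inv_cancel_left]

theorem cm_zpow_right {a b : G} (h : Commute ⁅a, b⁆ b) (n : ℤ) : ⁅a, b ^ n⁆ = ⁅a, b⁆ ^ n := by
  rw [← commutatorElement_inv, cm_zpow_left (by rw [← commutatorElement_inv]; exact h.inv_left),
    ← inv_zpow, commutatorElement_inv]

theorem cm_zpow {a b : G} (h : Commute ⁅a, b⁆ a) (h' : Commute ⁅a, b⁆ b) (m n : ℤ) :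
    ⁅a ^ m, b ^ n⁆ = ⁅a, b⁆ ^ (m * n) := by
  rw [cm_zpow_right (by rw [cm_zpow_left h]; exact h'.zpow_left m), cm_zpow_left h, zpow_mul]

theorem cm_pair {a b u w : G} (m n : ℤ) (d1 : Commute u b) (d2 : Commute u w) (d3 : Commute a w)
    (d4 : Commute ⁅a, b⁆ a) (d5 : Commute ⁅a, b⁆ b) :
    ⁅a ^ m * u, b ^ n * w⁆ = ⁅a, b⁆ ^ (m * n) := by
  rw [← cm_zpow d4 d5]
  have f1 := ((d1.zpow_right n).mul_right d2).eq
  have f2 := (d3.zpow_left m).inv_left.eq
  symm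
  calc ⁅a ^ m, b ^ n⁆ = a ^ m * b ^ n * ((a ^ m)⁻¹ * w) * (b ^ n * w)⁻¹ := by
        rw [commutatorElement_def]; group
    _ = a ^ m * (b ^ n * w * u) * (a ^ m * u)⁻¹ * (b ^ n * w)⁻¹ := by rw [f2]; group
    _ = _ := by rw [← f1, commutatorElement_def]; group

theorem commute_mk [C.Normal] : Commute (x : G ⧸ C) y ↔ ⁅x, y⁆ ∈ C := by
  rw [← commutatorElement_eq_one_iff_commute, ← QuotientGroup.eq_one_iff]
  exact Iff.of_eq (congrArg (· = 1) (map_commutatorElement (QuotientGroup.mk' C) x y).symm)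

/-- Weights multiply along commutators. -/
theorem Wt.comm {τ : G →* G} [C.Normal] (h : Wt τ A x m) (h' : Wt τ B y n)
    (c1 : ∀ u ∈ A, ⁅u, y⁆ ∈ C) (c2 : ∀ u ∈ A, ∀ v ∈ B, ⁅u, v⁆ ∈ C) (c3 : ∀ v ∈ B, ⁅x, v⁆ ∈ C)
    (c4 : ⁅⁅x, y⁆, x⁆ ∈ C) (c5 : ⁅⁅x, y⁆, y⁆ ∈ C) : Wt τ C ⁅x, y⁆ (m * n) := by
  have e : ∀ a b : G, ((⁅a, b⁆ : G) : G ⧸ C) = ⁅(a : G ⧸ C), (b : G ⧸ C)⁆ := fun a b =>
    map_commutatorElement (QuotientGroup.mk' C) a b
  rw [wt_iff, map_commutatorElement, ← mul_inv_cancel_left (x ^ m) (τ x),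
    ← mul_inv_cancel_left (y ^ n) (τ y), e, e, QuotientGroup.mk_mul _ (x ^ m),
    QuotientGroup.mk_mul _ (y ^ n),
    QuotientGroup.mk_zpow, QuotientGroup.mk_zpow]
  refine cm_pair m n (commute_mk.2 (c1 _ h)) (commute_mk.2 (c2 _ h _ h')) (commute_mk.2 (c3 _ h'))
    ?_ ?_
  · rw [← e]; exact commute_mk.2 c4
  · rw [← e]; exact commute_mk.2 c5

end Wt

/-! ### Extension along an invariant chain -/

variable [Finite G] [hp : Fact p.Prime] {F : FusionSystem (⊤ : Subgroup G)}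
  {P R X Y Z W : Subgroup G} {f : G → G}

theorem ext_chain (hF : F.IsSaturated p) (hG : IsPGroup p (⊤ : Subgroup G))
    (hP : F.IsFullyNormalized P) (hX : InvA (F.autGroup P) X) (hY : InvA (F.autGroup P) Y)
    (hZ : InvA (F.autGroup P) Z) (hYX : Y ≤ X) (hZY : Z ≤ Y)
    (hΦ : Z ≤ ⁅P, P⁆ ⊔ powerClosure p 1 P) (h1 : X.relIndex P ∣ p) (h2 : Y.relIndex X ∣ p)
    (h3 : Z.relIndex Y ∣ p) (hf : F.Iso P P f) :
    ∃ g, F.Iso (normalizerIn ⊤ P) (normalizerIn ⊤ P) g ∧ ∀ x ∈ P, g x = f x := by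
  let C : ℕ → Subgroup G := fun i => [P, X, Y, Z].getD i ⊥
  have hI : ∀ i ≤ 3, InvA (F.autGroup P) (C i) := by
    intro i hi; interval_cases i; exacts [invA_top _, hX, hY, hZ]
  have anti : ∀ i < 3, C (i + 1) ≤ C i := by
    intro i hi; interval_cases i; exacts [hX.1, hYX, hZY]
  have hi : ∀ i < 3, (C (i + 1)).relIndex (C i) ∣ p := by
    intro i hi; interval_cases i; exacts [h1, h2, h3]
  have hK : IsPGroup p (chainStab P C 3 ⊓ F.autGroup P : Subgroup _) :=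
    (isPGroup_chainStab (C := C) (n := 3) (hG.to_le le_top) rfl hΦ).to_le inf_le_left
  have hle : autInducedBy ⊤ P ≤ chainStab P C 3 ⊓ F.autGroup P := by
    refine le_inf (fun α hα => ?_) (F.autInducedBy_le_autGroup le_top)
    obtain ⟨s, hs, rfl⟩ := mem_autInducedBy_iff_cAut.1 hα
    refine mem_chainStab_of le_rfl anti fun i hi' x hx => ?_
    rw [totA_cAut hs.2 ((hI i hi'.le).1 hx)]
    exact conj_mem_of_relIndex_dvd hG le_top (hI i hi'.le) (hI _ hi') (anti i hi') (hi i hi') hs hx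
  have hge := (hF.fullyAutomized hG hP).le_of_isPGroup hG hK inf_le_right hle
  obtain ⟨β, hβ, e⟩ := (hF.receptive_of_fullyNormalized hG hP).extend_normalizerIn hf.aut_mem
    fun a ha => hge ⟨conj_mem_chainStab (hle ha).1 fun i hi' => (hI i hi').le_stabA hf.aut_mem,
      (F.autGroup P).mul_mem (mul_mem hf.aut_mem (hle ha).2) (inv_mem hf.aut_mem)⟩
  exact ⟨_, iso_totA le_top hβ, fun x hx => by rw [e x hx, hf.totA_aut hx]⟩

omit [Finite G] in
theorem exists_hom_top (h : F.Iso ⊤ ⊤ f) : ∃ τ : G ≃* G, ∀ x, τ x = f x :=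
  ⟨(topEquiv.symm.trans h.equiv).trans topEquiv, fun _ => rfl⟩

/-! ### Essential subgroups of `SL(2, p)`-type -/

variable (F p) in
/-- `R / W` has order `≤ p²` and `N(R)` acts trivially on `W / Y`, `Y ≤ [R, R]`. -/
def Ch (R : Subgroup G) : Prop := ∃ W Y : Subgroup G, InvA (F.autGroup R) W ∧
  InvA (F.autGroup R) Y ∧ Y ≤ W ∧ Y ≤ ⁅R, R⁆ ∧ R ≤ normalizer (W : Set G) ∧
  W.relIndex R ∣ p ^ 2 ∧ Y.relIndex W ∣ p

section Focal
variable {A : Type*} [CommGroup A] (θ : G →* A)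

omit [Finite G] in
theorem map_comm_eq (hY : Y ≤ ⁅R, R⁆) {y : G} (hy : y ∈ Y) : θ y = 1 :=
  Abelianization.commutator_subset_ker θ (commutator_mono le_top le_top (hY hy))

theorem ch_step (hF : F.IsSaturated p) (hG : IsPGroup p (⊤ : Subgroup G)) (h2 : p ≠ 2)
    (hR : F.IsEssential p R) (hc : Ch p F R)
    (hB : ∀ β ∈ F.extAut R, ∀ x ∈ R, θ (totA β x) = θ x) :
    ∀ α ∈ F.autGroup R, ∀ x ∈ R, θ (totA α x) = θ x := by
  obtain ⟨W, Y, hW, hY, hYW, hYR, hn, hi, hi'⟩ := hc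
  obtain ⟨s, hs, hsR⟩ := hR.exists_notMem hF hG
  have hΦ : Y ≤ ⁅R, R⁆ ⊔ powerClosure p 1 R := hYR.trans le_sup_left
  have hs2 : ∀ x ∈ W, x⁻¹ * (s * x * s⁻¹) ∈ Y := fun x hx =>
    conj_mem_of_relIndex_dvd hG le_top hW hY hYW hi' hs hx
  obtain ⟨⟨c, h⟩, -, -⟩ := hR.exists_sl2Sec_chain hF hG (invA_top _) hW hY hW.1 hYW hΦ hn hi hs hsR
    (fun x hx => mul_mem (inv_mem hx) (conj_mem_of_mem_normalizerIn hs hx)) hs2
  set Γ := secStab R R R ⊓ secStab R W Y ⊓ F.autGroup R with hΓ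
  have hd := hR.essData hF hG
  have hinn : ∀ ι ∈ Inn R, ∀ x ∈ R, θ (totA ι x) = θ x := fun ι hι =>
    hB ι (hd.autS_le (inn_le_autInducedBy le_top hι))
  obtain ⟨γ, -, hγ, -, hγa, β, hβ, -, eβ, -⟩ := h.exists_torus_ext (hR.receptive hF hG)
    hR.isCentric inf_le_right hs (K := ⊤) (fun _ _ => trivial) (l := -1) (by simp)
  have hγB : γ ∈ F.extAut R := mem_extAut
    (lt_of_le_of_ne le_sup_left fun e => hsR (e.ge (mem_sup_right (mem_zpowers s))))
    (mor_totA le_top hβ) eβ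
  have eneg : (!![-1, 0; 0, (-1)⁻¹] : Matrix (Fin 2) (Fin 2) (ZMod p)) = -1 := by
    ext i j; fin_cases i <;> fin_cases j <;> simp [inv_neg]
  rw [eneg] at hγa
  have hΓθ : ∀ δ ∈ Γ, ∀ x ∈ R, θ (totA δ x) = θ x := by
    intro δ hδ x hx
    obtain ⟨M, hM⟩ := h.toCoord.exists_mat h.invX h.invW hδ
    have h1 : Acts R c (δ * γ) (M * -1) := Acts.mul h.invX hγ hM hγa
    have h3 : Acts R c (γ * δ) (M * -1) := by
      have := Acts.mul h.invX hδ hγa hM
      rwa [neg_mul, one_mul, ← mul_neg_one] at this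
    have h4 := h.ker_inn _ (mul_mem (mul_mem hδ hγ) (inv_mem (mul_mem hγ hδ)))
      (h1.mul_inv_mem h.toCoord h.invX (mul_mem hδ hγ) (mul_mem hγ hδ) h3)
    have h5 : θ (totA δ (totA γ x)) = θ (totA δ x) := by
      rw [← totA_mul _ _ hx, ← inv_mul_cancel_right (δ * γ) (γ * δ), totA_mul _ _ hx,
        hinn _ h4 _ (totA_mem _ hx), totA_mul _ _ hx, hB _ hγB _ (totA_mem _ hx)]
    have h6 : x * totA γ x ∈ W := by
      rw [← h.ker _ (mul_mem hx (totA_mem _ hx)), h.toCoord.map_mul hx (totA_mem _ hx), hγa x hx,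
        Matrix.neg_mulVec, Matrix.one_mulVec, add_neg_cancel]
    have h7 := map_comm_eq θ hYR (hδ.1.2.2 _ h6 (hW.1 h6))
    rw [(mulOn_totA δ).map_mul hx (totA_mem _ hx), map_mul, map_inv, map_mul, map_mul, h5,
      hB _ hγB _ hx] at h7
    obtain ⟨k, hk⟩ := PG.exists_pow_pow_eq_one_of_mem hG (mem_top (x⁻¹ * totA δ x))
    have h8 : θ (x⁻¹ * totA δ x) = 1 := by
      refine eq_one_of_pow_eq_one_of_not_dvd (p := p) (n := 2) ⟨k, by rw [← map_pow, hk, map_one]⟩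
        (fun e => h2 ((Nat.prime_dvd_prime_iff_eq hp.out Nat.prime_two).1 e)) ?_
      rw [← h7, map_mul, map_inv, mul_pow, pow_two, pow_two, mul_inv]
    rwa [map_mul, map_inv, inv_mul_eq_one, eq_comm] at h8
  intro α hα x hx
  obtain ⟨a, ha, b, hb, ea, eb, eab⟩ := h.exists_basis
  have haW : a ∉ W := fun e => by
    have := congrFun (h.toCoord.eq_zero e) 0
    rw [ea] at this; simp at this
  obtain ⟨γ', -, hγ', e'⟩ := h.exists_map (K := ⊤) (fun _ _ => trivial) (totA_mem α ha)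
    (fun e => haW ((hW.mem_iff hα ha).1 e)) ha haW
  have hl : γ' * α ∈ F.autGroup R := mul_mem hγ'.2 hα
  have hL : W ⊔ zpowers a ≤ R := sup_le hW.1 (zpowers_le.2 ha)
  have hu : ∀ x ∈ R, c (s * x * s⁻¹) = !![1, 1; 0, 1] *ᵥ c x := fun x hx => by
    rw [← totA_cAut hs.2 hx, h.act_u x hx]
  have hmem : γ' * α ∈ F.extAut R := by
    refine hd.mem_of_chain hG (fun i => [R, W ⊔ zpowers a, W, Y].getD i ⊥) 3 rfl hΦ ?_ hs hsR ?_
      hl ?_
    · intro i hi; interval_cases i; exacts [hL, le_sup_left, hYW]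
    · intro i hi; interval_cases i
      · intro x hx
        have hx' := conj_mem_of_mem_normalizerIn hs hx
        have h1 : (a ^ (c x 1).val)⁻¹ * (x⁻¹ * (s * x * s⁻¹)) ∈ W := by
          rw [← h.toCoord.eq_iff (pow_mem ha _) (mul_mem (inv_mem hx) hx'),
            h.toCoord.map_mul (inv_mem hx) hx', h.toCoord.map_inv hx, hu x hx,
            h.toCoord.map_pow ha, ea]
          ext i; fin_cases i <;> simp [dotProduct, Matrix.mulVec]
        have := mul_mem (mem_sup_right (pow_mem (mem_zpowers a) (c x 1).val)) (mem_sup_left h1)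
        rwa [mul_inv_cancel_left] at this
      · intro x hx
        have hx' := conj_mem_of_mem_normalizerIn hs (hL hx)
        change x⁻¹ * (s * x * s⁻¹) ∈ W
        rw [← h.toCoord.eq_iff (hL hx) hx', hu x (hL hx)]
        obtain ⟨w, hw, i, rfl⟩ := (PG.mem_sup_zpowers_of_mem_normalizer (hn ha)).1 hx
        rw [h.toCoord.map_mul (hW.1 hw) (zpow_mem ha i), h.toCoord.eq_zero hw,
          h.toCoord.map_zpow ha, ea]
        ext i; fin_cases i <;> simp [dotProduct]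
      · exact hs2
    · intro i hi; interval_cases i
      · exact fun x hx => totA_mem _ hx
      · refine (mulOn_totA _).mono hL |>.mapsTo_sup (fun x hx => mem_sup_left (hW.mem hl hx)) ?_
        refine (mulOn_totA _).mapsTo_closure (s := {a}) ?_ ?_ |> fun k x hx => k x
          (by rwa [← zpowers_eq_closure])
        · rw [← zpowers_eq_closure]; exact zpowers_le.2 ha
        · rintro _ rfl
          rw [totA_mul _ _ ha, ← mul_inv_cancel_left _ (totA γ' _)]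
          exact mul_mem (mem_sup_right (mem_zpowers _)) (mem_sup_left e')
      · exact fun x hx => hW.mem hl hx
      · exact fun x hx => hY.mem hl hx
  rw [← hB _ hmem x hx, totA_mul _ _ hx, hΓθ _ hγ' _ (totA_mem _ hx)]

theorem inv_of_ch (hF : F.IsSaturated p) (hG : IsPGroup p (⊤ : Subgroup G)) (h2 : p ≠ 2)
    (hc : ∀ R, F.IsEssential p R → Ch p F R) (h0 : ∀ f, F.Iso ⊤ ⊤ f → ∀ x, θ (f x) = θ x)
    (hf : F.Mor P f) : ∀ x ∈ P, θ (f x) = θ x := by
  have key : ∀ n (P : Subgroup G) (f : G → G), Nat.card G ≤ Nat.card P + n → F.Mor P f →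
      ∀ x ∈ P, θ (f x) = θ x := by
    intro n
    induction n with
    | zero =>
      intro P f hc hf x hx
      obtain rfl : P = ⊤ := eq_top_of_le_card P hc
      exact h0 f hf.iso_top x
    | succ n ih =>
      intro P f hcP hf
      refine hF.alperin_induction hG (M := fun f => ∀ x ∈ P, θ (f x) = θ x) (fun _ _ => rfl)
        (fun h e x hx => by rw [← e x hx, h x hx]) (fun {f R g} h1 h3 h4 h5 h6 x hx => ?_) hf
      rw [← h3 x hx]
      beta_reduce
      rcases h4 with rfl | h4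
      · exact h0 g h5 _
      rw [← h5.totA_aut (h6 x hx)]
      refine ch_step θ hF hG h2 h4 (hc R h4) (fun β hβ => ?_) _ h5.aut_mem _ (h6 x hx)
      refine closure_induction (p := fun β _ => ∀ x ∈ R, θ (totA β x) = θ x) ?_
        (fun x hx => by rw [totA_one hx])
        (fun a b _ _ ha hb x hx => by rw [totA_mul _ _ hx, ha _ (totA_mem _ hx), hb x hx])
        (fun a _ ha x hx => by rw [← ha _ (totA_mem _ hx), totA_totA_inv _ hx]) hβ
      rintro a ⟨Q, k, hQ, hk, e⟩ y hy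
      rw [← e y hy]
      have := h1.card_le h6
      have := PG.card_lt_of_lt hQ
      exact ih Q k (by omega) hk y (hQ.le hy)
  exact key (Nat.card G) P f (by omega) hf

end Focal

/-- The norm map of `Out_F(G)` on the abelianization. -/
theorem exists_norm (hF : F.IsSaturated p) (hG : IsPGroup p (⊤ : Subgroup G)) {y : G}
    (hy : y ∉ commutator G) (h : ∀ f, F.Iso ⊤ ⊤ f → y⁻¹ * f y ∈ commutator G) :
    ∃ θ : G →* Abelianization G, θ y ≠ 1 ∧ ∀ f, F.Iso ⊤ ⊤ f → ∀ x, θ (f x) = θ x := by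
  classical
  set Γ := F.autGroup ⊤
  let K := (autInducedBy ⊤ ⊤).subgroupOf Γ
  have hK : ¬ p ∣ K.index := (hF.fullyAutomized hG F.isFullyNormalized_top).not_dvd hG
  let ψ : G → Γ ⧸ K → Abelianization G := fun g q =>
    Quotient.liftOn' q (fun α => Abelianization.of (totA (α⁻¹ : Γ).1 g)) fun a b e => by
      obtain ⟨s, hs, e'⟩ := mem_autInducedBy_iff_cAut.1
        (mem_subgroupOf.1 (K.inv_mem (QuotientGroup.leftRel_apply.1 e)))
      have : (b⁻¹ : Γ).1 = cAut ⊤ s * (a⁻¹ : Γ).1 := by rw [e']; simp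
      simp only [this, totA_mul _ _ (mem_top g), totA_cAut hs.2 (mem_top _), map_mul, map_inv,
        mul_inv_cancel_comm]
  have := Fintype.ofFinite (Γ ⧸ K)
  refine ⟨MonoidHom.mk' (fun g => ∏ q, ψ g q) fun a b => ?_, ?_, fun f hf x => ?_⟩
  · rw [← Finset.prod_mul_distrib]
    refine Finset.prod_congr rfl fun q _ => ?_
    induction q using QuotientGroup.induction_on with | H α => ?_
    change Abelianization.of _ = Abelianization.of _ * Abelianization.of _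
    rw [(mulOn_totA _).map_mul (mem_top a) (mem_top b), map_mul]
  · have e : ∀ q, ψ y q = Abelianization.of y := fun q => by
      induction q using QuotientGroup.induction_on with | H α => ?_
      exact (QuotientGroup.eq.2 (h _ (iso_totA le_top (α⁻¹ : Γ).2))).symm
    simp only [MonoidHom.mk'_apply, e, Finset.prod_const, Finset.card_univ]
    obtain ⟨k, hk⟩ := PG.exists_pow_pow_eq_one_of_mem hG (mem_top y)
    refine fun e => hy ((QuotientGroup.eq_one_iff y).1 (eq_one_of_pow_eq_one_of_not_dvd (p := p)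
      (a := Abelianization.of y) ⟨k, by rw [← map_pow, hk, map_one]⟩ hK ?_))
    rwa [index, Nat.card_eq_fintype_card]
  · simp only [MonoidHom.mk'_apply]
    refine Fintype.prod_equiv (MulAction.toPerm (⟨hf.aut, hf.aut_mem⟩ : Γ)⁻¹) _ _ fun q => ?_
    induction q using QuotientGroup.induction_on with | H α => ?_
    change Abelianization.of _ = Abelianization.of (totA ((⟨hf.aut, hf.aut_mem⟩ : Γ)⁻¹ * α)⁻¹.1 x)
    rw [mul_inv_rev, inv_inv, Subgroup.coe_mul, totA_mul _ _ (mem_top x), hf.totA_aut (mem_top x)]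

/-- If all essential subgroups are of `SL(2, p)`-type and `Aut_F(G)` fixes a nontrivial element
of the abelianization, the focal subgroup is proper. -/
theorem focal_ne_top (hF : F.IsSaturated p) (hG : IsPGroup p (⊤ : Subgroup G)) (h2 : p ≠ 2)
    (hc : ∀ R, F.IsEssential p R → Ch p F R) {y : G} (hy : y ∉ commutator G)
    (h : ∀ f, F.Iso ⊤ ⊤ f → y⁻¹ * f y ∈ commutator G) : F.focalSubgroup ≠ ⊤ := by
  obtain ⟨θ, h1, h3⟩ := exists_norm hF hG hy h
  refine fun e => h1 ((focal_le_iff (R := θ.ker)).2 (fun P f hf x hx => ?_) (e.ge (mem_top y)))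
  rw [MonoidHom.mem_ker, map_mul, map_inv, inv_of_ch θ hF hG h2 hc h3 hf x hx, inv_mul_cancel]

end Cfsg.Agent.Fus.R3
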