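import Mathlib
import Cfsg.Agent.Fus.R3Base
import Cfsg.Agent.S4584

/-! Commutator tools and essential subgroups of small order. -/

set_option autoImplicit false
set_option linter.unusedSectionVars false

namespace Cfsg.Agent.Fus.R3

open Subgroup Cfsg.Agent.GT
open Cfsg.FusionSystem hiding inv_mem
open scoped Matrix MatrixGroups commutatorElement

variable {G : Type*} [Group G] {p : ℕ}

/-! ### Weights in `ZMod p` -/

/-- `τ x ≡ x ^ l` modulo `B`. -/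
def Wz (τ : G → G) (B : Subgroup G) (x : G) (l : ZMod p) : Prop :=
  ∃ m : ℤ, (m : ZMod p) = l ∧ Wt τ B x m

section Wz
variable {τ : G → G} {A B C : Subgroup G} {x y : G} {l m : ZMod p}

theorem Wz.mono (h : Wz τ A x l) (k : A ≤ B) : Wz τ B x l :=
  let ⟨m, e, h⟩ := h; ⟨m, e, h.mono k⟩

theorem Wz.congr {σ : G → G} (h : Wz τ A x l) (e : σ x = τ x) : Wz σ A x l :=
  let ⟨m, e', h⟩ := h; ⟨m, e', h.congr e⟩

theorem Wz.inf (h : Wz τ A x l) (h1 : x ∈ B) (h2 : τ x ∈ B) : Wz τ (A ⊓ B) x l :=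
  let ⟨m, e, h⟩ := h; ⟨m, e, h.inf h1 h2⟩

theorem Wz.uniq [Fact p.Prime] (h : Wz τ B x l) (h' : Wz τ B x m) (hx : x ∉ B)
    (hxp : x ^ p ∈ B) : l = m := by
  obtain ⟨a, rfl, h⟩ := h
  obtain ⟨b, rfl, h'⟩ := h'
  exact h.uniq h' hx hxp

theorem exists_wz [B.Normal] (h : τ x ∈ B ⊔ zpowers x) : ∃ l : ZMod p, Wz τ B x l :=
  let ⟨m, h⟩ := exists_wt h; ⟨m, m, rfl, h⟩

theorem Wz.sec {τ : G →* G} [B.Normal] (h : Wz τ B x l) (hB : ∀ b ∈ B, τ b ∈ B)
    (hy : y ∈ B ⊔ zpowers x) : Wz τ B y l :=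
  let ⟨m, e, h⟩ := h; ⟨m, e, h.sec hB hy⟩

theorem Wz.comm {τ : G →* G} [C.Normal] (h : Wz τ A x l) (h' : Wz τ B y m)
    (c1 : ∀ u ∈ A, ⁅u, y⁆ ∈ C) (c2 : ∀ u ∈ A, ∀ v ∈ B, ⁅u, v⁆ ∈ C) (c3 : ∀ v ∈ B, ⁅x, v⁆ ∈ C)
    (c4 : ⁅⁅x, y⁆, x⁆ ∈ C) (c5 : ⁅⁅x, y⁆, y⁆ ∈ C) : Wz τ C ⁅x, y⁆ (l * m) := by
  obtain ⟨a, rfl, h⟩ := h
  obtain ⟨b, rfl, h'⟩ := h'
  exact ⟨a * b, by push_cast; rfl, h.comm h' c1 c2 c3 c4 c5⟩

theorem Wz.ne_zero [B.Normal] (h : Wz τ B x l) (hxp : x ^ p ∈ B) (hx : τ x ∉ B) : l ≠ 0 := by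
  obtain ⟨a, rfl, h⟩ := h
  exact fun e => hx (by simpa [Wt] using h.of_cast (n := 0) hxp (by simpa using e))

theorem Wz.one [B.Normal] (h : Wz τ B x (1 : ZMod p)) (hxp : x ^ p ∈ B) : x⁻¹ * τ x ∈ B := by
  obtain ⟨a, e, h⟩ := h
  simpa [Wt] using h.of_cast (n := 1) hxp (by simpa using e)

theorem wz_of_pow [NeZero p] (h : (x ^ l.val)⁻¹ * τ x ∈ B) : Wz τ B x l :=
  ⟨l.val, by simp, by rwa [Wt, zpow_natCast]⟩

theorem wz_one (h : x⁻¹ * τ x ∈ B) : Wz τ B x (1 : ZMod p) := ⟨1, by simp, by rwa [Wt, zpow_one]⟩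

end Wz

/-! ### Commutators modulo normal subgroups -/

section Comm
variable {A B D K M : Subgroup G} {g u v w x y : G}

/-- The elements `g` with `⁅x, g⁆ ∈ D`. -/
def Cm (x : G) (D : Subgroup G) [D.Normal] : Subgroup G :=
  (centralizer {(x : G ⧸ D)}).comap (QuotientGroup.mk' D)

theorem mem_Cm [D.Normal] : g ∈ Cm x D ↔ ⁅x, g⁆ ∈ D := by
  rw [Cm, mem_comap, mem_centralizer_singleton_iff, ← commute_mk]
  exact eq_comm

theorem normal_of_cent (h : A ≤ center G) : A.Normal :=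
  ⟨fun a ha g => by rwa [mem_center_iff.1 (h ha) g, mul_inv_cancel_right]⟩

theorem cm_swap (h : ⁅x, y⁆ ∈ D) : ⁅y, x⁆ ∈ D := by
  rw [← commutatorElement_inv]; exact inv_mem h

theorem cm_left [D.Normal] (h : x ∈ D) (g : G) : ⁅x, g⁆ ∈ D := by
  rw [commutatorElement_def, mul_assoc, mul_assoc, ← mul_assoc g]
  exact mul_mem h (‹D.Normal›.conj_mem _ (inv_mem h) g)

theorem cm_right [D.Normal] (h : x ∈ D) (g : G) : ⁅g, x⁆ ∈ D := cm_swap (cm_left h g)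

theorem cm_of_commute (h : Commute x y) : ⁅x, y⁆ ∈ D := by
  rw [commutatorElement_eq_one_iff_commute.2 h]; exact one_mem _

theorem cm_bot : ⁅x, y⁆ ∈ (⊥ : Subgroup G) ↔ Commute x y := by
  rw [mem_bot, commutatorElement_eq_one_iff_commute]

theorem cm_sup_zp [D.Normal] (h1 : ∀ k ∈ K, ⁅x, k⁆ ∈ D) (h2 : ⁅x, y⁆ ∈ D) (hu : u ∈ K ⊔ zpowers y) :
    ⁅x, u⁆ ∈ D :=
  mem_Cm.1 (sup_le (fun k hk => mem_Cm.2 (h1 k hk)) (zpowers_le.2 (mem_Cm.2 h2)) hu)

/-- `K⟨x⟩` is abelian modulo `D` if `K` is abelian modulo `D` and `[K, x] ≤ D`. -/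
theorem cm_sup_sup [D.Normal] (h1 : ∀ k ∈ K, ∀ k' ∈ K, ⁅k, k'⁆ ∈ D) (h2 : ∀ k ∈ K, ⁅k, x⁆ ∈ D)
    (hu : u ∈ K ⊔ zpowers x) (hv : v ∈ K ⊔ zpowers x) : ⁅u, v⁆ ∈ D :=
  cm_sup_zp (fun k hk => cm_swap (cm_sup_zp (h1 k hk) (h2 k hk) hu))
    (cm_swap (cm_sup_zp (fun k hk => cm_swap (h2 k hk)) (cm_of_commute (.refl x)) hu)) hv

theorem commute_sup_zp (h1 : ∀ k ∈ K, Commute x k) (h2 : Commute x y) (hu : u ∈ K ⊔ zpowers y) :
    Commute x u :=
  cm_bot.1 (cm_sup_zp (fun k hk => cm_bot.2 (h1 k hk)) (cm_bot.2 h2) hu)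

theorem index_Cm_le [Finite G] [D.Normal] (h : ∀ g, ⁅x, g⁆ ∈ K) :
    (Cm x D).index ≤ D.relIndex K := by
  refine Nat.card_le_card_of_injective
    (fun q : G ⧸ Cm x D => ((⟨_, h q.out⟩ : K) : K ⧸ D.subgroupOf K)) fun q q' e => ?_
  rw [← q.out_eq, ← q'.out_eq]
  refine QuotientGroup.eq.2 (mem_Cm.2 ?_)
  have h1 : ⁅x, q.out⁆⁻¹ * ⁅x, q'.out⁆ ∈ D :=
    mem_subgroupOf.1 (QuotientGroup.eq (s := D.subgroupOf K).1 e)
  have := ‹D.Normal›.conj_mem _ h1 q.out⁻¹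
  rwa [show q.out⁻¹ * (⁅x, q.out⁆⁻¹ * ⁅x, q'.out⁆) * q.out⁻¹⁻¹ = ⁅x, q.out⁻¹ * q'.out⁆ by
    simp only [commutatorElement_def]; group] at this

theorem mem_nz_sup_zp [Finite G] [M.Normal] (h : ⁅x, g⁆ ∈ M ⊔ zpowers x) :
    g ∈ normalizer ((M ⊔ zpowers x : Subgroup G) : Set G) := by
  refine mem_normalizer_fintype fun y hy => ?_
  refine (sup_le (fun m hm => ?_) (zpowers_le.2 ?_) :
    M ⊔ zpowers x ≤ (M ⊔ zpowers x).comap (MulAut.conj g).toMonoidHom) hy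
  · exact mem_sup_left (‹M.Normal›.conj_mem m hm g)
  · have := mul_mem (inv_mem h) (mem_sup_right (mem_zpowers x))
    rwa [show ⁅x, g⁆⁻¹ * x = g * x * g⁻¹ by simp only [commutatorElement_def]; group] at this

/-- An element of `x M⟨w⟩`, `w = ⁅g, x⁆`, is conjugate into `x M`. -/
theorem conj_into [M.Normal] (h : ⁅⁅g, x⁆, g⁆ ∈ M) (hu : u * x⁻¹ ∈ M ⊔ zpowers ⁅g, x⁆) :
    ∃ k, k * u * k⁻¹ ∈ M ⊔ zpowers x := by
  obtain ⟨m, hm, i, e⟩ := (PG.mem_sup_zpowers_of_mem_normalizer mem_nz).1 hu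
  have e1 : ∀ a b : G, ((⁅a, b⁆ : G) : G ⧸ M) = ⁅(a : G ⧸ M), (b : G ⧸ M)⁆ := fun a b =>
    map_commutatorElement (QuotientGroup.mk' M) a b
  have h1 : ((g ^ i)⁻¹ * u * (g ^ i)⁻¹⁻¹) * x⁻¹ ∈ M := by
    rw [← QuotientGroup.eq_one_iff, ← inv_mul_cancel_right u x, ← e]
    simp only [QuotientGroup.mk_mul, QuotientGroup.mk_inv, QuotientGroup.mk_zpow, e1,
      (QuotientGroup.eq_one_iff m).2 hm]
    rw [← cm_zpow_left (by rw [← e1]; exact commute_mk.2 h), commutatorElement_def]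
    group
  refine ⟨(g ^ i)⁻¹, ?_⟩
  have := mul_mem (mem_sup_left h1 : _ ∈ M ⊔ zpowers x) (mem_sup_right (mem_zpowers x))
  rwa [inv_mul_cancel_right] at this

end Comm

/-! ### Counting -/

variable [Finite G] [hp : Fact p.Prime] {A B E N P R X Y Z W : Subgroup G} {a s x y : G}

theorem relIndex_dvd (hR : IsPGroup p R) (h : W ≤ R) {j : ℕ} (hc : Nat.card R ≤ p ^ j * Nat.card W) :
    W.relIndex R ∣ p ^ j := by
  obtain ⟨m, hm⟩ := PG.relIndex_eq_pow_of_isPGroup hR W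
  rw [← PG.relIndex_mul_card h, hm] at hc
  rw [hm]
  exact pow_dvd_pow _ ((Nat.pow_le_pow_iff_right hp.out.one_lt).1
    (Nat.le_of_mul_le_mul_right hc Nat.card_pos))

omit hp in
theorem relIndex_eq (h : W ≤ R) {j : ℕ} (hc : Nat.card R = j * Nat.card W) : W.relIndex R = j := by
  rw [← PG.relIndex_mul_card h] at hc
  exact Nat.eq_of_mul_eq_mul_right Nat.card_pos hc

theorem relIndex_eq_p (h : W ≤ R) {j : ℕ} (h1 : Nat.card W = p ^ j) (h2 : Nat.card R = p ^ (j + 1)) :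
    W.relIndex R = p := relIndex_eq h (by rw [h1, h2, pow_succ'])

theorem sup_zp_eq (h : W ≤ R) {j : ℕ} (h1 : Nat.card W = p ^ j) (h2 : Nat.card R = p ^ (j + 1))
    (hx : x ∈ R) (hx' : x ∉ W) : W ⊔ zpowers x = R :=
  PG.sup_zpowers_eq_of_relIndex_prime hp.out h (relIndex_eq_p h h1 h2) hx hx'

theorem card_eq_of_lt (hR : IsPGroup p R) (h : W < R) {j : ℕ} (h1 : Nat.card W = p ^ j)
    (h2 : Nat.card R < p ^ (j + 2)) : Nat.card R = p ^ (j + 1) := by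
  obtain ⟨k, hk⟩ := PG.card_eq_pow_of_isPGroup hR
  have h3 := PG.card_lt_of_lt h
  rw [hk, Nat.pow_lt_pow_iff_right hp.out.one_lt] at h2
  rw [h1, hk, Nat.pow_lt_pow_iff_right hp.out.one_lt] at h3
  rw [hk, show k = j + 1 by omega]

theorem card_eq_of_lt' (hR : IsPGroup p R) (h : W < R) {j : ℕ} (h2 : Nat.card R = p ^ (j + 1))
    (h1 : p ^ j ≤ Nat.card W) : Nat.card W = p ^ j := by
  have := PG.mul_card_le_of_lt hR h
  rw [h2, pow_succ'] at this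
  exact le_antisymm (Nat.le_of_mul_le_mul_left this hp.out.pos) h1

theorem not_le_of_card {i j : ℕ} (h1 : Nat.card W = p ^ i) (h2 : Nat.card R = p ^ j) (h : j < i) :
    ¬ W ≤ R := fun k => by
  have := card_le_of_le k
  rw [h1, h2, Nat.pow_le_pow_iff_right hp.out.one_lt] at this
  omega

theorem exists_of_card {i j : ℕ} (h1 : Nat.card W = p ^ i) (h2 : Nat.card R = p ^ j) (h : j < i) :
    ∃ x ∈ W, x ∉ R := SetLike.not_le_iff_exists.1 (not_le_of_card h1 h2 h)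

theorem card_zp (h1 : x ≠ 1) (h : x ^ p = 1) : Nat.card (zpowers x) = p ^ 1 := by
  rw [Nat.card_zpowers, orderOf_eq_prime h h1, pow_one]

theorem zp_eq (h : Nat.card W = p ^ 1) (hx : x ∈ W) (h1 : x ≠ 1) : zpowers x = W := by
  simpa using sup_zp_eq (j := 0) bot_le (by simp) h hx (by simpa using h1)

theorem card_sup_zp [W.Normal] {j : ℕ} (h : Nat.card W = p ^ j) (h1 : x ∉ W) (h2 : x ^ p ∈ W) :
    Nat.card (W ⊔ zpowers x : Subgroup G) = p ^ (j + 1) := by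
  rw [PG.card_sup_zpowers hp.out mem_nz h1 h2, h, pow_succ']

theorem p_le_card (hR : IsPGroup p R) (h : R ≠ ⊥) : p ≤ Nat.card R := by
  simpa using PG.mul_card_le_of_lt hR (bot_lt_iff_ne_bot.2 h)

omit [Finite G] hp in
theorem comm_ne_bot (h : ¬ IsMulCommutative R) : ⁅R, R⁆ ≠ ⊥ := fun e =>
  h (PG.isMulCommutative_iff_le_centralizer.2 (commutator_eq_bot_iff_le_centralizer.1 e))

omit [Finite G] hp in
theorem comm_self_le : ⁅R, R⁆ ≤ R := commutator_le.2 fun _ ha _ hb =>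
  mul_mem (mul_mem (mul_mem ha hb) (inv_mem ha)) (inv_mem hb)

/-- In a group of order `p ^ 4`, `|R'| = p` iff `|Z(R)| = p ^ 2`. -/
theorem card_comm_iff (h : Nat.card R = p ^ 4) :
    Nat.card (⁅R, R⁆ : Subgroup G) = p ^ 1 ↔ Nat.card (centralizerIn R R) = p ^ 2 := by
  have h1 := S4584.result p h
  rw [← card_map_of_injective R.subtype_injective, map_subtype_commutator,
    ← relIndex_map_subtype_top, PG.map_center_subtype'] at h1
  rw [pow_one, h1]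
  have h2 := PG.relIndex_mul_card (centralizerIn_le (S := R) (P := R))
  refine ⟨fun e => ?_, fun e => relIndex_eq (W := centralizerIn R R) inf_le_left
    (by rw [h, e, ← pow_add])⟩
  rw [show (centralizerIn R R).relIndex R = p ^ 2 from e, h, show 4 = 2 + 2 from rfl, pow_add] at h2
  exact Nat.eq_of_mul_eq_mul_left (pow_pos hp.out.pos 2) h2

theorem card_center_le (hR : IsPGroup p R) (h : ¬ IsMulCommutative R) :
    p ^ 2 * Nat.card (centralizerIn R R) ≤ Nat.card R := by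
  have h1 := PG.sq_dvd_index_center hR h
  rw [← relIndex_map_subtype_top, PG.map_center_subtype'] at h1
  rw [← PG.relIndex_mul_card (centralizerIn_le (S := R) (P := R))]
  exact Nat.mul_le_mul_right _ (Nat.le_of_dvd (Nat.pos_of_ne_zero index_ne_zero_of_finite) h1)

/-- A normal subgroup of order `p ^ 3` and index at least `p ^ 2` admits a transvection. -/
theorem exists_tv_of_normal (hG : IsPGroup p G) [E.Normal] (hE : Nat.card E = p ^ 3)
    (h5 : p ^ 5 ≤ Nat.card G) :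
    ∃ z ∈ E, z ^ p = 1 ∧ ∃ s ∉ E, ∀ x ∈ E, x⁻¹ * (s * x * s⁻¹) ∈ zpowers z := by
  obtain ⟨z, hz, hzc, hz1, hzp⟩ := PG.exists_mem_center_of_normal hG E fun e => by
    rw [e, card_bot] at hE; exact (Nat.one_lt_pow (by norm_num) hp.out.one_lt).ne hE
  have : (zpowers z).Normal := normal_of_cent (zpowers_le.2 hzc)
  have c0 := card_zp hz1 hzp
  obtain ⟨w, hw, hw0, hwp, hwc⟩ := PG.exists_normal_step hG (zpowers z) E
    (lt_of_le_not_ge (zpowers_le.2 hz) (not_le_of_card hE c0 (by norm_num)))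
  have := PG.normal_sup_zpowers hwc
  have c1 := card_sup_zp c0 hw0 hwp
  have l1 : zpowers z ⊔ zpowers w ≤ E := sup_le (zpowers_le.2 hz) (zpowers_le.2 hw)
  obtain ⟨x, hx, hx0, -, hxc⟩ := PG.exists_normal_step hG _ E
    (lt_of_le_not_ge l1 (not_le_of_card hE c1 (by norm_num)))
  have h1 := index_Cm_le (D := zpowers z) hxc
  have h2 := index_Cm_le (D := zpowers z) hwc
  rw [relIndex_eq_p le_sup_left c0 c1] at h1
  rw [relIndex_self] at h2
  obtain ⟨s, hs, hsE⟩ : ∃ s ∈ Cm x (zpowers z), s ∉ E := SetLike.not_le_iff_exists.1 fun k => by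
    have h3 := card_le_of_le k
    have h4 := (Cm x (zpowers z)).card_mul_index
    have h6 := Nat.mul_le_mul h3 h1
    rw [h4, hE, ← pow_succ] at h6
    exact absurd (h5.trans h6) (not_le.2 (Nat.pow_lt_pow_right hp.out.one_lt (by norm_num)))
  refine ⟨z, hz, hzp, s, hsE, fun y hy => ?_⟩
  rw [comm_mem_iff_conj]
  refine cm_swap (cm_sup_zp (K := zpowers z ⊔ zpowers w) (fun k hk => ?_) (cm_swap (mem_Cm.1 hs))
    ((sup_zp_eq l1 c1 hE hx hx0).ge (inv_mem hy)))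
  exact cm_sup_zp (fun k hk => cm_right hk s) (cm_swap (hwc s)) hk

/-! ### `SL(2, p)`-type for small essential subgroups -/

variable {F : FusionSystem (⊤ : Subgroup G)}

theorem ch_of_comm (hG : IsPGroup p (⊤ : Subgroup G))
    (h : Nat.card R ≤ p ^ 2 * Nat.card (⁅R, R⁆ : Subgroup G)) : Ch p F R :=
  ⟨_, _, (invA_top _).commutator (invA_top _), (invA_top _).commutator (invA_top _), le_rfl, le_rfl,
    le_normalizer_of_comm_le le_rfl le_rfl comm_self_le,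
    relIndex_dvd (hG.to_le le_top) comm_self_le h, by simp⟩

theorem ch_of_nonab (hG : IsPGroup p (⊤ : Subgroup G)) (hn : ¬ IsMulCommutative R)
    (h : Nat.card R ≤ p ^ 4) : Ch p F R := by
  have hR : IsPGroup p R := hG.to_le le_top
  have h1 := p_le_card (hG.to_le le_top) (comm_ne_bot hn)
  by_cases h2 : Nat.card R ≤ p ^ 2 * Nat.card (⁅R, R⁆ : Subgroup G)
  · exact ch_of_comm hG h2
  obtain ⟨j, hj⟩ := PG.card_eq_pow_of_isPGroup (hG.to_le (le_top (a := ⁅R, R⁆)))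
  obtain ⟨k, hk⟩ := PG.card_eq_pow_of_isPGroup hR
  rw [hk, Nat.pow_le_pow_iff_right hp.out.one_lt] at h
  rw [hk, hj, ← pow_add, Nat.pow_le_pow_iff_right hp.out.one_lt] at h2
  rw [hj, ← pow_one p, ← pow_mul, Nat.pow_le_pow_iff_right hp.out.one_lt] at h1
  obtain rfl : k = 4 := by omega
  obtain rfl : j = 1 := by omega
  have h3 := (card_comm_iff hk).1 hj
  have h4 : ⁅R, R⁆ ≤ centralizerIn R R := le_inf comm_self_le (le_centralizer_iff.1
    (PG.le_centralizer_of_card_prime (hj.trans (pow_one p)) hR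
      (le_normalizer_of_comm_le le_rfl le_rfl comm_self_le)))
  exact ⟨_, _, invA_center _, (invA_top _).commutator (invA_top _), h4, le_rfl, le_normalizer_center,
    relIndex_dvd hR centralizerIn_le (by rw [hk, h3, ← pow_add]), (relIndex_eq_p h4 hj h3).dvd⟩

theorem ch_of_transv {c : G → Fin 2 → ZMod p} (hG : IsPGroup p (⊤ : Subgroup G))
    (h : Transv F p E ⊥ s a X Y c) (hc : IsMulCommutative E) (hE : Nat.card E = p ^ 3) :
    Ch p F E := by
  have hX : Nat.card X = p ^ 2 := by rw [← relIndex_bot_left, h.sec.toCoord.relIndex_eq]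
  have hn : ∀ K ≤ E, E ≤ normalizer (K : Set G) := fun K hK =>
    (PG.isMulCommutative_iff_le_centralizer.1 hc).trans
      ((centralizer_le hK).trans (PG.centralizer_le_normalizer' K))
  have h1 := PG.card_sup_of_inf_eq_bot (h.invX.1.trans (hn _ h.invY.1)) (le_bot_iff.1 h.inf)
  rw [h.sup, hE, hX, pow_succ] at h1
  have h2 := Nat.eq_of_mul_eq_mul_left (pow_pos hp.out.pos 2) h1
  exact ⟨Y, ⊥, h.invY, invA_bot _, bot_le, bot_le, hn _ h.invY.1,
    relIndex_dvd (hG.to_le le_top) h.invY.1 (by rw [hE, ← h2, pow_succ]),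
    by rw [relIndex_bot_left, h2]⟩

theorem sq_le_card (hF : F.IsSaturated p) (hG : IsPGroup p (⊤ : Subgroup G))
    (hE : F.IsEssential p E) : p ^ 2 ≤ Nat.card E := by
  have hP : IsPGroup p E := hG.to_le le_top
  obtain ⟨k, hk⟩ := PG.card_eq_pow_of_isPGroup hP
  by_contra h
  rw [hk, Nat.pow_le_pow_iff_right hp.out.one_lt, not_le] at h
  refine (hE.noChain hF hG).not_isCyclic hP (isCyclic_of_card_dvd_prime (p := p) ?_)
  rw [hk]
  interval_cases k <;> simp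

end Cfsg.Agent.Fus.R3
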