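import Mathlib
import Cfsg.Agent.Fus.R3Small

/-! Groups of order `p ^ 5`: an abelian essential subgroup of order `p ^ 3`. -/

set_option autoImplicit false
set_option linter.unusedSectionVars false

namespace Cfsg.Agent.Fus.R3

open Subgroup Cfsg.Agent.GT
open Cfsg.FusionSystem hiding inv_mem
open scoped Matrix MatrixGroups commutatorElement

variable {G : Type*} [Group G] {p : ℕ} [Finite G] [hp : Fact p.Prime]
  {F : FusionSystem (⊤ : Subgroup G)} {A E M N X Y Z K L : Subgroup G} {a s t x y g u : G}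
  {c : G → Fin 2 → ZMod p} {f : G → G}

theorem card_top_eq {n : ℕ} (h : Nat.card G = p ^ n) : Nat.card (⊤ : Subgroup G) = p ^ n := by
  rw [card_top, h]

theorem normal_of_card (hG : IsPGroup p G) {n : ℕ} (h : Nat.card G = p ^ (n + 1))
    (hN : Nat.card N = p ^ n) : N.Normal :=
  PG.normal_of_index_prime hG (by
    rw [← relIndex_top_right]; exact relIndex_eq_p le_top hN (card_top_eq h))

/-- Commutators into a normal subgroup of index `p`. -/
theorem cm_step (hG : IsPGroup p G) [K.Normal] [L.Normal] (h : K ≤ L) {j : ℕ}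
    (h1 : Nat.card K = p ^ j) (h2 : Nat.card L = p ^ (j + 1)) (hx : x ∈ L) (g : G) : ⁅x, g⁆ ∈ K :=
  (PG.commutator_le_of_relIndex_prime (hG.to_subgroup L) (hG.to_subgroup ⊤)
    (fun _ _ => mem_nz) (fun _ _ => mem_nz) h (relIndex_eq_p h h1 h2)).1
    (commutator_mem_commutator hx (mem_top g))

theorem pow_step (hG : IsPGroup p G) (h : K ≤ L) {j : ℕ}
    (h1 : Nat.card K = p ^ j) (h2 : Nat.card L = p ^ (j + 1)) (hx : x ∈ L) : x ^ p ∈ K :=
  PG.pow_mem_of_relIndex_prime (hG.to_subgroup L) h (relIndex_eq_p h h1 h2) hx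

theorem inf_eq_of_card (h : K ≤ L) {j : ℕ} (h1 : Nat.card K = p ^ j) (h2 : Nat.card L = p ^ (j + 1))
    (hK : K ≤ M) (hL : ¬ L ≤ M) (hx : x ∈ L) (hx' : x ∈ M) : x ∈ K := by
  by_contra hn
  exact hL ((sup_zp_eq h h1 h2 hx hn).ge.trans (sup_le hK (zpowers_le.2 hx')))

/-- Weights of the torus on the natural section. -/
theorem wz_fst (h : Coord X Z c) (hx : x ∈ X) (hf : f x ∈ X) {l : ZMod p} (h1 : c x 1 = 0)
    (e : c (f x) = !![l, 0; 0, l⁻¹] *ᵥ c x) : Wz f Z x l := by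
  refine wz_of_pow ((h.eq_iff (pow_mem hx _) hf).1 ?_)
  rw [h.map_pow hx, e]
  ext i; fin_cases i <;> simp [dotProduct, Matrix.mulVec, h1]

theorem wz_snd (h : Coord X Z c) (hx : x ∈ X) (hf : f x ∈ X) {l : ZMod p} (h1 : c x 0 = 0)
    (e : c (f x) = !![l, 0; 0, l⁻¹] *ᵥ c x) : Wz f Z x l⁻¹ := by
  refine wz_of_pow ((h.eq_iff (pow_mem hx _) hf).1 ?_)
  rw [h.map_pow hx, e]
  ext i; fin_cases i <;> simp [dotProduct, Matrix.mulVec, h1]

theorem fix_iff {Γ : Subgroup (MulAut E)} (h : SL2Sec Γ (cAut E s) X Z c)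
    (hs : s ∈ normalizer (E : Set G)) (hx : x ∈ X) : x⁻¹ * (s * x * s⁻¹) ∈ Z ↔ c x 1 = 0 := by
  have h1 := h.act_u x hx
  have h2 := h.invX.mem h.u_mem hx
  rw [totA_cAut hs (h.invX.1 hx)] at h1 h2
  rw [← h.toCoord.eq_iff hx h2, h1]
  refine ⟨fun e => by simpa [dotProduct, Matrix.mulVec] using congrFun e 0, fun e => ?_⟩
  ext i; fin_cases i <;> simp [dotProduct, Matrix.mulVec, e]

omit [Finite G] hp in
theorem conj_eq_iff : x⁻¹ * (s * x * s⁻¹) ∈ (⊥ : Subgroup G) ↔ Commute x s := by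
  rw [mem_bot, inv_mul_eq_one, eq_mul_inv_iff_mul_eq]; rfl

theorem wz_of_right [M.Normal] {l : ZMod p} (h : f x * (x ^ l.val)⁻¹ ∈ M) : Wz f M x l :=
  wz_of_pow (‹M.Normal›.mem_comm h)

/-- The configuration around an abelian essential subgroup of order `p ^ 3`. -/
structure CA (F : FusionSystem (⊤ : Subgroup G)) (p : ℕ) (E N M A Z : Subgroup G) (y x t : G) :
    Prop where
  nN : N.Normal
  nM : M.Normal
  nA : A.Normal
  nZ : Z.Normal
  cN : Nat.card N = p ^ 4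
  cA : Nat.card A = p ^ 3
  cE : Nat.card E = p ^ 3
  cM : Nat.card M = p ^ 2
  cZ : Nat.card Z = p ^ 1
  ZM : Z ≤ M
  MA : M ≤ A
  ME : M ≤ E
  AN : A ≤ N
  EN : E ≤ N
  yM : y ∈ M
  yZ : y ∉ Z
  xE : x ∈ E
  xM : x ∉ M
  xA : x ∉ A
  tA : t ∈ A
  tM : t ∉ M
  xp : x ^ p = 1
  cen : ∀ m ∈ M, ∀ n ∈ N, Commute m n
  der : ∀ u ∈ N, ∀ v ∈ N, ⁅u, v⁆ ∈ Z
  cE' : ∀ g, (∀ e ∈ E, Commute e g) → g ∈ E
  nE : ∀ g ∈ normalizer (E : Set G), g ∈ N
  tor : ∀ l : ZMod p, l ≠ 0 → ∃ τ : G →* G, (∀ u ∈ N, τ u ∈ N) ∧ (∀ u ∈ A, τ u ∈ A) ∧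
    (∀ u ∈ M, τ u ∈ M) ∧ (∀ u ∈ Z, Wz τ ⊥ u l) ∧ τ y = y ∧ Wz τ M x l⁻¹ ∧ Wz τ M t (l ^ 2)
  ch : Ch p F E

theorem not_normal (hF : F.IsSaturated p) (h5 : Nat.card G = p ^ 5) (hE : F.IsEssential p E)
    (hc : IsMulCommutative E) (cE : Nat.card E = p ^ 3) : ¬ E.Normal := fun _ => by
  have hG : IsPGroup p G := .of_card h5
  obtain ⟨z, hz, hzp, s, hs, h⟩ := exists_tv_of_normal hG cE h5.ge
  obtain ⟨X, Y, c, T⟩ := hE.exists_transv hF (hG.to_subgroup ⊤) (invA_bot _)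
    (commutator_eq_bot_iff_le_centralizer.2 (PG.isMulCommutative_iff_le_centralizer.1 hc)).le
    bot_le (s := s) ⟨trivial, mem_nz⟩ hs hz (hzp ▸ one_mem _) fun x hx => mem_sup_right (h x hx)
  have h1 := card_sup_zp cE hs T.pow
  rw [← T.norm, normalizerIn_eq_of_le fun _ _ => mem_nz, card_top_eq h5] at h1
  exact absurd (Nat.pow_right_injective hp.out.two_le h1) (by norm_num)

theorem exists_ca (hF : F.IsSaturated p) (h5 : Nat.card G = p ^ 5) (hE : F.IsEssential p E)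
    (hc : IsMulCommutative E) (cE : Nat.card E = p ^ 3) :
    ∃ N M A Z y x t, CA F p E N M A Z y x t := by
  have hG : IsPGroup p G := .of_card h5
  have hT := hG.to_subgroup ⊤
  have hnn := not_normal hF h5 hE hc cE
  have hab := PG.isMulCommutative_iff_forall.1 hc
  have hel : ∀ x ∈ E, x ^ p = 1 := by
    rcases (hE.noChain hF hT).of_card_cube cE with h | h | h
    · exact fun x hx => congrArg Subtype.val (h.2 ⟨x, hx⟩)
    · exact fun x hx => congrArg Subtype.val (h.2.2 ⟨x, hx⟩)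
    · obtain ⟨-, ⟨e⟩⟩ := h
      have := hc.is_comm.comm (e.symm (.a 1)) (e.symm (.xa 0))
      rw [← map_mul, ← map_mul, e.symm.apply_eq_iff_eq] at this
      exact absurd this (by decide)
  set N := normalizerIn ⊤ E with hN
  have EN : E ≤ N := le_normalizerIn le_top
  have nE : ∀ g ∈ normalizer (E : Set G), g ∈ N := fun g hg => ⟨trivial, hg⟩
  have cE' : ∀ g, (∀ e ∈ E, Commute e g) → g ∈ E := fun g h => hE.mem_of_comm trivial h
  obtain ⟨s, hs, hsE⟩ := hE.exists_notMem hF hT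
  have hNt : N ≠ ⊤ := fun e => hnn (normalizer_eq_top_iff.1 (eq_top_iff.2 fun g _ =>
    (e.ge (mem_top g)).2))
  have cN : Nat.card N = p ^ 4 := card_eq_of_lt (hG.to_subgroup N) ⟨EN, fun h => hsE (h hs)⟩ cE
    (by rw [← card_top_eq h5]; exact PG.card_lt_of_lt hNt.lt_top)
  have nN := normal_of_card hG h5 cN
  obtain ⟨g, -, hg⟩ := SetLike.not_le_iff_exists.1 (top_le_iff.not.2 hNt)
  have hna : ¬ IsMulCommutative N := fun h =>
    hsE (cE' s fun e he => PG.isMulCommutative_iff_forall.1 h e (EN he) s hs)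
  set M := centralizerIn N N with hM
  have cen : ∀ m ∈ M, ∀ n ∈ N, Commute m n := fun m hm n hn => ((mem_centralizerIn.1 hm).2 n hn).symm
  have ME : M ≤ E := fun m hm => cE' m fun e he => (cen m hm e (EN he)).symm
  have cM : Nat.card M = p ^ 2 := by
    set E' := E.map (MulAut.conj g).toMonoidHom
    have h1 : E' ≤ N := by rintro _ ⟨e, he, rfl⟩; exact nN.conj_mem e (EN he) g
    have h2 : ¬ E' ≤ E := fun h => hg (nE g (mem_normalizer_fintype fun e he => h ⟨e, he, rfl⟩))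
    obtain ⟨v, hv, hvE⟩ := SetLike.not_le_iff_exists.1 h2
    have h3 : E' ⊔ E = N := le_antisymm (sup_le h1 EN)
      ((sup_zp_eq EN cE cN (h1 hv) hvE).ge.trans (sup_le le_sup_right
        (zpowers_le.2 (mem_sup_left hv))))
    have h4 := PG.card_sup_mul_card_inf (h1.trans normalizerIn_le_normalizer)
    rw [h3, cN, card_map_of_injective (MulAut.conj g).injective, cE, ← pow_add,
      show 3 + 3 = 4 + 2 from rfl, pow_add] at h4
    have h5 : E' ⊓ E ≤ M := fun m hm => mem_centralizerIn.2 ⟨EN hm.2, fun n hn => by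
      refine (sup_le (fun e he => ?_) (fun e he => ?_) : E' ⊔ E ≤ centralizer {m}) (h3.ge hn) m rfl
        |>.symm
      · obtain ⟨⟨m', hm', rfl⟩, -⟩ := hm
        obtain ⟨e', he', rfl⟩ := he
        exact mem_centralizer_singleton_iff.2 (by rw [← map_mul, ← map_mul, hab e' he' m' hm'])
      · exact mem_centralizer_singleton_iff.2 (hab e he m hm.2)⟩
    refine le_antisymm ?_ ((Nat.eq_of_mul_eq_mul_left (pow_pos hp.out.pos 4) h4).ge.trans
      (card_le_of_le h5))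
    have := card_center_le (hG.to_subgroup N) hna
    rw [cN, show 4 = 2 + 2 from rfl, pow_add] at this
    exact Nat.le_of_mul_le_mul_left this (pow_pos hp.out.pos 2)
  have nM : M.Normal := inferInstanceAs (N ⊓ centralizer (N : Set G)).Normal
  obtain ⟨t, htN, tM, htp, htc⟩ := PG.exists_normal_step hG M N
    (lt_of_le_not_ge (ME.trans EN) (not_le_of_card cN cM (by norm_num)))
  set A := M ⊔ zpowers t with hA
  have nA : A.Normal := PG.normal_sup_zpowers htc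
  have cA : Nat.card A = p ^ 3 := card_sup_zp cM tM htp
  have AN : A ≤ N := sup_le (ME.trans EN) (zpowers_le.2 htN)
  have tE : t ∉ E := fun h => hnn (sup_zp_eq ME cM cE h tM ▸ nA)
  have EA : ¬ E ≤ A := fun h => tE ((PG.eq_of_le_of_card_le h (by rw [cA, cE])).ge
    (mem_sup_right (mem_zpowers t)))
  have AE : ¬ A ≤ E := fun h => tE (h (mem_sup_right (mem_zpowers t)))
  obtain ⟨x₀, hx₀, hx₀M⟩ := exists_of_card cE cM (by norm_num)
  obtain ⟨X, Y, c, T⟩ := hE.exists_transv_of_axis hF hT (invA_bot _)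
    (commutator_eq_bot_iff_le_centralizer.2 (PG.isMulCommutative_iff_le_centralizer.1 hc)).le
    bot_le htN tE (fun y hy => conj_eq_iff.2 (cen y hy t htN))
    (sup_zp_eq ME cM cE hx₀ hx₀M).symm (by rw [hel _ hx₀]; exact one_mem _)
  set a := x₀⁻¹ * (t * x₀ * t⁻¹)
  have eN : E ⊔ zpowers t = N := T.norm.symm
  have fixM : ∀ e ∈ E, Commute e t → e ∈ M := fun e he h => mem_centralizerIn.2 ⟨EN he, fun n hn =>
    (commute_sup_zp (fun k hk => hab e he k hk) h (eN.ge hn)).symm⟩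
  set Z := ⁅N, N⁆
  have cZ : Nat.card Z = p ^ 1 := (card_comm_iff cN).2 cM
  have a1 : a ≠ 1 := fun e => T.aW (mem_bot.2 e)
  have eZ : zpowers a = Z := zp_eq cZ (conj_comm_mem_commutator (EN hx₀) htN) a1
  have YM : Y ⊔ zpowers a ≤ M := fun e he => fixM e
    (sup_le T.invY.1 (zpowers_le.2 (T.invX.1 T.aX)) he)
    (conj_eq_iff.1 ((T.fix e (sup_le T.invY.1 (zpowers_le.2 (T.invX.1 T.aX)) he)).2 he))
  have ZM : Z ≤ M := eZ ▸ le_sup_right.trans YM
  obtain ⟨y, hy, yZ⟩ : ∃ y ∈ Y, y ∉ Z := SetLike.not_le_iff_exists.1 fun h =>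
    not_le_of_card cM cZ (by norm_num) fun m hm => sup_le h eZ.le
      ((T.fix m (ME hm)).1 (conj_eq_iff.2 (cen m hm t htN)))
  obtain ⟨x, hx, ex⟩ := T.sec.surj ![0, 1]
  have xE := T.invX.1 hx
  have xM : x ∉ M := fun h => by
    simpa [ex] using (fix_iff T.sec htN.2 hx).1 (conj_eq_iff.2 (cen x h t htN))
  have xA : x ∉ A := fun h => xM (inf_eq_of_card ME cM cE le_sup_left EA xE h)
  have iA : ∀ f, F.Iso N N f → ∀ u ∈ A, f u ∈ A := by
    intro f hf
    have hfM : ∀ m ∈ M, f m ∈ M := hf.iso_center.maps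
    refine (hf.mor.mulOn.mono AN).mapsTo_sup (fun m hm => mem_sup_left (hfM m hm)) fun w hw => ?_
    obtain ⟨i, rfl⟩ := mem_zpowers_iff.1 hw
    rw [hf.mor.map_zpow htN]
    refine zpow_mem ?_ i
    by_contra hu
    obtain ⟨b, hb, j, e⟩ := (PG.mem_sup_zpowers_of_mem_normalizer mem_nz).1
      ((sup_zp_eq AN cA cN (EN xE) xA).ge (hf.maps t htN))
    have h1 : x ^ j ∉ M := fun h => hu (e ▸ mul_mem hb (mem_sup_left h))
    have e1 := sup_zp_eq ME cM cE (zpow_mem xE j) h1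
    have h2 : ⁅g, x ^ j⁆ ∈ A := cm_swap (cm_step hG AN cA cN (zpow_mem (EN xE) j) g)
    have h3 : ⁅g, x ^ j⁆ ∉ M := fun h => hg (nE g (e1 ▸ mem_nz_sup_zp (mem_sup_left (cm_swap h))))
    obtain ⟨k, hk⟩ := conj_into (u := f t) (cm_step hG le_sup_left cM cA h2 g)
      (by rw [← e, mul_inv_cancel_right, sup_zp_eq le_sup_left cM cA h2 h3]; exact hb)
    rw [e1] at hk
    have h4 : F.Iso A E fun u => k * f u * k⁻¹ := by
      have hm := (hf.mor.mono AN).conj_comp (mem_top k)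
      refine hm.iso_of_card_le (hm.mulOn.mapsTo_sup
        (fun m hm => ME (nM.conj_mem _ (hfM m hm) k)) fun w hw => ?_) (by rw [cA, cE])
      obtain ⟨i, rfl⟩ := mem_zpowers_iff.1 hw
      rw [hm.map_zpow (mem_sup_right (mem_zpowers t))]
      exact zpow_mem hk i
    have h6 := hE.isFullyNormalized.2 A h4.isConj.symm
    rw [normalizerIn_eq_of_le fun _ _ => mem_nz, card_top_eq h5, ← hN, cN,
      Nat.pow_le_pow_iff_right hp.out.one_lt] at h6
    omega
  refine ⟨N, M, A, Z, y, x, t, nN, nM, nA, inferInstance, cN, cA, cE, cM, cZ, ZM, le_sup_left, ME,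
    AN, EN, YM (mem_sup_left hy), yZ, xE, xM, xA, mem_sup_right (mem_zpowers t), tM, hel x xE, cen,
    fun u hu v hv => commutator_mem_commutator hu hv, cE', nE, fun l hl => ?_,
    ch_of_transv hT T hc cE⟩
  obtain ⟨β, hβ, -, b1, -, b2, b3⟩ := T.exists_torus hE hF hT hl
  have hb : F.Iso N N (totA β) := eN ▸ iso_totA le_top hβ
  obtain ⟨k, hk, ek⟩ := ext_chain hF hT (F.isFullyNormalized_of_le_normalizer le_top
    fun _ _ => mem_nz) (invA_autGroup_of_iso le_top AN iA) (invA_center _)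
    ((invA_top _).commutator (invA_top _)) le_sup_left ZM le_sup_left
    (relIndex_eq_p AN cA cN).dvd (relIndex_eq_p le_sup_left cM cA).dvd
    (relIndex_eq_p ZM cZ cM).dvd hb
  rw [normalizerIn_eq_of_le fun _ _ => mem_nz] at hk
  obtain ⟨τ, eτ⟩ := exists_hom_top hk
  have e : ∀ u ∈ N, τ.toMonoidHom u = totA β u := fun u hu => (eτ u).trans (ek u hu)
  have hτA : ∀ u ∈ A, τ.toMonoidHom u ∈ A := fun u hu => e u (AN hu) ▸ iA _ hb u hu
  refine ⟨τ.toMonoidHom, fun u hu => e u hu ▸ hb.maps u hu, hτA,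
    fun u hu => e u (EN (ME hu)) ▸ hb.iso_center.maps u hu, fun u hu => ?_, ?_, ?_, ?_⟩
  · refine Wz.sec (x := a) ?_ (fun b hb => by rw [mem_bot.1 hb, map_one]; exact one_mem _)
      (mem_sup_right (eZ.ge hu))
    exact (wz_fst T.sec.toCoord T.aX (b1 a T.aX).1 ((fix_iff T.sec htN.2 T.aX).1 (conj_eq_iff.2
      (cen a (ZM (eZ.le (mem_zpowers a))) t htN))) (b1 a T.aX).2).congr (e a (EN (T.invX.1 T.aX)))
  · rw [e y (EN (T.invY.1 hy))]
    exact (inv_mul_eq_one.1 (mem_bot.1 (b2 y hy))).symm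
  · exact ((wz_snd T.sec.toCoord hx (b1 x hx).1 (by simp [ex]) (b1 x hx).2).mono bot_le).congr
      (e x (EN xE))
  · refine wz_of_right (inf_eq_of_card le_sup_left cM cA ME AE ?_ (by rwa [e t htN]))
    exact mul_mem (hτA t (mem_sup_right (mem_zpowers t)))
      (inv_mem (pow_mem (mem_sup_right (mem_zpowers t)) _))

end Cfsg.Agent.Fus.R3
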