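import Mathlib
import Cfsg.Agent.Fus.R3CA

/-! Groups of order `p ^ 5` without abelian maximal subgroup: no abelian essential subgroup of
order `p ^ 3` when the focal subgroup is everything. -/

set_option autoImplicit false
set_option linter.unusedSectionVars false

namespace Cfsg.Agent.Fus.R3

open Subgroup Cfsg.Agent.GT
open Cfsg.FusionSystem hiding inv_mem
open scoped Matrix MatrixGroups commutatorElement

variable {G : Type*} [Group G] {p : ℕ} [Finite G] [hp : Fact p.Prime]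
  {F : FusionSystem (⊤ : Subgroup G)} {A B E M N Z K L D : Subgroup G} {a s t x y g u v w : G}
  {f : G → G}

theorem neg_one_ne (h2 : p ≠ 2) : (-1 : ZMod p) ≠ 1 := by
  have : Fact (2 < p) := ⟨lt_of_le_of_ne hp.out.two_le h2.symm⟩
  exact ZMod.neg_one_ne_one

theorem two_ne (h2 : p ≠ 2) : (2 : ZMod p) ≠ 0 := fun e =>
  h2 ((Nat.prime_dvd_prime_iff_eq hp.out Nat.prime_two).1 ((ZMod.natCast_eq_zero_iff 2 p).1 e))

theorem sq_eq_one_three {a : ZMod 3} (h : a ≠ 0) : a * a = 1 := by revert a; decide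

theorem card_Cm (hG : IsPGroup p G) [D.Normal] {n : ℕ} (h : Nat.card G = p ^ (n + 1))
    (hK : D.relIndex K ≤ p) (h1 : ∀ g, ⁅x, g⁆ ∈ K) (h2 : ⁅x, y⁆ ∉ D) :
    Nat.card (Cm x D) = p ^ n := by
  refine card_eq_of_lt' (hG.to_subgroup ⊤) (lt_top_iff_ne_top.2 fun e => h2 (mem_Cm.1
    (e.ge (mem_top y)))) (card_top_eq h) (Nat.le_of_mul_le_mul_right ?_ hp.out.pos)
  rw [← pow_succ, ← h, ← (Cm x D).card_mul_index]
  exact Nat.mul_le_mul_left _ ((index_Cm_le h1).trans hK)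

theorem char_mem [K.Characteristic] (σ : G ≃* G) (h : x ∈ K) : σ x ∈ K :=
  (characteristic_iff_le_comap.1 ‹_› σ) h

theorem char_notMem [K.Characteristic] (σ : G ≃* G) (h : x ∉ K) : σ x ∉ K := fun k =>
  h (by simpa using char_mem σ.symm k)

/-- Weight of an automorphism on a characteristic section of order `p`. -/
theorem exists_wz_char (hG : IsPGroup p G) [K.Characteristic] [L.Characteristic] (h : K ≤ L) {j : ℕ}
    (h1 : Nat.card K = p ^ j) (h2 : Nat.card L = p ^ (j + 1)) (σ : G ≃* G) :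
    ∃ l : ZMod p, l ≠ 0 ∧ ∀ x ∈ L, Wz σ.toMonoidHom K x l := by
  obtain ⟨x, hx, hx'⟩ := exists_of_card h2 h1 (by omega)
  have e := sup_zp_eq h h1 h2 hx hx'
  obtain ⟨l, hl⟩ := exists_wz (p := p) (τ := σ.toMonoidHom) (e.ge (char_mem σ hx))
  exact ⟨l, hl.ne_zero (pow_step hG h h1 h2 hx) (char_notMem σ hx'),
    fun y hy => hl.sec (fun b hb => char_mem σ hb) (e.ge hy)⟩

namespace CA

variable (h : CA F p E N M A Z y x t) (hG : IsPGroup p G)
include h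

theorem eE : M ⊔ zpowers x = E := sup_zp_eq h.ME h.cM h.cE h.xE h.xM
theorem eA : M ⊔ zpowers t = A := sup_zp_eq h.MA h.cM h.cA h.tA h.tM
theorem eM : Z ⊔ zpowers y = M := sup_zp_eq h.ZM h.cZ h.cM h.yM h.yZ

theorem abA (hu : u ∈ A) (hv : v ∈ A) : Commute u v :=
  cm_bot.1 (cm_sup_sup (fun k hk k' hk' => cm_bot.2 (h.cen k hk k' (h.AN (h.MA hk'))))
    (fun k hk => cm_bot.2 (h.cen k hk t (h.AN h.tA))) (h.eA.ge hu) (h.eA.ge hv))

theorem eN : A ⊔ zpowers x = N := sup_zp_eq h.AN h.cA h.cN (h.EN h.xE) h.xA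

theorem mem_M (hu : u ∈ A) (hu' : u ∈ E) : u ∈ M :=
  inf_eq_of_card h.ME h.cM h.cE h.MA (fun k => h.xA (k h.xE)) hu' hu

theorem not_comm_x (hu : u ∈ A) (hu' : u ∉ M) : ¬ Commute u x := fun k =>
  hu' (h.mem_M hu (h.cE' u fun _ he => (commute_sup_zp
    (fun m hm => (h.cen m hm u (h.AN hu)).symm) k (h.eE.ge he)).symm))

include hG

theorem cZG (hu : u ∈ Z) (g : G) : Commute u g :=
  haveI := h.nZ
  cm_bot.1 (cm_step hG bot_le (j := 0) (by simp) h.cZ hu g)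

theorem cMG (hu : u ∈ M) (g : G) : ⁅u, g⁆ ∈ Z :=
  haveI := h.nZ; haveI := h.nM
  cm_step hG h.ZM h.cZ h.cM hu g

theorem cAG (hu : u ∈ A) (g : G) : ⁅u, g⁆ ∈ M :=
  haveI := h.nA; haveI := h.nM
  cm_step hG h.MA h.cM h.cA hu g

theorem cNG (hu : u ∈ N) (g : G) : ⁅u, g⁆ ∈ A :=
  haveI := h.nA; haveI := h.nN
  cm_step hG h.AN h.cA h.cN hu g

theorem xg (hg : g ∉ N) : ⁅x, g⁆ ∉ M := fun k =>
  haveI := h.nM
  hg (h.nE g (h.eE ▸ mem_nz_sup_zp (mem_sup_left k)))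

theorem powZ (hu : u ∈ Z) : u ^ p ∈ (⊥ : Subgroup G) :=
  pow_step hG bot_le (j := 0) (by simp) h.cZ hu

variable (h5 : Nat.card G = p ^ 5)
include h5

/-- The torus, with the weight on `G / N`. -/
theorem tor' (hg : g ∉ N) {l : ZMod p} (hl : l ≠ 0) : ∃ τ : G →* G, (∀ u ∈ M, τ u ∈ M) ∧
    (∀ u ∈ Z, Wz τ ⊥ u l) ∧ (∀ u ∈ M, Wz τ Z u (1 : ZMod p)) ∧ Wz τ ⊥ y (1 : ZMod p) ∧
    Wz τ M t (l ^ 2) ∧ Wz τ N g (l ^ 3) := by
  have := h.nN; have := h.nM; have := h.nZ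
  obtain ⟨τ, -, -, h3, h4, h6, h7, h8⟩ := h.tor l hl
  have hy : Wz τ ⊥ y (1 : ZMod p) := wz_one (by rw [h6, inv_mul_cancel]; exact one_mem _)
  obtain ⟨γ, hγ⟩ := exists_wz (p := p) (τ := τ)
    ((sup_zp_eq le_top h.cN (card_top_eq h5) trivial hg).ge (mem_top _))
  have h9 := (h7.mono h.MA).comm hγ (fun u hu => h.cAG hG hu g) (fun u hu v _ => h.cAG hG hu v)
    (fun v hv => h.ZM (h.der x (h.EN h.xE) v hv)) (h.cAG hG (h.cNG hG (h.EN h.xE) g) x)
    (h.cAG hG (h.cNG hG (h.EN h.xE) g) g)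
  have h10 := h9.uniq (h8.sec h3 (h.eA.ge (h.cNG hG (h.EN h.xE) g))) (h.xg hG hg)
    (pow_step hG h.MA h.cM h.cA (h.cNG hG (h.EN h.xE) g))
  refine ⟨τ, h3, h4, fun u hu => (hy.mono bot_le).sec (fun b hb => ?_) (h.eM.ge hu), hy, h8, ?_⟩
  · obtain ⟨m, -, hm⟩ := h4 b hb
    rw [← inv_mul_eq_one.1 (mem_bot.1 hm)]
    exact zpow_mem hb m
  · rwa [show l ^ 3 = γ by field_simp at h10; exact h10.symm]

theorem cAZ (h2 : p ≠ 2) (hu : u ∈ A) (g : G) : ⁅u, g⁆ ∈ Z := by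
  have := h.nZ
  refine cm_swap (cm_sup_zp (fun k hk => cm_swap (h.cMG hG hk g)) (cm_swap ?_) (h.eA.ge hu))
  by_cases hg : g ∈ N
  · exact h.der t (h.AN h.tA) g hg
  by_contra hn
  obtain ⟨τ, -, -, h3, -, h6, h7⟩ := h.tor' hG h5 hg (l := -1) (by simp)
  have h8 := h6.comm h7 (fun u hu => h.cMG hG hu g) (fun u hu v _ => h.cMG hG hu v)
    (fun v hv => h.der t (h.AN h.tA) v hv) (h.cMG hG (h.cAG hG h.tA g) t)
    (h.cMG hG (h.cAG hG h.tA g) g)
  have h9 := h8.uniq (h3 _ (h.cAG hG h.tA g)) hn (pow_step hG h.ZM h.cZ h.cM (h.cAG hG h.tA g))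
  exact neg_one_ne h2 (by linear_combination h9)

variable (h2 : p ≠ 2) (NA : ∀ B : Subgroup G, IsMulCommutative B → Nat.card B ≤ p ^ 3)
include h2 NA

theorem card_cent (hu : u ∈ A) (hu' : u ∉ M) : Nat.card (Cm u ⊥) = p ^ 4 :=
  card_Cm hG h5 (by rw [relIndex_bot_left, h.cZ, pow_one]) (h.cAZ hG h5 h2 hu)
    fun k => h.not_comm_x hu hu' (cm_bot.1 k)

theorem yg (hg : g ∉ N) : ¬ Commute y g := fun k => by
  have := h.nA
  obtain ⟨c, hc, hcA⟩ := exists_of_card (h.card_cent hG h5 h2 NA h.tA h.tM) h.cA (by norm_num)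
  have hy : Commute y c := commute_sup_zp (fun n hn => h.cen y h.yM n hn) k
    ((sup_zp_eq le_top h.cN (card_top_eq h5) trivial hg).ge (mem_top _))
  have h1 := NA _ (PG.isMulCommutative_sup_zpowers (PG.isMulCommutative_iff_forall.2
    fun a ha b hb => h.abA ha hb) (x := c) fun u hu => (commute_sup_zp (fun m hm =>
      commute_sup_zp (fun z hz => (h.cZG hG hz c).symm) hy.symm (h.eM.ge hm))
      (cm_bot.1 (mem_Cm.1 hc)).symm (h.eA.ge hu)).symm)
  have h3 := PG.card_lt_of_lt (lt_of_le_of_ne (le_sup_left : A ≤ A ⊔ zpowers c)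
    fun e => hcA (e.ge (mem_sup_right (mem_zpowers c))))
  rw [h.cA] at h3
  omega

theorem eq_three : p = 3 := by
  obtain ⟨g, -, hg⟩ := exists_of_card (card_top_eq h5) h.cN (by norm_num)
  obtain ⟨τ, -, h3, -, h4, -, h7⟩ := h.tor' hG h5 hg (two_ne h2)
  have hZ := h.cMG hG h.yM g
  have h8 := h4.comm h7 (C := ⊥) (fun u hu => by rw [mem_bot.1 hu]; simp)
    (fun u hu v _ => by rw [mem_bot.1 hu]; simp) (fun v hv => cm_bot.2 (h.cen y h.yM v hv))
    (cm_bot.2 (h.cZG hG hZ y)) (cm_bot.2 (h.cZG hG hZ g))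
  have h9 := h8.uniq (h3 _ hZ) (fun k => h.yg hG h5 h2 NA hg (cm_bot.1 k)) (h.powZ hG hZ)
  have h10 : ((3 : ℕ) : ZMod p) = 0 := by
    have : (2 : ZMod p) * 3 = 0 := by linear_combination h9
    simpa using (mul_eq_zero.1 this).resolve_left (two_ne h2)
  exact (Nat.prime_dvd_prime_iff_eq hp.out Nat.prime_three).1 ((ZMod.natCast_eq_zero_iff 3 p).1 h10)

theorem fixed : y ∉ commutator G ∧ ∀ σ : G ≃* G, y⁻¹ * σ y ∈ commutator G := by
  have := h.nA; have := h.nZ; have := h.nM; have := h.nN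
  have hAZ := fun u hu => h.cAZ hG h5 h2 (u := u) hu
  have hyg := fun g hg => h.yg hG h5 h2 NA (g := g) hg
  obtain ⟨g₁, -, hg₁⟩ := exists_of_card (card_top_eq h5) h.cN (by norm_num)
  have hxN := h.EN h.xE
  set w := ⁅x, g₁⁆ with hw
  have wA : w ∈ A := h.cNG hG hxN g₁
  have wM : w ∉ M := h.xg hG hg₁
  have eG : N ⊔ zpowers g₁ = ⊤ := sup_zp_eq le_top h.cN (card_top_eq h5) trivial hg₁
  have wp : w ^ p ∈ Z := by
    have e : ((⁅x, g₁⁆ : G) : G ⧸ Z) = ⁅(x : G ⧸ Z), (g₁ : G ⧸ Z)⁆ :=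
      map_commutatorElement (QuotientGroup.mk' Z) x g₁
    rw [← QuotientGroup.eq_one_iff, QuotientGroup.mk_pow, hw, e, ← zpow_natCast,
      ← cm_zpow_left (by rw [← e]; exact commute_mk.2 (hAZ _ wA x)), zpow_natCast,
      ← QuotientGroup.mk_pow, h.xp]
    simp
  have cD : Nat.card (Z ⊔ zpowers w : Subgroup G) = p ^ 2 :=
    card_sup_zp h.cZ (fun k => wM (h.ZM k)) wp
  have nD := PG.normal_sup_zpowers (hAZ w wA)
  have DA : Z ⊔ zpowers w ≤ A := sup_le (h.ZM.trans h.MA) (zpowers_le.2 wA)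
  have eD : commutator G = Z ⊔ zpowers w := by
    refine le_antisymm (commutator_le.2 fun u _ v _ => cm_sup_sup (K := N) (x := g₁)
      (fun k hk k' hk' => mem_sup_left (h.der k hk k' hk')) (fun k hk => cm_swap (cm_sup_zp
        (fun a ha => mem_sup_left (cm_swap (hAZ a ha g₁)))
        (cm_swap (mem_sup_right (mem_zpowers w))) (h.eN.ge hk))) (eG.ge trivial) (eG.ge trivial))
      (sup_le ?_ (zpowers_le.2 (commutator_mem_commutator trivial trivial)))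
    rw [← zp_eq h.cZ (h.cMG hG h.yM g₁) fun k => hyg _ hg₁ (cm_bot.1 (mem_bot.2 k))]
    exact zpowers_le.2 (commutator_mem_commutator trivial trivial)
  have yD : y ∉ Z ⊔ zpowers w := fun k => wM ((PG.eq_of_le_of_card_le (h.eM.ge.trans
    (sup_le le_sup_left (zpowers_le.2 k))) (by rw [cD, h.cM])).ge (mem_sup_right (mem_zpowers w)))
  refine ⟨eD ▸ yD, fun σ => ?_⟩
  have eZ : center G = Z := by
    refine le_antisymm (fun c hc => ?_) fun z hz => mem_center_iff.2 fun g => (h.cZG hG hz g).symm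
    have h1 : c ∈ E := h.cE' c fun e _ => mem_center_iff.1 hc e
    refine inf_eq_of_card h.ZM h.cZ h.cM (M := center G)
      (fun z hz => mem_center_iff.2 fun g => (h.cZG hG hz g).symm)
      (fun k => hyg _ hg₁ (mem_center_iff.1 (k h.yM) g₁).symm) ?_ hc
    refine inf_eq_of_card h.ME h.cM h.cE (M := Cm t ⊥)
      (fun m hm => mem_Cm.2 (cm_bot.2 (h.cen m hm t (h.AN h.tA)).symm))
      (fun k => h.not_comm_x h.tA h.tM (cm_bot.1 (mem_Cm.1 (k h.xE)))) h1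
      (mem_Cm.2 (cm_bot.2 (mem_center_iff.1 hc t)))
  have cZ : Z.Characteristic := eZ ▸ inferInstance
  have cD' : (Z ⊔ zpowers w).Characteristic := eD ▸ inferInstance
  have eA : Subgroup.upperCentralSeries G 2 = A := by
    have hm : ∀ u, u ∈ Subgroup.upperCentralSeries G 2 ↔ ∀ g, ⁅u, g⁆ ∈ Z := fun u => by
      rw [Subgroup.mem_upperCentralSeries_succ_iff, Subgroup.upperCentralSeries_one, eZ]
    have hle : A ≤ Subgroup.upperCentralSeries G 2 := fun u hu => (hm u).2 (hAZ u hu)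
    refine (eq_of_le_of_not_lt hle fun k => ?_).symm
    have h1 := PG.mul_card_le_of_lt (hG.to_subgroup _) k
    rw [h.cA, ← pow_succ'] at h1
    have hne : ∀ u v : G, (∀ a b : G, a ∈ Subgroup.upperCentralSeries G 2 ⊔ zpowers u) → False :=
      fun u _ k => wM (h.ZM (cm_sup_sup (fun a ha b _ => (hm a).1 ha b) (fun a ha => (hm a).1 ha u)
        (k x x) (k g₁ x)))
    obtain ⟨u, hu⟩ : ∃ u, u ∉ Subgroup.upperCentralSeries G 2 := by
      by_contra! k'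
      exact hne 1 1 fun a _ => mem_sup_left (k' a)
    have h3 := card_eq_of_lt' (hG.to_subgroup ⊤) (lt_top_iff_ne_top.2 fun e => hu (e.ge trivial))
      (card_top_eq h5) h1
    exact hne u u fun a _ => (sup_zp_eq le_top h3 (card_top_eq h5) trivial hu).ge trivial
  have cA : A.Characteristic := eA ▸ inferInstance
  have eC : centralizer ((Z ⊔ zpowers w : Subgroup G) : Set G) = Cm w ⊥ := by
    ext c
    exact ⟨fun k => mem_Cm.2 (cm_bot.2 (k w (mem_sup_right (mem_zpowers w)))), fun k d hd =>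
      (commute_sup_zp (fun z hz => (h.cZG hG hz c).symm) (cm_bot.1 (mem_Cm.1 k)).symm hd).symm⟩
  have cC : (Cm w ⊥).Characteristic := eC ▸ inferInstance
  have cardC := h.card_cent hG h5 h2 NA wA wM
  have AC : A ≤ Cm w ⊥ := fun u hu => mem_Cm.2 (cm_bot.2 (h.abA wA hu))
  have xC : x ∉ Cm w ⊥ := fun k => h.not_comm_x wA wM (cm_bot.1 (mem_Cm.1 k))
  obtain ⟨g, hgC, hgA⟩ := exists_of_card cardC h.cA (by norm_num)
  have hg : g ∉ N := fun k =>
    hgA (inf_eq_of_card h.AN h.cA h.cN AC (fun k' => xC (k' hxN)) k hgC)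
  have hDC : ∀ d ∈ Z ⊔ zpowers w, ∀ c ∈ Cm w ⊥, Commute d c := fun d hd c hc => (eC.ge hc) d hd
  obtain ⟨ζ, -, hζ⟩ := exists_wz_char hG bot_le (j := 0) (by simp) h.cZ σ
  obtain ⟨θ, -, hθ⟩ := exists_wz_char hG le_sup_left h.cZ cD σ
  obtain ⟨η, -, hη⟩ := exists_wz_char hG DA cD h.cA σ
  obtain ⟨γ, γ0, hγ⟩ := exists_wz_char hG AC h.cA cardC σ
  obtain ⟨ξ, ξ0, hξ⟩ := exists_wz_char hG le_top cardC (card_top_eq h5) σ
  have vA := h.cNG hG hxN g
  have vD : ⁅x, g⁆ ∈ Z ⊔ zpowers w := eD.le (commutator_mem_commutator trivial trivial)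
  have r1 := ((hξ x trivial).comm (hγ g hgC) (fun u hu => cm_sup_sup (fun a ha b _ => hAZ a ha b)
    (fun a ha => hAZ a ha g) ((sup_zp_eq AC h.cA cardC hgC hgA).ge hu)
    (mem_sup_right (mem_zpowers g))) (fun u _ v hv => cm_swap (hAZ v hv u))
    (fun v hv => cm_swap (hAZ v hv x)) (hAZ _ vA x) (hAZ _ vA g)).uniq (hθ _ vD)
    (fun k => h.xg hG hg (h.ZM k)) (pow_step hG le_sup_left h.cZ cD vD)
  have r2 := ((hθ _ vD).comm (hξ x trivial) (fun u hu => cm_bot.2 (h.cZG hG hu x))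
    (fun u hu v _ => cm_bot.2 (h.cZG hG hu v)) (fun v hv => cm_bot.2 (hDC _ vD v hv))
    (cm_bot.2 (h.cZG hG (hAZ _ vA x) _)) (cm_bot.2 (h.cZG hG (hAZ _ vA x) _))).uniq
    (hζ _ (hAZ _ vA x)) (fun k => h.not_comm_x vA (h.xg hG hg) (cm_bot.1 k))
    (h.powZ hG (hAZ _ vA x))
  have yA := h.MA h.yM
  have r3 := ((hη y yA).comm (hγ g hgC) (fun u hu => cm_bot.2 (hDC u hu g hgC))
    (fun u hu v hv => cm_bot.2 (h.abA (DA hu) hv)) (fun v hv => cm_bot.2 (h.abA yA hv))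
    (cm_bot.2 (h.cZG hG (hAZ _ yA g) _)) (cm_bot.2 (h.cZG hG (hAZ _ yA g) _))).uniq
    (hζ _ (hAZ _ yA g)) (fun k => hyg g hg (cm_bot.1 k)) (h.powZ hG (hAZ _ yA g))
  obtain rfl := h.eq_three hG h5 h2 NA
  have e : η = 1 := mul_right_cancel₀ γ0 (by
    rw [r3, ← r2, ← r1, one_mul, mul_right_comm, sq_eq_one_three ξ0, one_mul])
  rw [eD]
  exact (e ▸ hη y yA).one (pow_step hG DA cD h.cA yA)

end CA

end Cfsg.Agent.Fus.R3
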