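import Mathlib
import Cfsg.Agent.Fus.R3CA2
import Cfsg.Agent.FG.SectRank
import Cfsg.Agent.GT.CoprimeNilp

/-! Length calculus (`ln p X = log_p |X|`) in finite `p`-groups, Frattini subgroups `Ph p X`,
centralizers modulo normal subgroups `Cs X D` and `Oz p X = Ω₁(Z(X))`. -/

set_option autoImplicit false

namespace Cfsg.Agent.Fus.R3

open Subgroup Cfsg.Agent.GT
open Cfsg.FusionSystem hiding inv_mem
open scoped Matrix MatrixGroups commutatorElement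

variable {G : Type*} [Group G] {p : ℕ} {A B C D E H K L N R W X Y Z : Subgroup G} {a g s x y : G}

/-! ### Frattini subgroups -/

/-- The Frattini subgroup of a `p`-subgroup. -/
abbrev Ph (p : ℕ) (X : Subgroup G) : Subgroup G := ⁅X, X⁆ ⊔ powerClosure p 1 X

theorem cm_mem_Ph (hx : x ∈ X) (hy : y ∈ X) : ⁅x, y⁆ ∈ Ph p X :=
  mem_sup_left (commutator_mem_commutator hx hy)

theorem pow_mem_Ph (hx : x ∈ X) : x ^ p ∈ Ph p X := mem_sup_right (PG.pow_mem_powerClosure_one hx)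

theorem Ph_le_iff : Ph p X ≤ K ↔ (∀ x ∈ X, ∀ y ∈ X, ⁅x, y⁆ ∈ K) ∧ ∀ x ∈ X, x ^ p ∈ K := by
  rw [sup_le_iff, commutator_le, PG.powerClosure_one_le_iff]

theorem Ph_le_self : Ph p X ≤ X := sup_le comm_self_le (PG.powerClosure_le _ _)

theorem Ph_mono (h : X ≤ Y) : Ph p X ≤ Ph p Y :=
  sup_le_sup (commutator_mono h h) (PG.powerClosure_mono h)

theorem invA_Ph {Γ : Subgroup (MulAut E)} (h : InvA Γ X) : InvA Γ (Ph p X) :=
  (h.commutator h).sup (h.powerClosure p 1)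

theorem map_Ph {G' : Type*} [Group G'] (f : G →* G') : (Ph p X).map f = Ph p (X.map f) := by
  rw [Subgroup.map_sup, map_commutator, PG.map_powerClosure]

/-! ### Centralizers modulo a normal subgroup -/

/-- The elements `g` with `⁅x, g⁆ ∈ D` for all `x ∈ X`. -/
def Cs (X D : Subgroup G) [D.Normal] : Subgroup G := ⨅ x ∈ X, Cm x D

theorem mem_Cs [D.Normal] : g ∈ Cs X D ↔ ∀ x ∈ X, ⁅x, g⁆ ∈ D := by
  simp only [Cs, mem_iInf, mem_Cm]

instance normal_Cs [D.Normal] [X.Normal] : (Cs X D).Normal := ⟨fun g hg k => mem_Cs.2 fun x hx => by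
  have := ‹D.Normal›.conj_mem _ (mem_Cs.1 hg _ (‹X.Normal›.conj_mem x hx k⁻¹)) k
  rwa [show k * ⁅k⁻¹ * x * k⁻¹⁻¹, g⁆ * k⁻¹ = ⁅x, k * g * k⁻¹⁆ by
    simp only [commutatorElement_def]; group] at this⟩

theorem invA_Cs [D.Normal] {Γ : Subgroup (MulAut E)} (hH : InvA Γ H) (hX : InvA Γ X)
    (hD : InvA Γ D) : InvA Γ (H ⊓ Cs X D) :=
  ⟨inf_le_left.trans hH.1, fun α hα g hg => ⟨hH.mem hα hg.1, mem_Cs.2 fun x hx => by
    have h1 := hD.mem hα (mem_Cs.1 hg.2 _ (hX.mem (inv_mem hα) hx))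
    rwa [(mulOn_totA α).map_commutatorElement (totA_mem _ (hX.1 hx)) (hH.1 hg.1),
      totA_totA_inv α (hX.1 hx)] at h1⟩⟩

theorem Cs_sup_zp [D.Normal] (h : ∀ k ∈ K, ⁅k, g⁆ ∈ D) (h' : ⁅x, g⁆ ∈ D) :
    g ∈ Cs (K ⊔ zpowers x) D :=
  mem_Cs.2 fun _ hu => cm_swap (cm_sup_zp (fun k hk => cm_swap (h k hk)) (cm_swap h') hu)

theorem Cs_of_sup [D.Normal] (e : K ⊔ zpowers x = X) (h : ∀ k ∈ K, ⁅k, g⁆ ∈ D)
    (h' : ⁅x, g⁆ ∈ D) : g ∈ Cs X D := e ▸ Cs_sup_zp h h'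

theorem cm_of_sup [D.Normal] (e : K ⊔ zpowers x = X) (h : ∀ k ∈ K, ⁅k, g⁆ ∈ D)
    (h' : ⁅x, g⁆ ∈ D) (hy : y ∈ X) : ⁅y, g⁆ ∈ D := mem_Cs.1 (Cs_of_sup e h h') y hy

theorem le_Cs_self [D.Normal] : D ≤ Cs X D := fun _ hd => mem_Cs.2 fun x _ => cm_right hd x

theorem mem_Cs_bot : g ∈ Cs X ⊥ ↔ ∀ x ∈ X, Commute x g := by simp only [mem_Cs, cm_bot]

theorem cm_closure [D.Normal] {S : Set G} (h : ∀ a ∈ S, ⁅x, a⁆ ∈ D) (hy : y ∈ closure S) :
    ⁅x, y⁆ ∈ D := mem_Cm.1 ((closure_le (K := Cm x D)).2 (fun a ha => mem_Cm.2 (h a ha)) hy)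

theorem cm_sup [D.Normal] (h : ∀ a ∈ A, ⁅x, a⁆ ∈ D) (h' : ∀ b ∈ B, ⁅x, b⁆ ∈ D) (hy : y ∈ A ⊔ B) :
    ⁅x, y⁆ ∈ D :=
  mem_Cm.1 ((sup_le (fun a ha => mem_Cm.2 (h a ha)) fun b hb => mem_Cm.2 (h' b hb) :
    A ⊔ B ≤ Cm x D) hy)

theorem cm_zp [D.Normal] (h : ⁅x, a⁆ ∈ D) (hy : y ∈ zpowers a) : ⁅x, y⁆ ∈ D :=
  mem_Cm.1 (zpowers_le.2 (mem_Cm.2 h) hy)

theorem cm_inv_left [D.Normal] (h : ⁅x, y⁆ ∈ D) : ⁅x⁻¹, y⁆ ∈ D :=
  cm_swap (cm_zp (cm_swap h) (inv_mem (mem_zpowers x)))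

/-- The form of the stabilizer condition used by the fusion library. -/
theorem cj_of_cm [D.Normal] (h : ⁅x, s⁆ ∈ D) : x⁻¹ * (s * x * s⁻¹) ∈ D := by
  rw [comm_mem_iff_conj]; exact cm_inv_left h

theorem cm_mem_left [X.Normal] [Y.Normal] (hx : x ∈ X) (hy : y ∈ Y) : ⁅x, y⁆ ∈ X ⊓ Y :=
  ⟨cm_left hx y, cm_right hy x⟩

theorem mk_cm [D.Normal] (a b : G) : ((⁅a, b⁆ : G) : G ⧸ D) = ⁅(a : G ⧸ D), (b : G ⧸ D)⁆ :=
  map_commutatorElement (QuotientGroup.mk' D) a b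

theorem mk_pow_eq_one [D.Normal] {n : ℕ} : (x : G ⧸ D) ^ n = 1 ↔ x ^ n ∈ D := by
  rw [← QuotientGroup.mk_pow, QuotientGroup.eq_one_iff]

theorem Ph_closure_le [K.Normal] {S : Set G} (h1 : ∀ a ∈ S, ∀ b ∈ S, ⁅a, b⁆ ∈ K)
    (h2 : ∀ a ∈ S, a ^ p ∈ K) : Ph p (closure S) ≤ K := by
  have h3 : ∀ x ∈ closure S, ∀ y ∈ closure S, ⁅x, y⁆ ∈ K := fun x hx y hy =>
    cm_closure (fun a ha => cm_swap (cm_closure (h1 a ha) hx)) hy
  refine Ph_le_iff.2 ⟨h3, fun x hx => ?_⟩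
  induction hx using closure_induction with
  | mem a ha => exact h2 a ha
  | one => simp
  | mul a b ha hb ia ib =>
    rw [← mk_pow_eq_one] at ia ib ⊢
    rw [QuotientGroup.mk_mul, (commute_mk.2 (h3 a ha b hb)).mul_pow, ia, ib, one_mul]
  | inv a _ ia => rw [inv_pow]; exact inv_mem ia

theorem Ph_sup_le [K.Normal] (hA : Ph p A ≤ K) (hB : Ph p B ≤ K)
    (h : ∀ a ∈ A, ∀ b ∈ B, ⁅a, b⁆ ∈ K) : Ph p (A ⊔ B) ≤ K := by
  rw [sup_eq_closure]
  refine Ph_closure_le ?_ ?_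
  · rintro a (ha | ha) b (hb | hb)
    exacts [hA (cm_mem_Ph ha hb), h a ha b hb, cm_swap (h b hb a ha), hB (cm_mem_Ph ha hb)]
  · rintro a (ha | ha)
    exacts [hA (pow_mem_Ph ha), hB (pow_mem_Ph ha)]

theorem Ph_zp_le (h : x ^ p ∈ K) : Ph p (zpowers x) ≤ K := by
  refine Ph_le_iff.2 ⟨?_, ?_⟩
  · rintro _ ⟨i, rfl⟩ _ ⟨j, rfl⟩
    exact cm_of_commute ((Commute.refl x).zpow_zpow i j)
  · rintro _ ⟨i, rfl⟩
    simpa [← zpow_natCast, ← zpow_mul, mul_comm] using zpow_mem h i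

theorem Ph_sup_zp_le [K.Normal] (hA : Ph p A ≤ K) (hx : x ^ p ∈ K) (h : ∀ a ∈ A, ⁅a, x⁆ ∈ K) :
    Ph p (A ⊔ zpowers x) ≤ K :=
  Ph_sup_le hA (Ph_zp_le hx) fun a ha _ hb => cm_zp (h a ha) hb

/-- If `h ↦ ⁅x, h⁆` takes values that are central of exponent `p` modulo `D`, it kills `Φ(H)`. -/
theorem Ph_le_Cm [D.Normal] (h1 : ∀ h ∈ H, ∀ k ∈ H, ⁅⁅x, h⁆, k⁆ ∈ D)
    (h2 : ∀ h ∈ H, ∀ k ∈ H, ⁅⁅x, h⁆, ⁅x, k⁆⁆ ∈ D) (h3 : ∀ h ∈ H, ⁅x, h⁆ ^ p ∈ D) :
    Ph p H ≤ Cm x D := by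
  have hm : MulOn H fun h => ((⁅x, h⁆ : G) : G ⧸ D) := fun h hh k hk => by
    have c := (commute_mk.2 (h1 k hk h hh)).eq
    have e : ⁅x, h * k⁆ = ⁅x, h⁆ * (h * ⁅x, k⁆ * h⁻¹) := by
      simp only [commutatorElement_def]; group
    simp only [e, QuotientGroup.mk_mul, QuotientGroup.mk_inv, ← c, mul_inv_cancel_right]
  refine Ph_le_iff.2 ⟨fun h hh k hk => mem_Cm.2 ?_, fun h hh => mem_Cm.2 ?_⟩
  · rw [← QuotientGroup.eq_one_iff, hm.map_commutatorElement hh hk,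
      commutatorElement_eq_one_iff_commute]
    exact commute_mk.2 (h2 h hh k hk)
  · rw [← QuotientGroup.eq_one_iff, hm.map_pow hh, mk_pow_eq_one]
    exact h3 h hh

/-- A group of class two generated by elements of odd prime order has exponent `p`. -/
theorem pow_closure [hp : Fact p.Prime] (h2 : p ≠ 2) {S : Set G} (h : ∀ a ∈ S, a ^ p = 1)
    (hc : ∀ x ∈ closure S, ∀ y ∈ closure S, ∀ z ∈ closure S, Commute z ⁅x, y⁆)
    (hx : x ∈ closure S) : x ^ p = 1 := by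
  induction hx using closure_induction with
  | mem a ha => exact h a ha
  | one => simp
  | mul a b ha hb ia ib =>
    obtain ⟨k, hk⟩ := PG.choose_two_dvd_of_odd (hp.out.odd_of_ne_two h2)
    have e := cm_zpow_left (hc b hb a ha b hb).symm p
    rw [zpow_natCast, zpow_natCast, ib, commutatorElement_one_left] at e
    rw [CopAct.mul_pow_of_commute_commutatorElement (hc b hb a ha a ha) (hc b hb a ha b hb), ia, ib,
      hk, pow_mul, ← e, one_pow, one_mul, one_mul]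
  | inv a _ ia => rw [inv_pow, ia, inv_one]

/-- `Ω₁(Z(X))`. -/
def Oz (p : ℕ) (X : Subgroup G) : Subgroup G where
  carrier := {x | x ∈ X ∧ (∀ y ∈ X, Commute x y) ∧ x ^ p = 1}
  one_mem' := ⟨one_mem _, fun y _ => .one_left y, one_pow p⟩
  mul_mem' := by
    rintro a b ⟨ha, ha1, ha2⟩ ⟨hb, hb1, hb2⟩
    exact ⟨mul_mem ha hb, fun y hy => (ha1 y hy).mul_left (hb1 y hy),
      by rw [(ha1 b hb).mul_pow, ha2, hb2, one_mul]⟩
  inv_mem' := by
    rintro a ⟨ha, ha1, ha2⟩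
    exact ⟨inv_mem ha, fun y hy => (ha1 y hy).inv_left, by rw [inv_pow, ha2, inv_one]⟩

theorem mem_Oz : x ∈ Oz p X ↔ x ∈ X ∧ (∀ y ∈ X, Commute x y) ∧ x ^ p = 1 := Iff.rfl

theorem Oz_le : Oz p X ≤ X := fun _ h => h.1

theorem mem_Oz_top : x ∈ Oz p (⊤ : Subgroup G) ↔ (∀ y, Commute x y) ∧ x ^ p = 1 := by
  simp [mem_Oz]

theorem invA_Oz {Γ : Subgroup (MulAut E)} (h : InvA Γ X) : InvA Γ (Oz p X) :=
  ⟨Oz_le.trans h.1, fun α hα x hx => ⟨h.mem hα hx.1, fun y hy => by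
    have h1 := congrArg (totA α) (hx.2.1 _ (h.mem (inv_mem hα) hy)).eq
    have h2 := totA_mem α⁻¹ (h.1 hy)
    rwa [(mulOn_totA α).map_mul (h.1 hx.1) h2, (mulOn_totA α).map_mul h2 (h.1 hx.1),
      totA_totA_inv α (h.1 hy)] at h1,
    by rw [← (mulOn_totA α).map_pow (h.1 hx.1), hx.2.2, (mulOn_totA α).map_one]⟩⟩

instance normal_Oz [X.Normal] : (Oz p X).Normal := ⟨fun x hx g =>
  ⟨‹X.Normal›.conj_mem x hx.1 g, fun y hy => by
    have := (hx.2.1 _ (‹X.Normal›.conj_mem y hy g⁻¹)).map (MulAut.conj g)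
    simpa [mul_assoc] using this,
    by rw [conj_pow, hx.2.2, mul_one, mul_inv_cancel]⟩⟩

theorem Ph_Oz : Ph p (Oz p X) ≤ K :=
  Ph_le_iff.2 ⟨fun x hx y hy => cm_of_commute (hx.2.1 y hy.1), fun x hx => by
    rw [hx.2.2]; exact one_mem _⟩

theorem pow_of_Ph (h : Ph p X ≤ ⊥) (hx : x ∈ X) : x ^ p = 1 := h (pow_mem_Ph hx)

theorem commute_of_Ph (h : Ph p X ≤ ⊥) (hx : x ∈ X) (hy : y ∈ X) : Commute x y :=
  cm_bot.1 (h (cm_mem_Ph hx hy))

/-! ### Lengths -/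

/-- `log_p |X|`. -/
noncomputable def ln (p : ℕ) (X : Subgroup G) : ℕ := Nat.log p (Nat.card X)

theorem ln_congr (h : Nat.card X = Nat.card Y) : ln p X = ln p Y := by rw [ln, ln, h]

theorem ln_bot : ln p (⊥ : Subgroup G) = 0 := by simp [ln]

variable [hp : Fact p.Prime]

theorem ln_of_card {n : ℕ} (h : Nat.card X = p ^ n) : ln p X = n := by
  rw [ln, h, Nat.log_pow hp.out.one_lt]

variable [Finite G] [hG : Fact (IsPGroup p G)]

omit hp [Finite G] in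
variable (p) in
theorem pg (X : Subgroup G) : IsPGroup p X := hG.out.to_subgroup X

theorem card_ln (X : Subgroup G) : Nat.card X = p ^ ln p X := by
  obtain ⟨k, hk⟩ := PG.card_eq_pow_of_isPGroup (pg p X)
  rw [ln_of_card hk, hk]

theorem card_of_ln {n : ℕ} (h : ln p X = n) : Nat.card X = p ^ n := h ▸ card_ln X

variable (p) in
theorem ln_mono (h : X ≤ Y) : ln p X ≤ ln p Y := by
  have := card_le_of_le h
  rwa [card_ln (p := p), card_ln (p := p), Nat.pow_le_pow_iff_right hp.out.one_lt] at this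

variable (p) in
theorem ln_lt (h : X < Y) : ln p X < ln p Y := by
  have := PG.card_lt_of_lt h
  rwa [card_ln (p := p), card_ln (p := p), Nat.pow_lt_pow_iff_right hp.out.one_lt] at this

variable (p) in
theorem ln_lt' (h : X ≤ Y) (hx : x ∈ Y) (hx' : x ∉ X) : ln p X < ln p Y :=
  ln_lt p (lt_of_le_not_ge h fun k => hx' (k hx))

variable (p) in
theorem eq_of_ln (h : X ≤ Y) (h' : ln p Y ≤ ln p X) : X = Y :=
  h.eq_or_lt.resolve_right fun k => absurd (ln_lt p k) (not_lt.2 h')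

variable (p) in
theorem eq_bot_of_ln (h : ln p X ≤ 0) : X = ⊥ := (eq_of_ln p bot_le (h.trans_eq ln_bot.symm)).symm

variable (p) in
theorem ln_pos (hx : x ∈ X) (h1 : x ≠ 1) : 1 ≤ ln p X := by
  have := ln_lt' p bot_le hx h1
  rwa [ln_bot] at this

variable (p) in
theorem exists_of_ln (h : ln p Y < ln p X) : ∃ x ∈ X, x ∉ Y :=
  SetLike.not_le_iff_exists.1 fun k => absurd (ln_mono p k) (not_le.2 h)

variable (p) in
theorem ln_sup_inf (h : H ≤ normalizer (N : Set G)) :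
    ln p (H ⊔ N) + ln p (H ⊓ N) = ln p H + ln p N := by
  have := PG.card_sup_mul_card_inf h
  simp only [card_ln (p := p), ← pow_add] at this
  exact Nat.pow_right_injective hp.out.two_le this

variable (p) in
theorem ln_sup_inf' (H N : Subgroup G) [N.Normal] :
    ln p (H ⊔ N) + ln p (H ⊓ N) = ln p H + ln p N := ln_sup_inf p fun _ _ => mem_nz

theorem ln_sup_zp' (hx : x ∈ normalizer (W : Set G)) (h1 : x ∉ W) (h2 : x ^ p ∈ W) :
    ln p (W ⊔ zpowers x) = ln p W + 1 :=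
  ln_of_card (by rw [PG.card_sup_zpowers hp.out hx h1 h2, card_ln (p := p) W, pow_succ'])

theorem ln_sup_zp [W.Normal] (h1 : x ∉ W) (h2 : x ^ p ∈ W) : ln p (W ⊔ zpowers x) = ln p W + 1 :=
  ln_sup_zp' mem_nz h1 h2

theorem ln_sup_zp_le [W.Normal] (h2 : x ^ p ∈ W) : ln p (W ⊔ zpowers x) ≤ ln p W + 1 := by
  by_cases h1 : x ∈ W
  · rw [sup_of_le_left (zpowers_le.2 h1)]; omega
  · exact (ln_sup_zp h1 h2).le

theorem ln_zp_le (h : x ^ p = 1) : ln p (zpowers x) ≤ 1 := by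
  have := ln_sup_zp_le (W := ⊥) (mem_bot.2 h)
  rwa [bot_sup_eq, ln_bot] at this

variable (p) in
theorem sup_zp_ln (h : W ≤ R) (h1 : ln p R ≤ ln p W + 1) (hx : x ∈ R) (hx' : x ∉ W) :
    W ⊔ zpowers x = R := by
  refine eq_of_ln p (sup_le h (zpowers_le.2 hx)) ?_
  have := ln_lt' p (le_sup_left : W ≤ W ⊔ zpowers x) (mem_sup_right (mem_zpowers x)) hx'
  omega

variable (p) in
theorem zp_eq_ln (h1 : ln p R ≤ 1) (hx : x ∈ R) (hx' : x ≠ 1) : zpowers x = R := by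
  simpa using sup_zp_ln p bot_le (by rwa [ln_bot]) hx hx'

variable (p) in
theorem exists_gen (h : W ≤ R) (h1 : ln p R ≤ ln p W + 1) : ∃ x ∈ R, W ⊔ zpowers x = R := by
  by_cases k : R ≤ W
  · exact ⟨1, one_mem _, by simpa using le_antisymm h k⟩
  · obtain ⟨x, hx, hx'⟩ := SetLike.not_le_iff_exists.1 k
    exact ⟨x, hx, sup_zp_ln p h h1 hx hx'⟩

variable (p) in
theorem eq_or_eq_ln (h1 : K ≤ X) (h2 : X ≤ L) (h : ln p L ≤ ln p K + 1) : X = K ∨ X = L := by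
  by_cases k : ln p X ≤ ln p K
  · exact .inl (eq_of_ln p h1 k).symm
  · exact .inr (eq_of_ln p h2 (by omega))

variable (p) in
/-- `x ∈ L ⊓ M` lies in `K` when `K ≤ L ⊓ M`, `|L : K| ≤ p` and `L ≰ M`. -/
theorem mem_of_ln {M : Subgroup G} (h : K ≤ L) (h1 : ln p L ≤ ln p K + 1) (hK : K ≤ M)
    (hL : ¬ L ≤ M) (hx : x ∈ L) (hx' : x ∈ M) : x ∈ K := by
  by_contra k
  exact hL ((sup_zp_ln p h h1 hx k).ge.trans (sup_le hK (zpowers_le.2 hx')))

theorem dvd_of_ln (h : W ≤ R) {j : ℕ} (h1 : ln p R ≤ ln p W + j) : W.relIndex R ∣ p ^ j :=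
  relIndex_dvd (pg p R) h (by
    rw [card_ln (p := p), card_ln (p := p), ← pow_add]
    exact Nat.pow_le_pow_right hp.out.pos (by omega))

theorem dvd_p_of_ln (h : W ≤ R) (h1 : ln p R ≤ ln p W + 1) : W.relIndex R ∣ p := by
  simpa using dvd_of_ln h h1

theorem ln_of_relIndex_le (h : W ≤ R) {j : ℕ} (h1 : W.relIndex R ≤ p ^ j) :
    ln p R ≤ ln p W + j := by
  have h2 := Nat.mul_le_mul_right (Nat.card W) h1
  rwa [PG.relIndex_mul_card h, card_ln (p := p), card_ln (p := p), ← pow_add,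
    Nat.pow_le_pow_iff_right hp.out.one_lt, add_comm] at h2

theorem ln_of_relIndex (h : W ≤ R) {j : ℕ} (h1 : W.relIndex R = p ^ j) : ln p R = ln p W + j :=
  ln_of_card (by rw [← PG.relIndex_mul_card h, h1, card_ln (p := p), pow_add, mul_comm])

variable (p) in
theorem cm_ln [K.Normal] [L.Normal] (h : K ≤ L) (h1 : ln p L ≤ ln p K + 1) (hx : x ∈ L) (g : G) :
    ⁅x, g⁆ ∈ K := by
  by_cases k : x ∈ K
  · exact cm_left k g
  have := ln_lt' p h hx k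
  exact cm_step hG.out h (card_ln K) (card_of_ln (by omega)) hx g

variable (p) in
theorem commute_ln [L.Normal] (h1 : ln p L ≤ 1) (hx : x ∈ L) (g : G) : Commute x g :=
  cm_bot.1 (cm_ln p bot_le (by rwa [ln_bot]) hx g)

theorem pow_ln (h : K ≤ L) (h1 : ln p L ≤ ln p K + 1) (hx : x ∈ L) : x ^ p ∈ K := by
  by_cases k : x ∈ K
  · exact pow_mem k p
  have := ln_lt' p h hx k
  exact pow_step hG.out h (card_ln K) (card_of_ln (by omega)) hx

variable (p) in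
theorem normal_of_ln (h : ln p (⊤ : Subgroup G) ≤ ln p N + 1) : N.Normal := by
  by_cases k : N = ⊤
  · rw [k]; infer_instance
  have := ln_lt p (lt_top_iff_ne_top.2 k)
  exact normal_of_card hG.out (n := ln p N)
    (by rw [← card_top]; exact card_of_ln (by omega)) (card_ln N)

theorem Ph_le_of_ln (h : ln p (⊤ : Subgroup G) ≤ ln p N + 1) : Ph p X ≤ N :=
  have := normal_of_ln p h
  Ph_le_iff.2 ⟨fun x _ y _ => cm_ln p le_top h (mem_top x) y, fun x _ => pow_ln le_top h (mem_top x)⟩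

theorem ln_rank {k : ℕ} (sr : SectionalPRankLE p k G) (h : N ≤ H) (h1 : Ph p H ≤ N) :
    ln p H ≤ ln p N + k :=
  ln_of_relIndex_le h (FG.SR.relIndex_le sr (le_sup_left.trans h1) (Ph_le_iff.1 h1).2)

theorem ln_rank_Ph {k : ℕ} (sr : SectionalPRankLE p k G) (H : Subgroup G) :
    ln p H ≤ ln p (Ph p H) + k := ln_rank sr Ph_le_self le_rfl

theorem ln_rank_bot {k : ℕ} (sr : SectionalPRankLE p k G) (h1 : Ph p H ≤ ⊥) : ln p H ≤ k := by
  simpa [ln_bot] using ln_rank sr bot_le h1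

omit hp hG in
theorem relIndex_Cm_le [D.Normal] (h : ∀ g ∈ H, ⁅x, g⁆ ∈ K) :
    (Cm x D).relIndex H ≤ D.relIndex K := by
  refine Nat.card_le_card_of_injective
    (fun q : H ⧸ (Cm x D).subgroupOf H => ((⟨_, h q.out q.out.2⟩ : K) : K ⧸ D.subgroupOf K))
    fun q q' e => ?_
  rw [← q.out_eq, ← q'.out_eq]
  refine QuotientGroup.eq.2 (mem_subgroupOf.2 (mem_Cm.2 ?_))
  have h1 : ⁅x, (q.out : G)⁆⁻¹ * ⁅x, (q'.out : G)⁆ ∈ D :=
    mem_subgroupOf.1 (QuotientGroup.eq (s := D.subgroupOf K).1 e)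
  have := ‹D.Normal›.conj_mem _ h1 (q.out : G)⁻¹
  rwa [show (q.out : G)⁻¹ * (⁅x, (q.out : G)⁆⁻¹ * ⁅x, (q'.out : G)⁆) * (q.out : G)⁻¹⁻¹ =
    ⁅x, (q.out : G)⁻¹ * q'.out⁆ by simp only [commutatorElement_def]; group] at this

variable (p) in
theorem ln_Cm [D.Normal] (hD : D ≤ K) (h : ∀ g ∈ H, ⁅x, g⁆ ∈ K) :
    ln p H + ln p D ≤ ln p (H ⊓ Cm x D) + ln p K := by
  have h1 := relIndex_Cm_le (D := D) h
  have h2 := ln_mono p hD
  rw [relIndex_eq (j := p ^ (ln p K - ln p D)) hD (by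
    rw [card_ln (p := p), card_ln (p := p), ← pow_add, Nat.sub_add_cancel h2]),
    ← inf_relIndex_left] at h1
  have := ln_of_relIndex_le inf_le_left h1
  omega

variable (p) in
/-- The Frattini property. -/
theorem le_of_sup_Ph (hA : A ≤ X) (h : X ≤ A ⊔ Ph p X) : X ≤ A := by
  have h1 : A.subgroupOf X ⊔ frattini X = ⊤ := by
    refine map_injective X.subtype_injective ?_
    rw [Subgroup.map_sup, map_frattini_eq (pg p X), subgroupOf_map_subtype, inf_of_le_left hA,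
      ← MonoidHom.range_eq_map, range_subtype]
    exact le_antisymm (sup_le hA Ph_le_self) h
  exact subgroupOf_eq_top.1 (frattini_nongenerating h1)

variable (p) in
theorem exists_step (K L : Subgroup G) [K.Normal] [L.Normal] (h : K < L) :
    ∃ x ∈ L, x ∉ K ∧ x ^ p ∈ K ∧ ∀ g, ⁅x, g⁆ ∈ K := PG.exists_normal_step hG.out K L h

variable (p) in
theorem exists_cent (L : Subgroup G) [L.Normal] (h : L ≠ ⊥) :
    ∃ x ∈ L, x ≠ 1 ∧ x ∈ Oz p (⊤ : Subgroup G) := by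
  obtain ⟨x, hx, h1, h2, h3⟩ := exists_step p ⊥ L (bot_lt_iff_ne_bot.2 h)
  exact ⟨x, hx, h1, mem_Oz_top.2 ⟨fun g => cm_bot.1 (h3 g), h2⟩⟩

variable (p) in
/-- A normal subgroup with a step of length at most one below a normal subgroup. -/
theorem exists_below (K L : Subgroup G) [K.Normal] [L.Normal] (h : K ≤ L) {j : ℕ}
    (h1 : ln p L ≤ ln p K + (j + 1)) :
    ∃ M : Subgroup G, M.Normal ∧ K ≤ M ∧ M ≤ L ∧ ln p M ≤ ln p K + 1 ∧ ln p L ≤ ln p M + j := by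
  rcases h.eq_or_lt with rfl | k
  · exact ⟨K, ‹_›, le_rfl, le_rfl, by omega, by omega⟩
  obtain ⟨x, hx, h2, h3, h4⟩ := exists_step p K L k
  have := ln_sup_zp h2 h3
  exact ⟨K ⊔ zpowers x, PG.normal_sup_zpowers h4, le_sup_left, sup_le h (zpowers_le.2 hx),
    by omega, by omega⟩

omit hp [Finite G] hG in
theorem ln_img {α : MulAut E} (hX : X ≤ E) :
    ln p (img (totA α) X) = ln p X := by
  refine ln_congr ?_
  rw [img_eq_map_subgroupOf (E.subtype.comp α.toMonoidHom) (fun x => (totA_coe α x).symm) hX,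
    card_map_of_injective (f := E.subtype.comp α.toMonoidHom)
      (E.subtype_injective.comp α.injective),
    Nat.card_congr (subgroupOfEquivOfLe hX).toEquiv]

end Cfsg.Agent.Fus.R3
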