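import Mathlib
import Cfsg.Agent.Fus.R3Len

/-! An essential subgroup of index `p` in a group of sectional rank at most three, and pairs of
such subgroups. -/

set_option autoImplicit false

namespace Cfsg.Agent.Fus.R3

open Subgroup Cfsg.Agent.GT
open Cfsg.FusionSystem hiding inv_mem
open scoped Matrix MatrixGroups commutatorElement

variable {G : Type*} [Group G] {p : ℕ} {F F₁ F₂ : FusionSystem (⊤ : Subgroup G)}
  {E E₁ E₂ K L M T W X Y Z : Subgroup G} {a s x y : G} {f : G → G}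

/-- `X` is invariant under `Aut_F(E)`. -/
abbrev Iv (F : FusionSystem (⊤ : Subgroup G)) (E X : Subgroup G) : Prop := InvA (F.autGroup E) X

/-- The closure of `X` under `Aut_F(E)`. -/
def Ncl (F : FusionSystem (⊤ : Subgroup G)) (E X : Subgroup G) : Subgroup G :=
  closure {y | ∃ α ∈ F.autGroup E, ∃ x ∈ X, totA α x = y}

theorem Ncl_le_iff : Ncl F E X ≤ M ↔ ∀ α ∈ F.autGroup E, ∀ x ∈ X, totA α x ∈ M :=
  (closure_le _).trans ⟨fun h α hα x hx => h ⟨α, hα, x, hx, rfl⟩, by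
    rintro h _ ⟨α, hα, x, hx, rfl⟩; exact h α hα x hx⟩

theorem mem_Ncl {α : MulAut E} (hα : α ∈ F.autGroup E) (hx : x ∈ X) : totA α x ∈ Ncl F E X :=
  subset_closure ⟨α, hα, x, hx, rfl⟩

theorem le_Ncl (hX : X ≤ E) : X ≤ Ncl F E X := fun x hx => by
  simpa [totA_one (hX hx)] using mem_Ncl (F := F) (E := E) (one_mem _) hx

theorem iv_Ncl (hX : X ≤ E) : Iv F E (Ncl F E X) :=
  invA_closure (Ncl_le_iff.2 fun α _ _ hx => totA_mem α (hX hx)) (by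
    rintro α hα _ ⟨β, hβ, x, hx, rfl⟩
    rw [← totA_mul _ _ (hX hx)]
    exact mem_Ncl (mul_mem hα hβ) hx)

theorem iv_of_Ncl (hX : X ≤ E) (h : Ncl F E X ≤ X) : Iv F E X := ⟨hX, Ncl_le_iff.1 h⟩

theorem Ncl_cm [K.Normal] (hX : X ≤ E) (hY : Iv F E Y) (hK : Iv F E K)
    (h : ∀ x ∈ X, ∀ y ∈ Y, ⁅x, y⁆ ∈ K) (hx : x ∈ Ncl F E X) (hy : y ∈ Y) : ⁅x, y⁆ ∈ K :=
  cm_swap (mem_Cs.1 ((Ncl_le_iff.2 fun _ hα x hx => (invA_Cs (invA_top _) hY hK).mem hα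
    ⟨hX hx, mem_Cs.2 fun y hy => cm_swap (h x hx y hy)⟩ : Ncl F E X ≤ E ⊓ Cs Y K) hx).2 y hy)

theorem pow_totA {α : MulAut E} (hx : x ∈ E) (h : x ^ p = 1) : totA α x ^ p = 1 := by
  rw [← (mulOn_totA α).map_pow hx, h, (mulOn_totA α).map_one]

theorem cm_totA {α : MulAut E} (hx : x ∈ E) (hy : y ∈ E) :
    ⁅totA α x, y⁆ = totA α ⁅x, totA α⁻¹ y⁆ := by
  rw [(mulOn_totA α).map_commutatorElement hx (totA_mem _ hy), totA_totA_inv α hy]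

theorem mem_img_totA {α : MulAut E} (hX : X ≤ E) :
    y ∈ img (totA α) X ↔ ∃ x ∈ X, totA α x = y := (mulOn_totA α).mem_img_of_le hX

theorem ivPh : Iv F E (Ph p E) := invA_Ph (invA_top _)

theorem iso_res [Finite G] (hf : F.Iso ⊤ ⊤ f) (hE : ∀ x ∈ E, f x ∈ E) (hX : Iv F E X)
    (hx : x ∈ X) : f x ∈ X := hX.iso_mem ((hf.mor.mono le_top).iso_self hE) hx

/-- `E` is an essential subgroup of index `p`. -/
structure Lc (F : FusionSystem (⊤ : Subgroup G)) (p : ℕ) (E : Subgroup G) : Prop where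
  sat : F.IsSaturated p
  ess : F.IsEssential p E
  idx : ln p (⊤ : Subgroup G) = ln p E + 1
  odd : p ≠ 2
  sr : SectionalPRankLE p 3 G

/-- A torus element of the `SL(2, p)` acting on `X / W`, extended to `G`. -/
structure Tor (F : FusionSystem (⊤ : Subgroup G)) (E X W Y T : Subgroup G) (s : G) (l : ZMod p)
    (τ : G →* G) : Prop where
  iso : F.Iso ⊤ ⊤ τ
  top : ∀ x ∈ E, x⁻¹ * τ x ∈ X
  low : ∀ x ∈ W, x⁻¹ * τ x ∈ Y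
  fix : ∀ t ∈ T, τ t = t
  fst : ∀ x ∈ X, ⁅x, s⁆ ∈ W → Wz τ W x l
  snd : ∀ L, W ≤ L → (∀ u ∈ X, ⁅u, s⁆ ∈ W → u ∈ L) → ∀ x ∈ X, Wz τ L x l⁻¹
  neg : l = -1 → ∀ x ∈ X, Wz τ W x l
  out : Wz τ E s (l ^ 2)

variable [Finite G] [hp : Fact p.Prime] [hG : Fact (IsPGroup p G)]

theorem Lc.of_normal (hF : F.IsSaturated p) (hE : F.IsEssential p E) [E.Normal] (h2 : p ≠ 2)
    (sr : SectionalPRankLE p 3 G) : Lc F p E := by
  refine ⟨hF, hE, ?_, h2, sr⟩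
  have h0 := ln_lt p (hF.lt_of_isEssential (pg p ⊤) hE)
  by_contra hne
  obtain ⟨V₁, n1, l1, l1', c1, c1'⟩ := exists_below p (Ph p E) E Ph_le_self (ln_rank_Ph sr E)
  obtain ⟨V₂, n2, l2, l2', c2, c2'⟩ := exists_below p V₁ E l1' c1'
  obtain ⟨a, ha, ea⟩ := exists_gen p l1 c1
  obtain ⟨v, hv, ev⟩ := exists_gen p l2' c2'
  have h3 := ln_Cm p (H := ⊤) (x := v) l2 fun g _ => cm_ln p l2' c2' hv g
  obtain ⟨s, hs, hsE⟩ := exists_of_ln p (X := ⊤ ⊓ Cm v V₁) (Y := E) (by omega)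
  obtain ⟨X, Y, c, T⟩ := hE.exists_transv hF (pg p ⊤) (invA_Ph (invA_top _)) le_sup_left le_rfl
    (s := s) ⟨trivial, mem_nz⟩ hsE (l1' ha) (pow_mem_Ph (l1' ha)) fun x hx => by
      rw [ea]
      exact cj_of_cm (cm_of_sup ev (fun k hk => cm_ln p l2 c2 hk s) (mem_Cm.1 hs.2) hx)
  have h4 := ln_sup_zp_le T.pow
  rw [← T.norm, normalizerIn_eq_of_le fun _ _ => mem_nz] at h4
  omega

namespace Lc

variable (h : Lc F p E)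
include h

theorem normal : E.Normal := normal_of_ln p h.idx.le

theorem nz (g : G) : g ∈ normalizerIn ⊤ E := have := h.normal; ⟨trivial, mem_nz⟩

theorem nI (hX : Iv F E X) : X.Normal := ⟨fun _ hx g => hX.conj_mem le_top (h.nz g) hx⟩

omit [Finite G] hp hG in
theorem cent (hs : ∀ x ∈ E, Commute x s) : s ∈ E := h.ess.mem_of_comm trivial hs

omit [Finite G] hp hG in
theorem Z_le : Oz p ⊤ ≤ E := fun _ hz => h.cent fun x _ => (hz.2.1 x trivial).symm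

omit [Finite G] hp hG in
theorem Z_le_Y : Oz p ⊤ ≤ Oz p E := fun _ hz => ⟨h.Z_le hz, fun y _ => hz.2.1 y trivial, hz.2.2⟩

theorem top_eq (hs : s ∉ E) : E ⊔ zpowers s = ⊤ := sup_zp_ln p le_top h.idx.le trivial hs

theorem Ph_le (X : Subgroup G) : Ph p X ≤ E := Ph_le_of_ln h.idx.le

theorem cm_mem (x y : G) : ⁅x, y⁆ ∈ E := h.Ph_le ⊤ (cm_mem_Ph trivial trivial)

theorem pw_mem (x : G) : x ^ p ∈ E := h.Ph_le ⊤ (pow_mem_Ph trivial)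

theorem exists_out : ∃ s, s ∉ E := by
  obtain ⟨s, -, hs⟩ := exists_of_ln p (X := ⊤) (Y := E) (by have := h.idx; omega)
  exact ⟨s, hs⟩

theorem cm_all [K.Normal] (hs : s ∉ E) (h1 : ∀ e ∈ E, ⁅x, e⁆ ∈ K) (h2 : ⁅x, s⁆ ∈ K) (g : G) :
    ⁅x, g⁆ ∈ K := cm_sup_zp h1 h2 ((h.top_eq hs).ge trivial)

theorem commute_all (hs : s ∉ E) (h1 : ∀ e ∈ E, Commute x e) (h2 : Commute x s) (g : G) :
    Commute x g := commute_sup_zp h1 h2 ((h.top_eq hs).ge trivial)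

theorem mem_Z (hs : s ∉ E) (hy : y ∈ Oz p E) (h2 : Commute y s) : y ∈ Oz p ⊤ :=
  mem_Oz_top.2 ⟨h.commute_all hs hy.2.1 h2, hy.2.2⟩

theorem chain (hX : Iv F E X) (hY : Iv F E Y) (hZ : Iv F E Z) (hYX : Y ≤ X) (hZY : Z ≤ Y)
    (hΦ : Z ≤ Ph p E) (hs : s ∉ E) (h1 : ∀ x ∈ E, ⁅x, s⁆ ∈ X) (h2 : ∀ x ∈ X, ⁅x, s⁆ ∈ Y)
    (h3 : ∀ x ∈ Y, ⁅x, s⁆ ∈ Z) : False :=
  have := h.nI hX; have := h.nI hY; have := h.nI hZ
  hs ((h.ess.isRadical (pg p ⊤)).mem_of_chain3 (pg p ⊤) h.ess.isCentric hX hY hZ hYX hZY hΦ (h.nz s)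
    (fun x hx => cj_of_cm (h1 x hx)) (fun x hx => cj_of_cm (h2 x hx))
    fun x hx => cj_of_cm (h3 x hx))

theorem chain2 (hX : Iv F E X) (hY : Iv F E Y) (hYX : Y ≤ X) (hΦ : Y ≤ Ph p E) (hs : s ∉ E)
    (h1 : ∀ x ∈ E, ⁅x, s⁆ ∈ X) (h2 : ∀ x ∈ X, ⁅x, s⁆ ∈ Y) : False :=
  have := h.nI hY
  h.chain hX hY hY hYX le_rfl hΦ hs h1 h2 fun _ hx => cm_left hx s

theorem chain_ln (hX : Iv F E X) (hY : Iv F E Y) (hZ : Iv F E Z) (hYX : Y ≤ X) (hZY : Z ≤ Y)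
    (hΦ : Z ≤ Ph p E) (h1 : ln p E ≤ ln p X + 1) (h2 : ln p X ≤ ln p Y + 1)
    (h3 : ln p Y ≤ ln p Z + 1) : False :=
  h.ess.not_chain3 h.sat (pg p ⊤) hX hY hZ hYX hZY hΦ (dvd_p_of_ln hX.1 h1) (dvd_p_of_ln hYX h2)
    (dvd_p_of_ln hZY h3)

/-- An invariant subgroup strictly between `Φ(E)` and a subgroup of index `p` cannot exist. -/
theorem chain_two (hX : Iv F E X) (hY : Iv F E Y) (hYX : Y ≤ X) (hΦ : Ph p E ≤ Y)
    (h1 : ln p E ≤ ln p X + 1) (h2 : ln p X ≤ ln p Y + 1) (h3 : ln p Y + 2 ≤ ln p E) : False :=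
  h.chain_ln hX hY ivPh hYX hΦ le_rfl h1 h2 (by have := ln_rank_Ph h.sr E; omega)

theorem torus (hX : Iv F E X) (hW : Iv F E W) (hY : Iv F E Y) (hT : Iv F E T) (hWX : W ≤ X)
    (hYW : Y ≤ W) (hΦ : Y ≤ Ph p E) (hl : ln p X ≤ ln p W + 2) (hs : s ∉ E)
    (h1 : ∀ x ∈ E, ⁅x, s⁆ ∈ X) (h2 : ∀ x ∈ W, ⁅x, s⁆ ∈ Y) (h3 : ∀ t ∈ T, ⁅t, s⁆ ∈ Ph p T) :
    ln p X = ln p W + 2 ∧ Ph p X ≤ W ∧
      ∀ l : ZMod p, l ≠ 0 → ∃ τ : G →* G, Tor F E X W Y T s l τ := by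
  have := h.nI hX; have := h.nI hY; have := h.nI hW; have := h.nI hT; have := h.normal
  obtain ⟨⟨c, hc⟩, -, -⟩ := h.ess.exists_sl2Sec_chain h.sat (pg p ⊤) hX hW hY hWX hYW hΦ
    (fun _ _ => mem_nz) (dvd_of_ln hWX hl) (h.nz s) hs (fun x hx => cj_of_cm (h1 x hx))
    fun x hx => cj_of_cm (h2 x hx)
  have C := hc.toCoord
  refine ⟨ln_of_relIndex hWX C.relIndex_eq, Ph_le_iff.2 ⟨fun _ hx _ hy => C.commutator_mem hx hy,
    fun _ hx => C.pow_mem' hx⟩, fun l hl => ?_⟩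
  obtain ⟨γ, hγK, hγ, hco, hγa, β, hβ, -, eβ, eβs⟩ := hc.exists_torus_ext
    (h.ess.receptive h.sat (pg p ⊤)) h.ess.isCentric inf_le_right (h.nz s)
    (K := secStab E T (Ph p T)) (fun g hg => conj_mem_secStab (mem_secStab_of hT.1 Ph_le_self
      fun x hx => by rw [totA_cAut mem_nz (hT.1 hx)]; exact cj_of_cm (h3 x hx))
      (hT.le_stabA hg.2) ((invA_Ph hT).le_stabA hg.2)) hl
  have hb : F.Iso ⊤ ⊤ (totA β) := ((mor_totA le_top hβ).mono (h.top_eq hs).ge).iso_top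
  obtain ⟨τ, eτ⟩ := exists_hom_top hb
  have e : ∀ x ∈ E, τ.toMonoidHom x = totA γ x := fun x hx => (eτ x).trans (eβ x hx)
  have hγX : ∀ x ∈ X, totA γ x ∈ X := fun x hx => hX.mem hγ.2 hx
  have fx : ∀ x ∈ X, ⁅x, s⁆ ∈ W ↔ c x 1 = 0 := fun x hx => by
    rw [← fix_iff hc mem_nz hx, comm_mem_iff_conj]
    exact ⟨cm_inv_left, fun k => by simpa using cm_inv_left k⟩
  refine ⟨τ.toMonoidHom, hb.congr fun x _ => (eτ x).symm, fun x hx => e x hx ▸ hγ.1.1.2 x hx hx,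
    fun x hx => e x (hW.1 hx) ▸ hγ.1.2.2 x hx (hW.1 hx), fun t ht => ?_,
    fun x hx k => (wz_fst C hx (hγX x hx) ((fx x hx).1 k) (hγa x hx)).congr (e x (hX.1 hx)),
    fun L hL k x hx => ?_, fun k x hx => ?_, wz_of_right (by rwa [← eτ] at eβs)⟩
  · rw [e t (hT.1 ht)]
    exact (mem_fixA_zpowers.1 (le_fixA_of_commA_le_frattini (pg p E) (coprime_card_zpowers hco)
      hT.1 (commA_le_of_le_secStab (zpowers_le.2 hγK)) ht)).2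
  · have h4 : (x ^ (l⁻¹).val)⁻¹ * totA γ x ∈ X := mul_mem (inv_mem (pow_mem hx _)) (hγX x hx)
    refine (wz_of_pow (k _ h4 ((fx _ h4).2 ?_))).congr (e x (hX.1 hx))
    rw [C.map_mul (inv_mem (pow_mem hx _)) (hγX x hx), C.map_inv (pow_mem hx _), C.map_pow hx,
      hγa x hx]
    simp [dotProduct]
  · refine (wz_of_pow ?_).congr (e x (hX.1 hx))
    rw [← C.eq_iff (pow_mem hx _) (hγX x hx), C.map_pow hx, hγa x hx, k]
    ext i; fin_cases i <;> simp [dotProduct, Matrix.mulVec, inv_neg]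

/-- If `s` acts trivially on `E / X` with `|X : W| ≤ p ^ 2`, then `⁅E, s⁆` is small. -/
theorem neg [K.Normal] (hX : Iv F E X) (hW : Iv F E W) (hWX : W ≤ X) (hΦ : W ≤ Ph p E)
    (hl : ln p X ≤ ln p W + 2) (hs : s ∉ E) (h1 : ∀ x ∈ E, ⁅x, s⁆ ∈ X) (hWK : W ≤ K)
    (k1 : ∀ x ∈ X, ∀ g, ⁅x, g⁆ ∈ K) (k2 : ∀ x ∈ E, ∀ y ∈ E, ⁅x, y⁆ ∈ K) (hy : y ∈ E) :
    ⁅y, s⁆ ∈ K := by
  have := h.nI hW; have := h.normal
  obtain ⟨-, h3, h4⟩ := h.torus hX hW hW (invA_bot _) hWX le_rfl hΦ hl hs h1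
    (fun x hx => cm_left hx s) fun t ht => by rw [mem_bot.1 ht]; simp
  obtain ⟨τ, H⟩ := h4 (-1) (by simp)
  have w1 : Wz τ E s (1 : ZMod p) := by simpa using H.out
  have w2 := (wz_one (p := p) (H.top y hy)).comm w1 (fun u hu => k1 u hu s) (fun u hu v _ => k1 u hu v)
    (k2 y hy) (k1 _ (h1 y hy) y) (k1 _ (h1 y hy) s)
  by_contra k
  have := ((H.neg rfl _ (h1 y hy)).mono hWK).uniq w2 k (hWK (h3 (pow_mem_Ph (h1 y hy))))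
  exact neg_one_ne h.odd (by simpa using this)

/-- The Frattini argument. -/
theorem iv_of_cent (hW : Iv F E W) (hZ : Iv F E Z) (hZY : Z ≤ Y) (hYW : Y ≤ W)
    (hc : ∀ w ∈ W, ∀ g, ⁅w, g⁆ ∈ Z) (hD : ∀ f, F.Iso ⊤ ⊤ f → ∀ y ∈ Y, f y ∈ Y) : Iv F E Y := by
  have := h.nI hZ; have := h.normal
  refine ⟨hYW.trans hW.1, fun α hα y hy => ?_⟩
  obtain ⟨β, hβ, γ, -, rfl, g, hg, eg⟩ := h.sat.frattini_extend (pg p ⊤) h.ess.isFullyNormalized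
    (N := secStab E W Z ⊓ F.autGroup E) inf_le_right (fun l hl => mem_normalizer_fintype
      fun δ hδ => ⟨conj_mem_secStab hδ.1 (hW.le_stabA hl) (hZ.le_stabA hl),
        mul_mem (mul_mem hl hδ.2) (Subgroup.inv_mem _ hl)⟩) hα
  have e : E ⊔ preAut ⊤ E (secStab E W Z ⊓ F.autGroup E) = ⊤ := eq_top_iff.2 fun k _ =>
    mem_sup_right ⟨h.nz k, mem_secStab_of hW.1 (hZY.trans hYW) fun x hx => by
      rw [totA_cAut mem_nz (hW.1 hx)]; exact cj_of_cm (hc x hx k),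
      F.cAut_mem_autGroup le_top (h.nz k)⟩
  rw [e] at hg
  have h1 := hD g hg.iso_top y hy
  rw [totA_mul _ _ (hW.1 (hYW hy)), ← eg y (hW.1 (hYW hy))]
  simpa using mul_mem h1 (hZY (hβ.1.2 _ (hYW h1) (hW.1 (hYW h1))))

end Lc

/-! ### Pairs -/

namespace Lc

variable (h₁ : Lc F₁ p E₁) (h₂ : Lc F₂ p E₂) (hne : E₁ ≠ E₂)
include h₁ h₂ hne

theorem exists_diff : ∃ e ∈ E₁, e ∉ E₂ := SetLike.not_le_iff_exists.1 fun k =>
  hne (eq_of_ln p k (by have := h₁.idx; have := h₂.idx; omega))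

theorem ln_inf : ln p E₁ = ln p (E₁ ⊓ E₂) + 1 := by
  obtain ⟨e, he, he'⟩ := h₁.exists_diff h₂ hne
  have := h₂.normal
  have h3 := ln_sup_inf' p E₁ E₂
  rw [eq_top_iff.2 ((h₂.top_eq he').ge.trans (sup_le le_sup_right
    (zpowers_le.2 (mem_sup_left he)))), h₂.idx] at h3
  omega

theorem inf_sup {e : G} (he : e ∈ E₁) (he' : e ∉ E₂) : E₁ ⊓ E₂ ⊔ zpowers e = E₁ :=
  sup_zp_ln p inf_le_left (h₁.ln_inf h₂ hne).le he fun k => he' k.2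

omit hne in
theorem cm_inf (x y : G) : ⁅x, y⁆ ∈ E₁ ⊓ E₂ := ⟨h₁.cm_mem x y, h₂.cm_mem x y⟩

omit hne in
theorem Ph_inf (X : Subgroup G) : Ph p X ≤ E₁ ⊓ E₂ := le_inf (h₁.Ph_le X) (h₂.Ph_le X)

/-- `E₁ ⊓ E₂` is not invariant on both sides. -/
theorem not_both (i₁ : Iv F₁ E₁ (E₁ ⊓ E₂)) (i₂ : Iv F₂ E₂ (E₁ ⊓ E₂)) : False := by
  obtain ⟨e, he, he'⟩ := h₁.exists_diff h₂ hne
  have := h₁.normal; have := h₂.normal
  have l0 := h₁.ln_inf h₂ hne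
  have l1 := h₁.Ph_inf h₂ E₁
  have l2 : Ph p (E₁ ⊓ E₂) ≤ Ph p E₁ := Ph_mono inf_le_left
  have r1 := ln_rank_Ph h₁.sr E₁
  have r2 := ln_rank_Ph h₁.sr (E₁ ⊓ E₂)
  have c1 : ln p (Ph p E₁) + 2 ≤ ln p (E₁ ⊓ E₂) := not_lt.1 fun k =>
    h₁.chain_ln i₁ ivPh ivPh l1 le_rfl le_rfl l0.le (by omega) (by omega)
  have i3 := invA_Cs i₁ (invA_top _) (invA_Ph (p := p) i₁)
  have e3 : E₁ ⊓ E₂ ⊓ Cm e (Ph p (E₁ ⊓ E₂)) ≤ E₁ ⊓ E₂ ⊓ Cs E₁ (Ph p (E₁ ⊓ E₂)) := fun t ht =>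
    ⟨ht.1, Cs_of_sup (h₁.inf_sup h₂ hne he he') (fun k hk => cm_mem_Ph hk ht.1) (mem_Cm.1 ht.2)⟩
  have c2 := ln_Cm p (H := E₁ ⊓ E₂) (x := e) l2 fun g hg => cm_mem_Ph he hg.1
  have c3 := ln_mono p e3
  have c4 := ln_lt p (lt_of_le_of_ne inf_le_left fun k : E₁ ⊓ E₂ ⊓ Cs E₁ (Ph p (E₁ ⊓ E₂)) = _ =>
    h₂.chain2 i₂ (invA_Ph i₂) Ph_le_self (Ph_mono inf_le_right) he'
      (fun x _ => h₁.cm_inf h₂ x e) fun x hx => cm_swap (mem_Cs.1 (k.ge hx).2 e he))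
  exact h₁.chain_two i₁ i3 inf_le_left (fun t ht => ⟨l1 ht, mem_Cs.2 fun x _ =>
    cm_swap (cm_ln p l2 (by omega) ht x)⟩) l0.le (by omega) (by omega)

end Lc

end Cfsg.Agent.Fus.R3
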