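import Mathlib
import Cfsg.Agent.Fus.R3Loc

/-! Two essential subgroups of index `p`, sectional rank at most three: the case
`Ω₁(Z(E₂)) ≰ E₁`. -/

set_option autoImplicit false

namespace Cfsg.Agent.Fus.R3

open Subgroup Cfsg.Agent.GT
open Cfsg.FusionSystem hiding inv_mem
open scoped Matrix MatrixGroups commutatorElement

variable {G : Type*} [Group G] {p : ℕ} {F F₁ F₂ : FusionSystem (⊤ : Subgroup G)}
  {A E E₁ E₂ K L M T W X Y Z : Subgroup G} {a s x y : G} {f : G → G}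

theorem Z_comm (h : x ∈ Oz p (⊤ : Subgroup G)) (g : G) : Commute x g := h.2.1 g trivial

theorem normal_of_le_Z (h : X ≤ Oz p (⊤ : Subgroup G)) : X.Normal :=
  normal_of_cent fun _ hx => mem_center_iff.2 fun g => (Z_comm (h hx) g).symm.eq

theorem Ph_bot_sup_zp (hA : Ph p A ≤ ⊥) (hx : x ^ p = 1) (h : ∀ a ∈ A, Commute a x) :
    Ph p (A ⊔ zpowers x) ≤ ⊥ := Ph_sup_zp_le hA (mem_bot.2 hx) fun a ha => cm_bot.2 (h a ha)

/-- The class two configuration. -/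
structure CaseA (p : ℕ) (E₁ E₂ : Subgroup G) (a : G) : Prop where
  aZ : a ∈ Oz p (⊤ : Subgroup G)
  cen : E₁ ⊓ E₂ = center G
  der : ∀ x y : G, ⁅x, y⁆ ∈ zpowers a
  ph₁ : Ph p E₁ = Ph p (E₁ ⊓ E₂)
  ph₂ : Ph p E₂ = Ph p (E₁ ⊓ E₂)
  na : a ∉ Ph p E₁

/-- The symplectic configuration modulo `T`. -/
structure CaseB (p : ℕ) (T E₁ E₂ : Subgroup G) (x y : G) : Prop where
  c₂ : ln p E₂ = ln p T + 3
  ab : Ph p E₂ ≤ T
  x₁ : x ∈ E₁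
  x₂ : x ∉ E₂
  xp : x ^ p ∈ T
  y₂ : y ∈ E₂
  y₁ : y ∉ E₁
  ne : ⁅⁅y, x⁆, x⁆ ∉ T

variable [Finite G] [hp : Fact p.Prime] [hG : Fact (IsPGroup p G)]

theorem mem_of_rank (sr : SectionalPRankLE p 3 G) (hA : Ph p A ≤ ⊥) (h3 : 3 ≤ ln p A)
    (hx : x ^ p = 1) (h : ∀ a ∈ A, Commute a x) : x ∈ A := by
  have := ln_rank_bot sr (Ph_bot_sup_zp hA hx h)
  exact (eq_of_ln p (le_sup_left : A ≤ A ⊔ zpowers x) (by omega)).ge (mem_sup_right (mem_zpowers x))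

variable (p) in
theorem maps_of_gen {α : MulAut E} (hZ : Z ≤ E) (h1 : ln p Z ≤ 1) (hx : x ∈ Z) (hx1 : x ≠ 1)
    (h : totA α x ∈ K) (hy : y ∈ Z) : totA α y ∈ K := by
  obtain ⟨i, rfl⟩ := (zp_eq_ln p h1 hx hx1).ge hy
  rw [(mulOn_totA α).map_zpow (hZ hx)]
  exact zpow_mem h i

theorem Z_le_of_normal [L.Normal] (h1 : ln p (Oz p (⊤ : Subgroup G)) ≤ 1) (h : L ≠ ⊥) :
    Oz p ⊤ ≤ L := by
  obtain ⟨x, hx, hx1, hxZ⟩ := exists_cent p L h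
  exact (zp_eq_ln p h1 hxZ hx1).ge.trans (zpowers_le.2 hx)

variable (p) in
theorem comm_of_ln (h : Z ≤ X) (h1 : ln p X ≤ ln p Z + 1) (hc : ∀ z ∈ Z, ∀ x ∈ X, Commute z x)
    (hx : x ∈ X) (hy : y ∈ X) : Commute x y := by
  obtain ⟨k, hk, e⟩ := exists_gen p h h1
  exact cm_bot.1 (cm_sup_sup (fun z hz w hw => cm_bot.2 (hc z hz w (h hw)))
    (fun z hz => cm_bot.2 (hc z hz k hk)) (e.ge hx) (e.ge hy))

namespace Lc

variable (h : Lc F p E)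
include h

theorem Z_pos : 1 ≤ ln p (Oz p (⊤ : Subgroup G)) := by
  obtain ⟨s, hs⟩ := h.exists_out
  obtain ⟨x, -, h1, h2⟩ := exists_cent p (⊤ : Subgroup G) fun e => hs (by
    rw [mem_bot.1 (e.le (mem_top s))]; exact one_mem _)
  exact ln_pos p h2 h1

theorem Y_le : ln p (Oz p E) ≤ 3 := ln_rank_bot h.sr Ph_Oz

theorem ln_sup_out (hx : x ∈ X) (hx' : x ∉ E) : ln p X = ln p (X ⊓ E) + 1 := by
  have := h.normal
  have h3 := ln_sup_inf' p X E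
  rw [eq_top_iff.2 ((h.top_eq hx').ge.trans (sup_le le_sup_right
    (zpowers_le.2 (mem_sup_left hx)))), h.idx] at h3
  omega

/-- If `s ∉ E` centralizes `Ω₁(Z(E))` modulo `K`, then `K` is large. -/
theorem ln_Y_le (hs : s ∉ E) (hc : ∀ y ∈ Oz p E, ⁅y, s⁆ ∈ K) :
    ln p (Oz p E) ≤ ln p (Oz p (⊤ : Subgroup G)) + ln p K := by
  have h1 := ln_Cm p (D := ⊥) (H := Oz p E) (x := s) bot_le fun g hg => cm_swap (hc g hg)
  have h2 : Oz p E ⊓ Cm s ⊥ ≤ Oz p ⊤ := fun y hy => h.mem_Z hs hy.1 (cm_bot.1 (mem_Cm.1 hy.2)).symm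
  have := ln_mono p h2
  rw [ln_bot] at h1
  omega

variable (hZ : ¬ Iv F E (Oz p ⊤))
include hZ

theorem Z_lt : ln p (Oz p (⊤ : Subgroup G)) < ln p (Oz p E) :=
  ln_lt p (lt_of_le_of_ne h.Z_le_Y fun e => hZ (e ▸ invA_Oz (invA_top _)))

/-- A rank three elementary abelian subgroup with `⁅A, E⁆ = Z` gives rank four. -/
theorem rank_four (h1 : ln p (Oz p (⊤ : Subgroup G)) ≤ 1) (hA : A ≤ E) (hab : Ph p A ≤ ⊥)
    (h3 : 3 ≤ ln p A) (hc : ∀ a ∈ A, ∀ e ∈ E, ⁅a, e⁆ ∈ Oz p ⊤) (ha : a ∈ A) (ha' : a ∉ Oz p E) :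
    False := by
  obtain ⟨γ, hγ, z, hz, hz'⟩ : ∃ γ ∈ F.autGroup E, ∃ z ∈ Oz p ⊤, totA γ z ∉ Oz p ⊤ := by
    by_contra k
    push Not at k
    exact hZ ⟨h.Z_le, k⟩
  have k : ∀ w ∈ Oz p ⊤, totA γ w ∈ Oz p ⊤ → w = 1 := fun w hw hw' => by
    by_contra e
    exact hz' (maps_of_gen p h.Z_le h1 hw e hw' hz)
  have h4 : totA γ a ∈ A := mem_of_rank h.sr hab h3 (pow_totA (hA ha) (pow_of_Ph hab ha))
    fun b hb => by
      have e := cm_totA (α := γ) (hA ha) (hA hb)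
      rw [k _ (hc a ha _ (totA_mem _ (hA hb))) (e ▸ cm_swap (hc b hb _ (totA_mem _ (hA ha)))),
        (mulOn_totA γ).map_one] at e
      exact (commutatorElement_eq_one_iff_commute.1 e).symm
  refine ha' ⟨hA ha, fun e he => commutatorElement_eq_one_iff_commute.1 (k _ (hc a ha e he) ?_),
    pow_of_Ph hab ha⟩
  rw [(mulOn_totA γ).map_commutatorElement (hA ha) he]
  exact hc _ h4 _ (totA_mem _ he)

omit hZ in
/-- The commutator `⁅Ω₁(Z(E)), G⁆` in the transvection case. -/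
theorem tv (h1 : ln p (Oz p E) ≤ ln p (Oz p (⊤ : Subgroup G)) + 1) (hy : y ∈ Oz p E)
    (hy' : y ∉ Oz p ⊤) (hs : s ∉ E) : ⁅y, s⁆ ∈ Oz p ⊤ ∧ ⁅y, s⁆ ≠ 1 ∧
      ∀ u ∈ Oz p E, ∀ g, ⁅u, g⁆ ∈ zpowers ⁅y, s⁆ := by
  have := h.normal
  have h2 := cm_ln p h.Z_le_Y h1 hy s
  have := normal_of_le_Z (zpowers_le.2 h2)
  exact ⟨h2, fun e => hy' (h.mem_Z hs hy (commutatorElement_eq_one_iff_commute.1 e)),
    fun u hu g => cm_of_sup (sup_zp_ln p h.Z_le_Y h1 hy hy')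
      (fun k hk => cm_of_commute (Z_comm hk g))
      (h.cm_all hs (fun e he => cm_of_commute (hy.2.1 e he)) (mem_zpowers _) g) hu⟩

end Lc

namespace Lc

variable (h₁ : Lc F₁ p E₁) (h₂ : Lc F₂ p E₂) (hne : E₁ ≠ E₂)
include h₁ h₂ hne

omit h₂ hne in
/-- Some conjugate of `X` escapes from `E₂`. -/
theorem escape (hy : y ∈ Oz p E₂) (hy₁ : y ∉ E₁) (hX : X ≤ E₁) (hc : ∀ x ∈ E₁, ⁅x, y⁆ ∈ X) :
    ¬ Ncl F₁ E₁ X ≤ E₂ := fun k =>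
  h₁.chain2 (iv_Ncl hX) (invA_bot _) bot_le bot_le hy₁ (fun x hx => le_Ncl hX (hc x hx))
    fun x hx => cm_bot.2 (hy.2.1 x (k hx)).symm

theorem caseA (h1 : ln p (Oz p E₂) ≤ ln p (Oz p (⊤ : Subgroup G)) + 1) (hy : y ∈ Oz p E₂)
    (hy₁ : y ∉ E₁) : ∃ a, CaseA p E₁ E₂ a := by
  have := h₁.normal; have := h₂.normal
  obtain ⟨e, -, he'⟩ := h₁.exists_diff h₂ hne
  obtain ⟨aZ, -, hc⟩ := h₂.tv h1 hy (fun k => hy₁ (h₁.Z_le k)) he'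
  set a := ⁅y, e⁆
  have l0 : zpowers a ≤ Oz p ⊤ := zpowers_le.2 aZ
  have := normal_of_le_Z l0
  obtain ⟨u, hu, hu'⟩ := SetLike.not_le_iff_exists.1
    (h₁.escape hy hy₁ (l0.trans h₁.Z_le) fun x _ => cm_swap (hc y hy x))
  replace hu : u ∈ Oz p E₁ :=
    (Ncl_le_iff.2 fun α hα x hx => (invA_Oz (invA_top _)).mem hα (h₁.Z_le_Y (l0 hx)) :
      _ ≤ Oz p E₁) hu
  have e1 := h₁.inf_sup h₂ hne hu.1 hu'
  have e2 := h₂.inf_sup h₁ hne.symm hy.1 hy₁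
  rw [inf_comm] at e2
  have ph₁ : Ph p E₁ = Ph p (E₁ ⊓ E₂) := le_antisymm ((Ph_mono e1.ge).trans (Ph_sup_zp_le le_rfl
    (hu.2.2 ▸ one_mem _) fun k hk => cm_of_commute (hu.2.1 k hk.1).symm)) (Ph_mono inf_le_left)
  have ph₂ : Ph p E₂ = Ph p (E₁ ⊓ E₂) := le_antisymm ((Ph_mono e2.ge).trans (Ph_sup_zp_le le_rfl
    (hy.2.2 ▸ one_mem _) fun k hk => cm_of_commute (hy.2.1 k hk.2).symm)) (Ph_mono inf_le_right)
  have na : a ∉ Ph p E₁ := fun k => h₁.chain2 ivPh ivPh le_rfl le_rfl hy₁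
    (fun x _ => zpowers_le.2 k (cm_swap (hc y hy x))) fun x hx => cm_left hx y
  have a12 : a ∈ E₁ ⊓ E₂ := ⟨h₁.Z_le aZ, h₂.Z_le aZ⟩
  have c1 := ln_sup_zp (ph₁ ▸ na) (pow_mem_Ph a12)
  have c2 := ln_rank_Ph h₁.sr E₁
  have c3 := h₁.ln_inf h₂ hne
  rw [ph₁] at c2
  obtain ⟨k, hk, ek⟩ := exists_gen p (sup_le Ph_le_self (zpowers_le.2 a12) :
    Ph p (E₁ ⊓ E₂) ⊔ zpowers a ≤ _) (by omega)
  have l1 : E₁ ⊓ E₂ ≤ zpowers a ⊔ zpowers k := le_of_sup_Ph p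
    (sup_le (zpowers_le.2 a12) (zpowers_le.2 hk)) (ek.ge.trans (sup_le (sup_le le_sup_right
      (le_sup_left.trans le_sup_left)) (le_sup_right.trans le_sup_left)))
  have cen : ∀ x ∈ E₁ ⊓ E₂, ∀ g, Commute x g := fun x hx => h₁.commute_all hy₁
    (fun v hv => commute_sup_zp (fun w hw => cm_bot.1 (cm_sup_sup
      (fun b hb c _ => cm_bot.2 (Z_comm (l0 hb) c)) (fun b hb => cm_bot.2 (Z_comm (l0 hb) k))
      (l1 hx) (l1 hw))) (hu.2.1 x hx.1).symm (e1.ge hv)) (hy.2.1 x hx.2).symm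
  refine ⟨a, aZ, le_antisymm (fun x hx => mem_center_iff.2 fun g => (cen x hx g).symm.eq)
    fun x hx => ⟨h₁.cent fun g _ => mem_center_iff.1 hx g, h₂.cent fun g _ =>
      mem_center_iff.1 hx g⟩, fun x g => ?_, ph₁, ph₂, na⟩
  refine cm_swap (h₁.cm_all hy₁ (fun v hv => cm_swap (cm_of_sup e1
    (fun w hw => cm_of_commute (cen w hw g)) ?_ hv)) (cm_swap (hc y hy g)) x)
  exact h₁.cm_all hy₁ (fun v hv => cm_of_commute (hu.2.1 v hv)) (cm_swap (hc y hy u)) g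

theorem caseB (hZ : ¬ Iv F₂ E₂ (Oz p ⊤))
    (h1 : ln p (Oz p (⊤ : Subgroup G)) + 1 < ln p (Oz p E₂)) (hy : y ∈ Oz p E₂)
    (hy₁ : y ∉ E₁) : ∃ x, CaseB p ⊥ E₁ E₂ x y := by
  have := h₁.normal; have := h₂.normal
  have c0 := h₂.Z_pos
  have c1 := h₂.Y_le
  have c2 := h₁.ln_sup_out hy hy₁
  have ZA : Oz p ⊤ ≤ Oz p E₂ ⊓ E₁ := le_inf h₂.Z_le_Y h₁.Z_le
  have cA : ∀ u ∈ Oz p E₂ ⊓ E₁, ∀ g, ⁅u, g⁆ ∈ Oz p ⊤ := fun u hu => cm_ln p ZA (by omega) hu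
  obtain ⟨α, hα, b, hb, hb'⟩ : ∃ α ∈ F₁.autGroup E₁, ∃ b ∈ Oz p E₂ ⊓ E₁, totA α b ∉ E₂ := by
    by_contra k
    push Not at k
    exact h₁.escape hy hy₁ inf_le_right (fun x _ => ⟨cm_right hy x, h₁.cm_mem x y⟩)
      (Ncl_le_iff.2 k)
  set x := totA α b
  obtain ⟨c, hc, hc'⟩ := exists_of_ln p (X := Oz p E₂ ⊓ E₁) (Y := Oz p ⊤) (by omega)
  have hx : ∀ v ∈ E₁, ⁅x, v⁆ ∈ Oz p ⊤ := fun v hv => by
    have e := cm_totA (α := α) hb.2 hc.2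
    rw [cm_totA hb.2 hv]
    refine maps_of_gen p h₁.Z_le (by omega) (cA b hb (totA α⁻¹ c)) (fun k => hc' ?_)
      (e ▸ cm_swap (cA c hc _)) (cA b hb _)
    rw [k, (mulOn_totA α).map_one] at e
    exact h₂.mem_Z hb' hc.1 (commutatorElement_eq_one_iff_commute.1 e).symm
  have e2 := h₂.inf_sup h₁ hne.symm hy.1 hy₁
  have hY : ∀ v ∈ E₂, ⁅v, x⁆ ∈ Oz p E₂ := fun v hv =>
    cm_of_sup e2 (fun w hw => h₂.Z_le_Y (cm_swap (hx w hw.2))) (cm_left hy x) hv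
  have iY : Iv F₂ E₂ (Oz p E₂) := invA_Oz (invA_top _)
  have hD : Oz p E₂ ⊓ Ph p E₂ = ⊥ := by
    by_contra k
    have c3 := ln_lt p (lt_of_le_of_ne (Z_le_of_normal (by omega) k) fun e =>
      hZ (e ▸ iY.inf ivPh))
    exact h₂.chain2 (iY.sup ivPh) ivPh le_sup_right le_rfl hb' (fun v hv => mem_sup_left (hY v hv))
      fun v hv => cm_swap (cm_sup (fun u hu => cm_swap (cm_ln p inf_le_left (by omega) hu x).2)
        (fun u hu => cm_right hu x) hv)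
  have c3 := ln_sup_inf' p (Oz p E₂) (Ph p E₂)
  have c4 := ln_rank_Ph h₂.sr E₂
  rw [hD, ln_bot] at c3
  have e3 : E₂ = Oz p E₂ := le_antisymm (le_of_sup_Ph p Oz_le
    (eq_of_ln p (sup_le Oz_le Ph_le_self) (by omega)).ge) Oz_le
  refine ⟨x, by rw [e3, ln_bot]; omega, e3 ▸ Ph_Oz, totA_mem _ hb.2, hb',
    pow_totA hb.2 hb.1.2.2, hy.1, hy₁, fun k => ?_⟩
  have h4 := h₂.mem_Z hb' (cm_left hy x) (commutatorElement_eq_one_iff_commute.1 k)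
  have := h₂.ln_Y_le hb' fun u hu => cm_of_sup (sup_zp_ln p inf_le_left c2.le hy fun k => hy₁ k.2)
    (fun w hw => cA w hw x) h4 hu
  omega

/-- Both centers cannot be contained in both subgroups. -/
theorem not_both_Y (hZ₁ : ¬ Iv F₁ E₁ (Oz p ⊤)) (hZ₂ : ¬ Iv F₂ E₂ (Oz p ⊤))
    (l₁ : Oz p E₁ ≤ E₂) (l₂ : Oz p E₂ ≤ E₁) : False := by
  have := h₁.normal; have := h₂.normal
  obtain ⟨e, he, he'⟩ := h₁.exists_diff h₂ hne
  obtain ⟨d, hd, hd'⟩ := h₂.exists_diff h₁ hne.symm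
  have hV : Ph p (Oz p E₁ ⊔ Oz p E₂) ≤ ⊥ :=
    Ph_sup_le Ph_Oz Ph_Oz fun a ha b hb => cm_bot.2 (ha.2.1 b (l₂ hb))
  have c0 := h₂.Z_pos
  have c1 := h₁.Z_lt hZ₁
  have c2 := h₂.Z_lt hZ₂
  have c3 := ln_rank_bot h₁.sr hV
  have c4 := ln_sup_inf' p (Oz p E₁) (Oz p E₂)
  have c5 := ln_mono p (fun y hy => h₂.mem_Z he' hy.2 (hy.1.2.1 e he) :
    Oz p E₁ ⊓ Oz p E₂ ≤ Oz p ⊤)
  obtain ⟨y, hy, hy'⟩ := exists_of_ln p c1
  exact h₂.rank_four hZ₂ (by omega) (sup_le l₁ Oz_le) hV (by omega) (fun a ha g hg =>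
    cm_swap (cm_sup (fun u hu => cm_swap (cm_ln p h₁.Z_le_Y (by omega) hu g))
      (fun u hu => cm_of_commute (hu.2.1 g hg).symm) ha)) (mem_sup_left hy)
    fun k => hy' (h₁.mem_Z hd' hy (k.2.1 d hd))

end Lc

end Cfsg.Agent.Fus.R3
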