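import Mathlib
import Cfsg.Agent.Fus.R3PairA

/-! Two essential subgroups of index `p`, sectional rank at most three: the case
`Ω₁(Z(E₂)) ≤ E₁`. -/

set_option autoImplicit false

namespace Cfsg.Agent.Fus.R3

open Subgroup Cfsg.Agent.GT
open Cfsg.FusionSystem hiding inv_mem
open scoped Matrix MatrixGroups commutatorElement

variable {G : Type*} [Group G] {p : ℕ} {F F₁ F₂ : FusionSystem (⊤ : Subgroup G)}
  {A E E₁ E₂ K L M T U W X Y Z Z₀ : Subgroup G} {a s x y : G} {f : G → G}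

variable [Finite G] [hp : Fact p.Prime] [hG : Fact (IsPGroup p G)]

omit [Finite G] hG in
theorem pow_Ncl (h2 : p ≠ 2) (hX : X ≤ E) (h : ∀ x ∈ X, x ^ p = 1)
    (hc : ∀ x ∈ Ncl F E X, ∀ y ∈ Ncl F E X, ⁅x, y⁆ ∈ Oz p E) (hx : x ∈ Ncl F E X) : x ^ p = 1 :=
  pow_closure h2 (by rintro _ ⟨α, -, u, hu, rfl⟩; exact pow_totA (hX hu) (h u hu))
    (fun u hu v hv w hw => ((hc u hu v hv).2.1 w ((iv_Ncl hX).1 hw)).symm) hx

/-- A subgroup of exponent `p` and order at least `p ^ 4` has a center of order at most `p ^ 2`. -/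
theorem ln_cent_le (sr : SectionalPRankLE p 3 G) (hU : ∀ u ∈ U, u ^ p = 1) (h4 : ln p U = 4)
    (hZ : Z ≤ U) (hc : ∀ z ∈ Z, ∀ u ∈ U, Commute z u) : ln p Z ≤ 2 := by
  by_contra k
  have := ln_rank_bot sr (Ph_le_iff.2 ⟨fun x hx y hy => cm_bot.2
    (comm_of_ln p hZ (by omega) hc hx hy), hU⟩)
  omega

namespace Lc

/-- An elementary abelian subgroup of order `p ^ 3` over `Ω₁(Z(E))` is invariant. -/
theorem iv_cube (h : Lc F p E) (hZ : ¬ Iv F E (Oz p ⊤)) (c1 : ln p (Oz p (⊤ : Subgroup G)) = 1)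
    (c2 : ln p (Oz p E) = 2) [W.Normal] (hW : W ≤ E) (hYW : Oz p E ≤ W) (hab : Ph p W ≤ ⊥)
    (c3 : ln p W = 3) : Iv F E W := by
  have := h.normal
  have iY : Iv F E (Oz p E) := invA_Oz (invA_top _)
  have iU : Iv F E (Ncl F E W) := iv_Ncl hW
  have := h.nI iU
  by_contra hn
  have c4 := ln_lt p (lt_of_le_not_ge (le_Ncl (F := F) hW) fun k => hn (iv_of_Ncl hW k))
  have cU : ∀ u ∈ Ncl F E W, ∀ e ∈ E, ⁅u, e⁆ ∈ Oz p E := fun u hu e he =>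
    Ncl_cm hW (invA_top _) iY (fun w hw g _ => cm_ln p hYW (by omega) hw g) hu he
  have pU : ∀ u ∈ Ncl F E W, u ^ p = 1 := fun u hu => pow_Ncl h.odd hW
    (fun w hw => pow_of_Ph hab hw) (fun u hu v hv => cU u hu v (iU.1 hv)) hu
  set U := Ncl F E W
  have WU : W ≤ U := le_Ncl hW
  have cY : ∀ y ∈ Oz p E, ∀ u ∈ U, Commute y u := fun y hy u hu => hy.2.1 u (iU.1 hu)
  have c5 := ln_rank h.sr (hYW.trans WU) (Ph_le_iff.2 ⟨fun u hu v hv => cU u hu v (iU.1 hv),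
    fun u hu => pU u hu ▸ one_mem _⟩)
  by_cases c6 : ln p U = 4
  · have l1 : Oz p E ≤ centralizerIn U U := fun y hy =>
      mem_centralizerIn.2 ⟨WU (hYW hy), fun u hu => (cY y hy u hu).symm.eq⟩
    have c7 := ln_cent_le h.sr pU c6 centralizerIn_le fun z hz u hu =>
      ((mem_centralizerIn.1 hz).2 u hu).symm
    have c8 := ln_mono p l1
    have c9 := ln_of_card ((card_comm_iff (card_of_ln c6)).2 (card_of_ln (by omega)))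
    have l2 : Oz p ⊤ ≤ ⁅U, U⁆ := Z_le_of_normal c1.le fun e => by rw [e, ln_bot] at c9; omega
    exact hZ (eq_of_ln p l2 (by omega) ▸ iU.commutator iU)
  obtain ⟨t, ht, et⟩ := exists_gen p hYW (by omega)
  have d1 := ln_Cm p (H := U) (x := t) h.Z_le_Y fun g hg => cU t (WU ht) g (iU.1 hg)
  obtain ⟨u, hu, huW⟩ := exists_of_ln p (X := U ⊓ Cm t (Oz p ⊤)) (Y := W) (by omega)
  have d2 := ln_sup_zp huW (pU u hu.1 ▸ one_mem _)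
  have l1 : W ⊔ zpowers u ≤ U := sup_le WU (zpowers_le.2 hu.1)
  obtain ⟨v, hv, ev⟩ := exists_gen p l1 (by omega)
  have d3 := ln_Cm p (H := W ⊔ zpowers u) (x := v) h.Z_le_Y fun g hg => cU v hv g (iU.1 (l1 hg))
  obtain ⟨r, hr, hrY⟩ := exists_of_ln p (X := (W ⊔ zpowers u) ⊓ Cm v (Oz p ⊤)) (Y := Oz p E)
    (by omega)
  have cr : ∀ g ∈ U, ⁅r, g⁆ ∈ Oz p ⊤ := fun g hg => cm_swap (cm_of_sup ev
    (fun k hk => cm_sup_sup (fun a ha b hb => cm_of_commute (commute_of_Ph hab ha hb))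
      (fun w hw => cm_of_sup et (fun y hy => cm_of_commute (cY y hy u hu.1)) (mem_Cm.1 hu.2) hw)
      hk hr.1) (mem_Cm.1 hr.2) hg)
  have d4 := ln_Cm p (H := U) (x := r) (D := ⊥) bot_le cr
  have d5 := ln_sup_zp hrY (pU r (l1 hr.1) ▸ one_mem _)
  have d6 := ln_mono p (fun w hw => mem_of_rank h.sr (Ph_bot_sup_zp Ph_Oz (pU r (l1 hr.1))
    fun y hy => cY y hy r (l1 hr.1)) (by omega) (pU w hw.1) fun a ha => (commute_sup_zp
      (fun y hy => (cY y hy w hw.1).symm) (cm_bot.1 (mem_Cm.1 hw.2)).symm ha).symm :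
      U ⊓ Cm r ⊥ ≤ Oz p E ⊔ zpowers r)
  rw [ln_bot] at d4
  omega

variable (h₁ : Lc F₁ p E₁) (h₂ : Lc F₂ p E₂) (hne : E₁ ≠ E₂)
include h₁ h₂ hne

/-- The case `W ⊓ E₂ = Ω₁(Z(E₂))`. -/
theorem alpha (iZ : Iv F₁ E₁ (Oz p ⊤)) (hD : ∀ f, F₁.Iso ⊤ ⊤ f → ∀ y ∈ Oz p E₂, f y ∈ Oz p E₂)
    (l0 : Z₀ ≤ Oz p ⊤) (c0 : ln p Z₀ ≤ 1) (hc : ∀ y ∈ Oz p E₂, ∀ g, ⁅y, g⁆ ∈ Z₀) (iW : Iv F₁ E₁ W)
    (hYW : Oz p E₂ ≤ W) (hW : ∀ w ∈ W, ∀ e ∈ E₁, ⁅w, e⁆ ∈ Z₀) (hx : x ∈ W) (hx' : x ∉ E₂)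
    (hi : W ⊓ E₂ ≤ Oz p E₂) : Iv F₁ E₁ (Oz p E₂) := by
  have := h₁.normal; have := h₂.normal; have := h₁.nI iW
  obtain ⟨s, hs, hs'⟩ := h₂.exists_diff h₁ hne.symm
  have e2 := h₂.inf_sup h₁ hne.symm hs hs'
  have iY : Iv F₂ E₂ (Oz p E₂) := invA_Oz (invA_top _)
  have hY : ∀ w ∈ W, ∀ v ∈ E₂, ⁅v, w⁆ ∈ Oz p E₂ := fun w hw v hv => cm_of_sup e2
    (fun k hk => h₂.Z_le_Y (l0 (cm_swap (hW w hw k hk.2)))) (hi ⟨cm_right hw s, cm_left hs w⟩) hv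
  have n0 : Z₀ ⊓ Ph p E₂ = ⊥ := by
    rcases eq_or_eq_ln p bot_le (inf_le_left : Z₀ ⊓ Ph p E₂ ≤ Z₀) (by rwa [ln_bot]) with k | k
    · exact k
    · exact (h₂.chain2 (iY.sup ivPh) ivPh le_sup_right le_rfl hx'
        (fun v hv => mem_sup_left (hY x hx v hv)) fun v hv => cm_swap (cm_sup
          (fun u hu => cm_swap (k.ge (hc u hu x)).2) (fun u hu => cm_right hu x) hv)).elim
  have l1 : Oz p E₂ ⊓ Ph p E₂ ≤ Oz p ⊤ := fun d hd => h₂.mem_Z hx' hd.1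
    (cm_bot.1 (n0.le ⟨hc d hd.1 x, cm_left hd.2 x⟩))
  have c1 := ln_mono p (sup_le (le_inf Oz_le (hYW.trans iW.1)) (h₂.Ph_inf h₁ E₂) :
    Oz p E₂ ⊔ Ph p E₂ ≤ _)
  have c2 := h₂.ln_inf h₁ hne.symm
  have c3 := ln_rank_Ph h₂.sr E₂
  refine h₁.iv_of_cent iW iZ h₂.Z_le_Y hYW (fun w hw => h₁.cm_all hs'
    (fun e he => l0 (hW w hw e he)) ?_) hD
  by_cases k : w ∈ E₂
  · exact cm_of_commute ((hi ⟨hw, k⟩).2.1 s hs)
  have h3 := h₂.neg (K := Oz p ⊤ ⊔ Ph p E₂) (iY.sup ivPh) ivPh le_sup_right le_rfl (by omega) k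
    (fun v hv => mem_sup_left (hY w hw v hv)) le_sup_right (fun v hv g => cm_swap (cm_sup
      (fun u hu => cm_swap (mem_sup_left (l0 (hc u hu g))))
      (fun u hu => mem_sup_right (cm_right hu g)) hv))
    (fun u hu v hv => mem_sup_right (cm_mem_Ph hu hv)) hs
  obtain ⟨z, hz, d, hd, e⟩ := (mem_sup_of_normal_right).1 h3
  have h4 : d ∈ Oz p E₂ := by
    have := mul_mem (inv_mem (h₂.Z_le_Y hz)) (hY w hw s hs)
    rwa [← e, inv_mul_cancel_left] at this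
  exact cm_swap (e ▸ mul_mem hz (l1 ⟨h4, hd⟩))

/-- The case `Ω₁(Z(E₂)) ≤ E₁`. -/
theorem caseC (hZ : ¬ Iv F₂ E₂ (Oz p ⊤)) (hY : Oz p E₂ ≤ E₁) (iZ : Iv F₁ E₁ (Oz p ⊤))
    (nY : ¬ Iv F₁ E₁ (Oz p E₂)) (hD : ∀ f, F₁.Iso ⊤ ⊤ f → ∀ y ∈ Oz p E₂, f y ∈ Oz p E₂) :
    ∃ A, Iv F₁ E₁ A ∧ Iv F₂ E₂ A ∧ A ≠ ⊥ ∧ E₁ = Cs A (Oz p ⊤) := by
  have := h₁.normal; have := h₂.normal
  have c0 := h₂.Z_pos
  have c1 := h₂.Y_le
  have c2 := h₂.Z_lt hZ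
  have out : 3 ≤ ln p (Oz p E₂) → ∀ w, w ^ p = 1 → w ∈ E₂ → w ∈ Oz p E₂ := fun k w hw hw' =>
    mem_of_rank h₂.sr Ph_Oz k hw fun y hy => hy.2.1 w hw'
  have c3 : ln p (Oz p E₂) ≤ ln p (Oz p (⊤ : Subgroup G)) + 1 := by
    by_contra k
    refine nY ⟨hY, fun α hα y hy => out (by omega) _ (pow_totA (hY hy) hy.2.2) ?_⟩
    by_contra k'
    have := h₂.ln_Y_le k' fun u hu => h₂.mem_Z k' (cm_left hu _) (by
      have e := cm_totA (α := α) (hY hy) (hY hu)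
      have h3 := congrArg (totA α) (hy.2.1 _ (cm_left hy (totA α⁻¹ u)).1).eq
      have h4 := hY (cm_left hy (totA α⁻¹ u))
      rw [(mulOn_totA α).map_mul (hY hy) h4, (mulOn_totA α).map_mul h4 (hY hy), ← e] at h3
      rw [← commutatorElement_inv]
      exact Commute.inv_left h3.symm)
    omega
  obtain ⟨y, hy, hy'⟩ := exists_of_ln p c2
  obtain ⟨e, he, he'⟩ := h₁.exists_diff h₂ hne
  obtain ⟨aZ, a1, hc⟩ := h₂.tv c3 hy hy' he'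
  have l0 := zpowers_le.2 aZ
  have c4 := ln_zp_le aZ.2.2
  set Z₀ := zpowers ⁅y, e⁆
  have := normal_of_le_Z l0
  have i0 : Iv F₁ E₁ Z₀ := by
    by_cases k : ln p (Oz p E₂) ≤ 2
    · have : 1 ≤ ln p Z₀ := ln_pos p (mem_zpowers ⁅y, e⁆) a1
      exact eq_of_ln p l0 (by omega) ▸ iZ
    refine ⟨l0.trans h₁.Z_le, fun α hα z hz => ?_⟩
    by_cases k' : ∀ u ∈ Oz p E₂, totA α u ∈ E₂
    · refine maps_of_gen p (l0.trans h₁.Z_le) c4 (mem_zpowers _) a1 ?_ hz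
      rw [(mulOn_totA α).map_commutatorElement (hY hy) he]
      exact hc _ (out (by omega) _ (pow_totA (hY hy) hy.2.2) (k' y hy)) _
    push Not at k'
    obtain ⟨u, hu, hu'⟩ := k'
    have e1 := cm_totA (α := α) (hY hu) (hY hy)
    refine maps_of_gen p (l0.trans h₁.Z_le) c4 (hc u hu _) (fun k => hy' ?_)
      (e1 ▸ cm_swap (hc y hy _)) hz
    rw [k, (mulOn_totA α).map_one] at e1
    exact h₂.mem_Z hu' hy (commutatorElement_eq_one_iff_commute.1 e1).symm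
  have iW : Iv F₁ E₁ (Ncl F₁ E₁ (Oz p E₂)) := iv_Ncl hY
  have := h₁.nI iW
  have c5 := ln_lt p (lt_of_le_not_ge (le_Ncl (F := F₁) hY) fun k => nY (iv_of_Ncl hY k))
  have cW : ∀ u ∈ Ncl F₁ E₁ (Oz p E₂), ∀ e ∈ E₁, ⁅u, e⁆ ∈ Z₀ := fun u hu e he =>
    Ncl_cm hY (invA_top _) i0 (fun w hw g _ => hc w hw g) hu he
  have pW : ∀ u ∈ Ncl F₁ E₁ (Oz p E₂), u ^ p = 1 := fun u hu => pow_Ncl h₁.odd hY
    (fun w hw => hw.2.2) (fun u hu v hv => h₁.Z_le_Y (l0 (cW u hu v (iW.1 hv)))) hu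
  set W := Ncl F₁ E₁ (Oz p E₂)
  have YW : Oz p E₂ ≤ W := le_Ncl hY
  have c6 := ln_rank h₁.sr (l0.trans (h₂.Z_le_Y.trans YW))
    (Ph_le_iff.2 ⟨fun u hu v hv => cW u hu v (iW.1 hv), fun u hu => pW u hu ▸ one_mem _⟩)
  have al : ∀ x ∈ W, x ∉ E₂ → ln p W ≤ ln p (Oz p E₂) + 1 → False := fun x hx hx' k => by
    have := h₂.ln_sup_out hx hx'
    exact nY (h₁.alpha h₂ hne iZ hD l0 c4 hc iW YW cW hx hx'
      (eq_of_ln p (le_inf YW Oz_le) (by omega)).ge)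
  have ab : ∀ A ≤ W ⊓ E₂, Oz p E₂ ≤ A → ln p A ≤ ln p (Oz p E₂) + 1 → Ph p A ≤ ⊥ :=
    fun A hA l k => Ph_le_iff.2 ⟨fun u hu v hv => cm_bot.2 (comm_of_ln p l k
      (fun z hz w hw => hz.2.1 w (hA hw).2) hu hv), fun u hu => pW u (hA hu).1⟩
  have iW₁ : Iv F₁ E₁ (Oz p W) := invA_Oz iW
  by_cases hW : W ≤ E₂
  · have c7 : ln p (Oz p E₂) ≤ 2 := not_lt.1 fun k =>
      nY (iv_of_Ncl hY fun w hw => out k w (pW w hw) (hW hw))
    have l1 : Oz p E₂ ≤ Oz p W := fun u hu => ⟨YW hu, fun w hw => hu.2.1 w (hW hw), hu.2.2⟩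
    have c8 : ln p W = 3 := by
      by_contra k
      have := ln_cent_le (Z := Oz p W) h₁.sr pW (by omega) Oz_le fun z hz => hz.2.1
      exact nY (eq_of_ln p l1 (by omega) ▸ iW₁)
    have hab := ab W (le_inf le_rfl hW) YW (by omega)
    obtain ⟨t, ht, ht'⟩ := exists_of_ln p c5
    refine ⟨W, iW, h₂.iv_cube hZ (by omega) (by omega) hW YW hab c8,
      fun k => by rw [k, ln_bot] at c8; omega, le_antisymm
      (fun g hg => mem_Cs.2 fun w hw => l0 (cW w hw g hg)) fun g hg => ?_⟩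
    by_contra k
    exact h₂.rank_four hZ (by omega) hW hab c8.ge (fun w hw u _ => h₁.cm_all k
      (fun v hv => l0 (cW w hw v hv)) (mem_Cs.1 hg w hw) u) ht ht'
  exfalso
  obtain ⟨x, hx, hx'⟩ := SetLike.not_le_iff_exists.1 hW
  have c7 := not_le.1 (al x hx hx')
  have c8 := h₂.ln_sup_out hx hx'
  have YA : Oz p E₂ ≤ W ⊓ E₂ := le_inf YW Oz_le
  have hab := ab _ le_rfl YA (by omega)
  have e1 := sup_zp_ln p inf_le_left c8.le hx fun k => hx' k.2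
  have c9 := ln_Cm p (H := W ⊓ E₂) (x := x) (D := ⊥) bot_le fun g hg => cW x hx g (iW.1 hg.1)
  have d0 : W ⊓ E₂ ⊓ Cm x ⊥ ≤ Oz p W := fun u hu => ⟨hu.1.1, fun w hw => commute_sup_zp
    (fun k hk => commute_of_Ph hab hu.1 hk) (cm_bot.1 (mem_Cm.1 hu.2)).symm (e1.ge hw),
    pW u hu.1.1⟩
  have d1 := ln_mono p d0
  have d2 := ln_cent_le (Z := Oz p W) h₁.sr pW (by omega) Oz_le fun z hz => hz.2.1
  have l1 : Oz p W ≤ W ⊓ E₂ := fun u hu => ⟨hu.1, by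
    by_contra k
    exact hy' (h₂.mem_Z k hy (hu.2.1 y (YW hy)).symm)⟩
  have ZW : Oz p ⊤ ≤ Oz p W := fun z hz => ⟨YW (h₂.Z_le_Y hz), fun w _ => Z_comm hz w, hz.2.2⟩
  rw [ln_bot] at c9
  obtain ⟨t, ht, ht'⟩ : ∃ t ∈ Oz p W, t ∉ Oz p E₂ := SetLike.not_le_iff_exists.1 fun k =>
    nY (eq_of_ln p k (by omega) ▸ iW₁)
  exact h₂.rank_four hZ (by omega) inf_le_right hab (by omega) (fun u hu g _ =>
    cm_of_sup (sup_zp_ln p YA (by omega) (l1 ht) ht') (fun k hk => l0 (hc k hk g))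
      (cm_ln p ZW (by omega) ht g) hu) (l1 ht) ht'

end Lc

end Cfsg.Agent.Fus.R3
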