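import Mathlib
import Cfsg.Agent.Fus.R3PairB

/-! Two essential subgroups of index `p`, sectional rank at most three: the action on a common
invariant subgroup `T`. -/

set_option autoImplicit false

namespace Cfsg.Agent.Fus.R3

open Subgroup Cfsg.Agent.GT
open Cfsg.FusionSystem hiding inv_mem
open scoped Matrix MatrixGroups commutatorElement

variable {G : Type*} [Group G] {p : ℕ} {F F₁ F₂ : FusionSystem (⊤ : Subgroup G)}
  {A B C E E₁ E₂ K L M T U W X Y Z : Subgroup G} {a s x y : G} {f : G → G}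

theorem dedekind [B.Normal] (h : B ≤ C) (hx : x ∈ A ⊔ B) (hx' : x ∈ C) : x ∈ C ⊓ A ⊔ B := by
  obtain ⟨a, ha, b, hb, rfl⟩ := mem_sup_of_normal_right.1 hx
  exact mul_mem (mem_sup_left ⟨by simpa using mul_mem hx' (inv_mem (h hb)), ha⟩) (mem_sup_right hb)

theorem le_Cs_Ph [T.Normal] : T ≤ Cs T (Ph p T) := fun _ ht => mem_Cs.2 fun _ hx => cm_mem_Ph hx ht

theorem cm_closure_nz {S : Set G} (hn : closure S ≤ normalizer (K : Set G))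
    (h : ∀ a ∈ S, ⁅x, a⁆ ∈ K) (hy : y ∈ closure S) : ⁅x, y⁆ ∈ K := by
  induction hy using closure_induction with
  | mem a ha => exact h a ha
  | one => simp
  | mul a b ha _ ia ib =>
    rw [show ⁅x, a * b⁆ = ⁅x, a⁆ * (a * ⁅x, b⁆ * a⁻¹) by simp only [commutatorElement_def]; group]
    exact mul_mem ia ((mem_normalizer_iff.1 (hn ha) _).1 ib)
  | inv a ha ia =>
    rw [show ⁅x, a⁻¹⁆ = a⁻¹ * ⁅x, a⁆⁻¹ * a⁻¹⁻¹ by simp only [commutatorElement_def]; group]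
    exact (mem_normalizer_iff.1 (inv_mem (hn ha)) _).1 (inv_mem ia)

variable [Finite G]

/-- The derived subgroup of a group generated by two elements modulo a central subgroup. -/
theorem cm_two_gen {b : G} [K.Normal] (e : T ⊔ zpowers a ⊔ zpowers b = E)
    (h : ∀ t ∈ T, ∀ e ∈ E, ⁅t, e⁆ ∈ K) (hd : ∀ e ∈ E, ⁅⁅a, b⁆, e⁆ ∈ K) (hx : x ∈ E) (hy : y ∈ E) :
    ⁅x, y⁆ ∈ K ⊔ zpowers ⁅a, b⁆ := by
  have e1 : closure (T ∪ {a, b}) = E := by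
    rw [← e, Set.insert_eq, Subgroup.closure_union, Subgroup.closure_union, closure_eq, zpowers_eq_closure,
      zpowers_eq_closure, sup_assoc]
  have hn : closure (T ∪ {a, b}) ≤ normalizer ((K ⊔ zpowers ⁅a, b⁆ : Subgroup G) : Set G) :=
    fun g hg => mem_nz_sup_zp (mem_sup_left (hd g (e1.le hg)))
  refine cm_closure_nz hn (fun v hv => cm_swap (cm_closure_nz hn (fun u hu => ?_) (e1.ge hx)))
    (e1.ge hy)
  rcases hv with hv | rfl | rfl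
  · exact mem_sup_left (h v hv u (e1.le (subset_closure hu)))
  all_goals rcases hu with hu | rfl | rfl
  · exact mem_sup_left (cm_swap (h u hu _ (e.le (mem_sup_left (mem_sup_right (mem_zpowers _))))))
  · simp
  · exact mem_sup_right (mem_zpowers _)
  · exact mem_sup_left (cm_swap (h u hu _ (e.le (mem_sup_right (mem_zpowers _)))))
  · exact cm_swap (mem_sup_right (mem_zpowers _))
  · simp

theorem iv_top (hE : Iv F ⊤ E) (hX : Iv F E X) : Iv F ⊤ X :=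
  invA_autGroup_of_iso le_rfl le_top fun _ hf _ hx => iso_res hf (fun _ => hE.iso_mem hf) hX hx

variable [hp : Fact p.Prime] [hG : Fact (IsPGroup p G)]

/-- A `p`-group acting on a section of rank three has order at most `p ^ 3`. -/
theorem ln_Cs_Ph (sr : SectionalPRankLE p 3 G) (T : Subgroup G) [T.Normal] :
    ln p (⊤ : Subgroup G) ≤ ln p (Cs T (Ph p T)) + 3 := by
  obtain ⟨V₁, n1, l1, l1', c1, c1'⟩ := exists_below p (Ph p T) T Ph_le_self (ln_rank_Ph sr T)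
  obtain ⟨V₂, n2, l2, l2', c2, c2'⟩ := exists_below p V₁ T l1' c1'
  obtain ⟨w, hw, ew⟩ := exists_gen p l2 c2
  obtain ⟨v, hv, ev⟩ := exists_gen p l2' c2'
  have d1 := ln_Cm p (H := ⊤) (x := v) (l1.trans l2 : Ph p T ≤ V₂) fun g _ => cm_ln p l2' c2' hv g
  have d2 := ln_Cm p (H := ⊤ ⊓ Cm v (Ph p T)) (x := w) l1 fun g _ => cm_ln p l2 c2 hw g
  have d3 : ⊤ ⊓ Cm v (Ph p T) ⊓ Cm w (Ph p T) ≤ Cs T (Ph p T) := fun g hg =>
    Cs_of_sup ev (fun k hk => cm_of_sup ew (fun u hu => cm_ln p l1 c1 hu g) (mem_Cm.1 hg.2) hk)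
      (mem_Cm.1 hg.1.2)
  have := ln_mono p d3
  omega

namespace Lc

theorem eq_of_iv (h : Lc F p E) (iT : Iv F E T) (hΦ : Ph p E ≤ T) (c : ln p E = ln p T + 2)
    (iX : Iv F E X) (hT : T ≤ X) (h1 : ln p E ≤ ln p X + 1) : X = E := by
  by_contra k
  have := ln_lt p (lt_of_le_of_ne iX.1 k)
  exact h.chain_two iX iT hT hΦ h1 (by omega) c.ge

variable (h₁ : Lc F₁ p E₁) (h₂ : Lc F₂ p E₂) (hne : E₁ ≠ E₂) (i₁ : Iv F₁ E₁ T) (i₂ : Iv F₂ E₂ T)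
include h₁ h₂ hne i₁ i₂

/-- `Aut(E₁)` does not act on `E₁ / T` through `Aut(G)`. -/
theorem claimA (hE : Iv F₁ ⊤ E₁) (H : ∀ X, T ≤ X → X ≤ E₁ → Iv F₁ ⊤ X → Iv F₁ E₁ X) : False := by
  have := h₁.normal; have := h₂.normal; have := h₁.nI i₁
  have lB : T ⊔ Ph p E₁ ≤ E₁ ⊓ E₂ := sup_le (le_inf i₁.1 i₂.1) (h₁.Ph_inf h₂ E₁)
  have iB : Iv F₁ E₁ (T ⊔ Ph p E₁) := i₁.sup ivPh
  have c0 := h₁.ln_inf h₂ hne
  have c1 := ln_rank_Ph h₁.sr E₁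
  have c2 : ln p (Ph p E₁) + 2 ≤ ln p (T ⊔ Ph p E₁) := by
    by_contra k
    obtain ⟨s, hs⟩ := h₁.exists_out
    have j0 := iv_top hE iB
    have j1 := (hE.commutator (invA_top _)).sup j0
    have j2 := (j1.commutator (invA_top _)).sup j0
    have l1 : ⁅E₁, ⊤⁆ ⊔ (T ⊔ Ph p E₁) ≤ E₁ ⊓ E₂ :=
      sup_le (commutator_le.2 fun x _ y _ => h₁.cm_inf h₂ x y) lB
    set X₁ := ⁅E₁, ⊤⁆ ⊔ (T ⊔ Ph p E₁)
    have l2 : ⁅X₁, ⊤⁆ ⊔ (T ⊔ Ph p E₁) ≤ X₁ := sup_le (commutator_le_left _ _) le_sup_right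
    have d1 := ln_mono p l1
    have d2 : ln p (⁅X₁, ⊤⁆ ⊔ (T ⊔ Ph p E₁)) ≤ ln p (Ph p E₁) + 1 := by
      by_cases k' : T ≤ Ph p E₁
      · obtain ⟨M, n, m1, m2, m3, m4⟩ := exists_below p (Ph p E₁) X₁
          (le_sup_right.trans le_sup_right) (j := 1) (by omega)
        exact (ln_mono p (sup_le (commutator_le.2 fun x hx y _ => cm_ln p m2 m4 hx y)
          (sup_le (k'.trans m1) m1))).trans m3
      · have := ln_lt p (lt_of_le_not_ge le_sup_right fun e : T ⊔ Ph p E₁ ≤ _ =>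
          k' (le_sup_left.trans e))
        exact (ln_mono p (sup_le (commutator_le.2 fun x hx y _ =>
          cm_ln p (L := X₁) le_sup_right (by omega) hx y) le_rfl)).trans (by omega)
    exact h₁.chain (H _ (le_sup_left.trans le_sup_right) (l1.trans inf_le_left) j1)
      (H _ (le_sup_left.trans le_sup_right) (l2.trans (l1.trans inf_le_left)) j2) ivPh l2
      (le_sup_right.trans le_sup_right) le_rfl hs
      (fun x hx => mem_sup_left (commutator_mem_commutator hx trivial))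
      (fun x hx => mem_sup_left (commutator_mem_commutator hx trivial))
      fun x hx => cm_ln p (le_sup_right.trans le_sup_right) d2 hx s
  have eB := eq_of_ln p lB (by omega)
  have c3 := ln_sup_inf' p T (Ph p E₁)
  have c4 := ln_rank_Ph h₁.sr T
  have l3 : Ph p T ≤ T ⊓ Ph p E₁ := le_inf Ph_le_self (Ph_mono i₁.1)
  have k1 : ∀ t ∈ T, ∀ h ∈ E₁, ∀ g, ⁅⁅t, h⁆, g⁆ ∈ Ph p T := fun t ht h hh =>
    cm_ln p l3 (by omega) ⟨cm_left ht h, cm_mem_Ph (i₁.1 ht) hh⟩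
  have l4 : E₁ ⊓ E₂ ≤ Cs T (Ph p T) := eB.ge.trans (sup_le le_Cs_Ph fun g hg => mem_Cs.2 fun t ht =>
    mem_Cm.1 (Ph_le_Cm (fun h hh k _ => k1 t ht h hh k) (fun h hh k _ => k1 t ht h hh _)
      (fun h _ => pow_mem_Ph (cm_left ht h)) hg))
  have l5 : Cs T (Ph p T) ≤ E₁ := fun s hs => by
    by_contra k
    exact h₁.chain2 iB ivPh le_sup_right le_rfl k (fun x _ => eB.ge (h₁.cm_inf h₂ x s))
      fun x hx => cm_swap (cm_sup (fun t ht => cm_swap (l3 (mem_Cs.1 hs t ht)).2)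
        (fun u hu => cm_right hu s) hx)
  have e : E₂ ⊓ Cs T (Ph p T) = E₁ ⊓ E₂ :=
    le_antisymm (fun g hg => ⟨l5 hg.2, hg.1⟩) fun g hg => ⟨hg.2, l4 hg⟩
  exact h₁.not_both h₂ hne (eB ▸ iB) (e ▸ invA_Cs (invA_top _) i₂ (invA_Ph i₂))

/-- If some element outside `E₁` centralizes `T / Φ(T)`, then `T` is central. -/
theorem central_of [T.Normal] (hs : s ∈ Cs T (Ph p T)) (hs' : s ∉ E₁)
    (c : ln p E₁ ≤ ln p (Ph p E₁ ⊔ T) + 2) (n₂ : ¬ Iv F₂ E₂ (E₁ ⊓ E₂)) :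
    ∀ t ∈ T, ∀ g, Commute t g := by
  have := h₁.normal; have := h₂.normal
  obtain ⟨c1, -, h4⟩ := h₁.torus (invA_top _) (ivPh.sup i₁) ivPh i₁ (sup_le Ph_le_self i₁.1)
    le_sup_left le_rfl c hs' (fun x hx => cm_left hx s) (fun x hx => cm_swap (cm_sup
      (fun u hu => cm_right hu s) (fun t ht => cm_swap (Ph_mono i₁.1 (mem_Cs.1 hs t ht))) hx))
    (mem_Cs.1 hs)
  obtain ⟨τ, H⟩ := h4 (-1) (by simp)
  have l1 : E₁ ≤ E₁ ⊓ Cs T ⊥ ⊔ T := le_of_sup_Ph p (sup_le inf_le_left i₁.1) fun e he => by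
    have m1 : e⁻¹ * τ e ∈ E₁ ⊓ Cs T ⊥ := ⟨H.top e he, mem_Cs_bot.2 fun t ht => by
      have e1 := H.fix _ (‹T.Normal›.conj_mem t ht e)
      rw [map_mul, map_mul, map_inv, H.fix t ht] at e1
      have e2 : t * (e⁻¹ * τ e) = e⁻¹ * (e * t * e⁻¹) * τ e := by group
      rw [commute_iff_eq, e2, ← e1]; group⟩
    by_contra k
    exact neg_one_ne h₁.odd (((H.neg rfl e he).mono (sup_le le_sup_right
      (le_sup_right.trans le_sup_left))).uniq (wz_one (mem_sup_left (mem_sup_left m1))) k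
      (mem_sup_right (pow_mem_Ph he)))
  have iX : Iv F₂ E₂ (E₂ ⊓ Cs T ⊥ ⊔ T) := (invA_Cs (invA_top _) i₂ (invA_bot _)).sup i₂
  have l2 : E₁ ⊓ E₂ ≤ E₂ ⊓ Cs T ⊥ ⊔ T := fun x hx =>
    dedekind i₂.1 (sup_le_sup_right inf_le_right T (l1 hx.1)) hx.2
  have c2 := h₂.ln_inf h₁ hne.symm
  rw [inf_comm] at c2
  have l3 := (eq_or_eq_ln p l2 iX.1 c2.le).resolve_left fun k => n₂ (k ▸ iX)
  obtain ⟨d, hd, hd'⟩ := h₂.exists_diff h₁ hne.symm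
  have l4 : ⊤ ≤ Cs T ⊥ ⊔ T := (h₁.top_eq hd').ge.trans (sup_le (l1.trans
    (sup_le_sup_right inf_le_right T)) (zpowers_le.2 (sup_le_sup_right inf_le_right T (l3.ge hd))))
  have l5 : Ph p E₁ ≤ Cs T ⊥ ⊔ Ph p T := (Ph_mono (le_top.trans l4)).trans (Ph_sup_le
    (Ph_le_self.trans le_sup_left) le_sup_right fun a ha b hb =>
      cm_of_commute (mem_Cs_bot.1 ha b hb).symm)
  have l6 : Ph p E₁ ⊓ T ≤ T ⊓ Cs T ⊥ ⊔ Ph p T := fun x hx => dedekind Ph_le_self (l5 hx.1) hx.2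
  have c3 := ln_mono p l6
  have c4 := ln_sup_inf' p (Ph p E₁) T
  have c5 := ln_rank_Ph h₁.sr E₁
  obtain ⟨k, hk, ek⟩ := exists_gen p (sup_le inf_le_left Ph_le_self :
    T ⊓ Cs T ⊥ ⊔ Ph p T ≤ T) (by omega)
  have l7 : T ≤ T ⊓ Cs T ⊥ ⊔ zpowers k := le_of_sup_Ph p (sup_le inf_le_left (zpowers_le.2 hk))
    (ek.ge.trans (sup_le (sup_le (le_sup_left.trans le_sup_left) le_sup_right)
      (le_sup_right.trans le_sup_left)))
  have l8 : T ≤ Cs T ⊥ := fun t ht => mem_Cs.2 fun u hu => cm_sup_sup (K := T ⊓ Cs T ⊥)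
    (fun a ha b hb => mem_Cs.1 hb.2 a ha.1) (fun a ha => cm_swap (mem_Cs.1 ha.2 k hk)) (l7 hu) (l7 ht)
  exact fun t ht g => mem_Cs_bot.1 (sup_le le_rfl l8 (l4 (mem_top g))) t ht

end Lc

namespace Lc

/-- `E / T` does not act on `T / Φ(T)` as the transvections with a common center. -/
theorem not_center (h : Lc F p E) (i : Iv F E T) [T.Normal] (hΦ : Ph p E ≤ T)
    (c : ln p E = ln p T + 2) (hC : Cs T (Ph p T) ≤ T)
    (c1 : ln p (⁅T, E⁆ ⊔ Ph p T) ≤ ln p (Ph p T) + 1) : False := by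
  have := h.normal
  obtain ⟨M, n, m1, m2, m3, m4⟩ := exists_below p T E i.1 (j := 1) c.le
  obtain ⟨a, ha, ea⟩ := exists_gen p m1 m3
  obtain ⟨b, hb, eb⟩ := exists_gen p m2 m4
  have hd : ⁅a, b⁆ ∈ T := cm_ln p m1 m3 ha b
  have iV : Iv F E (⁅T, E⁆ ⊔ Ph p T) := (i.commutator (invA_top _)).sup (invA_Ph i)
  have hV : ∀ t ∈ T, ∀ e ∈ E, ⁅t, e⁆ ∈ ⁅T, E⁆ ⊔ Ph p T := fun t ht e he =>
    mem_sup_left (commutator_mem_commutator ht he)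
  have kV : ∀ v ∈ ⁅T, E⁆ ⊔ Ph p T, ∀ g, ⁅v, g⁆ ∈ Ph p T := fun v hv => cm_ln p le_sup_right c1 hv
  have lV : Ph p T ≤ ⁅T, E⁆ ⊔ Ph p T := le_sup_right
  set V := ⁅T, E⁆ ⊔ Ph p T
  have l1 : ⁅E, E⁆ ≤ V ⊔ zpowers ⁅a, b⁆ := commutator_le.2 fun x hx y hy =>
    cm_two_gen (ea ▸ eb) hV (hV _ hd) hx hy
  have iX := invA_Cs (invA_top _) ((invA_top _).commutator (invA_top _)) (invA_Ph (p := p) i)
  have c2 := ln_Cm p (H := E) lV (hV _ hd)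
  have l2 : E ⊓ Cm ⁅a, b⁆ (Ph p T) ≤ E ⊓ Cs ⁅E, E⁆ (Ph p T) := fun g hg => ⟨hg.1, mem_Cs.2
    fun x hx => mem_Cs.1 (Cs_sup_zp (fun k hk => kV k hk g) (mem_Cm.1 hg.2)) x (l1 hx)⟩
  have c3 := ln_mono p l2
  have e1 := h.eq_of_iv i hΦ c iX (fun t ht => ⟨i.1 ht, mem_Cs.2 fun x hx =>
    cm_mem_Ph (hΦ (mem_sup_left hx)) ht⟩) (by omega)
  have k1 : ∀ x ∈ E, ∀ y ∈ E, ∀ g ∈ E, ⁅⁅x, y⁆, g⁆ ∈ Ph p T := fun x hx y hy g hg =>
    mem_Cs.1 (e1.ge hg).2 _ (commutator_mem_commutator hx hy)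
  have l3 : Ph p E ≤ T ⊓ Cs E (Ph p T) := fun g hg => ⟨hΦ hg, mem_Cs.2 fun x hx =>
    mem_Cm.1 (Ph_le_Cm (k1 x hx) (fun u hu v hv => k1 x hx u hu _ (cm_left hx v))
      (fun u hu => pow_mem_Ph (hΦ (cm_mem_Ph hx hu))) hg)⟩
  have c4 := ln_mono p l3
  have c5 := ln_rank_Ph h.sr E
  obtain ⟨v, hv, ev⟩ := exists_gen p (inf_le_left : T ⊓ Cs E (Ph p T) ≤ T) (by omega)
  have c6 := ln_Cm p (H := E) lV (hV v hv)
  have l4 : E ⊓ Cm v (Ph p T) ≤ T := fun g hg => hC (Cs_of_sup ev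
    (fun k hk => cm_swap (mem_Cs.1 hk.2 g hg.1)) (mem_Cm.1 hg.2))
  have := ln_mono p l4
  omega

variable (h₁ : Lc F₁ p E₁) (h₂ : Lc F₂ p E₂) (hne : E₁ ≠ E₂) (i₁ : Iv F₁ E₁ T) (i₂ : Iv F₂ E₂ T)
  (f₁ : Ph p E₁ ≤ T) (f₂ : Ph p E₂ ≤ T) (c : ln p E₁ = ln p T + 2)
include h₁ h₂ hne i₁ f₁ c

theorem not_iv_inf (l : T ≤ E₂) : ¬ Iv F₁ E₁ (E₁ ⊓ E₂) := fun k => by
  have c0 := h₁.ln_inf h₂ hne
  rw [h₁.eq_of_iv i₁ f₁ c k (le_inf i₁.1 l) c0.le] at c0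
  omega

include i₂ f₂

/-- `G / T` is not the full unitriangular group on `T / Φ(T)`. -/
theorem not_sl3 [T.Normal] (hC : Cs T (Ph p T) ≤ T) : False := by
  have := h₁.normal; have := h₂.normal
  have c' : ln p E₂ = ln p T + 2 := by have := h₁.idx; have := h₂.idx; omega
  have c0 := h₁.ln_inf h₂ hne
  obtain ⟨V₁, n1, l1, l1', c1, c1'⟩ := exists_below p (Ph p T) T Ph_le_self (ln_rank_Ph h₁.sr T)
  obtain ⟨V₂, n2, l2, l2', c2, c2'⟩ := exists_below p V₁ T l1' c1'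
  have hT : ∀ t ∈ T, Ph p ⊤ ≤ Cm t V₁ := fun t ht => Ph_le_Cm
    (fun g _ k _ => cm_ln p l2 c2 (cm_ln p l2' c2' ht g) k)
    (fun g _ k _ => cm_ln p l2 c2 (cm_ln p l2' c2' ht g) _) fun g _ => l1 (pow_mem_Ph (cm_left ht g))
  obtain ⟨s, hs⟩ := h₁.exists_out
  obtain ⟨x, hx, hx'⟩ : ∃ x ∈ E₁, ⁅x, s⁆ ∉ T := by
    by_contra k
    push Not at k
    have := ln_rank_Ph h₁.sr E₁
    exact h₁.chain2 i₁ ivPh f₁ le_rfl hs k fun t ht => cm_ln p f₁ (by omega) ht s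
  have hd : ⁅x, s⁆ ∈ Ph p ⊤ := cm_mem_Ph trivial trivial
  obtain ⟨t, ht, ht'⟩ : ∃ t ∈ T, ⁅t, ⁅x, s⁆⁆ ∉ Ph p T := by
    by_contra k
    push Not at k
    exact hx' (hC (mem_Cs.2 k))
  have e1 := sup_zp_ln p l1 c1 (mem_Cm.1 (hT t ht hd)) ht'
  have key : ∀ {F : FusionSystem (⊤ : Subgroup G)} {E : Subgroup G}, Lc F p E → Iv F E T →
      Ph p E ≤ T → ln p E = ln p T + 2 → E ≤ Cs V₂ (Ph p T) := by
    intro F E h i f c
    have := h.normal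
    have m1 : V₁ ≤ ⁅T, E⁆ ⊔ Ph p T := e1.ge.trans (sup_le le_sup_right
      (zpowers_le.2 (mem_sup_left (commutator_mem_commutator ht (h.cm_mem x s)))))
    have m2 : ⁅T, E⁆ ⊔ Ph p T ≤ V₂ :=
      sup_le (commutator_le.2 fun u hu g _ => cm_ln p l2' c2' hu g) (l1.trans l2)
    rcases eq_or_eq_ln p m1 m2 c2 with k | k
    · exact (h.not_center i f c hC (k ▸ c1)).elim
    have iV : Iv F E V₂ := k ▸ (i.commutator (invA_top _)).sup (invA_Ph i)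
    obtain ⟨w, hw, ew⟩ := exists_gen p l2 c2
    have d1 := ln_Cm p (H := E) (x := w) l1 fun g _ => cm_ln p l2 c2 hw g
    have m3 : E ⊓ Cm w (Ph p T) ≤ E ⊓ Cs V₂ (Ph p T) := fun g hg =>
      ⟨hg.1, Cs_of_sup ew (fun k hk => cm_ln p l1 c1 hk g) (mem_Cm.1 hg.2)⟩
    have := ln_mono p m3
    exact (h.eq_of_iv i f c (invA_Cs (invA_top _) iV (invA_Ph i)) (fun u hu =>
      ⟨i.1 hu, mem_Cs.2 fun v hv => cm_mem_Ph (l2' hv) hu⟩) (by omega)).ge.trans inf_le_right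
  obtain ⟨d, hd₂, hd₁⟩ := h₂.exists_diff h₁ hne.symm
  have k : ∀ g, g ∈ Cs V₂ (Ph p T) := fun g => (sup_le (key h₁ i₁ f₁ c)
    (zpowers_le.2 (key h₂ i₂ f₂ c' hd₂)) : _ ≤ Cs V₂ (Ph p T)) ((h₁.top_eq hd₁).ge (mem_top g))
  exact ht' (mem_Cm.1 (Ph_le_Cm (fun g _ u _ => mem_Cs.1 (k u) _ (cm_ln p l2' c2' ht g))
    (fun g _ u _ => mem_Cs.1 (k _) _ (cm_ln p l2' c2' ht g))
    (fun g _ => pow_mem_Ph (cm_left ht g)) hd))

/-- If `E₁ / T` and `E₂ / T` are elementary abelian of order `p ^ 2`, then `T` is central. -/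
theorem central : ∀ t ∈ T, ∀ g, Commute t g := by
  have := h₁.normal; have := h₂.normal; have := h₁.nI i₁
  have c' : ln p E₂ = ln p T + 2 := by have := h₁.idx; have := h₂.idx; omega
  have n₁ := h₁.not_iv_inf h₂ hne i₁ f₁ c i₂.1
  have n₂ := h₂.not_iv_inf h₁ hne.symm i₂ f₂ c' i₁.1
  by_cases k₁ : Cs T (Ph p T) ≤ E₁
  swap
  · obtain ⟨s, hs, hs'⟩ := SetLike.not_le_iff_exists.1 k₁
    exact h₁.central_of h₂ hne i₁ i₂ hs hs' (by rw [sup_of_le_right f₁]; omega) (inf_comm E₂ E₁ ▸ n₂)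
  by_cases k₂ : Cs T (Ph p T) ≤ E₂
  swap
  · obtain ⟨s, hs, hs'⟩ := SetLike.not_le_iff_exists.1 k₂
    exact h₂.central_of h₁ hne.symm i₂ i₁ hs hs' (by rw [sup_of_le_right f₂]; omega)
      (inf_comm E₁ E₂ ▸ n₁)
  have c0 := h₁.ln_inf h₂ hne
  rcases eq_or_eq_ln p le_Cs_Ph (le_inf k₁ k₂) (by omega) with k | k
  · exact (h₁.not_sl3 h₂ hne i₁ i₂ f₁ f₂ c k.le).elim
  · have := invA_Cs (invA_top _) i₁ (invA_Ph (p := p) i₁)
    rw [inf_of_le_right k₁, k] at this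
    exact (n₁ this).elim

end Lc

end Cfsg.Agent.Fus.R3
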