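import Mathlib
import Cfsg.Agent.Fus.R3Tee
import Cfsg.Agent.Fus.Model

/-! Passing to the quotient by a common invariant subgroup. -/

set_option autoImplicit false

namespace Cfsg.Agent.Fus.R3

open Subgroup Cfsg.Agent.GT
open Cfsg.FusionSystem hiding inv_mem
open scoped Matrix MatrixGroups commutatorElement

variable {G : Type*} [Group G] {p : ℕ} {F F₁ F₂ : FusionSystem (⊤ : Subgroup G)}
  {E E₁ E₂ R T X Y : Subgroup G} {a s x y : G} {f : G → G}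

/-- The quotient map. -/
abbrev qm (T : Subgroup G) [T.Normal] : G →* G ⧸ T := QuotientGroup.mk' T

instance fact_quot [hG : Fact (IsPGroup p G)] [T.Normal] : Fact (IsPGroup p (G ⧸ T)) :=
  ⟨hG.out.to_quotient T⟩

instance fact_sub [hG : Fact (IsPGroup p G)] : Fact (IsPGroup p T) := ⟨hG.out.to_subgroup T⟩

section Quot
variable [T.Normal] {F' : FusionSystem (⊤ : Subgroup (G ⧸ T))} {X' : Subgroup (G ⧸ T)}

theorem mulOn_qm : MulOn ⊤ (qm T) := fun x _ y _ => map_mul _ x y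

theorem pre_qm (X' : Subgroup (G ⧸ T)) : pre (qm T) ⊤ X' = X'.comap (qm T) := by
  ext x; rw [mulOn_qm.mem_pre]; simp

theorem comap_map_qm (h : T ≤ X) : (X.map (qm T)).comap (qm T) = X :=
  comap_map_eq_self (by rwa [QuotientGroup.ker_mk'])

theorem map_comap_qm (X' : Subgroup (G ⧸ T)) : (X'.comap (qm T)).map (qm T) = X' :=
  map_comap_eq_self_of_surjective (QuotientGroup.mk'_surjective T) X'

theorem comap_bot_qm : (⊥ : Subgroup (G ⧸ T)).comap (qm T) = T := QuotientGroup.ker_mk' T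

theorem le_comap_qm (X' : Subgroup (G ⧸ T)) : T ≤ X'.comap (qm T) :=
  comap_bot_qm.ge.trans (comap_mono bot_le)

theorem mem_map_qm (h : T ≤ X) : qm T x ∈ X.map (qm T) ↔ x ∈ X := by
  rw [← mem_comap, comap_map_qm h]

theorem map_top_qm : (⊤ : Subgroup G).map (qm T) = ⊤ :=
  map_top_of_surjective _ (QuotientGroup.mk'_surjective T)

theorem qm_eq_one : qm T x = 1 ↔ x ∈ T := QuotientGroup.eq_one_iff x

theorem iv_comap (hq : F.IsQuot (qm T) F') (hR : T ≤ R) (h : Iv F' (R.map (qm T)) X') :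
    Iv F R (X'.comap (qm T)) :=
  have l : X'.comap (qm T) ≤ R := (comap_mono h.1).trans (comap_map_qm hR).le
  invA_autGroup_of_iso le_top l fun f hf x hx => by
    obtain ⟨f', hf', e⟩ := hq.push_iso hf
    rw [img_eq_map] at hf'
    rw [mem_comap, ← e x (l hx)]
    exact h.iso_mem hf' hx

variable [Finite G]

theorem iv_map (hq : F.IsQuot (qm T) F') (hR : T ≤ R) (h : Iv F R X) :
    Iv F' (R.map (qm T)) (X.map (qm T)) :=
  invA_autGroup_of_iso le_top (map_mono h.1) fun f' hf' => by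
    rintro _ ⟨x, hx, rfl⟩
    obtain ⟨f, hf, e⟩ := hq.lift_iso hf'
    rw [pre_qm, comap_map_qm hR] at hf e
    rw [e x (h.1 hx)]
    exact mem_map_of_mem _ (h.iso_mem hf hx)

theorem iv_map_top (hq : F.IsQuot (qm T) F') (h : Iv F ⊤ X) : Iv F' ⊤ (X.map (qm T)) :=
  map_top_qm (T := T) ▸ iv_map hq le_top h

variable [hp : Fact p.Prime] [hG : Fact (IsPGroup p G)]

variable (p) in
theorem ln_comap (X' : Subgroup (G ⧸ T)) : ln p (X'.comap (qm T)) = ln p X' + ln p T := by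
  have := mulOn_qm.card_pre (P' := X') (by rw [img_eq_map, map_top_qm]; exact le_top)
  rw [pre_qm, pre_qm, comap_bot_qm, card_ln (p := p) X', card_ln (p := p) T, ← pow_add] at this
  exact ln_of_card this

variable (p) in
theorem ln_map (h : T ≤ X) : ln p X = ln p (X.map (qm T)) + ln p T := by
  rw [← ln_comap, comap_map_qm h]

theorem Lc.exists_quot (h : Lc F p E) (hn : F.IsNormal E) (i : Iv F E T)
    (H : ¬ ∀ X, T ≤ X → X ≤ E → Iv F ⊤ X → Iv F E X) :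
    ∃ F', F.IsQuot (qm T) F' ∧ Lc F' p (E.map (qm T)) := by
  obtain ⟨F', hq⟩ := h.sat.exists_isQuot (pg p ⊤) (S' := ⊤) (mulOn_qm (T := T))
    (by rw [img_eq_map, map_top_qm]) (by
      rw [pre_qm, comap_bot_qm]
      exact (hn.of_invariant i.1 fun g hg x hx => i.iso_mem hg hx).stronglyClosed)
  have hs := hq.isSaturated h.sat (pg p ⊤)
  have c1 := ln_map p i.1
  have c2 := ln_map p (le_top : T ≤ ⊤)
  have c3 := h.idx
  rw [map_top_qm] at c2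
  refine ⟨F', hq, hs, ?_, by omega, h.odd, FG.SR.quotient h.sr T⟩
  obtain ⟨R, hR⟩ : ∃ R, F'.IsEssential p R := by
    by_contra k
    push Not at k
    have h1 := (hs.isNormal_top_iff (pg p ⊤)).2 k
    refine H fun X hX hXE iX => invA_autGroup_of_iso le_top hXE fun f hf x hx => ?_
    obtain ⟨f', hf', e⟩ := hq.push_iso hf
    obtain ⟨g, hg, eg⟩ := h1.extend_of_le hf'.mor le_top
    rw [← mem_map_qm hX, ← e x (hXE hx), ← eg _ (mem_img_of_mem (hXE hx))]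
    exact (iv_map_top hq iX).iso_mem hg (mem_map_of_mem _ hx)
  have l1 := (hq.isNormal_img hn).le_of_essential (pg p ⊤) hR
  rw [img_eq_map] at l1
  have := ln_lt p (hs.lt_of_isEssential (pg p ⊤) hR)
  rwa [eq_of_ln p l1 (by omega)]

end Quot

theorem iv_top_of_normal (hn : F.IsNormal E) : Iv F ⊤ E :=
  invA_autGroup_of_iso le_rfl le_top fun _ hf _ hx => hn.stronglyClosed.mem hf.mor trivial hx

variable [Finite G]

/-- The largest subgroup satisfying a join-closed property. -/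
theorem exists_largest (M : Subgroup G → Prop) (h0 : M ⊥) (h : ∀ A B, M A → M B → M (A ⊔ B)) :
    ∃ T, M T ∧ ∀ X, M X → X ≤ T :=
  ⟨sSup {X | M X}, sSup_mem_of_sup_closed (S := ⊤) (fun _ _ => le_top) h0
    fun A hA B hB => h A B hA hB, fun _ hX => le_sSup hX⟩

variable [hp : Fact p.Prime] [hG : Fact (IsPGroup p G)]

/-- The normalizer system of a normal essential subgroup. -/
theorem Lc.exists_norm (h : Lc F p E) : ∃ N : FusionSystem (⊤ : Subgroup G), Lc N p E ∧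
    N.IsNormal E ∧ N.autGroup E = F.autGroup E ∧ N.IsSubsystemOf F := by
  have := h.normal
  obtain ⟨N, hN⟩ := F.exists_isKNormalizer (Q := E) (T := ⊤) le_top ⊤
    (by rw [preAut_top, normalizerIn_eq_of_le fun _ _ => mem_nz])
  have e : N.autGroup E = F.autGroup E := by rw [hN.autGroup_eq le_top, inf_top_eq]
  refine ⟨N, ⟨hN.isSaturated h.sat (pg p ⊤) (h.sat.kFull_top (pg p ⊤) h.ess.isFullyNormalized),
    isEssential_iff.2 ⟨h.ess.isCentric.of_isSubsystemOf hN.isSubsystemOf le_top,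
      N.isFullyNormalized_of_le_normalizer le_top fun _ _ => mem_nz, ?_⟩, h.idx, h.odd, h.sr⟩,
    hN.isNormal le_top, e, hN.isSubsystemOf⟩
  rw [e]
  exact (isEssential_iff.1 h.ess).2.2

/-- The configuration of a core-free pair. -/
theorem Lc.caseAB (h₁ : Lc F₁ p E₁) (h₂ : Lc F₂ p E₂) (hne : E₁ ≠ E₂)
    (d₁ : ∀ X, Iv F₂ E₂ X → Iv F₁ ⊤ X) (d₂ : ∀ X, Iv F₁ E₁ X → Iv F₂ ⊤ X)
    (h0 : ∀ X, Iv F₁ E₁ X → Iv F₂ E₂ X → X = ⊥) :
    (∃ a, CaseA p E₁ E₂ a) ∨ (∃ a, CaseA p E₂ E₁ a) ∨ (∃ x y, CaseB p ⊥ E₁ E₂ x y) ∨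
      ∃ x y, CaseB p ⊥ E₂ E₁ x y := by
  have c0 := h₁.Z_pos
  have out : ∀ {F₁ F₂ : FusionSystem (⊤ : Subgroup G)} {E₁ E₂ : Subgroup G}, Lc F₁ p E₁ →
      Lc F₂ p E₂ → E₁ ≠ E₂ → ¬ Iv F₂ E₂ (Oz p ⊤) → ¬ Oz p E₂ ≤ E₁ →
      (∃ a, CaseA p E₁ E₂ a) ∨ ∃ x y, CaseB p ⊥ E₁ E₂ x y := by
    intro F₁ F₂ E₁ E₂ h₁ h₂ hne hZ k
    obtain ⟨y, hy, hy'⟩ := SetLike.not_le_iff_exists.1 k
    by_cases c : ln p (Oz p E₂) ≤ ln p (Oz p (⊤ : Subgroup G)) + 1
    · exact .inl (h₁.caseA h₂ hne c hy hy')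
    · obtain ⟨x, hx⟩ := h₁.caseB h₂ hne hZ (not_le.1 c) hy hy'
      exact .inr ⟨x, y, hx⟩
  have ins : ∀ {F₁ F₂ : FusionSystem (⊤ : Subgroup G)} {E₁ E₂ : Subgroup G}, Lc F₁ p E₁ →
      Lc F₂ p E₂ → E₁ ≠ E₂ → (∀ X, Iv F₂ E₂ X → Iv F₁ ⊤ X) →
      (∀ X, Iv F₁ E₁ X → Iv F₂ E₂ X → X = ⊥) → ¬ Iv F₂ E₂ (Oz p ⊤) → Iv F₁ E₁ (Oz p ⊤) →
      ¬ Oz p E₂ ≤ E₁ := by
    intro F₁ F₂ E₁ E₂ h₁ h₂ hne d₁ h0 hZ iZ k
    have iY : Iv F₂ E₂ (Oz p E₂) := invA_Oz (invA_top _)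
    obtain ⟨A, a1, a2, a3, -⟩ := h₁.caseC h₂ hne hZ k iZ (fun i => by
      have := h₂.Z_lt hZ
      rw [h0 _ i iY, ln_bot] at this
      omega) fun f hf y hy => (d₁ _ iY).iso_mem hf hy
    exact a3 (h0 A a1 a2)
  by_cases z₁ : Iv F₁ E₁ (Oz p ⊤) <;> by_cases z₂ : Iv F₂ E₂ (Oz p ⊤)
  · rw [h0 _ z₁ z₂, ln_bot] at c0
    omega
  · rcases out h₁ h₂ hne z₂ (ins h₁ h₂ hne d₁ h0 z₂ z₁) with k | k <;> simp [k]
  · rcases out h₂ h₁ hne.symm z₁ (ins h₂ h₁ hne.symm d₂ (fun X a b => h0 X b a) z₁ z₂) with k | k <;>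
      simp [k]
  · by_cases l₂ : Oz p E₂ ≤ E₁
    · rcases out h₂ h₁ hne.symm z₁ fun l₁ => h₁.not_both_Y h₂ hne z₁ z₂ l₁ l₂ with k | k <;> simp [k]
    · rcases out h₁ h₂ hne z₂ l₂ with k | k <;> simp [k]

end Cfsg.Agent.Fus.R3
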