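import Mathlib
import Cfsg.Agent.Fus.R3Quot

/-! Two essential subgroups invariant under `Aut_F(S)`, sectional rank three. -/

set_option autoImplicit false

namespace Cfsg.Agent.Fus.R3

open Subgroup Cfsg.Agent.GT
open Cfsg.FusionSystem hiding inv_mem
open scoped Matrix MatrixGroups commutatorElement

variable {G : Type*} [Group G] {p : ℕ} {F F₁ F₂ : FusionSystem (⊤ : Subgroup G)}
  {E E₁ E₂ R T X Y : Subgroup G} {a b c s x y : G} {f : G → G}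

theorem normal_of_iv_top (h : Iv F ⊤ E) : E.Normal :=
  ⟨fun _ hx _ => h.conj_mem le_rfl ⟨trivial, mem_nz⟩ hx⟩

theorem cm_mul_left' (h : ∀ g, Commute ⁅b, c⁆ g) (a : G) : ⁅a * b, c⁆ = ⁅a, c⁆ * ⁅b, c⁆ := by
  rw [show ⁅a * b, c⁆ = a * ⁅b, c⁆ * a⁻¹ * ⁅a, c⁆ by simp only [commutatorElement_def]; group,
    ← (h a).eq, mul_inv_cancel_right, (h _).eq]

theorem cm_mul_right' (h : ∀ g, Commute ⁅a, c⁆ g) (b : G) : ⁅a, b * c⁆ = ⁅a, b⁆ * ⁅a, c⁆ := by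
  rw [show ⁅a, b * c⁆ = ⁅a, b⁆ * (b * ⁅a, c⁆ * b⁻¹) by simp only [commutatorElement_def]; group,
    ← (h b).eq, mul_inv_cancel_right]

theorem cm_pow_eq_one (h : Commute ⁅a, b⁆ a) (h' : Commute (a ^ p) b) : ⁅a, b⁆ ^ p = 1 := by
  have e := cm_zpow_left h p
  rw [zpow_natCast, zpow_natCast, commutatorElement_eq_one_iff_commute.2 h'] at e
  exact e.symm

theorem CaseB.pull [T.Normal] [Finite G] [Fact p.Prime] [Fact (IsPGroup p G)] (l₁ : T ≤ E₁)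
    (l₂ : T ≤ E₂) {x y : G ⧸ T} (h : CaseB p ⊥ (E₁.map (qm T)) (E₂.map (qm T)) x y) :
    ∃ x y, CaseB p T E₁ E₂ x y := by
  obtain ⟨x, rfl⟩ := QuotientGroup.mk'_surjective T x
  obtain ⟨y, rfl⟩ := QuotientGroup.mk'_surjective T y
  have c1 := h.c₂
  have c2 := ln_map p l₂
  rw [ln_bot] at c1
  exact ⟨x, y, by omega, fun g hg => qm_eq_one.1 (h.ab (map_Ph (qm T) ▸ mem_map_of_mem _ hg)),
    (mem_map_qm l₁).1 h.x₁, fun k => h.x₂ (mem_map_of_mem _ k),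
    qm_eq_one.1 (by rw [map_pow]; exact h.xp), (mem_map_qm l₂).1 h.y₂,
    fun k => h.y₁ (mem_map_of_mem _ k), fun k => h.ne (by
      rw [← map_commutatorElement, ← map_commutatorElement]; exact qm_eq_one.2 k)⟩

variable [Finite G] [hp : Fact p.Prime] [hG : Fact (IsPGroup p G)]

theorem sr_two (h3 : ln p (⊤ : Subgroup G) ≤ 3) (h : ¬ Commute x y) : SectionalPRankLE p 2 G := by
  refine FG.SR.of_relIndex_le fun N H l h1 h2 => Nat.le_of_dvd (pow_pos hp.out.pos 2)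
    (dvd_of_ln l (not_lt.1 fun k => h ?_))
  have c1 := ln_mono p (le_top : H ≤ ⊤)
  rw [eq_of_ln p (le_top : H ≤ ⊤) (by omega), eq_bot_of_ln p (by omega : ln p N ≤ 0)] at h1
  exact cm_bot.1 (h1 (commutator_mem_commutator trivial trivial))

namespace Lc

/-- An elementary abelian essential subgroup with a transvection splits. -/
theorem split (h : Lc F p E) (hab : Ph p E ≤ ⊥) (hs : s ∉ E) (ha : a ∈ E)
    (hc : ∀ x ∈ E, ⁅x, s⁆ ∈ zpowers a) : ∃ X Y, Iv F E X ∧ Iv F E Y ∧ a ∈ X ∧ X ⊓ Y = ⊥ ∧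
      ln p E = ln p Y + 2 ∧ (∀ x ∈ E, Commute x s ↔ x ∈ Y ⊔ zpowers a) ∧
      ∀ l : ZMod p, l ≠ 0 → ∃ τ : G →* G, Tor F E X ⊥ ⊥ Y s l τ := by
  obtain ⟨X, Y, c, H⟩ := h.ess.exists_transv h.sat (pg p ⊤) (invA_bot _) (le_sup_left.trans hab)
    bot_le (h.nz s) hs ha (hab (pow_mem_Ph ha)) fun x hx => by
      rw [comm_mem_iff_conj]; exact mem_sup_right (hc _ (inv_mem hx))
  have := h.nI H.invY
  have c1 := ln_of_relIndex bot_le H.sec.toCoord.relIndex_eq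
  have c2 := ln_sup_inf' p X Y
  have e := le_bot_iff.1 H.inf
  have k : ∀ x ∈ E, Commute x s ↔ x ∈ Y ⊔ zpowers a := fun x hx => conj_eq_iff.symm.trans (H.fix x hx)
  rw [H.sup, e, ln_bot] at c2
  rw [ln_bot] at c1
  exact ⟨X, Y, H.invX, H.invY, H.aX, e, by omega, k, (h.torus H.invX (invA_bot _) (invA_bot _) H.invY
    bot_le le_rfl bot_le (by rw [ln_bot]; omega) hs (fun x hx => zpowers_le.2 H.aX (hc x hx))
    (fun x hx => cm_left hx s) fun t ht =>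
      cm_of_commute ((k t (H.invY.1 ht)).2 (mem_sup_left ht))).2.2⟩

variable (h₁ : Lc F₁ p E₁) (h₂ : Lc F₂ p E₂) (hne : E₁ ≠ E₂)
include h₁ h₂ hne

theorem caseA_cube (d₁ : ∀ X, Iv F₂ E₂ X → Iv F₁ ⊤ X)
    (h0 : ∀ X, Iv F₁ E₁ X → Iv F₂ E₂ X → X = ⊥) (H : CaseA p E₁ E₂ a) :
    Ph p E₁ ≤ ⊥ ∧ Ph p E₂ ≤ ⊥ ∧ ln p E₁ = 2 := by
  have f₁ := (h0 _ ivPh (by rw [H.ph₁, ← H.ph₂]; exact ivPh)).le
  have f₂ : Ph p E₂ ≤ ⊥ := by rwa [H.ph₂, ← H.ph₁]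
  refine ⟨f₁, f₂, ?_⟩
  obtain ⟨e, he, he'⟩ := h₁.exists_diff h₂ hne
  obtain ⟨d, hd, hd'⟩ := h₂.exists_diff h₁ hne.symm
  obtain ⟨X₁, Y₁, -, iY₁, aX₁, -, c₁, k₁, t₁⟩ := h₁.split f₁ hd' (h₁.Z_le H.aZ) fun x _ => H.der x d
  obtain ⟨X₂, Y₂, -, iY₂, aX₂, e₂, c₂, k₂, -⟩ := h₂.split f₂ he' (h₂.Z_le H.aZ) fun x _ => H.der x e
  obtain ⟨τ, Hτ⟩ := t₁ (-1) (by simp)
  have := normal_of_le_Z (zpowers_le.2 H.aZ)
  have l : Y₂ ≤ Y₁ := fun y hy => by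
    have z : y ∈ Oz p ⊤ := h₂.mem_Z he' ⟨iY₂.1 hy, fun u hu => commute_of_Ph f₂ (iY₂.1 hy) hu,
      pow_of_Ph f₂ (iY₂.1 hy)⟩ ((k₂ y (iY₂.1 hy)).2 (mem_sup_left hy))
    obtain ⟨u, hu, b, hb, rfl⟩ := mem_sup_of_normal_right.1 ((k₁ y (h₁.Z_le z)).1 (Z_comm z d))
    have m1 : b⁻¹ * τ b ∈ Y₂ := by
      have := mul_mem (inv_mem hy) ((d₁ _ iY₂).iso_mem Hτ.iso hy)
      rwa [map_mul, Hτ.fix u hu, mul_inv_rev, mul_assoc, inv_mul_cancel_left] at this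
    have bX := zpowers_le.2 aX₁ hb
    obtain ⟨m, -, hm⟩ := Hτ.neg rfl b bX
    have m2 : b⁻¹ * τ b ∈ X₂ := by
      rw [← inv_mul_eq_one.1 (mem_bot.1 hm)]
      exact zpowers_le.2 aX₂ (mul_mem (inv_mem hb) (zpow_mem hb m))
    have m3 : b ∈ (⊥ : Subgroup G) := by
      by_contra k
      exact neg_one_ne h₁.odd ((Hτ.neg rfl b bX).uniq (wz_one (e₂.le ⟨m2, m1⟩)) k
        (f₁ (pow_mem_Ph (h₁.Z_le (zpowers_le.2 H.aZ hb)))))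
    rwa [mem_bot.1 m3, mul_one]
  have c3 := h₁.idx
  have c4 := h₂.idx
  rw [h0 Y₁ iY₁ (eq_of_ln p l (by omega) ▸ iY₂), ln_bot] at c₁
  exact c₁

variable (i₁ : Iv F₁ E₁ T) (i₂ : Iv F₂ E₂ T)
include i₁ i₂

theorem cent_inf (f₁ : Ph p E₁ ≤ T) (c : ln p E₁ = ln p T + 2) (hT : ∀ t ∈ T, ∀ g, Commute t g)
    (d : Iv F₁ ⊤ E₂) (ha : a ∈ E₁ ⊓ E₂) (hs : s ∈ E₂) (hs' : s ∉ E₁) : Commute a s := by
  have := h₁.normal; have := h₂.normal; have := h₁.nI i₁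
  have c0 := h₁.ln_inf h₂ hne
  have lT : T ≤ E₁ ⊓ E₂ := le_inf i₁.1 i₂.1
  obtain ⟨τ, H⟩ := (h₁.torus (invA_top _) i₁ ivPh i₁ i₁.1 f₁ le_rfl c.le hs'
    (fun x hx => cm_left hx s) (fun t ht => cm_of_commute (hT t ht s))
    fun t ht => cm_of_commute (hT t ht s)).2.2 (-1) (by simp)
  have w1 : Wz τ E₁ s (1 : ZMod p) := by simpa using H.out
  have w2 : Wz τ (E₁ ⊓ E₂) s (1 : ZMod p) := w1.inf hs (d.iso_mem H.iso hs)
  have m : ⁅a, s⁆ ∈ T := cm_ln p lT (by omega) ha s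
  have w3 := (H.neg rfl a ha.1).comm (C := ⊥) w2 (fun u hu => cm_bot.2 (hT u hu s))
    (fun u hu v _ => cm_bot.2 (hT u hu v)) (fun v hv => cm_bot.2 (comm_of_ln p lT (by omega)
      (fun z hz x _ => hT z hz x) ha hv)) (cm_bot.2 (hT _ m a)) (cm_bot.2 (hT _ m s))
  by_contra k
  have w4 := w3.uniq (wz_one (by rw [H.fix _ m, inv_mul_cancel]; exact one_mem _))
    (fun e => k (cm_bot.1 e)) (cm_pow_eq_one (hT _ m a) (hT _ (f₁ (pow_mem_Ph ha.1)) s))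
  exact neg_one_ne h₁.odd (by simpa using w4)

/-- The linear configuration: `G` has a derived subgroup of order `p`. -/
theorem der_cyclic (f₁ : Ph p E₁ ≤ T) (f₂ : Ph p E₂ ≤ T) (c : ln p E₁ = ln p T + 2)
    (d₁ : Iv F₁ ⊤ E₂) (d₂ : Iv F₂ ⊤ E₁) : E₁ ⊓ E₂ ≤ center G ∧
      ∃ a ∈ center G, a ^ p = 1 ∧ ⁅(⊤ : Subgroup G), (⊤ : Subgroup G)⁆ = zpowers a := by
  have hT := h₁.central h₂ hne i₁ i₂ f₁ f₂ c
  have c' : ln p E₂ = ln p T + 2 := by have := h₁.idx; have := h₂.idx; omega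
  have c0 := h₁.ln_inf h₂ hne
  obtain ⟨e, he, he'⟩ := h₁.exists_diff h₂ hne
  obtain ⟨d, hd, hd'⟩ := h₂.exists_diff h₁ hne.symm
  have e1 := h₁.inf_sup h₂ hne he he'
  have k : ∀ a ∈ E₁ ⊓ E₂, ∀ g, Commute a g := fun a ha => h₁.commute_all hd'
    (fun u hu => commute_sup_zp (fun v hv => comm_of_ln p (le_inf i₁.1 i₂.1) (by omega)
      (fun z hz x _ => hT z hz x) ha hv)
      (h₂.cent_inf h₁ hne.symm i₂ i₁ f₂ c' hT d₂ ⟨ha.2, ha.1⟩ he he') (e1.ge hu))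
    (h₁.cent_inf h₂ hne i₁ i₂ f₁ c hT d₁ ha hd hd')
  have l : E₁ ⊓ E₂ ≤ center G := fun a ha => mem_center_iff.2 fun g => (k a ha g).symm.eq
  have m := h₁.cm_inf h₂ e d
  refine ⟨l, ⁅e, d⁆, l m, cm_pow_eq_one (k _ m e) (hT _ (f₁ (pow_mem_Ph he)) d), le_antisymm
    (commutator_le.2 fun x hx y hy => ?_) (zpowers_le.2 (commutator_mem_commutator trivial trivial))⟩
  have e2 : E₁ ⊓ E₂ ⊔ zpowers e ⊔ zpowers d = ⊤ := by rw [e1, h₁.top_eq hd']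
  have e3 := cm_two_gen (K := ⊥) e2 (fun t ht g _ => cm_bot.2 (k t ht g))
    (fun g _ => cm_bot.2 (k _ m g)) hx hy
  rwa [bot_sup_eq] at e3

/-- The symplectic configuration: `T` is trivial. -/
theorem caseB_bot (hmax : ∀ X, Iv F₁ E₁ X → Iv F₂ E₂ X → X ≤ T) (H : CaseB p T E₁ E₂ x y) :
    T = ⊥ := by
  have := h₁.normal; have := h₂.normal; have := h₁.nI i₁
  have c0 := h₂.ln_inf h₁ hne.symm
  rw [inf_comm] at c0
  have c1 := H.c₂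
  have c2 := ln_rank_Ph h₂.sr E₂
  have c3 := h₁.idx
  have c4 := h₂.idx
  have eT : Ph p E₂ = T := eq_of_ln p H.ab (by omega)
  have lT : T ≤ E₁ ⊓ E₂ := le_inf i₁.1 i₂.1
  obtain ⟨M, n, m1, m2, m3, m4⟩ := exists_below p T (E₁ ⊓ E₂) lT (j := 1) (by omega)
  have ha := h₁.cm_inf h₂ y x
  set a := ⁅y, x⁆ with ea
  have hz : ⁅a, x⁆ ∈ M := cm_ln p m2 m4 ha x
  have aM : a ∉ M := fun k => H.ne (cm_ln p m1 m3 k x)
  have eM := sup_zp_ln p m1 m3 hz H.ne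
  have eA := sup_zp_ln p m2 m4 ha aM
  have e1 := h₁.inf_sup h₂ hne H.x₁ H.x₂
  have e2 := h₂.inf_sup h₁ hne.symm H.y₂ H.y₁
  rw [inf_comm] at e2
  have eM' : Ph p E₁ ⊔ T = M := le_antisymm (sup_le ((Ph_mono e1.ge).trans (Ph_sup_zp_le
    (((Ph_mono inf_le_right).trans H.ab).trans m1) (m1 H.xp) fun u hu => cm_ln p m2 m4 hu x)) m1)
    (eM.ge.trans (sup_le le_sup_right (zpowers_le.2 (mem_sup_left (cm_mem_Ph ha.1 H.x₁)))))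
  have nA : ¬ Iv F₂ E₂ (E₁ ⊓ E₂) := fun k => aM (h₂.neg k i₂ lT eT.ge (by omega) H.x₂
    (fun u _ => h₁.cm_inf h₂ u x) m1 (fun u hu => cm_ln p m2 m4 hu)
    (fun u hu v hv => m1 (H.ab (cm_mem_Ph hu hv))) H.y₂)
  have j₁ := invA_Cs (invA_top _) i₁ (invA_Ph (p := p) i₁)
  have j₂ := invA_Cs (invA_top _) i₂ (invA_Ph (p := p) i₂)
  obtain ⟨s, hs, hs'⟩ : ∃ s ∈ Cs T (Ph p T), s ∉ E₁ := SetLike.not_le_iff_exists.1 fun k₁ => by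
    by_cases k₂ : Cs T (Ph p T) ≤ E₂
    · rw [inf_of_le_right k₁] at j₁
      rw [inf_of_le_right k₂] at j₂
      have := ln_mono p (hmax _ j₁ j₂)
      have := ln_Cs_Ph h₁.sr T
      omega
    obtain ⟨s, hs, hs'⟩ := SetLike.not_le_iff_exists.1 k₂
    have l1 : E₂ ⊓ Cs T (Ph p T) ≤ E₁ ⊓ E₂ := fun g hg => ⟨k₁ hg.2, hg.1⟩
    have := ln_lt p (lt_of_le_of_ne l1 fun e => nA (e ▸ j₂))
    exact h₂.chain2 j₂ i₂ (le_inf i₂.1 le_Cs_Ph) eT.ge hs' (fun u hu => ⟨cm_left hu s, cm_right hs u⟩)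
      fun u hu => cm_ln p (le_inf i₂.1 le_Cs_Ph) (by omega) hu s
  have hT := h₁.central_of h₂ hne i₁ i₂ hs hs' (by
    have := ln_lt' p m1 hz H.ne
    rw [eM']; omega) nA
  have cc : ∀ u ∈ E₂, ∀ v ∈ E₂, ∀ g, Commute ⁅u, v⁆ g := fun u hu v hv =>
    hT _ (H.ab (cm_mem_Ph hu hv))
  have inv : ∀ u ∈ E₂, ∀ v ∈ E₂, ⁅⁅u, x⁆⁻¹ * u, ⁅v, x⁆⁻¹ * v⁆ = ⁅u, v⁆ := fun u hu v hv => by
    rw [show ⁅⁅u, x⁆⁻¹ * u, ⁅v, x⁆⁻¹ * v⁆ = x * ⁅u, v⁆ * x⁻¹ by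
      simp only [commutatorElement_def]; group, ← (cc u hu v hv x).eq, mul_inv_cancel_right]
  set z := ⁅a, x⁆ with ez
  have z2 : z ∈ E₂ := (m2 hz).2
  have ht : ⁅z, x⁆ ∈ T := cm_ln p m1 m3 hz x
  have r1 : Commute a z := by
    have e := inv y H.y₂ z z2
    rw [cm_mul_left' (cc _ H.y₂ _ (mul_mem (inv_mem (i₂.1 ht)) z2)), cm_mul_right' (cc _ H.y₂ _ z2),
      cm_mul_right' (cc _ (inv_mem ha.2) _ z2),
      commutatorElement_eq_one_iff_commute.2 (hT _ (inv_mem ht) _).symm,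
      commutatorElement_eq_one_iff_commute.2 (hT _ (inv_mem ht) _).symm, one_mul, one_mul,
      mul_eq_right] at e
    simpa using (commutatorElement_eq_one_iff_commute.1 e).inv_left
  have r2 : Commute y z := by
    have e := inv y H.y₂ a ha.2
    rw [cm_mul_left' (cc _ H.y₂ _ (mul_mem (inv_mem z2) ha.2)), cm_mul_right' (cc _ H.y₂ _ ha.2),
      commutatorElement_eq_one_iff_commute.2 (r1.inv_right.mul_right (.refl a)).inv_left, one_mul,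
      mul_eq_right] at e
    simpa using (commutatorElement_eq_one_iff_commute.1 e).inv_right
  have cz : ∀ u ∈ E₂, Commute z u := fun u hu => commute_sup_zp (fun v hv => commute_sup_zp
    (fun w hw => commute_sup_zp (fun t ht => (hT t ht z).symm) (.refl z) (eM.ge hw)) r1.symm
    (eA.ge hv)) r2.symm (e2.ge hu)
  have jC := invA_Cs (invA_top _) (invA_top (F₂.autGroup E₂)) (invA_bot _)
  have lC : M ≤ E₂ ⊓ Cs E₂ ⊥ := eM.ge.trans (sup_le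
    (fun t ht => ⟨i₂.1 ht, mem_Cs_bot.2 fun u _ => (hT t ht u).symm⟩)
    (zpowers_le.2 ⟨z2, mem_Cs_bot.2 fun u hu => (cz u hu).symm⟩))
  have c5 := ln_lt p (lt_of_le_of_ne lC fun e => H.ne (hmax M (eM' ▸ ivPh.sup i₁) (e ▸ jC) hz))
  have ab : ∀ u ∈ E₂, ∀ v ∈ E₂, Commute u v := fun u hu v hv => comm_of_ln p inf_le_left (by omega)
    (fun w hw g hg => (mem_Cs_bot.1 hw.2 g hg).symm) hu hv
  have om : ∀ u ∈ E₂, ⁅u, x⁆ ∈ Oz p E₂ := fun u hu =>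
    ⟨cm_left hu x, ab _ (cm_left hu x), cm_pow_eq_one (ab _ (cm_left hu x) u hu)
      (hT _ (H.ab (pow_mem_Ph hu)) x)⟩
  have jO : Iv F₂ E₂ (Oz p E₂ ⊔ T) := (invA_Oz (invA_top _)).sup i₂
  have l2 : E₁ ⊓ E₂ ≤ Oz p E₂ ⊔ T := eA.ge.trans (sup_le (eM.ge.trans (sup_le le_sup_right
    (zpowers_le.2 (mem_sup_left (om a ha.2))))) (zpowers_le.2 (mem_sup_left (om y H.y₂))))
  have l3 := (eq_or_eq_ln p l2 jO.1 c0.le).resolve_left fun e => nA (e ▸ jO)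
  rw [← eT, eq_bot_iff]
  exact (Ph_mono (le_of_sup_Ph p Oz_le (eT ▸ l3.ge))).trans Ph_Oz

end Lc

/-- Two essential subgroups invariant under `Aut_F(G)` give the symplectic configuration. -/
theorem char_main (hc : F.core = ⊥) (sr : ¬ SectionalPRankLE p 2 G) (g₁ : Lc F p E₁)
    (g₂ : Lc F p E₂) (hne : E₁ ≠ E₂) (j₁ : Iv F ⊤ E₁) (j₂ : Iv F ⊤ E₂) :
    (∃ x y, CaseB p ⊥ E₁ E₂ x y) ∨ ∃ x y, CaseB p ⊥ E₂ E₁ x y := by
  obtain ⟨N₁, h₁, n₁, e₁, s₁⟩ := g₁.exists_norm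
  obtain ⟨N₂, h₂, n₂, e₂, s₂⟩ := g₂.exists_norm
  have d₁ : ∀ X, Iv N₂ E₂ X → Iv N₁ ⊤ X := fun X h =>
    (iv_top j₂ (by rw [Iv, ← e₂]; exact h)).anti (s₁.autGroup_le ⊤)
  have d₂ : ∀ X, Iv N₁ E₁ X → Iv N₂ ⊤ X := fun X h =>
    (iv_top j₁ (by rw [Iv, ← e₁]; exact h)).anti (s₂.autGroup_le ⊤)
  obtain ⟨T, ⟨i₁, i₂⟩, hmax⟩ := exists_largest (fun X => Iv N₁ E₁ X ∧ Iv N₂ E₂ X)
    ⟨invA_bot _, invA_bot _⟩ fun A B a b => ⟨a.1.sup b.1, a.2.sup b.2⟩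
  have := h₁.nI i₁
  obtain ⟨F₁, q₁, k₁⟩ := h₁.exists_quot n₁ i₁ (h₁.claimA h₂ hne i₁ i₂ (iv_top_of_normal n₁))
  obtain ⟨F₂, q₂, k₂⟩ := h₂.exists_quot n₂ i₂ (h₂.claimA h₁ hne.symm i₂ i₁ (iv_top_of_normal n₂))
  have hne' : E₁.map (qm T) ≠ E₂.map (qm T) := fun e =>
    hne (by rw [← comap_map_qm i₁.1, e, comap_map_qm i₂.1])
  have d₁' : ∀ X, Iv F₂ (E₂.map (qm T)) X → Iv F₁ ⊤ X := fun X h =>
    map_comap_qm X ▸ iv_map_top q₁ (d₁ _ (iv_comap q₂ i₂.1 h))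
  have d₂' : ∀ X, Iv F₁ (E₁.map (qm T)) X → Iv F₂ ⊤ X := fun X h =>
    map_comap_qm X ▸ iv_map_top q₂ (d₂ _ (iv_comap q₁ i₁.1 h))
  have h0 : ∀ X, Iv F₁ (E₁.map (qm T)) X → Iv F₂ (E₂.map (qm T)) X → X = ⊥ := fun X a b => by
    rw [← map_comap_qm X, Subgroup.map_eq_bot_iff, QuotientGroup.ker_mk']
    exact hmax _ ⟨iv_comap q₁ i₁.1 a, iv_comap q₂ i₂.1 b⟩
  have A : Ph p (E₁.map (qm T)) ≤ ⊥ → Ph p (E₂.map (qm T)) ≤ ⊥ → ln p (E₁.map (qm T)) = 2 → False :=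
    fun f₁ f₂ c => by
      rw [← map_Ph, le_bot_iff, Subgroup.map_eq_bot_iff, QuotientGroup.ker_mk'] at f₁ f₂
      have c1 := ln_map p i₁.1
      obtain ⟨l, a, ha, hap, e⟩ := h₁.der_cyclic h₂ hne i₁ i₂ f₁ f₂ (by omega)
        (d₁ _ (invA_top _)) (d₂ _ (invA_top _))
      have m : ∀ g ∈ center G, g ∈ centralizerIn (⊤ : Subgroup G) ⊤ := fun g hg =>
        mem_centralizerIn.2 ⟨trivial, fun y _ => mem_center_iff.1 hg y⟩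
      have l2 := center_le_of_commutator_le g₁.sat (pg p ⊤) g₁.odd hc (m a ha) hap e
      have c2 := ln_mono p (fun g hg => l2 (m g (l hg)) : E₁ ⊓ E₂ ≤ zpowers a)
      have c3 := ln_zp_le hap
      have c4 := h₁.ln_inf h₂ hne
      have c5 := h₁.idx
      obtain ⟨s, hs⟩ := h₁.exists_out
      obtain ⟨x, -, hx⟩ : ∃ x ∈ E₁, ¬ Commute x s := by
        by_contra k
        push Not at k
        exact hs (h₁.cent k)
      exact sr (sr_two (by omega) hx)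
  rcases k₁.caseAB k₂ hne' d₁' d₂' h0 with ⟨a, H⟩ | ⟨a, H⟩ | ⟨x, y, H⟩ | ⟨x, y, H⟩
  · obtain ⟨f₁, f₂, c⟩ := k₁.caseA_cube k₂ hne' d₁' h0 H
    exact (A f₁ f₂ c).elim
  · obtain ⟨f₂, f₁, c⟩ := k₂.caseA_cube k₁ hne'.symm d₂' (fun X a b => h0 X b a) H
    exact (A f₁ f₂ (by have := k₁.idx; have := k₂.idx; omega)).elim
  · obtain ⟨x, y, H⟩ := H.pull i₁.1 i₂.1
    exact .inl ⟨x, y, h₁.caseB_bot h₂ hne i₁ i₂ (fun X a b => hmax X ⟨a, b⟩) H ▸ H⟩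
  · obtain ⟨x, y, H⟩ := H.pull i₂.1 i₁.1
    exact .inr ⟨x, y, h₂.caseB_bot h₁ hne.symm i₂ i₁ (fun X a b => hmax X ⟨b, a⟩) H ▸ H⟩

end Cfsg.Agent.Fus.R3
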