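import Mathlib
import Cfsg.Agent.Fus.R3Char
import Cfsg.Agent.Fus.Xs.Rel
import Cfsg.Agent.Cl.SpOrder

/-! The symplectic configuration is a Sylow `p`-subgroup of `Sp₄(p)`. -/

set_option autoImplicit false

namespace Cfsg.Agent.Fus.R3

open Subgroup Cfsg.Agent.GT Cfsg.Agent.Fus.Xs
open Cfsg.FusionSystem hiding inv_mem
open scoped Matrix MatrixGroups commutatorElement

variable {G : Type*} [Group G] {p : ℕ} [hp : Fact p.Prime]

abbrev Sp4 (p : ℕ) := Matrix.symplecticGroup (Fin 2) (ZMod p)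

def Sy (p : ℕ) (G : Type*) [Group G] : Prop :=
  ∃ P : Sylow p (Sp4 p), Nonempty (G ≃* (P : Subgroup (Sp4 p)))

/-- Upper unitriangular elements of `Sp₄(p)`. -/
def spU (t a b c : ZMod p) : Sp4 p :=
  ⟨Matrix.fromBlocks !![1, t; 0, 1] !![a + t * b, b + t * c; b, c] 0 !![1, 0; -t, 1], by
    rw [SymplecticGroup.mem_iff, Matrix.J, Matrix.fromBlocks_transpose, Matrix.fromBlocks_multiply,
      Matrix.fromBlocks_multiply, Matrix.fromBlocks_inj]
    refine ⟨?_, ?_, ?_, ?_⟩ <;> ext i j <;> fin_cases i <;> fin_cases j <;>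
      simp [Matrix.vecMul, dotProduct, Fin.sum_univ_two] <;> ring⟩

theorem spU_mul (t a b c t' a' b' c' : ZMod p) : spU t a b c * spU t' a' b' c' =
    spU (t + t') (a' + a - 2 * t' * b + t' ^ 2 * c) (b' + b - t' * c) (c' + c) := by
  apply Subtype.ext
  simp only [spU, Submonoid.coe_mul, Matrix.fromBlocks_multiply, Matrix.fromBlocks_inj]
  refine ⟨?_, ?_, ?_, ?_⟩ <;> ext i j <;> fin_cases i <;> fin_cases j <;>
    simp <;> ring

theorem spU_zero : (spU 0 0 0 0 : Sp4 p) = 1 := by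
  apply Subtype.ext
  simp only [spU, OneMemClass.coe_one, ← Matrix.fromBlocks_one, Matrix.fromBlocks_inj]
  refine ⟨?_, ?_, trivial, ?_⟩ <;> ext i j <;> fin_cases i <;> fin_cases j <;> simp

theorem spU_pow (t a b c : ZMod p) (h : t * b = 0) (h' : t * c = 0) (n : ℕ) :
    spU t a b c ^ n = spU ((n : ZMod p) * t) ((n : ZMod p) * a) ((n : ZMod p) * b) ((n : ZMod p) * c) := by
  induction n with
  | zero => simp [spU_zero]
  | succ n ih =>
    rw [pow_succ, ih, spU_mul]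
    congr 1 <;> push_cast
    · ring
    · linear_combination (-2 * (n : ZMod p)) * h + ((n : ZMod p) * t) * h'
    · linear_combination (-(n : ZMod p)) * h'
    · ring

theorem spU_pw (t a b c : ZMod p) (h : t * b = 0) (h' : t * c = 0) : spU t a b c ^ p = 1 := by
  rw [spU_pow t a b c h h']; simp [spU_zero]

theorem card_Sp4 : ∃ m, Nat.card (Sp4 p) = p ^ 4 * m ∧ ¬ p ∣ m := by
  refine ⟨∏ i ∈ Finset.range 2, (p ^ (2 * (i + 1)) - 1), by rw [Cl.sp_card_std, Nat.card_zmod]; rfl,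
    fun h => ?_⟩
  obtain ⟨i, -, hi⟩ := (Nat.Prime.prime hp.out).exists_mem_finset_dvd h
  have h1 := Nat.one_le_pow (2 * (i + 1)) p hp.out.pos
  exact hp.out.not_dvd_one ((Nat.dvd_sub_iff_right h1 (dvd_pow_self p (by omega))).1 hi)

theorem sy_of [Finite G] (h2 : p ≠ 2) (hc : Nat.card G = p ^ 4) {v a : G} (pv : v ^ p = 1)
    {E : Subgroup G} [E.Normal] (hE : Ph p E ≤ ⊥) (ha : a ∈ E)
    (vc : Commute v ⁅v, ⁅v, a⁆⁆) (gen : cl [v, a, ⁅v, a⁆, ⁅v, ⁅v, a⁆⁆] = ⊤)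
    (cen : ∀ K : Subgroup G, K.Normal → K ≠ ⊥ → ⁅v, ⁅v, a⁆⁆ ∈ K) : Sy p G := by
  have hb := cm_right ha v
  have hc' := cm_right hb v
  set b := ⁅v, a⁆ with eb
  set c := ⁅v, b⁆ with ec
  obtain ⟨φ, hφ⟩ := exists_hom (p := p) (l := [(v, (spU 1 0 0 0 : Sp4 p)), (a, spU 0 0 0 1),
      (b, spU 0 1 1 0), (c, spU 0 2 0 0)]) (by
    have e1 : (v, (spU 1 0 0 0 : Sp4 p)) * (a, spU 0 0 0 1) = (b, spU 0 1 1 0) * (a, spU 0 0 0 1) *
        (v, spU 1 0 0 0) := Prod.ext (by simp [eb, commutatorElement_def]) (by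
      simp only [Prod.snd_mul, spU_mul]; congr 1 <;> ring)
    have e2 : (v, (spU 1 0 0 0 : Sp4 p)) * (b, spU 0 1 1 0) = (c, spU 0 2 0 0) * (b, spU 0 1 1 0) *
        (v, spU 1 0 0 0) := Prod.ext (by simp [ec, commutatorElement_def]) (by
      simp only [Prod.snd_mul, spU_mul]; congr 1 <;> ring)
    have e3 : (v, (spU 1 0 0 0 : Sp4 p)) * (c, spU 0 2 0 0) = (c, spU 0 2 0 0) * (v, spU 1 0 0 0) :=
      Prod.ext vc.eq (by simp only [Prod.snd_mul, spU_mul]; congr 1 <;> ring)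
    have e4 : ∀ x ∈ E, ∀ y ∈ E, ∀ a b c a' b' c' : ZMod p, (x, (spU 0 a b c : Sp4 p)) *
        (y, spU 0 a' b' c') = (y, spU 0 a' b' c') * (x, spU 0 a b c) := fun x hx y hy _ _ _ _ _ _ =>
      Prod.ext (commute_of_Ph hE hx hy).eq (by simp only [Prod.snd_mul, spU_mul]; congr 1 <;> ring)
    simp only [PC, List.forall_mem_cons, List.not_mem_nil, IsEmpty.forall_iff, implies_true,
      and_true, e1, e2, e3, mul_inv_cancel_right]
    rw [e4 a ha b hb, e4 a ha c hc', e4 b hb c hc', mul_inv_cancel_right, mul_inv_cancel_right,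
      mul_inv_cancel_right]
    refine ⟨⟨mul_mem ?_ ?_, mul_mem ?_ ?_, ?_⟩, ⟨?_, ?_⟩, ?_⟩ <;> exact mcl (by simp))
    (by
      simp only [List.forall_mem_cons, List.not_mem_nil, IsEmpty.forall_iff, implies_true, and_true]
      exact ⟨Prod.ext pv (spU_pw _ _ _ _ (by simp) (by simp)),
        Prod.ext (pow_of_Ph hE ha) (spU_pw _ _ _ _ (by simp) (by simp)),
        Prod.ext (pow_of_Ph hE hb) (spU_pw _ _ _ _ (by simp) (by simp)),
        Prod.ext (pow_of_Ph hE hc') (spU_pw _ _ _ _ (by simp) (by simp))⟩) gen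
    (by simp [hc])
  have inj : Function.Injective φ := (MonoidHom.ker_eq_bot_iff φ).1 (by_contra fun l => by
    have e := congrArg (fun g : Sp4 p => g.1 (.inl 0) (.inr 0))
      ((hφ (c, spU 0 2 0 0) (by simp)).symm.trans (cen _ inferInstance l))
    simp only [spU, Matrix.fromBlocks_apply₁₂, OneMemClass.coe_one] at e
    exact h2 ((Nat.prime_dvd_prime_iff_eq hp.out Nat.prime_two).1
      ((ZMod.natCast_eq_zero_iff 2 p).1 (by simpa using e))))
  obtain ⟨m, hH, hm⟩ := card_Sp4 (p := p)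
  have e := MonoidHom.ofInjective inj
  have h1 := φ.range.index_mul_card
  rw [← Nat.card_congr e.toEquiv, hc, hH, mul_comm] at h1
  have h3 : φ.range.index = m := Nat.eq_of_mul_eq_mul_left (pow_pos hp.out.pos 4) h1
  exact ⟨((IsPGroup.of_card hc).of_equiv e).toSylow (by rwa [h3]), ⟨e⟩⟩

variable [Finite G] [hG : Fact (IsPGroup p G)] {F F₁ F₂ : FusionSystem (⊤ : Subgroup G)}
  {E E₁ E₂ : Subgroup G} {x y : G}

theorem xs_of_cube (hF : F.IsSaturated p) (hE : F.IsEssential p E) (h2 : p ≠ 2) (c : ln p E = 3)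
    (hx : x ∈ E) (hy : y ∈ E) (h : ¬ Commute x y) :
    IsExtraspecial p E ∧ Nat.card E = p ^ 3 ∧ ∀ x ∈ E, x ^ p = 1 := by
  rcases (hE.noChain hF (pg p ⊤)).of_card_cube (card_of_ln c) with k | k | k
  · exact (h (congrArg Subtype.val (k.1.is_comm.comm ⟨x, hx⟩ ⟨y, hy⟩))).elim
  · exact ⟨k.2.1, card_of_ln c, fun x hx => congrArg Subtype.val (k.2.2 ⟨x, hx⟩)⟩
  · exact (h2 k.1).elim

theorem CaseB.out (h₁ : Lc F₁ p E₁) (h₂ : Lc F₂ p E₂) (hne : E₁ ≠ E₂) (H : CaseB p ⊥ E₁ E₂ x y) :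
    Sy p G ∧ IsExtraspecial p E₁ ∧ Nat.card E₁ = p ^ 3 ∧ (∀ x ∈ E₁, x ^ p = 1) ∧
      IsElementaryAbelian p E₂ ∧ Nat.card E₂ = p ^ 3 := by
  have := h₁.normal; have := h₂.normal
  have c0 := h₂.ln_inf h₁ hne.symm
  rw [inf_comm] at c0
  have c1 := H.c₂
  have c3 := h₁.idx
  have c4 := h₂.idx
  rw [ln_bot] at c1
  obtain ⟨M, n, -, m2, m3, m4⟩ := exists_below p ⊥ (E₁ ⊓ E₂) bot_le (j := 1) (by rw [ln_bot]; omega)
  rw [ln_bot] at m3
  have hb := h₁.cm_inf h₂ x y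
  have hc : ⁅x, ⁅x, y⁆⁆ ∈ M := cm_swap (cm_ln p m2 m4 hb x)
  have nb : ¬ Commute ⁅x, y⁆ x := fun k => H.ne (cm_bot.2 (by
    rw [← commutatorElement_inv]; exact k.inv_left))
  have eM := zp_eq_ln p m3 hc fun k => nb (commutatorElement_eq_one_iff_commute.1 k).symm
  have eA := sup_zp_ln p m2 m4 hb fun k => nb (commute_ln p m3 k x)
  have e2 := h₂.inf_sup h₁ hne.symm H.y₂ H.y₁
  rw [inf_comm] at e2
  obtain ⟨k1, k2, k3⟩ := xs_of_cube h₁.sat h₁.ess h₁.odd (by omega) hb.1 H.x₁ nb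
  refine ⟨sy_of h₁.odd ((card_top (G := G)).symm.trans (card_of_ln (by omega))) H.xp H.ab H.y₂
    (commute_ln p m3 hc x).symm (top_le_iff.1 ?_) fun K _ hK => ?_, k1, k2, k3,
    ⟨⟨⟨fun a b => Subtype.ext (commute_of_Ph H.ab a.2 b.2).eq⟩⟩, fun a => pow_of_Ph H.ab⟩,
    card_of_ln (by omega)⟩
  · rw [← h₂.top_eq H.x₂, ← e2, ← eA, ← eM]
    simp only [sup_le_iff, zpowers_le]
    refine ⟨⟨⟨?_, ?_⟩, ?_⟩, ?_⟩ <;> exact mcl (by simp)
  · obtain ⟨z, hz, z1, zZ⟩ := exists_cent p K hK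
    have zM : z ∈ M := by
      by_contra k
      exact nb (commute_sup_zp (fun u hu => (commute_ln p m3 hu x).symm) (Z_comm zZ x).symm
        ((sup_zp_ln p m2 m4 ⟨h₁.Z_le zZ, h₂.Z_le zZ⟩ k).ge hb)).symm
    exact zpowers_le.2 hz ((zp_eq_ln p m3 zM z1).ge hc)

end Cfsg.Agent.Fus.R3
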