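import Mathlib
import Cfsg.Agent.Fus.R3Syl
import Cfsg.Agent.Fus.ToTop

/-! Sectional rank three, all essential subgroups normal. -/

set_option autoImplicit false

namespace Cfsg.Agent.Fus.R3

open Subgroup Cfsg.Agent.GT
open Cfsg.FusionSystem hiding inv_mem
open scoped Matrix MatrixGroups commutatorElement

variable {G : Type*} [Group G] {p : ℕ} {F : FusionSystem (⊤ : Subgroup G)}
  {E E₁ E₂ X : Subgroup G} {a x y : G} {f : G → G}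

theorem isoVia_self {Ω : Type*} [Group Ω] {S : Subgroup Ω} {F : FusionSystem S} {f : Ω → Ω}
    (hf : F.Iso S S f) : ∃ g, F.IsIsoVia F f g ∧ F.Iso S S g := by
  obtain ⟨g, hg, e1, e2⟩ := hf.inv
  have key : ∀ {f g : Ω → Ω}, F.Iso S S f → F.Iso S S g → (∀ x ∈ S, g (f x) = x) → ∀ {P k},
      F.Mor P k → F.Mor (img f P) fun y => f (k (g y)) := fun hf hg e _ _ hk => by
    have l : ∀ y ∈ img _ _, _ ∈ _ := fun y hy => by
      obtain ⟨x, hx, rfl⟩ := (hf.mor.mem_img hk.le).1 hy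
      exact (e x (hk.le hx)).symm ▸ hx
    exact hf.mor.comp (hk.comp (hg.mor.mono ((hf.mor.mono hk.le).img_le)) l)
      fun y hy => hk.mem (l y hy)
  exact ⟨g, ⟨hf.mor.mulOn, hg.mor.mulOn, hf.maps, hg.maps, e1, e2, key hf hg e1, key hg hf e2⟩, hg⟩

theorem invA_via {Ω Ω' : Type*} [Group Ω] [Group Ω'] {S E X : Subgroup Ω} {S' : Subgroup Ω'}
    {F : FusionSystem S} {F' : FusionSystem S'} {θ : Ω → Ω'} {η : Ω' → Ω} (h : F.IsIsoVia F' θ η)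
    (hE : E ≤ S) (hX : InvA (F.autGroup E) X) : InvA (F'.autGroup (img θ E)) (img θ X) := by
  refine invA_autGroup_of_iso (h.img_le hE) (img_mono hX.1) fun f hf y hy => ?_
  have k := h.symm.iso_push hf
  rw [h.img_img hE] at k
  have l := hX.1.trans hE
  obtain ⟨h1, h2⟩ := (h.mem_img l).1 hy
  have := hX.iso_mem k h2
  rw [h.right y h1] at this
  exact (h.mem_img l).2 ⟨hf.mor.mem (img_mono hX.1 hy), this⟩

variable [Finite G] [hp : Fact p.Prime] [hG : Fact (IsPGroup p G)]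

theorem sr_of_ln {k : ℕ} (h : ln p (⊤ : Subgroup G) ≤ k) : SectionalPRankLE p k G :=
  FG.SR.of_relIndex_le fun N H l _ _ => Nat.le_of_dvd (pow_pos hp.out.pos k)
    (dvd_of_ln l (by have := ln_mono p (le_top : H ≤ ⊤); omega))

theorem Lc.noncomm (h : Lc F p E) : ∃ x y : G, ¬ Commute x y := by
  obtain ⟨s, hs⟩ := h.exists_out
  by_contra! k
  exact hs (h.cent fun x _ => k x s)

theorem CaseA.false (hc : F.core = ⊥) (sr : ¬ SectionalPRankLE p 2 G) (h₁ : Lc F p E₁)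
    (h₂ : Lc F p E₂) (hne : E₁ ≠ E₂) (H : CaseA p E₁ E₂ a) : False := by
  obtain ⟨x, y, hxy⟩ := h₁.noncomm
  have c1 := ln_zp_le H.aZ.2.2
  have e : ⁅(⊤ : Subgroup G), (⊤ : Subgroup G)⁆ = zpowers a :=
    eq_of_ln p (commutator_le.2 fun x _ y _ => H.der x y) (c1.trans (ln_pos p
      (commutator_mem_commutator trivial trivial) fun k => hxy (cm_bot.1 k)))
  have l := center_le_of_commutator_le h₁.sat (pg p ⊤) h₁.odd hc
    (mem_centralizerIn.2 ⟨trivial, fun y _ => (Z_comm H.aZ y).symm.eq⟩) H.aZ.2.2 e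
  have c2 := ln_mono p (fun g hg => l (mem_centralizerIn.2 ⟨trivial, fun y _ =>
    mem_center_iff.1 (H.cen.le hg) y⟩) : E₁ ⊓ E₂ ≤ zpowers a)
  have c4 := h₁.ln_inf h₂ hne
  have c5 := h₁.idx
  exact sr (sr_two (by omega) hxy)

theorem exists_not_iv (hF : F.IsSaturated p) (hc : F.core = ⊥) (hX : X ≠ ⊥) (iX : Iv F ⊤ X) :
    ∃ E, F.IsEssential p E ∧ ¬ Iv F E X := by
  by_contra! k
  refine hX (le_bot_iff.1 (hc ▸ (hF.isNormal_of_alperin (pg p ⊤) fun R hR => ?_).le_core))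
  have : Iv F R X := by
    rcases hR with rfl | hR
    · exact iX
    · exact k R hR
  exact ⟨this.1, fun g hg x hx => this.iso_mem hg hx⟩

theorem all_normal (hF : F.IsSaturated p) (h2 : p ≠ 2) (hc : F.core = ⊥)
    (sr : SectionalPRankLE p 3 G) (sr' : ¬ SectionalPRankLE p 2 G)
    (hn : ∀ E, F.IsEssential p E → E.Normal) :
    ∃ E₁ E₂ x y, Lc F p E₁ ∧ Lc F p E₂ ∧ E₁ ≠ E₂ ∧ CaseB p ⊥ E₁ E₂ x y := by
  have L : ∀ E, F.IsEssential p E → Lc F p E := fun E hE =>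
    have := hn E hE; .of_normal hF hE h2 sr
  have iZ : Iv F ⊤ (Oz p ⊤) := invA_Oz (invA_top _)
  have Z0 : Oz p (⊤ : Subgroup G) ≠ ⊥ := fun e => by
    by_cases k : (⊤ : Subgroup G) = ⊥
    · exact sr' (sr_of_ln (by rw [k, ln_bot]; omega))
    · obtain ⟨z, -, h1, h2⟩ := exists_cent p ⊤ k
      exact h1 (e.le h2)
  by_cases out : ∃ E₁ E₂, F.IsEssential p E₁ ∧ F.IsEssential p E₂ ∧ ¬ Iv F E₂ (Oz p ⊤) ∧
      ¬ Oz p E₂ ≤ E₁
  · obtain ⟨E₁, E₂, h₁, h₂, hZ, k⟩ := out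
    have hne : E₁ ≠ E₂ := fun e => k (e ▸ Oz_le)
    obtain ⟨y, hy, hy'⟩ := SetLike.not_le_iff_exists.1 k
    by_cases c : ln p (Oz p E₂) ≤ ln p (Oz p (⊤ : Subgroup G)) + 1
    · obtain ⟨a, H⟩ := (L _ h₁).caseA (L _ h₂) hne c hy hy'
      exact (H.false hc sr' (L _ h₁) (L _ h₂) hne).elim
    · obtain ⟨x, H⟩ := (L _ h₁).caseB (L _ h₂) hne hZ (not_le.1 c) hy hy'
      exact ⟨E₁, E₂, x, y, L _ h₁, L _ h₂, hne, H⟩
  push Not at out
  have uq : ∀ E₁ E₂, F.IsEssential p E₁ → F.IsEssential p E₂ → ¬ Iv F E₁ (Oz p ⊤) →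
      ¬ Iv F E₂ (Oz p ⊤) → E₁ = E₂ := fun E₁ E₂ h₁ h₂ z₁ z₂ => by_contra fun hne =>
    (L _ h₁).not_both_Y (L _ h₂) hne z₁ z₂ (out _ _ h₂ h₁ z₁) (out _ _ h₁ h₂ z₂)
  obtain ⟨E₂, h₂, z₂⟩ := exists_not_iv hF hc Z0 iZ
  have j₂ : Iv F ⊤ E₂ := invA_autGroup_of_iso le_rfl le_top fun f hf x hx => by
    obtain ⟨g, h, hg⟩ := isoVia_self hf
    rw [uq E₂ (img f E₂) h₂ (h.isEssential h₂) z₂ fun k => z₂ ?_]
    · exact mem_img_of_mem hx
    have k' := invA_via h.symm le_top k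
    rwa [h.img_img le_top, ((hg.mor.mono le_top).iso_self fun x hx => iZ.iso_mem hg hx).img_eq] at k'
  have iY : Iv F ⊤ (Oz p E₂) := invA_Oz j₂
  obtain ⟨E₁, h₁, nY⟩ := exists_not_iv hF hc (fun e => Z0 (le_bot_iff.1 (e ▸ (L _ h₂).Z_le_Y))) iY
  have hne : E₁ ≠ E₂ := fun e => nY (e ▸ invA_Oz (invA_top _))
  obtain ⟨A, a₁, a₂, -, e⟩ := (L _ h₁).caseC (L _ h₂) hne z₂ (out _ _ h₁ h₂ z₂)
    (by_contra fun k => hne (uq _ _ h₁ h₂ k z₂)) nY fun f hf y hy => iY.iso_mem hf hy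
  have j₁ : Iv F ⊤ E₁ := by
    have := invA_Cs (invA_top _) (iv_top j₂ a₂) iZ
    rwa [top_inf_eq, ← e] at this
  rcases char_main hc sr' (L _ h₁) (L _ h₂) hne j₁ j₂ with ⟨x, y, H⟩ | ⟨x, y, H⟩
  · exact ⟨E₁, E₂, x, y, L _ h₁, L _ h₂, hne, H⟩
  · exact ⟨E₂, E₁, x, y, L _ h₂, L _ h₁, hne.symm, H⟩

end Cfsg.Agent.Fus.R3
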