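import Mathlib
import Cfsg.Agent.Fus.R3CA2
import Cfsg.Agent.S0112

/-! Groups of order `p ^ 5` without abelian maximal subgroup: an essential subgroup of order
`p ^ 2`. -/

set_option autoImplicit false
set_option linter.unusedSectionVars false

namespace Cfsg.Agent.Fus.R3

open Subgroup Cfsg.Agent.GT
open Cfsg.FusionSystem hiding inv_mem
open scoped Matrix MatrixGroups commutatorElement

variable {G : Type*} [Group G] {p : ℕ} [Finite G] [hp : Fact p.Prime]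
  {F : FusionSystem (⊤ : Subgroup G)} {E D₂ D₃ D₄ C : Subgroup G} {x u v w : G} {f : G → G}

/-- A group of maximal class of order `p ^ 5` with an element `x` whose centralizer has order
`p ^ 2`. -/
structure CB (p : ℕ) (D₂ D₃ D₄ C : Subgroup G) (x : G) : Prop where
  c5 : Nat.card G = p ^ 5
  e2 : commutator G = D₂
  h2 : D₂.Characteristic
  h3 : D₃.Characteristic
  h4 : D₄.Characteristic
  eC : centralizer (D₃ : Set G) = C
  c2 : Nat.card D₂ = p ^ 3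
  c3 : Nat.card D₃ = p ^ 2
  c4 : Nat.card D₄ = p ^ 1
  cC : Nat.card C = p ^ 4
  l3 : D₃ ≤ D₂
  l4 : D₄ ≤ D₃
  uniq : ∀ Q : Subgroup G, Q.Normal → Nat.card Q = p ^ 3 → Q = D₂
  xp : x ^ p = 1
  x4 : x ∉ D₄
  cx : ∀ g, Commute x g → g ∈ D₄ ⊔ zpowers x

theorem exists_cb (h5 : Nat.card G = p ^ 5) (cE : Nat.card E = p ^ 2)
    (hC : ∀ g, (∀ e ∈ E, Commute e g) → g ∈ E) (hp' : ∀ e ∈ E, e ^ p = 1) :
    ∃ D₂ D₃ D₄ C : Subgroup G, D₄ ≤ E ∧ Nat.card D₄ = p ^ 1 ∧ ∀ x ∈ E, x ∉ D₄ → CB p D₂ D₃ D₄ C x := by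
  have hG : IsPGroup p G := .of_card h5
  have hab := IsPGroup.isMulCommutative_of_card_eq_prime_sq cE
  have hc := S0112.result 5 h5 E cE (le_antisymm (fun g hg => hC g hg)
    (PG.isMulCommutative_iff_le_centralizer.1 hab))
  have hl := fun i => PG.card_lowerCentralSeries_of_maxClass (n := 2) h5 hc (i := i)
  have c2 := hl 0 (by norm_num)
  have c3 := hl 1 (by norm_num)
  have c4 := hl 2 (by norm_num)
  have l4 : (⊤ : Subgroup G).lowerCentralSeries 3 ≤ (⊤ : Subgroup G).lowerCentralSeries 2 :=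
    Subgroup.lowerCentralSeries_antitone _ (by norm_num)
  have hZ : ∀ z ∈ (⊤ : Subgroup G).lowerCentralSeries 3, ∀ g, Commute z g := fun z hz g =>
    cm_bot.1 (cm_step hG bot_le (j := 0) (by simp) c4 hz g)
  have h4E : (⊤ : Subgroup G).lowerCentralSeries 3 ≤ E := fun z hz =>
    hC z fun e _ => (hZ z hz e).symm
  refine ⟨_, _, _, _, h4E, c4, fun x hx hx' => ⟨h5, top_lowerCentralSeries_one.symm, inferInstance,
    inferInstance, inferInstance, rfl, c2, c3, c4, ?_,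
    Subgroup.lowerCentralSeries_antitone _ (by norm_num),
    l4, fun Q hQ h => PG.eq_lowerCentralSeries_of_maxClass (n := 2) h5 hc Q (r := 0)
      (index_eq_of_card (a := 3) h5 h), hp' x hx, hx', fun g hg => ?_⟩⟩
  · obtain ⟨w, hw, hw'⟩ := exists_of_card c3 c4 (by norm_num)
    have e := sup_zp_eq l4 c4 c3 hw hw'
    obtain ⟨y, hy⟩ : ∃ y, ⁅w, y⁆ ∉ (⊥ : Subgroup G) := by
      by_contra! k
      have h1 : center G = _ := PG.eq_lowerCentralSeries_of_maxClass (n := 2) h5 hc _ (r := 2)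
        (index_eq_of_card (a := 1) h5 (by rw [PG.card_center_of_maxClass (n := 2) h5 hc, pow_one]))
      exact hw' (h1.le (mem_center_iff.2 fun g => (cm_bot.1 (k g)).symm))
    rw [← card_Cm hG h5 (D := ⊥) (by rw [relIndex_bot_left, c4]; simp) (cm_step hG l4 c4 c3 hw) hy]
    congr 2
    ext c
    exact ⟨fun k => mem_Cm.2 (cm_bot.2 (k w hw)), fun k d hd => (commute_sup_zp
      (fun z hz => (hZ z hz c).symm) (cm_bot.1 (mem_Cm.1 k)).symm (e.ge hd)).symm⟩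
  · have e := sup_zp_eq h4E c4 cE hx hx'
    exact e.ge (hC g fun y hy => (commute_sup_zp (fun z hz => (hZ z hz g).symm) hg.symm
      (e.ge hy)).symm)

namespace CB

variable (h : CB p D₂ D₃ D₄ C x)
include h

theorem pg : IsPGroup p G := .of_card h.c5

theorem z4 (hu : u ∈ D₄) (g : G) : Commute u g :=
  haveI := h.h4
  cm_bot.1 (cm_step h.pg bot_le (j := 0) (by simp) h.c4 hu g)

theorem z3 (hu : u ∈ D₃) (g : G) : ⁅u, g⁆ ∈ D₄ :=
  haveI := h.h4; haveI := h.h3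
  cm_step h.pg h.l4 h.c4 h.c3 hu g

theorem z2 (hu : u ∈ D₂) (g : G) : ⁅u, g⁆ ∈ D₃ :=
  haveI := h.h2; haveI := h.h3
  cm_step h.pg h.l3 h.c3 h.c2 hu g

theorem z1 (u g : G) : ⁅u, g⁆ ∈ D₂ := h.e2.le (commutator_mem_commutator trivial trivial)

theorem hC : C.Characteristic := haveI := h.h3; h.eC ▸ inferInstance

theorem cC3 (hu : u ∈ D₃) (hv : v ∈ C) : Commute u v := (h.eC.ge hv) u hu

theorem l2 : D₂ ≤ C := h.e2 ▸ PG.commutator_le_of_index_prime h.pg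
  ((index_eq_of_card (a := 4) (b := 1) h.c5 h.cC).trans (pow_one p))

theorem ab2 (hu : u ∈ D₂) (hv : v ∈ D₂) : Commute u v := by
  obtain ⟨w, hw, hw'⟩ := exists_of_card h.c2 h.c3 (by norm_num)
  have e := sup_zp_eq h.l3 h.c3 h.c2 hw hw'
  exact cm_bot.1 (cm_sup_sup (fun a ha b hb => cm_bot.2 (h.cC3 ha (h.l2 (h.l3 hb))))
    (fun a ha => cm_bot.2 (h.cC3 ha (h.l2 hw))) (e.ge hu) (e.ge hv))

theorem cE : Nat.card (D₄ ⊔ zpowers x : Subgroup G) = p ^ 2 :=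
  haveI := h.h4
  card_sup_zp h.c4 h.x4 (h.xp ▸ one_mem _)

theorem xC : x ∉ C := fun k => by
  have h1 : D₃ ≤ D₄ ⊔ zpowers x := fun u hu => h.cx u (h.cC3 hu k).symm
  have h3 : x ∈ D₃ := (PG.eq_of_le_of_card_le h1 (by rw [h.cE, h.c3])).ge
    (mem_sup_right (mem_zpowers x))
  exact not_le_of_card h.cC h.cE (by norm_num) fun c hc => h.cx c (h.cC3 h3 hc)

theorem mem_of {K : Subgroup G} [K.Normal] (hK : K ≤ C) (hu : u ∈ K ⊔ zpowers x) (hu' : u ∈ C) :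
    u ∈ K := by
  obtain ⟨k, hk, i, rfl⟩ := (PG.mem_sup_zpowers_of_mem_normalizer mem_nz).1 hu
  obtain ⟨j, rfl⟩ := (PG.zpow_mem_iff_of_pow_prime_mem hp.out h.xC (h.xp ▸ one_mem _) i).1
    ((mul_mem_cancel_left (hK hk)).1 hu')
  rwa [zpow_mul, zpow_natCast, h.xp, one_zpow, mul_one]

theorem n3 (hu : u ∈ D₃) (hu' : u ∉ D₄) : ¬ Commute u x := fun k =>
  haveI := h.h4
  hu' (h.mem_of (h.l4.trans (h.l3.trans h.l2)) (h.cx u k.symm) (h.l2 (h.l3 hu)))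

theorem e4 (hu : u ∈ D₃) (hu' : u ∉ D₄) : zpowers ⁅u, x⁆ = D₄ :=
  zp_eq h.c4 (h.z3 hu x) fun k => h.n3 hu hu' (cm_bot.1 (mem_bot.2 k))

theorem c1 : Nat.card (D₃ ⊔ zpowers x : Subgroup G) = p ^ 3 :=
  haveI := h.h3
  card_sup_zp h.c3 (fun k => h.xC (h.l2 (h.l3 k))) (h.xp ▸ one_mem _)

theorem c2' : Nat.card (D₂ ⊔ zpowers x : Subgroup G) = p ^ 4 :=
  haveI := h.h2
  card_sup_zp h.c2 (fun k => h.xC (h.l2 k)) (h.xp ▸ one_mem _)

theorem cm4 (hu : ⁅x, u⁆ ∈ D₄) : u ∈ D₃ ⊔ zpowers x := by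
  have := h.h4
  have h1 : D₃ ⊔ zpowers x ≤ Cm x D₄ := sup_le (fun d hd => mem_Cm.2 (cm_swap (h.z3 hd x)))
    (zpowers_le.2 (mem_Cm.2 (cm_of_commute (.refl x))))
  refine (PG.eq_of_le_of_card_le h1 ?_).ge (mem_Cm.2 hu)
  have h2 := index_Cm_le (G := Cm x D₄) (x := ⟨x, h1 (mem_sup_right (mem_zpowers x))⟩) (D := ⊥)
    (K := D₄.subgroupOf _) fun g => mem_subgroupOf.2 (mem_Cm.1 g.2)
  rw [relIndex_bot_left, Nat.card_congr (subgroupOfEquivOfLe (h.l4.trans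
    (le_sup_left.trans h1))).toEquiv, h.c4] at h2
  rw [← card_mul_index (Cm (G := Cm x D₄) ⟨x, h1 (mem_sup_right (mem_zpowers x))⟩ ⊥), h.c1,
    show 3 = 2 + 1 from rfl, pow_add, ← h.cE]
  refine Nat.mul_le_mul ?_ h2
  rw [← card_map_of_injective (Cm x D₄).subtype_injective]
  refine card_le_of_le ?_
  rintro _ ⟨g, hg, rfl⟩
  exact h.cx _ (congrArg Subtype.val (cm_bot.1 (mem_Cm.1 hg)).eq)

theorem n2 (hu : u ∈ D₂) (hu' : u ∉ D₃) : ⁅u, x⁆ ∉ D₄ := fun k =>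
  haveI := h.h3
  hu' (h.mem_of (h.l3.trans h.l2) (h.cm4 (cm_swap k)) (h.l2 hu))

theorem norm1 : normalizerIn ⊤ (D₃ ⊔ zpowers x) = D₂ ⊔ zpowers x := by
  have := h.h3
  have h1 : D₂ ⊔ zpowers x ≤ normalizerIn ⊤ (D₃ ⊔ zpowers x) :=
    sup_le (fun d hd => ⟨trivial, mem_nz_sup_zp (mem_sup_left (cm_swap (h.z2 hd x)))⟩)
      (le_sup_right.trans (le_normalizerIn le_top))
  rcases PG.eq_or_eq_of_relIndex_prime hp.out h1 le_top
    (relIndex_eq_p le_top h.c2' (card_top_eq h.c5)) with e | e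
  · exact e
  · exact absurd (h.l2 ((h.uniq _ (normalizer_eq_top_iff.1 (eq_top_iff.2 fun g _ =>
      (e.ge (mem_top g)).2)) h.c1).le (mem_sup_right (mem_zpowers x)))) h.xC

theorem n1 (hu : u ∈ C) (hu' : u ∉ D₂) : ⁅u, x⁆ ∉ D₃ := fun k =>
  haveI := h.h3; haveI := h.h2
  hu' (h.mem_of h.l2 (h.norm1.le ⟨trivial, mem_nz_sup_zp (mem_sup_left (cm_swap k))⟩) hu)

/-- Extension of automorphisms of `N(E)` to the whole group. -/
theorem extend (hF : F.IsSaturated p) (hE : F.IsCentric (D₄ ⊔ zpowers x))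
    (hf : F.Iso (D₃ ⊔ zpowers x) (D₃ ⊔ zpowers x) f) :
    ∃ τ : G ≃* G, ∀ u ∈ D₃ ⊔ zpowers x, τ u = f u := by
  have := h.h2; have := h.h3; have := h.h4; have := h.hC
  have hT := h.pg.to_subgroup ⊤
  obtain ⟨w, hw, hw'⟩ := exists_of_card h.c3 h.c4 (by norm_num)
  obtain ⟨v, hv, hv'⟩ := exists_of_card h.c2 h.c3 (by norm_num)
  have xm : ∀ K : Subgroup G, x ∈ K ⊔ zpowers x := fun K => mem_sup_right (mem_zpowers x)
  have d1 : ⁅D₃ ⊔ zpowers x, D₃ ⊔ zpowers x⁆ = D₄ := le_antisymm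
    (commutator_le.2 fun a ha b hb => cm_sup_sup (fun k hk k' _ => h.z3 hk k')
      (fun k hk => h.z3 hk x) ha hb)
    (h.e4 hw hw' ▸ zpowers_le.2 (commutator_mem_commutator (mem_sup_left hw) (xm _)))
  have d2 : ⁅D₂ ⊔ zpowers x, D₂ ⊔ zpowers x⁆ = D₃ := le_antisymm
    (commutator_le.2 fun a ha b hb => cm_sup_sup (fun k hk k' _ => h.z2 hk k')
      (fun k hk => h.z2 hk x) ha hb)
    ((sup_zp_eq h.l4 h.c4 h.c3 (h.z2 hv x) (h.n2 hv hv')).ge.trans (sup_le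
      (d1 ▸ commutator_mono (sup_le_sup_right h.l3 _) (sup_le_sup_right h.l3 _))
      (zpowers_le.2 (commutator_mem_commutator (mem_sup_left hv) (xm _)))))
  have i4 : InvA (F.autGroup (D₃ ⊔ zpowers x)) D₄ := d1 ▸ (invA_top _).commutator (invA_top _)
  have i3 : InvA (F.autGroup (D₃ ⊔ zpowers x)) D₃ := by
    refine invA_autGroup_of_iso le_top le_sup_left fun k hk => ?_
    have e := sup_zp_eq h.l4 h.c4 h.c3 hw hw'
    have hm := hk.mor.mono le_sup_left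
    have key : ∀ (k' : G → G) (Q : Subgroup G), F.Mor D₃ k' → (∀ d ∈ D₄, k' d ∈ Q) → k' w ∈ Q →
        ∀ d ∈ D₃, k' d ∈ Q := fun k' Q h1 h2 h3 d hd =>
      (e ▸ h1.mulOn).mapsTo_sup h2 (fun y hy => by
        obtain ⟨i, rfl⟩ := mem_zpowers_iff.1 hy
        rw [h1.map_zpow hw]; exact zpow_mem h3 i) d (e.ge hd)
    refine key k D₃ hm (fun d hd => h.l4 (i4.iso_mem hk hd)) ?_
    by_contra hu
    obtain ⟨b, hb, j, e'⟩ := (PG.mem_sup_zpowers_of_mem_normalizer mem_nz).1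
      (hk.maps w (mem_sup_left hw))
    have h1 : x ^ j ∉ D₄ := fun k => hu (e' ▸ mul_mem hb (h.l4 k))
    have e1 := sup_zp_eq le_sup_left h.c4 h.cE (zpow_mem (xm _) j) h1
    have h2 : ⁅v, x ^ j⁆ ∉ D₄ := fun k => h.n2 hv hv' (cm_sup_zp (fun d hd => cm_right hd v) k
      (e1.ge (xm _)))
    obtain ⟨g, hg⟩ := conj_into (u := k w) (h.z3 (h.z2 hv (x ^ j)) v)
      (by rw [← e', mul_inv_cancel_right, sup_zp_eq h.l4 h.c4 h.c3 (h.z2 hv _) h2]; exact hb)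
    rw [e1] at hg
    have hm' := hm.conj_comp (mem_top g)
    have h3 := hm'.iso_of_card_le (key _ _ hm' (fun d hd => mem_sup_left
      (Normal.conj_mem inferInstance _ (i4.iso_mem hk hd) g)) hg) (by rw [h.cE, h.c3])
    exact not_le_of_card h.cC h.c3 (by norm_num) fun c hc =>
      (hE.of_isConj h3.isConj.symm).mem trivial (h.eC.ge hc)
  have fn : F.IsFullyNormalized (D₃ ⊔ zpowers x) := by
    refine ⟨le_top, fun Q hQ => ?_⟩
    rw [h.norm1, h.c2']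
    by_contra! k
    have h1 : normalizerIn ⊤ Q = ⊤ := by
      by_contra k'
      have := PG.mul_card_le_of_lt hT (lt_top_iff_ne_top.2 k')
      rw [card_top_eq h.c5, pow_succ'] at this
      exact absurd (Nat.le_of_mul_le_mul_left this hp.out.pos) k.not_ge
    obtain rfl := h.uniq Q (normalizer_eq_top_iff.1 (eq_top_iff.2 fun g _ =>
      (h1.ge (mem_top g)).2)) (hQ.card_eq ▸ h.c1)
    obtain ⟨k, hk⟩ := hQ.exists_iso
    exact h.n3 hw hw' ((hk.mor.commute_iff (mem_sup_left hw) (xm _)).1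
      (h.ab2 (hk.maps _ (mem_sup_left hw)) (hk.maps _ (xm _))))
  obtain ⟨f₁, hf₁, e₁⟩ := ext_chain hF hT fn i3 i4 i4 h.l4 le_rfl (d1.ge.trans le_sup_left)
    (relIndex_eq_p le_sup_left h.c3 h.c1).dvd (relIndex_eq_p h.l4 h.c4 h.c3).dvd (by simp) hf
  rw [h.norm1] at hf₁
  have := normal_of_card h.pg h.c5 h.c2'
  have j3 : InvA (F.autGroup (D₂ ⊔ zpowers x)) D₃ := d2 ▸ (invA_top _).commutator (invA_top _)
  have j2 : InvA (F.autGroup (D₂ ⊔ zpowers x)) D₂ := by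
    have := (invA_top (F.autGroup (D₂ ⊔ zpowers x))).inf_centralizer j3
    rwa [h.eC, le_antisymm (fun u hu => h.mem_of h.l2 hu.1 hu.2)
      (le_inf le_sup_left h.l2 : D₂ ≤ (D₂ ⊔ zpowers x) ⊓ C)] at this
  obtain ⟨f₂, hf₂, e₂⟩ := ext_chain hF hT (F.isFullyNormalized_of_le_normalizer le_top
    fun _ _ => mem_nz) j2 j3 j3 h.l3 le_rfl (d2.ge.trans le_sup_left)
    (relIndex_eq_p le_sup_left h.c2 h.c2').dvd (relIndex_eq_p h.l3 h.c3 h.c2).dvd (by simp) hf₁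
  rw [normalizerIn_eq_of_le fun _ _ => mem_nz] at hf₂
  obtain ⟨τ, eτ⟩ := exists_hom_top hf₂
  exact ⟨τ, fun u hu => by rw [eτ, e₂ u (sup_le_sup_right h.l3 _ hu), e₁ u hu]⟩

theorem fixed (h2 : p ≠ 2) (h7 : p ≠ 7)
    (NA : ∀ B : Subgroup G, IsMulCommutative B → Nat.card B ≤ p ^ 3)
    (tor : ∀ l : ZMod p, l ≠ 0 → ∃ τ : G ≃* G, Wz τ.toMonoidHom ⊥ x l⁻¹ ∧
      (∀ u ∈ D₄, Wz τ.toMonoidHom ⊥ u l) ∧ ∀ u ∈ D₃, Wz τ.toMonoidHom D₄ u (l ^ 2)) :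
    ∃ y ∉ commutator G, ∀ σ : G ≃* G, y⁻¹ * σ y ∈ commutator G := by
  have := h.h2; have := h.h3; have := h.h4; have := h.hC
  have hG := h.pg
  obtain ⟨s, hs, hs'⟩ := exists_of_card h.cC h.c2 (by norm_num)
  have eC := sup_zp_eq h.l2 h.c2 h.cC hs hs'
  have m2 := h.z1 s x
  have n2 := h.n1 hs hs'
  have m3 := h.z2 m2 x
  have n3 := h.n2 m2 n2
  have m4 := h.z3 m3 x
  have n4 := h.n3 m3 n3
  have e2 := sup_zp_eq h.l3 h.c3 h.c2 m2 n2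
  have p4 : ∀ u ∈ D₄, u ^ p ∈ (⊥ : Subgroup G) := fun u hu =>
    pow_step hG bot_le (j := 0) (by simp) h.c4 hu
  have p3 : ∀ u ∈ D₃, u ^ p ∈ D₄ := fun u hu => pow_step hG h.l4 h.c4 h.c3 hu
  have k0 : ⁅s, ⁅s, x⁆⁆ ∈ D₃ := cm_swap (h.z2 m2 s)
  have k1 : ⁅s, ⁅s, x⁆⁆ ∉ (⊥ : Subgroup G) := fun k => by
    have h1 := NA C (PG.isMulCommutative_iff_forall.2 fun a ha b hb => cm_bot.1 (cm_sup_sup
      (fun a ha b hb => cm_bot.2 (h.ab2 ha hb)) (fun a ha => cm_swap (cm_sup_zp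
        (fun d hd => cm_bot.2 (h.cC3 hd hs).symm) k (e2.ge ha))) (eC.ge ha) (eC.ge hb)))
    rw [h.cC, Nat.pow_le_pow_iff_right hp.out.one_lt] at h1
    omega
  have w2 : ∀ {τ : G →* G} {a b : ZMod p}, Wz τ D₂ s b → Wz τ C x a → Wz τ D₃ ⁅s, x⁆ (b * a) :=
    fun h1 h3 => h1.comm h3 (fun u hu => h.z2 hu x) (fun u hu v _ => h.z2 hu v)
      (fun v hv => cm_sup_zp (fun d hd => cm_swap (h.z2 hd s)) (cm_of_commute (.refl s)) (eC.ge hv))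
      (h.z2 m2 s) (h.z2 m2 x)
  have w5 : ∀ {τ : G →* G} {a b : ZMod p} {K : Subgroup G} [K.Normal], Wz τ D₂ s b →
      Wz τ D₃ ⁅s, x⁆ a → (∀ g, ⁅⁅s, ⁅s, x⁆⁆, g⁆ ∈ K) → Wz τ K ⁅s, ⁅s, x⁆⁆ (b * a) :=
    fun h1 h3 h4 => h1.comm h3 (fun u hu => cm_of_commute (h.ab2 hu m2))
      (fun u hu v hv => cm_of_commute (h.ab2 hu (h.l3 hv)))
      (fun v hv => cm_of_commute (h.cC3 hv hs).symm) (h4 _) (h4 _)
  have tor' : ∀ l : ZMod p, l ≠ 0 → ∃ τ : G →* G, (∀ u ∈ D₄, Wz τ ⊥ u l) ∧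
      (∀ u ∈ D₃, Wz τ D₄ u (l ^ 2)) ∧ Wz τ D₂ s (l ^ 4) ∧ Wz τ D₃ ⁅s, x⁆ (l ^ 3) := by
    intro l hl
    obtain ⟨τ, t1, t2, t3⟩ := tor l hl
    obtain ⟨b, -, hb⟩ := exists_wz_char hG h.l2 h.c2 h.cC τ
    have t4 := w2 (hb s hs) (t1.mono bot_le)
    have t5 := (t4.comm t1 (fun u hu => h.z3 hu x) (fun u hu v _ => h.z3 hu v)
      (fun v hv => by rw [mem_bot.1 hv]; simp) (h.z3 m3 _) (h.z3 m3 _)).uniq (t3 _ m3) n3 (p3 _ m3)
    have e : b = l ^ 4 := by field_simp at t5; exact t5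
    subst e
    exact ⟨_, t2, t3, hb s hs, by rwa [show l ^ 4 * l⁻¹ = l ^ 3 by field_simp] at t4⟩
  have k2 : ⁅s, ⁅s, x⁆⁆ ∈ D₄ := by
    by_contra k
    obtain ⟨τ, -, t2, t3, t4⟩ := tor' (-1) (by simp)
    exact neg_one_ne h2 (by linear_combination (w5 t3 t4 (h.z3 k0)).uniq (t2 _ k0) k (p3 _ k0))
  have k3 : ∀ g, ⁅⁅s, ⁅s, x⁆⁆, g⁆ ∈ (⊥ : Subgroup G) := fun g => cm_bot.2 (h.z4 k2 g)
  obtain rfl : p = 3 := by
    obtain ⟨τ, t1, -, t3, t4⟩ := tor' 2 (two_ne h2)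
    have h1 := (w5 t3 t4 k3).uniq (t1 _ k2) k1 (p4 _ k2)
    have h3 : ((3 * 3 * 7 : ℕ) : ZMod p) = 0 := by
      have : (2 : ZMod p) * 63 = 0 := by linear_combination h1
      simpa using (mul_eq_zero.1 this).resolve_left (two_ne h2)
    rw [ZMod.natCast_eq_zero_iff, hp.out.dvd_mul, hp.out.dvd_mul, or_self,
      Nat.prime_dvd_prime_iff_eq hp.out Nat.prime_three,
      Nat.prime_dvd_prime_iff_eq hp.out (by norm_num)] at h3
    exact h3.resolve_right h7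
  refine ⟨s, h.e2 ▸ hs', fun σ => ?_⟩
  obtain ⟨a, a0, ha⟩ := exists_wz_char hG le_top h.cC (card_top_eq h.c5) σ
  obtain ⟨b, b0, hb⟩ := exists_wz_char hG h.l2 h.c2 h.cC σ
  obtain ⟨ζ, -, hζ⟩ := exists_wz_char hG bot_le (j := 0) (by simp) h.c4 σ
  have t2 := w2 (hb s hs) (ha x trivial)
  have t3 := t2.comm (ha x trivial) (fun u hu => h.z3 hu x) (fun u hu v _ => h.z3 hu v)
    (fun v hv => cm_sup_zp (fun d hd => cm_of_commute (h.ab2 m2 hd)) (cm_swap k2) (eC.ge hv))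
    (h.z3 m3 _) (h.z3 m3 _)
  have t4 := (t3.comm (ha x trivial) (fun u hu => cm_bot.2 (h.z4 hu x))
    (fun u hu v _ => cm_bot.2 (h.z4 hu v)) (fun v hv => cm_bot.2 (h.cC3 m3 hv))
    (cm_bot.2 (h.z4 m4 _)) (cm_bot.2 (h.z4 m4 _))).uniq (hζ _ m4) (fun k => n4 (cm_bot.1 k))
    (p4 _ m4)
  have t5 := (w5 (hb s hs) t2 k3).uniq (hζ _ k2) k1 (p4 _ k2)
  have e : b = 1 := mul_right_cancel₀ (mul_ne_zero b0 a0) (by
    rw [t5, ← t4, mul_assoc, sq_eq_one_three a0, one_mul, mul_one])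
  rw [h.e2]
  exact (e ▸ hb s hs).one (pow_step hG h.l2 h.c2 h.cC hs)

end CB

theorem fixed_of_pearl (hF : F.IsSaturated p) (h5 : Nat.card G = p ^ 5) (h2 : p ≠ 2) (h7 : p ≠ 7)
    (NA : ∀ B : Subgroup G, IsMulCommutative B → Nat.card B ≤ p ^ 3) (hE : F.IsEssential p E)
    (cE : Nat.card E = p ^ 2) :
    ∃ y ∉ commutator G, ∀ σ : G ≃* G, y⁻¹ * σ y ∈ commutator G := by
  have hG : IsPGroup p G := .of_card h5
  have hT := hG.to_subgroup ⊤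
  have hn : E ≤ normalizer ((⊥ : Subgroup G) : Set G) := fun _ _ => mem_nz
  have hi : (⊥ : Subgroup G).relIndex E ∣ p ^ 2 := by rw [relIndex_bot_left, cE]
  obtain ⟨s₀, hs₀, hs₀'⟩ := hE.exists_notMem hF hT
  obtain ⟨⟨c₀, S₀⟩, -⟩ := hE.exists_sl2Sec_frattini hF hT (invA_bot _) bot_le hn hi hs₀ hs₀'
  obtain ⟨D₂, D₃, D₄, C, h4E, c4, H⟩ := exists_cb h5 cE (fun g h => hE.mem_of_comm trivial h)
    fun e he => mem_bot.1 (S₀.toCoord.pow_mem' he)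
  obtain ⟨x₀, hx₀, hx₀'⟩ := exists_of_card cE c4 (by norm_num)
  have h₀ := H x₀ hx₀ hx₀'
  have := h₀.h2; have := h₀.h3; have := h₀.h4
  have eE : ∀ x ∈ E, x ∉ D₄ → D₄ ⊔ zpowers x = E := fun x => sup_zp_eq h4E h₀.c4 cE
  obtain ⟨w, hw, hw'⟩ := exists_of_card h₀.c3 h₀.c4 (by norm_num)
  have wN : w ∈ normalizerIn ⊤ E :=
    ⟨trivial, eE x₀ hx₀ hx₀' ▸ mem_nz_sup_zp (mem_sup_left (cm_swap (h₀.z3 hw x₀)))⟩
  have m4 : ∀ u ∈ D₃, u ∈ E → u ∈ D₄ := fun u hu hu' => h₀.mem_of (h₀.l4.trans (h₀.l3.trans h₀.l2))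
    ((eE x₀ hx₀ hx₀').ge hu') (h₀.l2 (h₀.l3 hu))
  have wE : w ∉ E := fun k => hw' (m4 w hw k)
  obtain ⟨⟨c, T⟩, -⟩ := hE.exists_sl2Sec_frattini hF hT (invA_bot _) bot_le hn hi wN wE
  obtain ⟨x, hx, ex⟩ := T.surj ![0, 1]
  have x4 : x ∉ D₄ := fun k => by
    simpa [ex] using (fix_iff T wN.2 hx).1 (conj_eq_iff.2 (h₀.z4 k w))
  have h := H x hx x4
  have e1 : E ⊔ zpowers w = D₃ ⊔ zpowers x := by
    rw [← eE x hx x4, ← sup_zp_eq h.l4 h.c4 h.c3 hw hw', sup_right_comm]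
  refine h.fixed h2 h7 NA fun l hl => ?_
  obtain ⟨γ, -, hγ, -, hγa, β, hβ, -, eβ, b3⟩ := T.exists_torus_ext (hE.receptive hF hT)
    hE.isCentric le_rfl wN (K := ⊤) (fun _ _ => trivial) hl
  obtain ⟨τ, eτ⟩ := h.extend hF (f := totA β) ((eE x hx x4).symm ▸ hE.isCentric)
    (e1 ▸ iso_totA le_top hβ)
  have e2 : ∀ u ∈ E, τ.toMonoidHom u = totA γ u := fun u hu =>
    (eτ u (e1.le (mem_sup_left hu))).trans (eβ u hu)
  refine ⟨τ, (wz_snd T.toCoord hx (totA_mem γ hx) (by simp [ex]) (hγa x hx)).congr (e2 x hx),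
    fun u hu => (wz_fst T.toCoord (h4E hu) (totA_mem γ (h4E hu)) ((fix_iff T wN.2 (h4E hu)).1
      (conj_eq_iff.2 (h.z4 hu w))) (hγa u (h4E hu))).congr (e2 u (h4E hu)), fun u hu => ?_⟩
  refine Wz.sec (x := w) (wz_of_right (m4 _ (mul_mem (char_mem τ hw) (inv_mem (pow_mem hw _))) ?_))
    (fun b hb => char_mem τ hb) ((sup_zp_eq h.l4 h.c4 h.c3 hw hw').ge hu)
  rwa [← eτ w (mem_sup_left hw)] at b3

end Cfsg.Agent.Fus.R3
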