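import Mathlib
import Cfsg.Agent.Fus.R3All

/-! Weights of the torus around a non-normal essential subgroup. -/

set_option autoImplicit false

namespace Cfsg.Agent.Fus.R3

open Subgroup Cfsg.Agent.GT
open Cfsg.FusionSystem hiding inv_mem
open scoped Matrix MatrixGroups commutatorElement

variable {G : Type*} [Group G] {p : ℕ} {B C D E K L M N T : Subgroup G} {a g s u x y : G}
  {l m : ZMod p}

theorem Wz.mem {τ : G → G} (h : Wz τ B x l) (hB : B ≤ K) (hx : x ∈ K) : τ x ∈ K := by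
  obtain ⟨m, -, h⟩ := h
  simpa using mul_mem (zpow_mem hx m) (hB h)

theorem Wz.pow {τ : G →* G} [C.Normal] (h : Wz τ B x l) (c1 : ∀ b ∈ B, ⁅x, b⁆ ∈ C)
    (c2 : ∀ b ∈ B, b ^ p ∈ C) : Wz τ C (x ^ p) l := by
  obtain ⟨m, e, h⟩ := h
  refine ⟨m, e, wt_iff.2 ?_⟩
  have e1 : τ x = x ^ m * ((x ^ m)⁻¹ * τ x) := by group
  rw [map_pow, e1, QuotientGroup.mk_pow, QuotientGroup.mk_mul, QuotientGroup.mk_zpow,
    ((commute_mk.2 (c1 _ h)).zpow_left m).mul_pow, mk_pow_eq_one.2 (c2 _ h), mul_one,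
    QuotientGroup.mk_pow, ← zpow_natCast, ← zpow_natCast, ← zpow_mul, ← zpow_mul, mul_comm]

theorem Wz.map {H : Type*} [Group H] {ι : H →* G} {f : H → H} {τ : G → G} {B : Subgroup H} {x : H}
    (h : Wz f B x l) (e : τ (ι x) = ι (f x)) : Wz τ (B.map ι) (ι x) l := by
  obtain ⟨m, e', h⟩ := h
  exact ⟨m, e', by
    rw [Wt, e, ← map_zpow, ← map_inv, ← map_mul]; exact mem_map_of_mem _ h⟩

theorem wz_fix {τ : G → G} (h : τ x = x) : Wz τ B x (1 : ZMod p) :=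
  wz_one (by rw [h, inv_mul_cancel]; exact one_mem _)

variable [hp : Fact p.Prime]

theorem Wz.down {τ : G → G} (h : Wz τ C x l) (h' : Wz τ K x m) (hC : C ≤ K) (hxp : x ^ p ∈ K)
    (ne : l ≠ m) : x ∈ K := by_contra fun k => ne ((h.mono hC).uniq h' k hxp)

theorem three_ne (h5 : 5 ≤ p) : (3 : ZMod p) ≠ 0 := fun e => by
  have := Nat.le_of_dvd (by norm_num) ((ZMod.natCast_eq_zero_iff 3 p).1 e)
  omega

theorem six_ne (h5 : 5 ≤ p) : (6 : ZMod p) ≠ 0 := by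
  rw [show (6 : ZMod p) = 2 * 3 by norm_num]
  exact mul_ne_zero (two_ne (by omega)) (three_ne h5)

/-- `N = N_G(E)` has index `p`, and `N / D` is a plane with lines `E / D` and `M / D`. -/
structure NG (p : ℕ) (N M E D : Subgroup G) (x : G) : Prop where
  nN : N.Normal
  nM : M.Normal
  nD : D.Normal
  ne : N ≠ ⊤
  cM : ln p N = ln p M + 1
  cE : ln p N = ln p E + 1
  cD : ln p M = ln p D + 1
  DM : D ≤ M
  DE : D ≤ E
  MN : M ≤ N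
  EN : E ≤ N
  xE : x ∈ E
  xM : x ∉ M
  ph : Ph p N ≤ D
  nz : ∀ g ∈ normalizer (E : Set G), g ∈ N

variable [Finite G] [hG : Fact (IsPGroup p G)]

theorem symm_mem (τ : G ≃* G) (h : ∀ u ∈ M, τ u ∈ M) (hu : u ∈ M) : τ.symm u ∈ M := by
  have e : M.map τ.toMonoidHom = M := PG.eq_of_le_of_card_le (map_le_iff_le_comap.2 h)
    (card_map_of_injective τ.injective).ge
  obtain ⟨v, hv, rfl⟩ := e.ge hu
  simpa using hv

namespace NG

variable (h : NG p N M E D x)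
include h

theorem eE : D ⊔ zpowers x = E :=
  sup_zp_ln p h.DE (by have := h.cM; have := h.cE; have := h.cD; omega) h.xE fun k => h.xM (h.DM k)

theorem xg (hg : g ∉ N) : ⁅x, g⁆ ∉ D := fun k =>
  have := h.nD
  hg (h.nz g (h.eE ▸ mem_nz_sup_zp (mem_sup_left k)))

theorem cNG (hu : u ∈ N) (g : G) : ⁅u, g⁆ ∈ M :=
  have := h.nN; have := h.nM
  cm_ln p h.MN h.cM.le hu g

theorem cMG (hu : u ∈ M) (g : G) : ⁅u, g⁆ ∈ D :=
  have := h.nD; have := h.nM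
  cm_ln p h.DM h.cD.le hu g

theorem cN : ln p (⊤ : Subgroup G) = ln p N + 1 := by
  have := h.nD
  have c1 := ln_Cm p (x := x) (H := ⊤) h.DM fun g _ => h.cNG (h.EN h.xE) g
  have c2 := ln_mono p (fun g hg => by_contra fun k => h.xg k (mem_Cm.1 hg.2) : ⊤ ⊓ Cm x D ≤ N)
  have c3 := ln_lt p h.ne.lt_top
  have := h.cD
  omega

theorem top_eq (hg : g ∉ N) : N ⊔ zpowers g = ⊤ := sup_zp_ln p le_top h.cN.le trivial hg

theorem line_conj (hu : u ∈ N) (hu' : u ∉ M) : ∃ k, k * u * k⁻¹ ∈ E := by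
  have := h.nD; have := h.nM
  obtain ⟨g, -, hg⟩ := SetLike.not_le_iff_exists.1 (top_le_iff.not.2 h.ne)
  obtain ⟨b, hb, j, e⟩ := (PG.mem_sup_zpowers_of_mem_normalizer mem_nz).1
    ((sup_zp_ln p h.MN h.cM.le (h.EN h.xE) h.xM).ge hu)
  have h1 : x ^ j ∉ M := fun k => hu' (e ▸ mul_mem hb k)
  have h' : NG p N M E D (x ^ j) := { h with xE := zpow_mem h.xE j, xM := h1 }
  have h2 : ⁅g, x ^ j⁆ ∈ M := cm_swap (h.cNG (h.EN h'.xE) g)
  obtain ⟨k, hk⟩ := conj_into (u := u) (h.cMG h2 g) (by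
    rw [← e, mul_inv_cancel_right, sup_zp_ln p h.DM h.cD.le h2 fun k => h'.xg hg (cm_swap k)]
    exact hb)
  exact ⟨k, h'.eE ▸ hk⟩

theorem wt_g {τ : G →* G} (hl : l ≠ 0) (h1 : Wz τ D x l⁻¹) (h2 : ∀ u ∈ M, Wz τ D u (l ^ 2))
    (hg : g ∉ N) : Wz τ N g (l ^ 3) := by
  have := h.nN; have := h.nD
  obtain ⟨γ, hγ⟩ := exists_wz (p := p) (τ := τ) ((h.top_eq hg).ge (mem_top _))
  have m := h.cNG (h.EN h.xE) g
  have h3 := (h1.comm hγ (fun u hu => cm_left hu g) (fun u hu v _ => cm_left hu v)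
    (fun v hv => h.ph (cm_mem_Ph (h.EN h.xE) hv)) (h.cMG m x) (h.cMG m g)).uniq (h2 _ m) (h.xg hg)
    (pow_ln h.DM h.cD.le m)
  rwa [show l ^ 3 = γ by field_simp at h3; exact h3.symm]

theorem cm_Y [T.Normal] [L.Normal] (h5 : 5 ≤ p) (TL : T ≤ L) (LD : L ≤ D)
    (c1 : ln p L ≤ ln p T + 1) (c2 : ln p D ≤ ln p L + 1) (hc : ∀ d ∈ D, ∀ n ∈ N, ⁅d, n⁆ ∈ T)
    {τ : G →* G} (h1 : Wz τ D x (2 : ZMod p)⁻¹) (h2 : ∀ u ∈ M, Wz τ D u ((2 : ZMod p) ^ 2))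
    (h3 : ∀ u ∈ L, Wz τ T u (2 : ZMod p)) (hy : y ∈ D) (h4 : Wz τ T y (1 : ZMod p)) (g : G) :
    ⁅y, g⁆ ∈ T := by
  have := h.nD
  by_cases hg : g ∈ N
  · exact hc y hy g hg
  have m : ⁅y, g⁆ ∈ L := cm_ln p LD c2 hy g
  exact (h4.comm (h.wt_g (two_ne (by omega)) h1 h2 hg) (fun u hu => cm_left hu g)
    (fun u hu v _ => cm_left hu v) (hc y hy) (cm_ln p TL c1 m y) (cm_ln p TL c1 m g)).down (h3 _ m)
    le_rfl (pow_ln TL c1 m) fun e => six_ne h5 (by linear_combination e)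

theorem final [T.Normal] (h5 : 5 ≤ p) (sr : SectionalPRankLE p 3 G) (TD : T ≤ D)
    (cT : ln p D = ln p T + 1) (hT : ∀ t ∈ T, ∀ n ∈ N, Commute t n) (ΦT : Ph p E ≤ T)
    (cΦ : ln p T = ln p (Ph p E) + 1) (hx : ∀ s ∈ M, s ∉ D → ⁅x, s⁆ ∉ T)
    (tor : ∀ l : ZMod p, l ≠ 0 → ∃ τ : G ≃* G, (∀ t ∈ T, τ t = t) ∧
      (∀ u ∈ D, Wz τ.toMonoidHom T u l) ∧ Wz τ.toMonoidHom D x l⁻¹ ∧
      ∀ u ∈ M, Wz τ.toMonoidHom D u (l ^ 2)) : False := by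
  have := h.nN; have := h.nM; have := h.nD
  have c1 := h.cN; have c2 := h.cM; have c3 := h.cD
  have h2 : p ≠ 2 := by omega
  have n1 := neg_one_ne h2
  obtain ⟨τ, t1, t2, t3, t4⟩ := tor (-1) (by simp)
  obtain ⟨σ, s1, s2, s3, s4⟩ := tor 2 (two_ne h2)
  have cT' : ∀ t ∈ T, ∀ g, Commute t g := fun t ht g => by
    obtain ⟨k, -, hk⟩ := SetLike.not_le_iff_exists.1 (top_le_iff.not.2 h.ne)
    have k1 : k⁻¹ * τ k ∉ N := fun e => hk ((h.wt_g (by simp) t3 t4 hk).down (wz_one e) le_rfl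
      (Ph_le_of_ln c1.le (pow_mem_Ph (mem_top k))) fun e => n1 (by linear_combination e))
    refine commute_sup_zp (hT t ht) ?_ ((h.top_eq k1).ge (mem_top g))
    have e := t1 _ (‹T.Normal›.conj_mem t ht k)
    rw [map_mul, map_mul, map_inv, t1 t ht] at e
    rw [← cm_bot, commutatorElement_def, mem_bot, ← mul_right_inj k, ← mul_left_inj k⁻¹,
      show k * (t * (k⁻¹ * τ k) * t⁻¹ * (k⁻¹ * τ k)⁻¹) * k⁻¹ =
        k * t * k⁻¹ * (τ k * t * (τ k)⁻¹)⁻¹ by group, e]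
    group
  have nΦ : (Ph p E).Normal := normal_of_cent fun t ht =>
    mem_center_iff.2 fun g => (cT' t (ΦT ht) g).symm.eq
  have z : ∀ {C : Subgroup G}, ∀ t ∈ T, ∀ g, ⁅t, g⁆ ∈ C := fun t ht g => cm_of_commute (cT' t ht g)
  have dT : ∀ d ∈ D, ∀ g, ⁅d, g⁆ ∈ T := fun d => cm_ln p TD cT.le
  have pT : ∀ t ∈ T, t ^ p ∈ Ph p E := fun t => pow_ln ΦT cΦ.le
  obtain ⟨s, hs, hs'⟩ := exists_of_ln p (by omega : ln p D < ln p M)
  have ha : ⁅x, s⁆ ∈ D := cm_swap (h.cMG hs x)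
  have eD := sup_zp_ln p TD cT.le ha (hx s hs hs')
  have eM := sup_zp_ln p h.DM c3.le hs hs'
  have MP : M ≤ Cm s T := eM.ge.trans (sup_le (fun d hd => mem_Cm.2 (cm_swap (dT d hd s)))
    (zpowers_le.2 (mem_Cm.2 (cm_of_commute (.refl s)))))
  have xP : x ∉ Cm s T := fun k => hx s hs hs' (cm_swap (mem_Cm.1 k))
  have c4 := ln_Cm p (x := s) (H := ⊤) TD fun g _ => h.cMG hs g
  rw [top_inf_eq] at c4
  have c5 := ln_lt' p le_top (mem_top x) xP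
  obtain ⟨g, hg, hg'⟩ : ∃ g ∈ Cm s T, g ∉ N := SetLike.not_le_iff_exists.1 fun k =>
    xP ((eq_of_ln p k (by omega)).ge (h.EN h.xE))
  have eP := sup_zp_ln p MP (by omega) hg fun k => hg' (h.MN k)
  have mg : ∀ u ∈ M, ⁅u, g⁆ ∈ T := fun u =>
    cm_of_sup eM (fun d hd => dT d hd g) (mem_Cm.1 hg)
  have wg : ∀ {l : ZMod p} {τ : G ≃* G}, l ≠ 0 → (∀ t ∈ T, τ t = t) → Wz τ.toMonoidHom D x l⁻¹ →
      (∀ u ∈ M, Wz τ.toMonoidHom D u (l ^ 2)) → Wz τ.toMonoidHom M g (l ^ 3) := by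
    intro l τ hl a1 a2 a3
    have m := mg _ (symm_mem τ (fun u hu => (a3 u hu).mem h.DM hu) hs)
    refine ((h.wt_g hl a2 a3 hg').inf hg (mem_Cm.2 ?_)).mono fun u hu =>
      mem_of_ln p h.MN c2.le MP (fun k => xP (k (h.EN h.xE))) hu.1 hu.2
    rwa [← a1 _ m, map_commutatorElement, τ.apply_symm_apply] at m
  have dd : ∀ u ∈ D, ∀ v ∈ D, ⁅u, v⁆ ∈ Ph p E := fun u hu v hv => cm_mem_Ph (h.DE hu) (h.DE hv)
  have r1 : ⁅⁅x, s⁆, s⁆ ∈ Ph p E := ((t2 _ ha).comm (t4 s hs) (fun u hu => z u hu s)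
    (fun u hu v _ => z u hu v) (dd _ ha) (z _ (dT _ ha s) _) (z _ (dT _ ha s) _)).down
    (wz_fix (t1 _ (dT _ ha s))) le_rfl (pT _ (dT _ ha s)) fun e => n1 (by linear_combination e)
  have ds : ∀ u ∈ D, ⁅u, s⁆ ∈ Ph p E := fun u => cm_of_sup eD (fun t ht => z t ht s) r1
  have mm : ∀ u ∈ M, ∀ v ∈ M, ⁅u, v⁆ ∈ Ph p E := fun u hu v hv =>
    cm_sup_sup dd ds (eM.ge hu) (eM.ge hv)
  have r2 : ⁅⁅x, s⁆, g⁆ ∈ Ph p E := by
    have m := cm_swap (h.cNG (h.EN h.xE) g)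
    have e := (cT' _ (cm_swap (mg s hs)) (⁅g, x⁆ * x)).eq
    have e' := (cT' _ (cm_swap (mg s hs)) ⁅⁅g, x⁆ * x, s⁆).eq
    refine cm_swap ?_
    rw [show ⁅g, ⁅x, s⁆⁆ = ⁅g, x⁆ * x * ⁅g, s⁆ * s * (⁅g, x⁆ * x)⁻¹ * s⁻¹ * ⁅g, s⁆⁻¹ * ⁅x, s⁆⁻¹ by
      simp only [commutatorElement_def]; group, ← e,
      show ⁅g, s⁆ * (⁅g, x⁆ * x) * s * (⁅g, x⁆ * x)⁻¹ * s⁻¹ = ⁅g, s⁆ * ⁅⁅g, x⁆ * x, s⁆ by
      simp only [commutatorElement_def]; group, e', mul_inv_cancel_right,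
      show ⁅⁅g, x⁆ * x, s⁆ * ⁅x, s⁆⁻¹ = ⁅⁅g, x⁆, ⁅x, s⁆⁆ * (⁅x, s⁆ * ⁅⁅g, x⁆, s⁆ * ⁅x, s⁆⁻¹) by
      simp only [commutatorElement_def]; group]
    exact mul_mem (mm _ m _ (h.DM ha)) (nΦ.conj_mem _ (mm _ m s hs) _)
  have dg : ∀ u ∈ D, ⁅u, g⁆ ∈ Ph p E := fun u => cm_of_sup eD (fun t ht => z t ht g) r2
  have w1 := wg (by simp) t1 t3 t4
  have w2 := wg (two_ne h2) s1 s3 s4
  have r3 : ⁅s, g⁆ ∈ Ph p E := ((t4 s hs).comm w1 dg (fun u hu => mm u (h.DM hu)) (mm s hs)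
    (z _ (mg s hs) _) (z _ (mg s hs) _)).down (wz_fix (t1 _ (mg s hs))) le_rfl (pT _ (mg s hs))
    fun e => n1 (by linear_combination e)
  have pD : ∀ u ∈ D, u ^ p ∈ Ph p E := fun u hu => pow_mem_Ph (h.DE hu)
  have p1 : s ^ p ∈ Ph p E := by
    have a1 := pow_ln h.DM c3.le hs
    have a2 := ((t4 s hs).pow (fun b hb => mm s hs b (h.DM hb)) pD).down (t2 _ a1) ΦT
      (pow_ln TD cT.le a1) fun e => n1 (by linear_combination -e)
    exact ((s4 s hs).pow (fun b hb => mm s hs b (h.DM hb)) pD).down (wz_fix (s1 _ a2)) le_rfl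
      (pT _ a2) fun e => three_ne h5 (by linear_combination e)
  have phM : Ph p M ≤ Ph p E := (Ph_mono eM.ge).trans (Ph_sup_zp_le (Ph_mono h.DE) p1 ds)
  have mg' : ∀ u ∈ M, ⁅u, g⁆ ∈ Ph p E := fun u => cm_of_sup eM dg r3
  have p2 : g ^ p ∈ Ph p E := by
    have v1 := w1.pow (fun b hb => cm_swap (mg' b hb)) fun b hb => phM (pow_mem_Ph hb)
    have v2 := w2.pow (fun b hb => cm_swap (mg' b hb)) fun b hb => phM (pow_mem_Ph hb)
    have a1 := pow_ln (p := p) MP (by omega) hg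
    have a2 := v1.down (t4 _ a1) (ΦT.trans TD) (pow_ln h.DM c3.le a1)
      fun e => n1 (by linear_combination e)
    have a3 := v2.down (s2 _ a2) ΦT (pow_ln TD cT.le a2) fun e => six_ne h5 (by linear_combination e)
    exact v1.down (wz_fix (t1 _ a3)) le_rfl (pT _ a3) fun e => n1 (by linear_combination e)
  have := ln_rank sr (((ΦT.trans TD).trans h.DM).trans MP)
    ((Ph_mono eP.ge).trans (Ph_sup_zp_le phM p2 mg'))
  omega

end NG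

end Cfsg.Agent.Fus.R3
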