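import Mathlib
import Cfsg.Agent.Fus.R3NonA

/-! A non-normal essential subgroup in sectional rank three, `p ≥ 5`, is a pearl. -/

set_option autoImplicit false

namespace Cfsg.Agent.Fus.R3

open Subgroup Cfsg.Agent.GT
open Cfsg.FusionSystem hiding inv_mem
open scoped Matrix MatrixGroups commutatorElement

variable {G : Type*} [Group G] {p : ℕ} {F : FusionSystem (⊤ : Subgroup G)}
  {A : Subgroup (MulAut G)} {α : MulAut G} {D E E₁ E₂ M T X Y : Subgroup G} {a s x y : G}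

def Ai (A : Subgroup (MulAut G)) (X : Subgroup G) : Prop := ∀ α ∈ A, ∀ x ∈ X, α x ∈ X

theorem Ai.map_eq (h : Ai A X) (hα : α ∈ A) : X.map α.toMonoidHom = X :=
  le_antisymm (map_le_iff_le_comap.2 (h α hα)) fun x hx => ⟨α⁻¹ x, h _ (inv_mem hα) x hx, by simp⟩

theorem Ai.sup (h : Ai A X) (h' : Ai A Y) : Ai A (X ⊔ Y) := fun α hα =>
  map_le_iff_le_comap.1 (by rw [Subgroup.map_sup, h.map_eq hα, h'.map_eq hα] :
    (X ⊔ Y).map α.toMonoidHom ≤ X ⊔ Y)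

theorem ai_char [X.Characteristic] : Ai A X := fun α _ _ hx =>
  characteristic_iff_map_le.1 ‹_› α (mem_map_of_mem _ hx)

theorem normal_of_cm (h : ∀ d ∈ D, ∀ g, ⁅d, g⁆ ∈ D) : D.Normal := ⟨fun d hd g => by
  simpa [commutatorElement_def] using mul_mem (cm_swap (h d hd g)) hd⟩

theorem ln_map_inj {H : Type*} [Group H] {ι : G →* H} (h : Function.Injective ι) (X : Subgroup G) :
    ln p (X.map ι) = ln p X := by rw [ln, card_map_of_injective h, ln]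

theorem Ai.comap [T.Normal] (hT : Ai A T) {K : Subgroup (G ⧸ T)}
    (hK : ∀ σ : (G ⧸ T) ≃* (G ⧸ T), ∀ x ∈ K, σ x ∈ K) : Ai A (K.comap (qm T)) :=
  fun α hα _ hx => hK (QuotientGroup.congr T T α (hT.map_eq hα)) _ hx

theorem CaseA.symm (H : CaseA p E₁ E₂ a) : CaseA p E₂ E₁ a :=
  ⟨H.aZ, inf_comm E₁ E₂ ▸ H.cen, H.der, inf_comm E₁ E₂ ▸ H.ph₂, inf_comm E₁ E₂ ▸ H.ph₁,
    by rw [H.ph₂, ← H.ph₁]; exact H.na⟩

/-- The structure of `N_S(E)` modulo the largest invariant subgroup `T`. -/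
structure SH (F : FusionSystem (⊤ : Subgroup G)) (p : ℕ) (A : Subgroup (MulAut G))
    (E T D : Subgroup G) : Prop where
  aT : Ai A T
  aD : Ai A D
  iT : Iv F E T
  ph : Ph p E ≤ T
  DE : D ≤ E
  cD : ln p E = ln p D + 1
  top : Ph p ⊤ ≤ D
  cen : ∀ x, x ∈ D ↔ ∀ g, ⁅x, g⁆ ∈ T
  cL : ln p (T ⊔ commutator G) ≤ ln p T + 1

variable [Finite G] [hp : Fact p.Prime] [hG : Fact (IsPGroup p G)]

theorem Lc.exists_tr (h : Lc F p E) (hn : F.IsNormal E) (α : MulAut G) :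
    ∃ F₂, Lc F₂ p (E.map α.toMonoidHom) ∧ F₂.IsNormal (E.map α.toMonoidHom) ∧
      ∀ X, X.map α.toMonoidHom = X → (Iv F E X ↔ Iv F₂ (E.map α.toMonoidHom) X) := by
  obtain ⟨F₂, k⟩ := F.exists_isIsoVia (θ := α.toMonoidHom) (η := α.symm) (S' := ⊤)
    (fun x _ y _ => map_mul _ x y) (by rw [img_eq_map, map_top_of_surjective _ α.surjective])
    fun x _ => α.symm_apply_apply x
  rw [← img_eq_map]
  refine ⟨F₂, ⟨k.isSaturated h.sat (pg p ⊤), k.isEssential h.ess, ?_, h.odd, h.sr⟩, k.isNormal hn,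
    fun X e => ⟨fun i => ?_, fun i => ?_⟩⟩
  · rw [img_eq_map, ln_map_inj α.injective, h.idx]
  · have := invA_via k le_top i
    rwa [img_eq_map _ X, e] at this
  · have := invA_via k.symm le_top i
    rwa [k.img_img le_top, ← e, ← img_eq_map, k.img_img le_top] at this

theorem Lc.stepH (h₁ : Lc F p E) (n₁ : F.IsNormal E) (hα : α ∈ A)
    (hne : E ≠ E.map α.toMonoidHom) : ∃ T D, SH F p A E T D := by
  obtain ⟨F', h₂, n₂, tr⟩ := h₁.exists_tr n₁ α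
  obtain ⟨T, ⟨i₁, aT⟩, hmax⟩ := exists_largest (fun X => Iv F E X ∧ Ai A X)
    ⟨invA_bot _, ai_char⟩ fun A B a b => ⟨a.1.sup b.1, a.2.sup b.2⟩
  have i₂ := (tr T (aT.map_eq hα)).1 i₁
  have ph : Ph p E ≤ T ↔ Ph p (E.map α.toMonoidHom) ≤ T := by
    rw [← map_Ph, ← map_le_map_iff_of_injective (f := α.toMonoidHom) α.injective, aT.map_eq hα]
  generalize E.map α.toMonoidHom = E₂ at *
  have := h₁.nI i₁
  obtain ⟨F₁, q₁, k₁⟩ := h₁.exists_quot n₁ i₁ (h₁.claimA h₂ hne i₁ i₂ (iv_top_of_normal n₁))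
  obtain ⟨F₂, q₂, k₂⟩ := h₂.exists_quot n₂ i₂ (h₂.claimA h₁ hne.symm i₂ i₁ (iv_top_of_normal n₂))
  have hne' : E.map (qm T) ≠ E₂.map (qm T) := fun e =>
    hne (by rw [← comap_map_qm i₁.1, e, comap_map_qm i₂.1])
  have h0 : ∀ K : Subgroup (G ⧸ T), (∀ σ : (G ⧸ T) ≃* (G ⧸ T), ∀ x ∈ K, σ x ∈ K) →
      Iv F₁ (E.map (qm T)) K ∨ Iv F₂ (E₂.map (qm T)) K → K = ⊥ := fun K c i => by
    rw [← map_comap_qm K, Subgroup.map_eq_bot_iff, QuotientGroup.ker_mk']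
    exact hmax _ ⟨i.elim (iv_comap q₁ i₁.1) fun i =>
      (tr _ ((aT.comap c).map_eq hα)).2 (iv_comap q₂ i₂.1 i), aT.comap c⟩
  have z : ¬ (Iv F₁ (E.map (qm T)) (Oz p ⊤) ∨ Iv F₂ (E₂.map (qm T)) (Oz p ⊤)) := fun i => by
    have := k₁.Z_pos
    rw [h0 _ (fun σ x hx => mem_Oz_top.2 ⟨fun y => ?_, by rw [← map_pow, hx.2.2, map_one]⟩) i,
      ln_bot] at this
    · omega
    · simpa using (Z_comm hx (σ.symm y)).map σ
  have ph' : Ph p (E.map (qm T)) ≤ ⊥ ↔ Ph p (E₂.map (qm T)) ≤ ⊥ := by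
    simpa only [← map_Ph, le_bot_iff, Subgroup.map_eq_bot_iff, QuotientGroup.ker_mk'] using ph
  have out : ∀ {F₁ F₂ : FusionSystem (⊤ : Subgroup (G ⧸ T))} {E₁ E₂ : Subgroup (G ⧸ T)},
      Lc F₁ p E₁ → Lc F₂ p E₂ → E₁ ≠ E₂ → ¬ Iv F₂ E₂ (Oz p ⊤) → (Ph p E₂ ≤ ⊥ → Ph p E₁ ≤ ⊥) →
      ¬ Oz p E₂ ≤ E₁ → ∃ a, CaseA p E₁ E₂ a := by
    intro F₁ F₂ E₁ E₂ h₁ h₂ hne hZ f k
    obtain ⟨y, hy, hy'⟩ := SetLike.not_le_iff_exists.1 k
    by_cases c : ln p (Oz p E₂) ≤ ln p (Oz p (⊤ : Subgroup (G ⧸ T))) + 1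
    · exact h₁.caseA h₂ hne c hy hy'
    · obtain ⟨x, H⟩ := h₁.caseB h₂ hne hZ (not_le.1 c) hy hy'
      exact (H.ne (f H.ab (cm_mem_Ph (h₁.cm_mem y x) H.x₁))).elim
  push Not at z
  obtain ⟨a, H⟩ : ∃ a, CaseA p (E.map (qm T)) (E₂.map (qm T)) a := by
    by_cases l₂ : Oz p (E₂.map (qm T)) ≤ E.map (qm T)
    · exact (out k₂ k₁ hne'.symm z.1 ph'.1 fun l₁ => k₁.not_both_Y k₂ hne' z.1 z.2 l₁ l₂).imp
        fun _ => CaseA.symm
    · exact out k₁ k₂ hne' z.2 ph'.2 l₂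
  obtain ⟨a, rfl⟩ := QuotientGroup.mk'_surjective T a
  have f := h0 _ (fun σ x hx => by
    rw [H.ph₁, H.cen] at hx ⊢
    rw [← characteristic_iff_map_eq.1 centerCharacteristic σ, ← map_Ph]
    exact mem_map_of_mem _ hx) (.inl ivPh)
  rw [← map_Ph, Subgroup.map_eq_bot_iff, QuotientGroup.ker_mk'] at f
  have e : (center (G ⧸ T)).comap (qm T) = E ⊓ E₂ := by
    rw [← H.cen, comap_inf, comap_map_qm i₁.1, comap_map_qm i₂.1]
  refine ⟨T, E ⊓ E₂, aT, e ▸ aT.comap fun σ x hx => char_mem σ hx, i₁, f, inf_le_left,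
    h₁.ln_inf h₂ hne, h₁.Ph_inf h₂ _, fun x => ?_, (ln_mono p (sup_le le_sup_left
      (commutator_le.2 fun x _ y _ => ?_))).trans (ln_sup_zp_le (x := a) (qm_eq_one.1 ?_))⟩
  · rw [← e, mem_comap, mem_center_iff]
    refine ⟨fun k g => commute_mk.1 (k g).symm, fun k g => ?_⟩
    obtain ⟨g, rfl⟩ := QuotientGroup.mk'_surjective T g
    exact (commute_mk.2 (k g)).symm
  · refine (mem_map_qm le_sup_left).1 (zpowers_le.2 (mem_map_of_mem _
      (mem_sup_right (mem_zpowers a))) ?_)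
    rw [map_commutatorElement]
    exact H.der _ _
  · rw [map_pow]; exact H.aZ.2.2

/-- An essential subgroup of rank two over a central subgroup. -/
theorem Lc.pearl (h : Lc F p E) (i : Iv F E T) (e : T = Ph p E) (c : ln p E = ln p T + 2)
    (hT : ∀ t ∈ T, ∀ g, Commute t g) :
    ln p E = 2 ∧ Ph p E ≤ ⊥ ∨ ln p E = 3 ∧ ∃ x ∈ E, ∃ y ∈ E, ¬ Commute x y := by
  have := h.normal; have := h.nI i
  obtain ⟨s, hs⟩ := h.exists_out
  obtain ⟨τ, H⟩ := (h.torus (invA_top _) i (invA_bot _) i i.1 bot_le bot_le c.le hs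
    (fun x hx => cm_left hx s) (fun t ht => cm_of_commute (hT t ht s))
    fun t ht => cm_of_commute (hT t ht s)).2.2 (-1) (by simp)
  obtain ⟨D, n, m1, m2, m3, m4⟩ := exists_below p T E i.1 (j := 1) c.le
  obtain ⟨a, ha, ea⟩ := exists_gen p m1 m3
  obtain ⟨b, hb, eb⟩ := exists_gen p m2 m4
  have pw : ∀ u ∈ E, u ^ p ∈ Ph p T := fun u hu =>
    have m := e.ge (pow_mem_Ph hu)
    ((H.neg rfl u hu).pow (fun t ht => cm_of_commute (hT t ht u).symm) fun t => pow_mem_Ph).down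
      (wz_fix (H.fix _ m)) le_rfl (pow_mem_Ph m) (neg_one_ne h.odd)
  have m : ⁅a, b⁆ ∈ T := e.ge (cm_mem_Ph (m2 ha) hb)
  have l : T ≤ zpowers ⁅a, b⁆ := le_of_sup_Ph p (zpowers_le.2 m) (e.le.trans (Ph_le_iff.2
    ⟨fun x hx y hy => mem_sup_left (by
      have := cm_two_gen (K := ⊥) (ea ▸ eb) (fun t ht g _ => cm_bot.2 (hT t ht g))
        (fun g _ => cm_bot.2 (hT _ m g)) hx hy
      rwa [bot_sup_eq] at this), fun x hx => mem_sup_right (pw x hx)⟩))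
  have c1 := (ln_mono p l).trans (ln_zp_le (cm_pow_eq_one (hT _ m a)
    (hT _ (e.ge (pow_mem_Ph (m2 ha))) b)))
  by_cases k : Commute a b
  · rw [commutatorElement_eq_one_iff_commute.2 k, zpowers_one_eq_bot] at l
    have := ln_mono p l
    rw [ln_bot] at this
    exact .inl ⟨by omega, e ▸ l⟩
  · have := ln_pos p m fun e => k (cm_bot.1 e)
    exact .inr ⟨by omega, a, m2 ha, b, hb, k⟩

/-- `G = N_S(E)` embedded in `R = N_S(G)`, with `A = Aut_F(G)`. -/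
structure Amb {R : Type*} [Group R] (ι : G →* R) (A : Subgroup (MulAut G))
    (F : FusionSystem (⊤ : Subgroup G)) (p : ℕ) (E : Subgroup G) : Prop where
  lc : Lc F p E
  nrm : F.IsNormal E
  inj : Function.Injective ι
  sr : SectionalPRankLE p 3 R
  aut : ∀ f, F.Iso ⊤ ⊤ f → ∃ α ∈ A, ∀ x, α x = f x
  conj : ∀ g, ∃ α ∈ A, ∀ x, ι (α x) = g * ι x * g⁻¹
  nz : ∀ g ∈ normalizer (E.map ι : Set R), g ∈ (⊤ : Subgroup G).map ι
  full : ∀ α ∈ A, ¬ ((E.map α.toMonoidHom).map ι).Normal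
  ext : ∀ M D, Ai A M → Ai A D → D ≤ M → ln p (⊤ : Subgroup G) ≤ ln p M + 1 →
    ln p M ≤ ln p D + 1 → ln p D ≤ ln p (Ph p (⊤ : Subgroup G)) + 1 → Ph p ⊤ ≤ D →
    ∀ α ∈ A, ∃ τ : R ≃* R, ∀ x, τ (ι x) = ι (α x)

variable {R : Type*} [Group R] {ι : G →* R}

omit [Finite G] hp hG in
theorem Amb.normal (h : Amb ι A F p E) (hX : Ai A X) : (X.map ι).Normal := ⟨by
  rintro _ ⟨x, hx, rfl⟩ g
  obtain ⟨α, hα, e⟩ := h.conj g
  exact e x ▸ mem_map_of_mem _ (hX α hα x hx)⟩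

theorem Amb.pearl [Finite R] [Fact (IsPGroup p R)] (h : Amb ι A F p E) (h5 : 5 ≤ p) :
    ln p E = 2 ∧ Ph p E ≤ ⊥ ∨ ln p E = 3 ∧ ∃ x ∈ E, ∃ y ∈ E, ¬ Commute x y := by
  have h₁ := h.lc
  have := h₁.normal
  have L := ln_map_inj (p := p) h.inj
  have mi : ∀ {X : Subgroup G} {x : G}, ι x ∈ X.map ι ↔ x ∈ X := mem_map_iff_mem h.inj
  have nE : ¬ (E.map ι).Normal := fun k => h.full 1 (one_mem _) (by
    rwa [show E.map (1 : MulAut G).toMonoidHom = E from map_id E])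
  have ne : (⊤ : Subgroup G).map ι ≠ ⊤ := fun e => nE (Normal.map this ι fun g =>
    (e.ge (mem_top g)).imp fun _ k => k.2)
  obtain ⟨g, -, hg⟩ := SetLike.not_le_iff_exists.1 (top_le_iff.not.2 ne)
  obtain ⟨β, hβ, eβ⟩ := h.conj g
  have hne : E ≠ E.map β.toMonoidHom := fun e => hg (h.nz g (mem_normalizer_fintype (by
    rintro _ ⟨x, hx, rfl⟩
    exact eβ x ▸ mem_map_of_mem _ (e.ge (mem_map_of_mem _ hx)))))
  obtain ⟨T, D, S⟩ := h₁.stepH h.nrm hβ hne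
  have := h₁.nI S.iT
  have TD : T ≤ D := fun t ht => (S.cen t).2 (cm_left ht)
  have : D.Normal := normal_of_cm fun d hd g => TD ((S.cen d).1 hd g)
  have nD := h.normal S.aD
  have nN := h.normal (ai_char (X := ⊤))
  have c1 := h₁.idx
  have c2 := S.cD
  obtain ⟨M', nM, m1, m2, m3, m4⟩ := exists_below p (D.map ι) ((⊤ : Subgroup G).map ι)
    (map_mono le_top) (j := 1) (by rw [L, L]; omega)
  obtain ⟨M, rfl⟩ : ∃ M : Subgroup G, M.map ι = M' :=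
    ⟨M'.comap ι, map_comap_eq_self (by rwa [MonoidHom.range_eq_map])⟩
  rw [L, L] at m3 m4
  have DM : D ≤ M := (map_le_map_iff_of_injective h.inj).1 m1
  have EM : ¬ E ≤ M := fun k => nE (eq_of_ln p k (by omega) ▸ nM)
  have ME : ¬ M ≤ E := fun k => EM (eq_of_ln p k (by omega)).ge
  have mD : ∀ u ∈ E, u ∈ M → u ∈ D := fun u => mem_of_ln p S.DE c2.le DM EM
  obtain ⟨s, hs, hs'⟩ := SetLike.not_le_iff_exists.1 ME
  have eM := sup_zp_ln p DM m3 hs fun k => hs' (S.DE k)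
  have ng : ∀ x ∈ E, x ∉ M → NG p ((⊤ : Subgroup G).map ι) (M.map ι) (E.map ι) (D.map ι) (ι x) :=
    fun x hx hx' => ⟨nN, nM, nD, ne, by rw [L, L]; omega, by rw [L, L]; omega,
      by rw [L, L]; omega, m1, map_mono S.DE, m2, map_mono le_top, mi.2 hx, fun k => hx' (mi.1 k),
      map_Ph (p := p) ι ▸ map_mono S.top, h.nz⟩
  obtain ⟨x, hx, hx'⟩ := SetLike.not_le_iff_exists.1 EM
  have aM : Ai A M := fun α hα u hu => by_contra fun k => by
    obtain ⟨r, hr⟩ := (ng x hx hx').line_conj (mem_map_of_mem _ (mem_top (α u))) fun e => k (mi.1 e)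
    obtain ⟨γ, hγ, eγ⟩ := h.conj r
    rw [← eγ, mi] at hr
    have l : M ≤ E.map (γ * α)⁻¹.toMonoidHom :=
      (sup_zp_ln p DM m3 hu fun e => k (DM (S.aD α hα u e))).ge.trans (sup_le
        (fun d hd => ⟨_, S.DE (S.aD _ (mul_mem hγ hα) d hd), by simp⟩)
        (zpowers_le.2 ⟨_, hr, by simp⟩))
    exact h.full _ (inv_mem (mul_mem hγ hα)) (eq_of_ln p l (by
      rw [ln_map_inj (γ * α)⁻¹.injective]; omega) ▸ nM)
  have c3 := ln_rank_Ph h₁.sr (⊤ : Subgroup G)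
  have ext : ∀ {l : ZMod p} {X W Y Z : Subgroup G} {σ : G →* G}, Tor F E X W Y Z s l σ →
      ∃ τ : R ≃* R, (∀ x, τ.toMonoidHom (ι x) = ι (σ x)) ∧ (∀ t ∈ T, σ t ∈ T) ∧
        ∀ u ∈ M.map ι, Wz τ.toMonoidHom (D.map ι) u (l ^ 2) := fun H => by
    obtain ⟨α, hα, e⟩ := h.aut _ H.iso
    obtain ⟨τ, eτ⟩ := h.ext M D aM S.aD DM m4 m3 (by omega) S.top α hα
    refine ⟨τ, fun x => e x ▸ eτ x, fun t ht => e t ▸ S.aT α hα t ht, ?_⟩
    rintro _ ⟨u, hu, rfl⟩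
    exact (((H.out.inf hs (e s ▸ aM α hα s hs)).mono fun v hv => mD v hv.1 hv.2).sec
      (fun d hd => e d ▸ S.aD α hα d hd) (eM.ge hu)).map (e u ▸ eτ u)
  have inD : ∀ u ∈ E, ⁅u, s⁆ ∈ T → u ∈ D := fun u hu k =>
    (S.cen u).2 (h₁.cm_all hs' (fun e he => S.ph (cm_mem_Ph hu he)) k)
  have ha : ⁅x, s⁆ ∈ D := S.top (cm_mem_Ph trivial trivial)
  have ha' : ⁅x, s⁆ ∉ T := fun k => hx' (DM (inD x hx k))
  have c4 := ln_lt' p TD ha ha'
  have c5 := ln_rank_Ph h₁.sr E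
  have c6 := ln_mono p S.ph
  obtain ⟨U, iU, ph, UD, cU, nU⟩ : ∃ U, Iv F E U ∧ Ph p E ≤ U ∧ U ≤ D ∧ ln p D = ln p U + 1 ∧
      (U.map ι).Normal := by
    by_cases c : ln p D = ln p T + 1
    · exact ⟨T, S.iT, S.ph, TD, c, h.normal S.aT⟩
    have eT := eq_of_ln p S.ph (by omega)
    have hc : ∀ u v : G, ⁅u, v⁆ ∈ T ⊔ commutator G := fun u v =>
      mem_sup_right (commutator_mem_commutator trivial trivial)
    have eL := sup_zp_ln p le_sup_left S.cL (hc x s) ha'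
    obtain ⟨X, Y, cc, H⟩ := h₁.ess.exists_transv h₁.sat (pg p ⊤) S.iT (le_sup_left.trans S.ph)
      eT.ge (h₁.nz s) hs' (S.DE ha) (pow_ln le_sup_left S.cL (hc x s)) fun u _ => by
        rw [comm_mem_iff_conj]; exact eL.ge (hc _ _)
    have := h₁.nI H.invY
    have d1 := ln_of_relIndex H.leX H.sec.toCoord.relIndex_eq
    have d2 := ln_sup_inf' p X Y
    rw [H.sup, le_antisymm H.inf (le_inf H.leX H.leY)] at d2
    have YD : Y ≤ D := fun y hy => inv_mem_iff.1 (inD _ (inv_mem (H.invY.1 hy))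
      (by rw [← comm_mem_iff_conj]; exact (H.fix y (H.invY.1 hy)).2 (mem_sup_left hy)))
    have LX : T ⊔ commutator G ≤ X := eL.ge.trans (sup_le H.leX (zpowers_le.2 H.aX))
    obtain ⟨σ, K⟩ := (h₁.torus H.invX S.iT S.iT (invA_bot _) H.leX le_rfl eT.ge d1.le hs'
      (fun u _ => LX (hc u s)) (fun u hu => cm_left hu s) fun t ht => by
        rw [mem_bot.1 ht]; exact cm_of_commute (.one_left s)).2.2 2 (two_ne h₁.odd)
    obtain ⟨τ, t1, t2, t3⟩ := ext K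
    obtain ⟨v, hv, hv'⟩ : ∃ v ∈ X, v ∉ M := SetLike.not_le_iff_exists.1 fun k =>
      EM (H.sup.ge.trans (sup_le k (YD.trans DM)))
    have := h.normal S.aT
    have := h.normal (S.aT.sup (ai_char (X := commutator G)))
    have := ln_lt' p le_sup_left (hc x s) ha'
    refine ⟨Y, H.invY, S.ph.trans H.leY, YD, by omega, normal_of_cm ?_⟩
    rintro _ ⟨y, hy, rfl⟩ r
    refine map_mono H.leY ((ng v (H.invX.1 hv) hv').cm_Y h5 (map_mono le_sup_left)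
      (map_mono (eL.ge.trans (sup_le TD (zpowers_le.2 ha)))) (by rw [L, L]; exact S.cL)
      (by rw [L, L]; omega) ?_ ((K.snd D TD (fun u hu => inD u (H.invX.1 hu)) v hv).map (t1 v)) t3
      ?_ (mi.2 (YD hy)) ((wz_one (H.inf ⟨K.top y (H.invY.1 hy), Y.mul_mem (inv_mem hy)
        (iso_res K.iso (fun u hu => ?_) H.invY hy)⟩)).map (t1 y)) r)
    · rintro _ ⟨d, hd, rfl⟩ _ ⟨n, -, rfl⟩
      exact map_commutatorElement ι d n ▸ mi.2 ((S.cen d).1 hd n)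
    · rintro _ ⟨u, hu, rfl⟩
      exact ((K.fst _ H.aX ((S.cen _).1 ha s)).sec t2 (eL.ge hu)).map (t1 u)
    · simpa using mul_mem hu (H.invX.1 (K.top u hu))
  have := h₁.nI iU
  obtain ⟨F₂, h₂, -, tr⟩ := h₁.exists_tr h.nrm β
  have eU : U.map β.toMonoidHom = U := eq_of_ln p (map_le_iff_le_comap.2 fun u hu =>
    (mi (x := β u)).1 ((eβ u).symm ▸ nU.conj_mem _ (mi.2 hu) g)) (ln_map_inj β.injective U).ge
  have hU := h₁.central h₂ hne iU ((tr U eU).1 iU) ph (by rw [← map_Ph, ← eU]; exact map_mono ph)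
    (by omega)
  by_cases e : U = Ph p E
  · exact h₁.pearl iU e (by omega) hU
  have c7 := ln_lt p (lt_of_le_of_ne ph (Ne.symm e))
  have key : ∀ s ∉ E, ∀ u ∈ E, ⁅u, s⁆ ∈ U → u ∈ D := fun s hs u hu k => by_contra fun k' =>
    h₁.chain2 iU (invA_bot _) bot_le bot_le hs (fun v hv => cm_of_sup
      (sup_zp_ln p S.DE c2.le hu k') (fun d hd => cm_ln p UD cU.le hd s) k hv)
      fun t ht => cm_bot.2 (hU t ht s)
  refine ((ng x hx hx').final h5 h.sr (map_mono UD) (by rw [L, L, cU]) ?_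
    (map_Ph (p := p) ι ▸ map_mono ph) (by rw [← map_Ph, L, L]; omega) ?_ fun l hl => ?_).elim
  · rintro _ ⟨t, ht, rfl⟩ _ ⟨n, -, rfl⟩
    exact (hU t ht n).map ι
  · rintro _ ⟨v, hv, rfl⟩ k k'
    rw [← map_commutatorElement, mi] at k'
    exact hx' (DM (key v (fun e => k (mi.2 (mD v e hv))) x hx k'))
  obtain ⟨σ, K⟩ := (h₁.torus (invA_top _) iU (invA_bot _) iU iU.1 bot_le bot_le (by omega) hs'
    (fun x hx => cm_left hx s) (fun t ht => cm_of_commute (hU t ht s))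
    fun t ht => cm_of_commute (hU t ht s)).2.2 l hl
  obtain ⟨τ, t1, -, t3⟩ := ext K
  refine ⟨τ, ?_, ?_, (K.snd D UD (key s hs') x hx).map (t1 x), t3⟩
  · rintro _ ⟨t, ht, rfl⟩
    exact (t1 t).trans (congrArg ι (K.fix t ht))
  · rintro _ ⟨d, hd, rfl⟩
    exact (K.fst d (S.DE hd) (cm_ln p UD cU.le hd s)).map (t1 d)

end Cfsg.Agent.Fus.R3
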