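import Mathlib
import Cfsg.Agent.Fus.R3NonB

/-! Non-normal essential subgroups in sectional rank three are pearls (`p ≥ 5`). -/

set_option autoImplicit false

namespace Cfsg.Agent.Fus.R3

open Subgroup Cfsg.Agent.GT
open Cfsg.FusionSystem hiding inv_mem
open scoped Matrix MatrixGroups commutatorElement

variable {G : Type*} [Group G] [Finite G] {p : ℕ} [hp : Fact p.Prime]
  {F : FusionSystem (⊤ : Subgroup G)} {E E' N R : Subgroup G} {f : G → G}

theorem ess_of_iso (h : F.IsEssential p E) (hf : F.Iso E E' f) (hn : F.IsFullyNormalized E') :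
    F.IsEssential p E' := by
  obtain ⟨h1, -, H, hH⟩ := isEssential_iff.1 h
  refine isEssential_iff.2 ⟨h1.of_isConj hf.isConj, hn, H.map hf.autCongr.toMonoidHom, ?_⟩
  rw [← hf.map_autGroup, ← hf.map_inn]
  exact hH.map_equiv _

variable [hG : Fact (IsPGroup p G)]

theorem exists_amb (hF : F.IsSaturated p) (h2 : p ≠ 2) (sr : SectionalPRankLE p 3 G)
    (hE : F.IsEssential p E) (eN : N = normalizerIn ⊤ E) (eR : R = normalizerIn ⊤ N) (l : N ≤ R)
    (hN : F.IsFullyNormalized N) (ne : N ≠ ⊤) :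
    ∃ F₁, Amb (inclusion l) (F.autGroup N) F₁ p (E.subgroupOf N) := by
  obtain ⟨K, hK⟩ := F.exists_isKNormalizer (Q := E) (T := N) le_top ⊤ (by rw [preAut_top, eN])
  have EN : E ≤ N := eN ▸ le_normalizerIn le_top
  have nz : N ≤ normalizer (E : Set G) := eN ▸ normalizerIn_le_normalizer
  have sK := hK.isSaturated hF (pg p ⊤) (hF.kFull_top (pg p ⊤) hE.isFullyNormalized)
  have eK : K.IsEssential p E := isEssential_iff.2 ⟨hE.isCentric.of_isSubsystemOf hK.isSubsystemOf EN,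
    K.isFullyNormalized_of_le_normalizer EN nz, by
      rw [hK.autGroup_eq EN, inf_top_eq]; exact (isEssential_iff.1 hE).2.2⟩
  obtain ⟨F₁, t⟩ := K.exists_toTop
  have := (normal_subgroupOf_iff_le_normalizer EN).2 nz
  refine ⟨F₁, .of_normal (t.isSaturated sK (pg p N)) (IsTop.essential t eK) h2 (FG.SR.subgroup sr N),
    IsTop.normal t (hK.isNormal EN), inclusion_injective l, FG.SR.subgroup sr R, fun f hf => ?_,
    fun g => ?_, fun g hg => ?_, fun α hα n => ?_, fun M D aM aD DM c1 c2 c3 ph α hα => ?_⟩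
  · have k := t.symm.iso_push hf
    rw [t.symm.img_top] at k
    have k' := hK.isSubsystemOf.iso k
    exact ⟨k'.aut, k'.aut_mem, fun x => Subtype.ext (by rw [k'.coe_aut, toSub_apply x.2])⟩
  · exact ⟨cAut N g, F.cAut_mem_autGroup le_top (eR.le g.2),
      fun x => Subtype.ext (coe_cAut (eR.le g.2).2 x)⟩
  · refine ⟨⟨g, eN.ge ⟨trivial, mem_normalizer_fintype fun x hx => ?_⟩⟩, trivial, rfl⟩
    obtain ⟨y, hy, e⟩ := (mem_normalizer_iff.1 hg _).1 (mem_map_of_mem _ (x := ⟨x, EN hx⟩) hx)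
    have e' : (y : G) = g * x * g⁻¹ := congrArg Subtype.val e
    exact e' ▸ hy
  · have m := (iso_totA le_top hα).mor
    have c := hE.isFullyNormalized.2 _ (m.iso_img_of_le EN).isConj
    have l' : R ≤ normalizerIn ⊤ (img (totA α) E) := fun r hr =>
      ⟨trivial, mem_normalizer_fintype fun y hy => by
        obtain ⟨x, hx, rfl⟩ := (m.mem_img EN).1 hy
        obtain ⟨_, ⟨z, hz, rfl⟩, e⟩ := n.conj_mem _
          (mem_map_of_mem _ (mem_map_of_mem _ (x := ⟨x, EN hx⟩) hx)) ⟨r, hr⟩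
        have e' : (α z : G) = r * α ⟨x, EN hx⟩ * r⁻¹ := congrArg Subtype.val e
        rw [totA_apply α (EN hx), ← e', ← totA_coe]
        exact mem_img_of_mem hz⟩
    have := PG.card_lt_of_lt (lt_normalizerIn (pg p ⊤) ne.lt_top)
    have := card_le_of_le l'
    rw [← eN] at c
    rw [← eR] at *
    omega
  · have L := ln_map_inj (p := p) N.subtype_injective
    have iv : ∀ X, Ai (F.autGroup N) X → Iv F N (X.map N.subtype) := fun X h =>
      ⟨map_subtype_le X, by
        rintro β hβ _ ⟨x, hx, rfl⟩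
        exact (totA_coe β x).symm ▸ mem_map_of_mem _ (h β hβ x hx)⟩
    have e0 : (⊤ : Subgroup N).map N.subtype = N := by rw [← MonoidHom.range_eq_map, range_subtype]
    have e1 : (Ph p ⊤).map N.subtype = Ph p N := by rw [map_Ph, e0]
    have c0 := L ⊤
    rw [e0] at c0
    obtain ⟨g, hg, e⟩ := ext_chain hF (pg p ⊤) hN (iv M aM) (iv D aD) ivPh (map_mono DM)
      (e1 ▸ map_mono ph) le_rfl (dvd_p_of_ln (map_subtype_le M) (by rw [L]; omega))
      (dvd_p_of_ln (map_mono DM) (by rw [L, L]; omega))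
      (dvd_p_of_ln (e1 ▸ map_mono ph) (by rw [← e1, L, L]; omega)) (iso_totA le_top hα)
    rw [← eR] at hg
    exact ⟨hg.aut, fun x => Subtype.ext ((hg.coe_aut _).trans ((e x x.2).trans (totA_coe α x)))⟩

theorem pearl_of_not_normal (hF : F.IsSaturated p) (h5 : 5 ≤ p) (sr : SectionalPRankLE p 3 G)
    (hE : F.IsEssential p E) (hn : ¬ E.Normal) : IsElementaryAbelian p E ∧ Nat.card E = p ^ 2 ∨
      IsExtraspecial p E ∧ Nat.card E = p ^ 3 ∧ ∀ x ∈ E, x ^ p = 1 := by
  obtain ⟨g, hg, hN⟩ := hF.exists_mor_fullyNormalized (pg p ⊤) (le_top : normalizerIn ⊤ E ≤ ⊤)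
  have hg' := hg.mono (le_normalizerIn le_top)
  obtain ⟨k1, k2⟩ := hE.isFullyNormalized.iso_normalizerIn hg'
  have k3 := hg'.iso_img_of_le (le_normalizerIn le_top)
  rw [k1.img_eq] at hN
  generalize img g E = E' at *
  have EN : E' ≤ normalizerIn ⊤ E' := le_normalizerIn le_top
  obtain ⟨F₁, H⟩ := exists_amb hF (by omega) sr (ess_of_iso hE k3 k2) rfl rfl
    (le_normalizerIn le_top) hN fun e => hn (normalizer_eq_top_iff.1 (top_le_iff.1
      ((PG.eq_of_le_of_card_le le_top (by rw [k1.card_eq, e])).ge.trans normalizerIn_le_normalizer)))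
  have c : ln p (E'.subgroupOf (normalizerIn ⊤ E')) = ln p E := by
    rw [ln, Nat.card_congr (subgroupOfEquivOfLe EN).toEquiv, ← k3.card_eq, ln]
  rcases H.pearl h5 with ⟨c1, k⟩ | ⟨c1, x, hx, y, hy, k⟩
  · refine .inl ⟨⟨⟨⟨fun a b => Subtype.ext ((k3.mor.commute_iff a.2 b.2).1 ?_)⟩⟩, fun a ha => ?_⟩,
      card_of_ln (c ▸ c1)⟩
    · exact congrArg Subtype.val (commute_of_Ph k (x := ⟨_, EN (k3.maps a a.2)⟩)
        (y := ⟨_, EN (k3.maps b b.2)⟩) (k3.maps a a.2) (k3.maps b b.2)).eq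
    · rw [← k3.mor.eq_one_iff (pow_mem ha p), k3.mor.map_pow ha]
      exact congrArg Subtype.val (pow_of_Ph k (x := ⟨_, EN (k3.maps a ha)⟩) (k3.maps a ha))
  · obtain ⟨a, ha, ea⟩ := k3.surj x hx
    obtain ⟨b, hb, eb⟩ := k3.surj y hy
    exact .inr (xs_of_cube hF hE (by omega) (c ▸ c1) ha hb fun e => k (Subtype.ext (by
      have := (k3.mor.commute_iff ha hb).2 e
      rwa [ea, eb] at this)))

end Cfsg.Agent.Fus.R3
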