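import Mathlib
import Cfsg.Agent.Fus.R3NonC
import Cfsg.Agent.FG.MaxClassPow

/-! Self-centralizing abelian subgroups of order `p ^ 3` with small normalizer in `p`-groups of
maximal class. -/

set_option autoImplicit false
set_option linter.unusedSectionVars false

namespace Cfsg.Agent.Fus.R3

open Subgroup Cfsg.Agent.GT Cfsg.Agent.Loc.H78.Lie Cfsg.Agent.FG.MxC
open scoped commutatorElement

universe u

section Gen
variable {G : Type*} [Group G] {p : ℕ} {D H K N X Y : Subgroup G} {g u x : G}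

theorem ln_subgroupOf (h : X ≤ N) : ln p (X.subgroupOf N) = ln p X := by
  rw [ln, Nat.card_congr (subgroupOfEquivOfLe h).toEquiv, ln]

theorem nz_of_cm [Finite G] (h : ∀ d ∈ D, ⁅d, g⁆ ∈ D) : g ∈ normalizer (D : Set G) :=
  mem_normalizer_fintype fun d hd => by
    have := mul_mem (inv_mem (h d hd)) hd
    rwa [show ⁅d, g⁆⁻¹ * d = g * d * g⁻¹ by simp only [commutatorElement_def]; group] at this

theorem nz_of_sup [Finite G] (hg : g ∈ normalizer (D : Set G)) (h : ⁅x, g⁆ ∈ D ⊔ zpowers x) :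
    g ∈ normalizer ((D ⊔ zpowers x : Subgroup G) : Set G) := by
  refine mem_normalizer_fintype fun y hy => ?_
  refine (sup_le (fun m hm => ?_) (zpowers_le.2 ?_) :
    D ⊔ zpowers x ≤ (D ⊔ zpowers x).comap (MulAut.conj g).toMonoidHom) hy
  · exact mem_sup_left ((mem_normalizer_iff.1 hg m).1 hm)
  · have := mul_mem (inv_mem h) (mem_sup_right (mem_zpowers x))
    rwa [show ⁅x, g⁆⁻¹ * x = g * x * g⁻¹ by simp only [commutatorElement_def]; group] at this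

theorem conj_zpow [Y.Normal] (h : ⁅⁅g, x⁆, g⁆ ∈ Y) (i : ℤ) :
    (⁅g, x⁆ ^ i)⁻¹ * (g ^ i * x * (g ^ i)⁻¹ * x⁻¹) ∈ Y := by
  rw [← QuotientGroup.eq_one_iff]
  simp only [QuotientGroup.mk_mul, QuotientGroup.mk_inv, QuotientGroup.mk_zpow, mk_cm]
  rw [← cm_zpow_left (by rw [← mk_cm]; exact commute_mk.2 h), commutatorElement_def]
  group

/-- An element of `x Y⟨w⟩`, `w = ⁅g, x⁆`, is congruent to a conjugate of `x`. -/
theorem conj_into' (hg : g ∈ normalizer (Y : Set G)) (hx : x ∈ normalizer (Y : Set G))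
    (h : ⁅⁅g, x⁆, g⁆ ∈ Y) (hu : u * x⁻¹ ∈ Y ⊔ zpowers ⁅g, x⁆) :
    ∃ k ∈ normalizer (Y : Set G), k * x * k⁻¹ ∈ Y ⊔ zpowers u := by
  have hw : ⁅g, x⁆ ∈ normalizer (Y : Set G) :=
    mul_mem (mul_mem (mul_mem hg hx) (inv_mem hg)) (inv_mem hx)
  obtain ⟨m, hm, i, e⟩ := (PG.mem_sup_zpowers_of_mem_normalizer hw).1 hu
  have h1 : (⁅g, x⁆ ^ i)⁻¹ * (g ^ i * x * (g ^ i)⁻¹ * x⁻¹) ∈ Y :=
    conj_zpow (Y := Y.subgroupOf (normalizer (Y : Set G))) (g := ⟨g, hg⟩) (x := ⟨x, hx⟩) h i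
  refine ⟨g ^ i, zpow_mem hg i, ?_⟩
  have h2 := (mem_normalizer_iff.1 (zpow_mem hw i) _).1 h1
  have := mul_mem (mem_sup_left (mul_mem h2 (inv_mem hm)) : _ ∈ Y ⊔ zpowers u)
    (mem_sup_right (mem_zpowers u))
  rwa [← inv_mul_cancel_right u x, ← e, show ∀ w : G, w * (w⁻¹ * (g ^ i * x * (g ^ i)⁻¹ * x⁻¹)) *
    w⁻¹ * m⁻¹ * (m * w * x) = g ^ i * x * (g ^ i)⁻¹ from fun w => by group,
    e, inv_mul_cancel_right] at this

variable [hp : Fact p.Prime] [Finite G] [hG : Fact (IsPGroup p G)]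

theorem ln_Cm' (hH : H ≤ normalizer (D : Set G)) (hx : x ∈ normalizer (D : Set G))
    (hK : K ≤ normalizer (D : Set G)) (hD : D ≤ K) (h : ∀ g ∈ H, ⁅x, g⁆ ∈ K)
    (hL : ∀ g ∈ H, ⁅x, g⁆ ∈ D → g ∈ K) : ln p H + ln p D ≤ ln p K + ln p K := by
  have : Fact (IsPGroup p (normalizer (D : Set G))) := ⟨pg p _⟩
  have h1 := ln_Cm p (H := H.subgroupOf (normalizer (D : Set G))) (x := ⟨x, hx⟩)
    (D := D.subgroupOf _) (K := K.subgroupOf _) (comap_mono hD) fun g hg => h g hg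
  have h2 := ln_mono p (X := H.subgroupOf _ ⊓ Cm (⟨x, hx⟩ : normalizer (D : Set G)) (D.subgroupOf _))
    (Y := K.subgroupOf _) fun g hg => hL g hg.1 (mem_Cm (D := D.subgroupOf _).1 hg.2)
  rw [ln_subgroupOf hH, ln_subgroupOf hK, ln_subgroupOf le_normalizer] at *
  omega

/-- abelian self-centralizing of order `p ^ 3` with normalizer of order at most `p ^ 4` -/
structure Gd (p : ℕ) (E : Subgroup G) : Prop where
  c : ln p E = 3
  ab : ∀ x ∈ E, ∀ y ∈ E, Commute x y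
  cen : ∀ g, (∀ e ∈ E, Commute e g) → g ∈ E
  nz : ln p (normalizer (E : Set G)) ≤ 4

end Gen

variable {G : Type u} [Group G] {p k : ℕ} {E H R : Subgroup G} {g s t u v x : G}

theorem aut_mem_C (α : MulAut G) {i : ℕ} (hg : g ∈ C G i) : α g ∈ C G i := fun y hy => by
  have := aut_mem_γ α (hg _ (aut_mem_γ α⁻¹ hy))
  rwa [map_commutatorElement, MulAut.apply_inv_self] at this

theorem aut_mem_P (α : MulAut G) : ∀ {i : ℕ}, g ∈ P G i → α g ∈ P G i
  | 0, h => aut_mem_C α h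
  | _ + 1, h => aut_mem_γ α h

theorem P_eq {j : ℕ} (h : 1 ≤ j) : P G j = γ G j := by
  obtain ⟨j, rfl⟩ := Nat.exists_eq_add_of_le' h
  rfl

theorem γ_anti {i j : ℕ} (h : i ≤ j) : γ G j ≤ γ G i := S3806.anti h

/-- exceptional groups of maximal class have even order exponent -/
theorem odd_of_ne [hp : Fact p.Prime] [Finite G] {n : ℕ} (hn : Nat.card G = p ^ (n + 3))
    (hc : Group.nilpotencyClass G = n + 2) (h1 : 1 ≤ n) (hne : C G n ≠ C G 1) : Odd n := by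
  have ih : ∀ i, 1 ≤ i → i < n → C G i = C G 1 := fun i h h' => C_eq hn hc h h'
  have c1 := isCoatom_C hn hc le_rfl h1
  have cm := isCoatom_C hn hc h1 le_rfl
  obtain ⟨s, -, hs1⟩ : ∃ s ∈ C G n, s ∉ C G 1 :=
    SetLike.not_le_iff_exists.mp fun h => hne ((cm.le_iff_eq c1.1).mp h).symm
  obtain ⟨t, ht1, htm⟩ : ∃ t ∈ C G 1, t ∉ C G n :=
    SetLike.not_le_iff_exists.mp fun h => hne ((c1.le_iff_eq cm.1).mp h)
  set a := seq t s with ha
  have am : ∀ i, a i ∈ γ G i := seq_mem t s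
  let A : ℕ → Gr G := fun i => ι i (a i)
  set σ := ι 0 s
  have hA : ∀ i, A (i + 1) = ⁅A i, σ⁆ := fun i => (lie_ι_zero (am i) s).symm
  have hne0 : ∀ i, i ≤ n → a i ∈ P G i ∧ a i ∉ γ G (i + 1) := by
    intro i hi
    induction i with
    | zero => exact ⟨ht1, fun h => htm (γ_one_le_C n h)⟩
    | succ i ih' =>
      exact ⟨am _, comm_notMem hn hc h1 (by omega) hs1 (fun h => ih i h hi ▸ hs1)
        (ih' (by omega)).1 (ih' (by omega)).2⟩
  have hAτ : ∀ i, i < n → ⁅A i, A 0⁆ = 0 := by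
    intro i hi
    rcases Nat.eq_zero_or_pos i with rfl | hi0
    · exact lie_self _
    · exact mem_C_iff.mp (ih i hi0 hi ▸ ht1 : t ∈ C G i) _ (am i)
  have hrec : ∀ i j, ⁅A i, A (j + 1)⁆ = ⁅⁅A i, A j⁆, σ⁆ - ⁅A (i + 1), A j⁆ := by
    intro i j
    rw [hA j, hA i, leibniz_lie, ← lie_skew (A j) ⁅A i, σ⁆, sub_eq_add_neg]
  have low : ∀ j i, i + j < n → ⁅A i, A j⁆ = 0 := by
    intro j
    induction j with
    | zero => exact fun i hi => hAτ i hi
    | succ j ihj => intro i hi; rw [hrec, ihj i (by omega), ihj (i + 1) (by omega)]; simp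
  set U := ⁅A n, A 0⁆ with hU
  have hU0 : U ≠ 0 := fun h => htm (mem_C_of hn hc h1 (by omega) (am n) (hne0 n le_rfl).2 h)
  have mid : ∀ j i, i + j = n → ⁅A i, A j⁆ = (-1 : ℤ) ^ j • U := by
    intro j
    induction j with
    | zero => intro i hi; rw [show i = n by omega]; simp [hU]
    | succ j ihj =>
      intro i hi
      rw [hrec, low j i (by omega), ihj (i + 1) (by omega), pow_succ]
      simp
  rcases Nat.even_or_odd' n with ⟨k, h | h⟩
  · have h1 := mid k k (by omega)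
    rw [lie_self] at h1
    rcases neg_one_pow_eq_or ℤ k with e | e <;> rw [e] at h1 <;> simp at h1 <;>
      first | exact (hU0 h1).elim | exact (hU0 h1.symm).elim
  · exact ⟨k, h⟩

/-- maximal class and order `p ^ (k + 6)` -/
structure MX (p : ℕ) (G : Type u) [Group G] (k : ℕ) : Prop where
  hn : Nat.card G = p ^ (k + 3 + 3)
  hc : Group.nilpotencyClass G = k + 3 + 2

variable [hp : Fact p.Prime] [Finite G] [hG : Fact (IsPGroup p G)]

namespace MX
variable (h : MX p G k)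
include h

theorem lnP (j : ℕ) (hj : j ≤ k + 5 := by omega) : ln p (P G j) + j = k + 5 := by
  rw [ln_of_card (card_P h.hn h.hc (by omega) hj)]; omega

theorem lnγ (j : ℕ) (h1 : 1 ≤ j := by omega) (hj : j ≤ k + 5 := by omega) :
    ln p (γ G j) + j = k + 5 := P_eq (G := G) h1 ▸ h.lnP j hj

theorem lnC (i : ℕ) (h1 : 1 ≤ i := by omega) (hi : i ≤ k + 3 := by omega) :
    ln p (C G i) = k + 5 := ln_of_card (card_C h.hn h.hc h1 hi)

theorem lnT : ln p (⊤ : Subgroup G) = k + 6 := ln_of_card (card_top_eq h.hn)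

theorem cmΓ {i : ℕ} (hi : i ≤ k + 2) (hu : u ∈ P G i) (hg : g ∈ C G 1) : ⁅u, g⁆ ∈ γ G (i + 2) := by
  rcases Nat.eq_zero_or_pos i with rfl | h1
  · exact γ_anti (by omega) (comm_C_le h.hn h.hc (by omega) (commutator_mem_commutator hu hg))
  · exact (C_eq h.hn h.hc h1 (by omega) ▸ hg : g ∈ C G i) u (P_le_γ i hu)

theorem cmΓ' {i : ℕ} (h1 : 1 ≤ i) (hi : i ≤ k + 2) (hu : u ∈ γ G i) (hg : g ∈ C G 1) :
    ⁅u, g⁆ ∈ γ G (i + 2) := h.cmΓ hi (P_eq (G := G) h1 ▸ hu) hg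

theorem cm1 {i : ℕ} (hi : k + 5 ≤ i) (hu : ⁅u, g⁆ ∈ γ G i) : Commute u g :=
  cm_bot.1 (γ_eq_bot h.hn h.hc ▸ γ_anti hi hu)

theorem cent (hu : u ∈ γ G (k + 4)) (g : G) : Commute u g := h.cm1 le_rfl (comm_mem_γ_succ hu g)

theorem cC (hu : u ∈ γ G (k + 3)) (hg : g ∈ C G (k + 3)) : Commute u g := h.cm1 le_rfl (hg u hu)

theorem ab3 (hu : u ∈ γ G (k + 2)) (hv : v ∈ γ G (k + 2)) : Commute u v :=
  h.cm1 (by omega) (comm_mem_γ hu hv)

theorem ex (j : ℕ) (hj : j ≤ k + 4 := by omega) : ∃ u ∈ P G j, u ∉ γ G (j + 1) :=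
  exists_mem_P h.hn h.hc (by omega) hj

theorem ncm {j : ℕ} (hj : j ≤ k + 2) (hs : s ∉ C G 1) (hu : u ∈ P G j) (hu' : u ∉ γ G (j + 1)) :
    ⁅u, s⁆ ∉ γ G (j + 2) :=
  comm_notMem h.hn h.hc (by omega) (by omega) hs
    (fun h1 => C_eq h.hn h.hc h1 (by omega) ▸ hs) hu hu'

theorem supP {j : ℕ} (hj : j ≤ k + 4) (hu : u ∈ P G j) (hu' : u ∉ γ G (j + 1)) :
    γ G (j + 1) ⊔ zpowers u = P G j := sup_eq_P h.hn h.hc (by omega) hj hu hu'

theorem powP {j : ℕ} (hj : j ≤ k + 4) (hu : u ∈ P G j) : u ^ p ∈ γ G (j + 1) :=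
  pow_ln (γ_le_P j) (by have := h.lnP j; have := h.lnγ (j + 1); omega) hu

theorem ncm' (hs : s ∉ C G (k + 3)) (hu : u ∈ γ G (k + 3)) (hu' : u ∉ γ G (k + 4)) :
    ¬ Commute u s := fun e => hs fun y hy =>
  cm_of_commute (commute_sup_zp (fun z hz => (h.cent hz s).symm) e.symm
    ((h.supP (j := k + 3) (by omega) hu hu').ge hy)).symm

/-- a subgroup meeting all the layers between `a` and `b` -/
theorem le_of_layers {a b : ℕ} (h1 : 1 ≤ a) (hab : a ≤ b) (hb : b ≤ k + 5) (hH : γ G b ≤ H)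
    (e : ∀ i, a ≤ i → i < b → ∃ r ∈ H, r ∈ γ G i ∧ r ∉ γ G (i + 1)) : γ G a ≤ H := by
  induction hab using Nat.decreasingInduction with
  | self => exact hH
  | of_succ a hlt ih =>
    obtain ⟨r, hr, hr1, hr2⟩ := e a le_rfl hlt
    rw [← P_eq h1] at hr1 ⊢
    rw [← h.supP (by omega) hr1 hr2]
    exact sup_le (ih (by omega) fun i hi => e i (by omega)) (zpowers_le.2 hr)

/-- proper subgroups with an element outside the derived subgroup -/
theorem le_C {i : ℕ} (h1 : 1 ≤ i) (hi : i ≤ k + 3) (hR : R ≠ ⊤) (hx : x ∈ R) (hx1 : x ∈ C G i)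
    (hx2 : x ∉ γ G 1) : R ≤ C G i := fun y hy => by_contra fun hy' => by
  have c1 := h.lnγ 1; have c2 := h.lnC i; have c3 := h.lnT
  have e1 := sup_zp_ln p (γ_one_le_C i) (by omega) hx1 hx2
  have e2 := sup_zp_ln p (le_top : C G i ≤ ⊤) (by omega) trivial hy'
  have e3 : γ G 1 ≤ Ph p ⊤ := commutator_le.2 fun a _ b _ => cm_mem_Ph trivial trivial
  exact hR (top_le_iff.1 (le_of_sup_Ph p le_top (e2.ge.trans (sup_le (e1.ge.trans
    (sup_le (e3.trans le_sup_right) (zpowers_le.2 (mem_sup_left hx))))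
    (zpowers_le.2 (mem_sup_left hy))))))

/-- weights of an automorphism on the chief series -/
theorem wts (τ : G ≃* G) {a m : ZMod p} (ht : t ∈ C G 1) (ht' : t ∉ γ G 1) (hv : v ∉ C G 1)
    (wa : Wz τ.toMonoidHom (γ G 1) t a) (wm : Wz τ.toMonoidHom (C G 1) v m) {i : ℕ}
    (hi : i ≤ k + 3) (hu : u ∈ P G i) : Wz τ.toMonoidHom (γ G (i + 1)) u (a * m ^ i) := by
  have key : ∀ i ≤ k + 3, seq t v i ∈ P G i ∧ seq t v i ∉ γ G (i + 1) ∧
      Wz τ.toMonoidHom (γ G (i + 1)) (seq t v i) (a * m ^ i) := by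
    intro i hi
    induction i with
    | zero => exact ⟨ht, ht', by rwa [pow_zero, mul_one]⟩
    | succ i ih =>
      obtain ⟨k1, k2, k3⟩ := ih (by omega)
      have k4 : ⁅seq t v i, v⁆ ∈ γ G (i + 1) := seq_mem t v (i + 1)
      refine ⟨k4, h.ncm (by omega) hv k1 k2, ?_⟩
      rw [pow_succ, ← mul_assoc]
      exact k3.comm wm (fun u hu => comm_mem_γ_succ hu _) (fun u hu _ _ => comm_mem_γ_succ hu _)
        (fun w hw => h.cmΓ (by omega) k1 hw) (comm_mem_γ_succ k4 _) (comm_mem_γ_succ k4 _)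
  obtain ⟨k1, k2, k3⟩ := key i hi
  exact k3.sec (fun b hb => aut_mem_γ τ hb) ((h.supP (by omega) k1 k2).ge hu)

variable (hE : Gd p E)
include hE

theorem Z1_le : γ G (k + 4) ≤ E := fun _ hz => hE.cen _ fun e _ => (h.cent hz e).symm

theorem Z2_le (hC : E ≤ C G (k + 3)) : γ G (k + 3) ≤ E :=
  fun _ hz => hE.cen _ fun _ he => (h.cC hz (hC he)).symm

theorem not_both (h1 : E ≤ C G 1) (h2 : E ≤ C G (k + 3)) : False := by
  have l : γ G (k + 1) ≤ normalizer (E : Set G) := fun g hg => nz_of_cm fun e he =>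
    cm_swap (h.Z2_le hE h2 (h.cmΓ' (by omega) (by omega) hg (h1 he)))
  have c1 := h.lnγ (k + 1); have c2 := hE.nz; have c3 := h.lnC 1
  have e := eq_of_ln p l (by omega)
  have l' : C G 1 ≤ normalizer (E : Set G) := fun g hg => nz_of_cm fun e' he =>
    h.Z2_le hE h2 (h.cmΓ' (by omega) (by omega) (e.ge (le_normalizer he)) hg)
  have := ln_mono p l'
  omega

theorem not_le : ¬ E ≤ γ G 1 := fun l =>
  h.not_both hE (l.trans (γ_one_le_C _)) (l.trans (γ_one_le_C _))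

theorem le_or : E ≤ C G 1 ∨ E ≤ C G (k + 3) := by
  by_contra hne
  obtain ⟨x, hx, h1, h2⟩ : ∃ x ∈ E, x ∉ C G 1 ∧ x ∉ C G (k + 3) := by
    obtain ⟨a, ha, ha'⟩ := SetLike.not_le_iff_exists.1 fun l => hne (.inl l)
    obtain ⟨b, hb, hb'⟩ := SetLike.not_le_iff_exists.1 fun l => hne (.inr l)
    by_cases h1 : a ∈ C G (k + 3)
    · by_cases h2 : b ∈ C G 1
      · exact ⟨a * b, mul_mem ha hb, fun k => ha' ((mul_mem_cancel_right h2).1 k),
          fun k => hb' ((mul_mem_cancel_left h1).1 k)⟩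
      · exact ⟨b, hb, h2, hb'⟩
    · exact ⟨a, ha, ha', h1⟩
  have c := ln_of_card (card_centralizer_eq h.hn h.hc (fun k => h1 (γ_one_le_C 1 k))
    fun i i1 i2 => by
      rcases i2.eq_or_lt with rfl | i3
      exacts [h2, C_eq h.hn h.hc i1 i3 ▸ h1])
  have := ln_mono p (X := E) (Y := centralizer {x}) fun e he =>
    mem_centralizer_singleton_iff.2 (hE.ab e he x hx).eq
  have := hE.c
  omega

theorem Z3_le : γ G (k + 2) ≤ normalizer (E : Set G) := fun g hg => nz_of_cm fun e he => by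
  rcases h.le_or hE with l | l
  · exact cm_swap (h.Z1_le hE (h.cmΓ' (by omega) le_rfl hg (l he)))
  · exact cm_swap (h.Z2_le hE l (comm_mem_γ_succ hg e))

theorem ln_nz : ln p (normalizer (E : Set G)) = 4 := by
  obtain ⟨x, hx, hx'⟩ := SetLike.not_le_iff_exists.1 (h.not_le hE)
  have := ln_lt' p (h.Z3_le hE) (le_normalizer hx) fun k => hx' (γ_anti (by omega) k)
  have := h.lnγ (k + 2); have := hE.nz
  omega

theorem lnD : ln p (E ⊓ γ G (k + 2)) = 2 := by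
  obtain ⟨x, hx, hx'⟩ := SetLike.not_le_iff_exists.1 (h.not_le hE)
  have c1 := ln_sup_inf' p E (γ G (k + 2))
  have c2 := ln_mono p (sup_le le_normalizer (h.Z3_le hE))
  have c3 := ln_lt' p (le_sup_right : _ ≤ E ⊔ γ G (k + 2)) (mem_sup_left hx)
    fun k => hx' (γ_anti (by omega) k)
  have := h.lnγ (k + 2); have := hE.nz; have := hE.c
  omega

theorem memD (hu : u ∈ E) (hu' : u ∈ γ G 1) : u ∈ γ G (k + 2) :=
  (mem_of_ln p (inf_le_left : E ⊓ γ G (k + 2) ≤ E) (by rw [h.lnD hE, hE.c])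
    (inf_le_right.trans (γ_anti (by omega))) (h.not_le hE) hu hu').2

theorem memZ3 (hu : u ∈ normalizer (E : Set G)) (hu' : u ∈ γ G 1) : u ∈ γ G (k + 2) :=
  mem_of_ln p (h.Z3_le hE) (by have := h.lnγ (k + 2); have := hE.nz; omega) (γ_anti (by omega))
    (fun l => h.not_le hE (le_normalizer.trans l)) hu hu'

theorem eqE (hx : x ∈ E) (hx' : x ∉ γ G 1) : E ⊓ γ G (k + 2) ⊔ zpowers x = E :=
  sup_zp_ln p inf_le_left (by rw [h.lnD hE, hE.c]) hx fun k => hx' (γ_anti (by omega) k.2)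

theorem eqN (hx : x ∈ E) (hx' : x ∉ γ G 1) : γ G (k + 2) ⊔ zpowers x = normalizer (E : Set G) :=
  sup_zp_ln p (h.Z3_le hE) (by have := h.lnγ (k + 2); have := hE.nz; omega) (le_normalizer hx)
    fun k => hx' (γ_anti (by omega) k)

theorem cenD (hu : u ∈ E ⊓ γ G (k + 2)) (hv : v ∈ normalizer (E : Set G)) : Commute u v := by
  obtain ⟨x, hx, hx'⟩ := SetLike.not_le_iff_exists.1 (h.not_le hE)
  exact commute_sup_zp (fun z hz => h.ab3 hu.2 hz) (hE.ab u hu.1 x hx) ((h.eqN hE hx hx').ge hv)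

theorem ncE (hs : s ∈ γ G (k + 2)) (hs' : s ∉ E) (hx : x ∈ E) (hx' : x ∉ γ G 1) :
    ¬ Commute x s := fun e => hs' (hE.cen s fun _ he => (commute_sup_zp
      (K := E ⊓ γ G (k + 2)) (fun _ hz => h.ab3 hs hz.2) e.symm ((h.eqE hE hx hx').ge he)).symm)

theorem exs : ∃ s ∈ γ G (k + 2), s ∉ E := by
  obtain ⟨s, hs, hs'⟩ := exists_of_ln p (X := γ G (k + 2)) (Y := E ⊓ γ G (k + 2))
    (by have := h.lnγ (k + 2); have := h.lnD hE; omega)
  exact ⟨s, hs, fun k => hs' ⟨k, hs⟩⟩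

theorem mem_of_cen (hu : ∀ v ∈ normalizer (E : Set G), Commute u v) : u ∈ E ⊓ γ G (k + 2) := by
  have hu1 := hE.cen u fun e he => (hu e (le_normalizer he)).symm
  obtain ⟨s, hs, hs'⟩ := h.exs hE
  exact ⟨hu1, h.memD hE hu1 (by_contra fun k => h.ncE hE hs hs' hu1 k (hu s (h.Z3_le hE hs)))⟩

theorem notC (l : E ≤ C G 1) (hx : x ∈ E) (hx' : x ∉ γ G 1) : x ∉ C G (k + 3) := fun k =>
  h.not_both hE l ((h.eqE hE hx hx').ge.trans (sup_le
    (inf_le_right.trans ((γ_anti (by omega)).trans (γ_one_le_C _))) (zpowers_le.2 k)))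

theorem notΓ (l : E ≤ C G (k + 3)) (hx : x ∈ E) (hx' : x ∉ γ G 1) : x ∉ C G 1 := fun k =>
  h.not_both hE ((h.eqE hE hx hx').ge.trans (sup_le
    (inf_le_right.trans ((γ_anti (by omega)).trans (γ_one_le_C _))) (zpowers_le.2 k))) l

theorem D_eq (l : E ≤ C G (k + 3)) : γ G (k + 3) = E ⊓ γ G (k + 2) :=
  eq_of_ln p (le_inf (h.Z2_le hE l) (γ_succ_le _))
    (by have := h.lnγ (k + 3); have := h.lnD hE; omega)

theorem memZ3' (hx : x ∈ E) (hx' : x ∉ γ G 1) (hg : g ∈ γ G 1)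
    (hn : g ∈ normalizer ((E ⊓ γ G (k + 2) : Subgroup G) : Set G)) (e : ⁅x, g⁆ ∈ E) :
    g ∈ γ G (k + 2) :=
  h.memZ3 hE (h.eqE hE hx hx' ▸ nz_of_sup hn ((h.eqE hE hx hx').ge e)) hg

theorem nzD (hg : g ∈ C G 1) : g ∈ normalizer ((E ⊓ γ G (k + 2) : Subgroup G) : Set G) :=
  nz_of_cm fun _ hd =>
    have := h.cmΓ' (by omega) le_rfl hd.2 hg
    ⟨h.Z1_le hE this, γ_anti (by omega) this⟩

theorem k_eq (l : E ≤ C G 1) : k = 0 := by
  by_contra hk
  obtain ⟨x, hx, hx'⟩ := SetLike.not_le_iff_exists.1 (h.not_le hE)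
  have l1 : ∀ {i}, 1 ≤ i → γ G i ≤ normalizer ((E ⊓ γ G (k + 2) : Subgroup G) : Set G) :=
    fun hi g hg => h.nzD hE (γ_one_le_C 1 (γ_anti hi hg))
  have := ln_Cm' (p := p) (H := γ G k) (l1 (by omega)) (h.nzD hE (l hx)) (l1 (i := k + 2) (by omega))
    inf_le_right (fun g hg => cm_swap (h.cmΓ' (by omega) (by omega) hg (l hx)))
    fun g hg e => h.memZ3' hE hx hx' (γ_anti (by omega) hg) (l1 (by omega) hg) e.1
  have := h.lnγ k; have := h.lnγ (k + 2); have := h.lnD hE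
  omega

/-- overgroups of the normalizer when `E` centralizes the second center -/
theorem overC (l : E ≤ C G (k + 3)) (hx : x ∈ E) (hx' : x ∉ γ G 1)
    (hN : normalizer (E : Set G) ≤ R) (hR : R ≠ ⊤) :
    ∃ j, j ≤ k + 1 ∧ γ G (j + 1) ⊔ zpowers x = R := by
  classical
  have xR := hN (le_normalizer hx)
  have xΓ := h.notΓ hE l hx hx'
  have RC := h.le_C (by omega) le_rfl hR xR (l hx) hx'
  have j0 : ¬ R ⊓ γ G 1 ≤ γ G (k + 1 + 1 + 1) := fun l => by
    have := ln_mono p ((le_inf ((h.Z3_le hE).trans hN) (γ_anti (by omega))).trans l)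
    have := h.lnγ (k + 2); have := h.lnγ (k + 1 + 1 + 1)
    omega
  have hex : ∃ j, ¬ R ⊓ γ G 1 ≤ γ G (j + 1 + 1) := ⟨k + 1, j0⟩
  have j1 := Nat.find_spec hex
  have j2 : Nat.find hex ≤ k + 1 := Nat.find_min' hex j0
  have j3 : R ⊓ γ G 1 ≤ γ G (Nat.find hex + 1) := by
    rcases Nat.eq_zero_or_pos (Nat.find hex) with e | e
    · rw [e]; exact inf_le_right
    · have := not_not.1 (Nat.find_min hex (Nat.sub_lt e one_pos))
      rwa [show Nat.find hex - 1 + 1 = Nat.find hex by omega] at this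
  generalize Nat.find hex = j at *
  obtain ⟨r, hr, hr'⟩ := SetLike.not_le_iff_exists.1 j1
  have lay : ∀ i, j + 1 ≤ i → i < k + 2 → ∃ r ∈ R, r ∈ γ G i ∧ r ∉ γ G (i + 1) := by
    intro i hi
    induction i, hi using Nat.le_induction with
    | base => exact fun _ => ⟨r, hr.1, j3 hr, hr'⟩
    | succ i hi ih =>
      intro hlt
      obtain ⟨r, k1, k2, k3⟩ := ih (by omega)
      exact ⟨⁅r, x⁆, Ph_le_self (cm_mem_Ph (p := p) k1 xR), comm_mem_γ_succ k2 x,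
        h.ncm (by omega) xΓ (P_eq (G := G) (j := i) (by omega) ▸ k2) k3⟩
  have j4 := h.le_of_layers (by omega) (by omega) (by omega) ((h.Z3_le hE).trans hN) lay
  have c1 := ln_sup_inf' p R (γ G 1)
  have c2 := ln_mono p (sup_le RC (γ_one_le_C _))
  have c3 := ln_mono p j3
  have := h.lnγ 1; have := h.lnC (k + 3)
  exact ⟨j, j2, sup_zp_ln p j4 (by omega) xR fun k => hx' (γ_anti (by omega) k)⟩

end MX

end Cfsg.Agent.Fus.R3
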