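import Mathlib
import Cfsg.Agent.Fus.R3MaxA

/-! No elementary abelian group of order `p ^ 3` is essential in a saturated fusion system on a
`p`-group of maximal class of order at least `p ^ 5` (`p` odd). -/

set_option autoImplicit false
set_option linter.unusedSectionVars false

namespace Cfsg.Agent.Fus.R3

open Subgroup Cfsg.Agent.GT Cfsg.Agent.Loc.H78.Lie Cfsg.Agent.FG.MxC
open Cfsg.FusionSystem hiding inv_mem
open scoped commutatorElement

universe u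

section Gen
variable {G : Type*} [Group G] [Finite G] {p : ℕ} [hp : Fact p.Prime] [hG : Fact (IsPGroup p G)]
  {F : FusionSystem (⊤ : Subgroup G)} {E E' R T Y Z : Subgroup G} {g x : G}

theorem fuse_of_ess (hF : F.IsSaturated p) (hR : F.IsEssential p R) [T.Normal] (iY : Iv F R Y)
    (iZ : Iv F R Z) (ZY : Z ≤ Y) (YT : Y ≤ T) (TR : T ≤ R) (hΦ : Z ≤ Ph p R)
    (c1 : ln p R ≤ ln p T + 1) (c2 : ln p T ≤ ln p Y + 1) (c3 : ln p Y ≤ ln p Z + 1) (hx : x ∈ R)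
    (nx : x ∈ normalizer (Y : Set G)) (hg : g ∈ normalizer (Y : Set G)) (h1 : ⁅g, x⁆ ∈ T)
    (h2 : ⁅g, x⁆ ∉ Y) (h3 : ⁅⁅g, x⁆, g⁆ ∈ Y) (hE : E ≤ Y ⊔ zpowers x) :
    ∃ E' ≤ T, F.IsConj E E' := by
  by_cases iT : Iv F R T
  · exact (hR.not_chain3 hF (pg p ⊤) iT iY iZ YT ZY hΦ (dvd_p_of_ln TR c1) (dvd_p_of_ln YT c2)
      (dvd_p_of_ln ZY c3)).elim
  obtain ⟨α, hα, t, ht, ht'⟩ : ∃ α ∈ F.autGroup R, ∃ t ∈ T, totA α t ∉ T := by
    by_contra hc
    push Not at hc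
    exact iT ⟨TR, hc⟩
  obtain ⟨m, hm, i, e⟩ := (PG.mem_sup_zpowers_of_mem_normalizer mem_nz).1
    ((sup_zp_ln p TR c1 (totA_mem α (TR ht)) ht').ge hx)
  obtain ⟨k, hk, hk'⟩ := conj_into' (u := totA α t ^ i) hg nx h3 (by
    rw [sup_zp_ln p YT c2 h1 h2, ← e]
    simpa using hm)
  have l0 : Y ≤ img (totA α) T := fun y hy => (mem_img_totA TR).2
    ⟨totA α⁻¹ y, YT (iY.mem (inv_mem hα) hy), totA_totA_inv α (TR (YT hy))⟩
  have l1 : Y ⊔ zpowers x ≤ (img (totA α) T).comap (MulAut.conj k).toMonoidHom :=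
    sup_le (fun y hy => l0 ((mem_normalizer_iff.1 hk y).1 hy)) (zpowers_le.2
      (sup_le l0 (zpowers_le.2 (zpow_mem (mem_img_of_mem ht) i)) hk'))
  have l2 : ∀ e ∈ E, ∃ w ∈ T, totA α w = k * e * k⁻¹ := fun e he =>
    (mem_img_totA TR).1 (l1 (hE he))
  have mo := (iso_totA le_top (inv_mem hα)).mor.comp (F.mor_conj (P := E) le_top (s := k) trivial)
    fun e he => by
      obtain ⟨w, hw, e'⟩ := l2 e he
      exact e' ▸ totA_mem α (TR hw)
  refine ⟨_, img_le_iff.2 fun e he => ?_, mo.isConj_img⟩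
  obtain ⟨w, hw, e'⟩ := l2 e he
  rw [← e', totA_inv_totA α (TR hw)]
  exact hw

theorem ln_nz_le (hF : F.IsSaturated p) (hE : F.IsEssential p E) (c : ln p E = 3)
    (ab : ∀ x ∈ E, ∀ y ∈ E, Commute x y) : ln p (normalizer (E : Set G)) ≤ 4 := by
  by_contra hne
  obtain ⟨z, hz, hzp, s, hs, h⟩ := exists_tv_of_normal (pg p (normalizer (E : Set G)))
    (E := E.subgroupOf _) (card_of_ln (hG := ⟨pg p _⟩) ((ln_subgroupOf le_normalizer).trans c))
    (by rw [card_ln (p := p)]; exact Nat.pow_le_pow_right hp.out.pos (by omega))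
  have hzp' : (z : G) ^ p = 1 := congrArg Subtype.val hzp
  obtain ⟨X, Y, c', T⟩ := hE.exists_transv hF (pg p ⊤) (invA_bot _)
    (commutator_le.2 fun a ha b hb => cm_of_commute (ab a ha b hb)) bot_le (s := s) ⟨trivial, s.2⟩
    hs (a := z) hz (hzp' ▸ one_mem _) fun x hx => mem_sup_right (by
      obtain ⟨i, e⟩ := h ⟨x, le_normalizer hx⟩ hx
      exact ⟨i, congrArg Subtype.val e⟩)
  have := ln_sup_zp' s.2 hs T.pow
  rw [← T.norm, normalizerIn_top] at this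
  omega

theorem gd_of_conj (hF : F.IsSaturated p) (hE : F.IsEssential p E) (c : ln p E = 3)
    (ab : ∀ x ∈ E, ∀ y ∈ E, Commute x y) (h : F.IsConj E E') : Gd p E' := by
  obtain ⟨f, hf⟩ := h.exists_iso
  refine ⟨(ln_congr h.card_eq).symm.trans c, fun x hx y hy => ?_,
    fun g hg => (hE.isCentric.of_isConj h).mem trivial fun e he => (hg e he).eq, ?_⟩
  · obtain ⟨a, ha, rfl⟩ := hf.surj x hx
    obtain ⟨b, hb, rfl⟩ := hf.surj y hy
    exact (hf.mor.commute_iff ha hb).2 (ab a ha b hb)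
  · have h1 := hE.isFullyNormalized.2 _ h
    rw [normalizerIn_top, normalizerIn_top, card_ln (p := p), card_ln (p := p),
      Nat.pow_le_pow_iff_right hp.out.one_lt] at h1
    exact h1.trans (ln_nz_le hF hE c ab)

end Gen

variable {G : Type u} [Group G] [Finite G] {p k : ℕ} [hp : Fact p.Prime] [hG : Fact (IsPGroup p G)]
  {F : FusionSystem (⊤ : Subgroup G)} {E R : Subgroup G} {x : G}

namespace MX

/-- the first two-step centralizer is not essential -/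
theorem not_ess_C (h : MX p G 0) (hF : F.IsSaturated p) (hE : Gd p E) (l : E ≤ C G 1)
    (hR : F.IsEssential p (C G 1)) : False := by
  obtain ⟨x, hx, hx'⟩ := SetLike.not_le_iff_exists.1 (h.not_le hE)
  have xC := h.notC hE l hx hx'
  obtain ⟨g, hg, hg'⟩ : ∃ g ∈ γ G 1, g ∉ γ G 2 := h.ex 1
  obtain ⟨z, hz, hz'⟩ : ∃ g ∈ γ G 3, g ∉ γ G 4 := h.ex 3
  have l1 := γ_one_le_C (G := G) 1
  have nz := h.ncm' xC hz hz'
  have hxg : ⁅x, g⁆ ∉ γ G 4 := fun k =>
    hg' (h.memZ3' hE hx hx' hg (h.nzD hE (l1 hg)) (h.Z1_le hE k))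
  have c1 := h.lnγ 1; have c2 := h.lnγ 2; have c3 := h.lnγ 3; have c4 := h.lnγ 4
  have c0 := h.lnC 1
  have e3 : ⁅C G 1, C G 1⁆ = γ G 3 := by
    refine le_antisymm (comm_C_le h.hn h.hc (by omega)) (h.le_of_layers (b := 0 + 3 + 2) (by omega)
      (by omega) le_rfl ((γ_eq_bot h.hn h.hc).le.trans bot_le) fun i i1 i2 => ?_)
    obtain rfl | rfl : i = 3 ∨ i = 4 := by omega
    · exact ⟨_, commutator_mem_commutator (l hx) (l1 hg),
        cm_swap (h.cmΓ' le_rfl (by omega) hg (l hx)), hxg⟩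
    · exact ⟨_, commutator_mem_commutator (l1 (γ_anti (by omega) hz)) (l hx),
        comm_mem_γ_succ hz x, fun k => nz (h.cm1 le_rfl k)⟩
  have i3 : Iv F (C G 1) (γ G 3) := by rw [← e3]; exact (invA_top _).commutator (invA_top _)
  have e4 : ⁅γ G 3, C G 1⁆ = γ G 4 := by
    have k : ⁅γ G 3, C G 1⁆ ≤ γ G 4 := commutator_le.2 fun a ha b _ => comm_mem_γ_succ ha b
    have := ln_pos p (X := ⁅γ G 3, C G 1⁆) (commutator_mem_commutator hz (l hx))
      fun e => nz (commutatorElement_eq_one_iff_commute.1 e)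
    exact eq_of_ln p k (by omega)
  have i4 : Iv F (C G 1) (γ G 4) := by rw [← e4]; exact i3.commutator (invA_top _)
  have e1 : C G 1 ⊓ Cs (γ G 3) ⊥ = γ G 1 := by
    have k : γ G 1 ≤ C G 1 ⊓ Cs (γ G 3) ⊥ := le_inf l1 fun u hu => mem_Cs_bot.2 fun v hv =>
      h.cm1 (i := 3 + 1 + 1) le_rfl (comm_mem_γ hv hu)
    exact (eq_or_eq_ln p k inf_le_left (by omega)).resolve_right
      fun e => nz (mem_Cs_bot.1 (e.ge (l hx)).2 z hz)
  have i1 : Iv F (C G 1) (γ G 1) := by rw [← e1]; exact invA_Cs (invA_top _) i3 (invA_bot _)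
  have e2 : γ G 1 ⊓ Cs (C G 1) (γ G 4) = γ G 2 := by
    have k : γ G 2 ≤ γ G 1 ⊓ Cs (C G 1) (γ G 4) := le_inf (γ_succ_le 1) fun u hu =>
      mem_Cs.2 fun v hv => cm_swap (h.cmΓ' (i := 2) (by omega) le_rfl hu hv)
    exact (eq_or_eq_ln p k inf_le_left (by omega)).resolve_right
      fun e => hxg (mem_Cs.1 (e.ge hg).2 x (l hx))
  have i2 : Iv F (C G 1) (γ G 2) := by rw [← e2]; exact invA_Cs i1 (invA_top _) i4
  exact hR.not_chain3 hF (pg p ⊤) i1 i2 i3 (γ_succ_le 1)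
    (γ_succ_le 2) (e3.ge.trans le_sup_left) (dvd_p_of_ln l1 (by omega))
    (dvd_p_of_ln (γ_succ_le 1) (by omega)) (dvd_p_of_ln (γ_succ_le 2) (by omega))

variable (h : MX p G k) (hF : F.IsSaturated p)
include h hF

theorem fuseB (hE : Gd p E) (l : E ≤ C G 1) (hR : F.IsEssential p R)
    (hN : normalizer (E : Set G) ≤ R) : ∃ E' ≤ γ G 1, F.IsConj E E' := by
  obtain rfl := h.k_eq hE l
  obtain ⟨x, hx, hx'⟩ := SetLike.not_le_iff_exists.1 (h.not_le hE)
  have RC := h.le_C le_rfl (by omega) (hF.lt_of_isEssential (pg p ⊤) hR).ne (hN (le_normalizer hx))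
    (l hx) hx'
  have c0 := h.lnC 1; have c1 := h.ln_nz hE; have c2 := h.lnγ 2; have c3 := h.lnD hE
  rcases eq_or_eq_ln p hN RC (by omega) with rfl | rfl
  swap
  · exact (h.not_ess_C hF hE l hR).elim
  obtain ⟨g, hg, hg'⟩ := h.ex 1
  obtain ⟨s, hs, hs'⟩ := h.exs hE
  have l1 := γ_one_le_C (G := G) 1
  have Z1 : γ G 4 ≤ E ⊓ γ G (0 + 2) := le_inf (h.Z1_le hE) (γ_anti (by omega))
  have e : normalizer (E : Set G) ⊓ Cs (normalizer (E : Set G)) ⊥ = E ⊓ γ G (0 + 2) :=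
    le_antisymm (fun u hu => h.mem_of_cen hE fun v hv => (mem_Cs_bot.1 hu.2 v hv).symm)
      fun u hu => ⟨le_normalizer hu.1, mem_Cs_bot.2 fun v hv => (h.cenD hE hu hv).symm⟩
  have c4 := ln_pos p (commutator_mem_commutator (le_normalizer hx) (h.Z3_le hE hs))
    fun e => h.ncE hE hs hs' hx hx' (commutatorElement_eq_one_iff_commute.1 e)
  have k1 : ⁅g, x⁆ ∈ γ G 3 := h.cmΓ' le_rfl (by omega) hg (l hx)
  obtain ⟨E', k2, k3⟩ := fuse_of_ess hF hR (T := γ G 2)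
    (e ▸ invA_Cs (invA_top _) (invA_top _) (invA_bot _)) ((invA_top _).commutator (invA_top _))
    (commutator_le.2 fun a ha b hb => Z1 (cm_sup_sup (fun u hu v hv => cm_of_commute (h.ab3 hu hv))
      (fun u hu => h.cmΓ' (by omega) le_rfl hu (l hx)) ((h.eqN hE hx hx').ge ha)
      ((h.eqN hE hx hx').ge hb))) inf_le_right (h.Z3_le hE) le_sup_left (by omega) (by omega)
    (by omega) (le_normalizer hx) (h.nzD hE (l hx)) (h.nzD hE (l1 hg)) (γ_succ_le 2 k1)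
    (fun k => hg' (h.memZ3' hE hx hx' hg (h.nzD hE (l1 hg)) (cm_swap k.1)))
    (Z1 (comm_mem_γ_succ k1 g)) (h.eqE hE hx hx').ge
  exact ⟨E', k2.trans (γ_succ_le 1), k3⟩

theorem fuseC (hE : Gd p E) (l : E ≤ C G (k + 3)) (hR : F.IsEssential p R)
    (hN : normalizer (E : Set G) ≤ R) : ∃ E' ≤ γ G 1, F.IsConj E E' := by
  obtain ⟨x, hx, hx'⟩ := SetLike.not_le_iff_exists.1 (h.not_le hE)
  obtain ⟨j, hj, e⟩ := h.overC hE l hx hx' hN (hF.lt_of_isEssential (pg p ⊤) hR).ne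
  have xΓ := h.notΓ hE l hx hx'
  have xR := hN (le_normalizer hx)
  have TR : γ G (j + 1) ≤ R := le_sup_left.trans e.le
  have eD := h.D_eq hE l
  have xp : x ^ p ∈ γ G (j + 2) := γ_anti (by omega)
    (eD.ge (pow_ln inf_le_left (by rw [h.lnD hE, hE.c]) hx))
  have l1 : Ph p R ≤ γ G (j + 2) := e ▸ Ph_sup_zp_le (Ph_le_iff.2 ⟨fun a ha b _ =>
    comm_mem_γ_succ ha b, fun a ha => h.powP (j := j + 1) (by omega) ha⟩) xp
    fun a ha => comm_mem_γ_succ ha x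
  have l2 : γ G (j + 2) ≤ Ph p R ⊔ γ G (k + 4) :=
    h.le_of_layers (by omega) (by omega) (by omega) le_sup_right fun i i1 i2 => by
      obtain ⟨i, rfl⟩ : ∃ i', i = i' + 1 + 1 := ⟨i - 2, by omega⟩
      obtain ⟨u, hu, hu'⟩ := h.ex (i + 1)
      exact ⟨⁅u, x⁆, mem_sup_left (cm_mem_Ph (TR (γ_anti (by omega) hu)) xR),
        comm_mem_γ_succ hu x, h.ncm (by omega) xΓ hu hu'⟩
  have e' : Ph p R ⊔ R ⊓ Cs R ⊥ = γ G (j + 2) := le_antisymm (sup_le l1 fun u hu => γ_anti (by omega)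
      (eD.ge (h.mem_of_cen hE fun v hv => (mem_Cs_bot.1 hu.2 v (hN hv)).symm)))
    (l2.trans (sup_le_sup_left (fun u hu => ⟨TR (γ_anti (by omega) hu),
      mem_Cs_bot.2 fun v _ => (h.cent hu v).symm⟩) _))
  have c1 := ln_sup_zp_le (γ_succ_le _ xp)
  have c2 := ln_mono p l2
  have c3 := ln_sup_inf' p (Ph p R) (γ G (k + 4))
  have c4 := h.lnγ (j + 1); have c5 := h.lnγ (j + 2); have c6 := h.lnγ (k + 4)
  obtain ⟨g, hg, hg'⟩ := h.ex j
  have k1 : ⁅g, x⁆ ∈ γ G (j + 1) := comm_mem_γ_succ (P_le_γ j hg) x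
  obtain ⟨E', k2, k3⟩ := fuse_of_ess hF hR (T := γ G (j + 1))
    (e' ▸ ivPh.sup (invA_Cs (invA_top _) (invA_top _) (invA_bot _))) ivPh l1 (γ_succ_le _) TR le_rfl
    (e ▸ c1) (by omega) (by omega) xR mem_nz mem_nz k1 (h.ncm (by omega) xΓ hg hg')
    (comm_mem_γ_succ k1 g) ((h.eqE hE hx hx').ge.trans
      (sup_le_sup_right (eD.ge.trans (γ_anti (by omega))) _))
  exact ⟨E', k2.trans (γ_anti (by omega)), k3⟩

theorem no_ess (hE : ∀ E', F.IsConj E E' → Gd p E') (hR : F.IsEssential p R)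
    (hN : normalizer (E : Set G) ≤ R) : False := by
  have gd := hE E (.refl F le_top)
  obtain ⟨E', l, c⟩ := (h.le_or gd).elim (h.fuseB hF gd · hR hN) (h.fuseC hF gd · hR hN)
  exact h.not_le (hE E' c) l

theorem final (h2 : p ≠ 2) (hE : F.IsEssential p E) (c : ln p E = 3)
    (ab : ∀ x ∈ E, ∀ y ∈ E, Commute x y) (el : ∀ x ∈ E, x ^ p = 1) : False := by
  have cl := fun E' => gd_of_conj (E' := E') hF hE c ab
  have gd := cl E (.refl F le_top)
  obtain ⟨x, hx, hx'⟩ := SetLike.not_le_iff_exists.1 (h.not_le gd)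
  obtain ⟨s, hs, hs', hs2⟩ : ∃ s ∈ γ G (k + 2), s ∉ E ∧ (E ≤ C G 1 → s ∈ γ G (k + 3)) := by
    by_cases l : E ≤ C G 1
    · obtain ⟨s, hs, hs'⟩ := SetLike.not_le_iff_exists.1 fun l' : γ G (k + 3) ≤ E =>
        h.not_both gd l fun e he z hz => cm_of_commute (ab z (l' hz) e he)
      exact ⟨s, γ_succ_le _ hs, hs', fun _ => hs⟩
    · obtain ⟨s, hs, hs'⟩ := h.exs gd
      exact ⟨s, hs, hs', fun l' => (l l').elim⟩
  obtain ⟨X, Y, c', T⟩ := hE.exists_transv_of_axis hF (pg p ⊤) (invA_bot _)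
    (commutator_le.2 fun a ha b hb => cm_of_commute (ab a ha b hb)) bot_le (s := s)
    ⟨trivial, h.Z3_le gd hs⟩ hs' (M := E ⊓ γ G (k + 2))
    (fun y hy => conj_eq_iff.2 (h.ab3 hy.2 hs)) (h.eqE gd hx hx').symm (el x hx ▸ one_mem _)
  obtain ⟨β, hβ, -, b1, -, b3, b4⟩ := T.exists_neg hE hF (pg p ⊤)
  obtain ⟨σ, hσ, eσ⟩ := hF.extend_top_of_not_le_essential (pg p ⊤) (fun f R hf hR l => by
    rw [← T.norm] at hf l
    have k1 := (hE.isFullyNormalized.iso_normalizerIn hf).1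
    refine h.no_ess hF (fun E' k => cl E'
      ((hf.mono (le_normalizerIn le_top)).isConj_img.trans k)) hR fun u hu => ?_
    obtain ⟨v, hv, rfl⟩ := k1.surj u ⟨trivial, hu⟩
    exact l v hv) (iso_totA le_top hβ).mor
  obtain ⟨τ, eτ⟩ := exists_hom_top hσ
  have XE := T.invX.1
  have YE := T.invY.1
  have wX : ∀ u ∈ X, Wz τ.toMonoidHom ⊥ u (-1 : ZMod p) := fun u hu => ⟨-1, by simp, by
    have := (b1 u hu).2
    rw [← eσ u (mem_sup_left (XE hu)), ← eτ] at this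
    simpa [Wt] using this⟩
  have wY : ∀ u ∈ Y, Wz τ.toMonoidHom ⊥ u (1 : ZMod p) := fun u hu => wz_one (by
    have := b3 u hu
    rwa [← eσ u (mem_sup_left (YE hu)), ← eτ] at this)
  rw [← eσ s (mem_sup_right (mem_zpowers s)), ← eτ] at b4
  have YD : Y ≤ E ⊓ γ G (k + 2) := fun y hy => ⟨YE hy, h.memD gd (YE hy) (by_contra fun k =>
    h.ncE gd hs hs' (YE hy) k (conj_eq_iff.1 ((T.fix y (YE hy)).2 (mem_sup_left hy))))⟩
  have DY : E ⊓ γ G (k + 2) ≤ Y ⊔ zpowers (x⁻¹ * (s * x * s⁻¹)) := fun d hd =>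
    (T.fix d hd.1).1 (conj_eq_iff.2 (h.ab3 hd.2 hs))
  obtain ⟨w, hw, hw'⟩ := SetLike.not_le_iff_exists.1 fun l : X ≤ γ G 1 => h.not_le gd
    (T.sup.ge.trans (sup_le l (YD.trans (inf_le_right.trans (γ_anti (by omega))))))
  have c0 := h.lnT; have c1 := h.lnC 1; have c2 := h.lnD gd
  have c3 := h.lnγ (k + 3); have c4 := h.lnγ (k + 4)
  rcases h.le_or gd with l | l
  · have hs3 := hs2 l
    have hs4 : s ∉ γ G (k + 4) := fun k => hs' (h.Z1_le gd k)
    obtain ⟨v, -, hv⟩ := exists_of_ln p (X := ⊤) (Y := C G 1) (by omega)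
    obtain ⟨m, wm⟩ := exists_wz (p := p) (τ := τ.toMonoidHom) (B := C G 1) (x := v)
      ((sup_zp_ln p le_top (by omega) trivial hv).ge trivial)
    have W := fun i hi u hu => h.wts τ (l (XE hw)) hw' hv ((wX w hw).mono bot_le) wm (i := i) hi
      (u := u) hu
    have e1 := (W (k + 3) le_rfl s hs3).uniq (wz_one ((inferInstance : (γ G (k + 4)).Normal).mem_comm
      (mem_of_ln p (γ_succ_le _) (by omega) (h.Z1_le gd) (fun l' => hs' (l' hs3))
        (mul_mem (aut_mem_γ τ hs3) (inv_mem hs3)) b4))) hs4 (h.powP (j := k + 3) (by omega) hs3)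
    obtain ⟨y, hy, hy'⟩ := SetLike.not_le_iff_exists.1 fun l' : Y ≤ γ G (k + 3) => hs'
      ((eq_of_ln p (DY.trans (sup_le l' (zpowers_le.2 (cj_of_cm (cm_swap
        (comm_mem_γ_succ hs x)))))) (by omega)).ge hs3).1
    have e2 := (W (k + 2) (by omega) y (YD hy).2).uniq ((wY y hy).mono bot_le) hy'
      (h.powP (j := k + 2) (by omega) (YD hy).2)
    rw [pow_succ, ← mul_assoc, e2, one_mul] at e1
    rw [e1, one_pow, mul_one] at e2
    exact neg_one_ne h2 e2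
  · have eD := h.D_eq gd l
    have wΓ := h.notΓ gd l (XE hw) hw'
    have hne : C G (k + 3) ≠ C G 1 := fun e => wΓ (e ▸ l (XE hw))
    have od := odd_of_ne h.hn h.hc (by omega) hne
    obtain ⟨t, ht, ht'⟩ := h.ex 0
    obtain ⟨a, wa⟩ := exists_wz (p := p) (τ := τ.toMonoidHom) (B := γ G 1) (x := t)
      ((h.supP (by omega) ht ht').ge (aut_mem_P τ ht))
    have W := fun i hi u hu => h.wts τ ht ht' wΓ wa ((wX w hw).mono bot_le) (i := i) hi (u := u) hu
    have hs3 : s ∉ γ G (k + 3) := fun k => hs' (h.Z2_le gd l k)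
    have e1 := (W (k + 2) (by omega) s hs).uniq (wz_one
      ((inferInstance : (γ G (k + 3)).Normal).mem_comm
        (eD.ge ⟨b4, (γ G _).mul_mem (aut_mem_γ τ hs) (inv_mem hs)⟩))) hs3
      (h.powP (j := k + 2) (by omega) hs)
    rw [Even.neg_one_pow (by grind), mul_one] at e1
    have W3 : ∀ u ∈ γ G (k + 3), Wz τ.toMonoidHom (γ G (k + 4)) u (-1 : ZMod p) := fun u hu => by
      simpa only [e1, od.neg_one_pow, one_mul] using W (k + 3) le_rfl u hu
    have c5 := ln_zp_le (el _ (XE T.aX))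
    obtain ⟨y, hy, hy'⟩ : ∃ y ∈ Y, y ≠ 1 := by
      by_contra hc
      push Not at hc
      have := ln_mono p (DY.trans (sup_le (fun y hy => hc y hy ▸ one_mem _) le_rfl))
      omega
    have hy3 := eD.ge (YD hy)
    have hy4 : y ∈ γ G (k + 4) := by_contra fun k => neg_one_ne h2
      ((W3 y hy3).uniq ((wY y hy).mono bot_le) k (h.powP (j := _ + 3) (by omega) hy3))
    have tC : t ∉ C G (k + 3) := fun k => hne (eq_of_ln p ((h.supP (by omega) ht ht').ge.trans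
      (sup_le (γ_one_le_C _) (zpowers_le.2 k))) ((h.lnC _ (by omega) le_rfl).le.trans c1.ge)).symm
    obtain ⟨u, hu, hu'⟩ := h.ex (k + 3)
    have k1 : ⁅u, t⁆ ∈ γ G (k + 4) := comm_mem_γ_succ hu t
    have w1 := (W3 u hu).comm wa (C := ⊥) (fun z hz => cm_of_commute (h.cent hz _))
      (fun z hz _ _ => cm_of_commute (h.cent hz _))
      (fun z hz => cm_of_commute (h.cC hu (γ_one_le_C _ hz))) (cm_of_commute (h.cent k1 _))
      (cm_of_commute (h.cent k1 _))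
    have w2 := (wY y hy).sec (fun b hb => by rw [mem_bot.1 hb, map_one]; exact one_mem _)
      (mem_sup_right ((zp_eq_ln p (by omega) hy4 hy').ge k1))
    have e3 := w1.uniq w2 (fun k => h.ncm' tC hu hu' (cm_bot.1 k))
      (γ_eq_bot h.hn h.hc ▸ h.powP (j := k + 4) le_rfl k1)
    rw [e1, mul_one] at e3
    exact neg_one_ne h2 e3

end MX

theorem not_ess_cube (hF : F.IsSaturated p) (h2 : p ≠ 2) {n : ℕ} (hn : Nat.card G = p ^ (n + 3))
    (hc : Group.nilpotencyClass G = n + 2) (h : 2 ≤ n) (hE : F.IsEssential p E)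
    (c : Nat.card E = p ^ 3) (ab : IsMulCommutative E) (el : ∀ x ∈ E, x ^ p = 1) : False := by
  rcases h.eq_or_lt with rfl | h
  · obtain ⟨N, M, A, Z, y, x, t, H⟩ := exists_ca hF hn hE ab c
    have := H.nA
    have e : A = γ G 1 := PG.eq_lowerCentralSeries_of_maxClass hn hc A (r := 0)
      (index_eq_of_card (a := 3) hn H.cA)
    have l : γ G 2 ≤ Z := commutator_le.2 fun a ha b _ => H.cAZ hG.out hn h2 (e.ge ha) b
    have := ln_mono p l
    rw [ln_of_card H.cZ, ln_of_card (card_γ hn hc (by omega) (by omega))] at this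
    omega
  · obtain ⟨k, rfl⟩ := Nat.exists_eq_add_of_le' h
    exact MX.final ⟨hn, hc⟩ hF h2 hE (ln_of_card c) (PG.isMulCommutative_iff_forall.1 ab) el

end Cfsg.Agent.Fus.R3
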