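import Mathlib
import Cfsg.Agent.Fus.SL2Act

/-! Essential subgroups whose automizer acts faithfully on a section of order `p ^ 2`. -/

set_option linter.unusedSectionVars false

namespace Cfsg.FusionSystem
open Cfsg.Agent Cfsg.Agent.Fus Subgroup Cfsg.Agent.GT.PG
open scoped MatrixGroups commutatorElement

variable {Ω : Type*} [Group Ω] {S E X Y Z : Subgroup Ω} {F : FusionSystem S} {p : ℕ}
  {H G₀ : Subgroup (MulAut E)} {C : Type*} [Group C] {θ : Ω → C} {u l : MulAut E}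

theorem _root_.Cfsg.Agent.Fus.eq_one_of_chain3 [Finite E] [Fact p.Prime] (hE : IsPGroup p E)
    {α : MulAut E} (hα : (orderOf α).Coprime p) (h1 : α ∈ secStab E E X) (h2 : α ∈ secStab E X Y)
    (h3 : α ∈ secStab E Y Z) (hZ : Z ≤ ⁅E, E⁆ ⊔ powerClosure p 1 E) : α = 1 := by
  refine eq_one_of_mem_pgroup_of_coprime
    (isPGroup_chainStab hE (C := fun i => [E, X, Y, Z].getD i ⊥) (n := 3) rfl hZ)
    (mem_chainStab.2 fun i hi => ?_) hα
  interval_cases i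
  exacts [h1, h2, h3]

theorem _root_.Cfsg.Agent.Fus.mem_secStab_self {α : MulAut E} (h : α ∈ stabA E X) :
    α ∈ secStab E X X := ⟨h, fun x hx hE => X.mul_mem (X.inv_mem hx) ((h x hE).2 hx)⟩

theorem _root_.Cfsg.Agent.Fus.mem_stabA_top (α : MulAut E) : α ∈ stabA E E :=
  fun _ hx => ⟨fun _ => hx, fun _ => totA_mem α hx⟩

theorem _root_.Cfsg.Agent.Fus.conj_pow_eq_one {G : Type*} [Group G] {u : G} (l : G)
    (hu : ∃ k, u ^ p ^ k = 1) : ∃ k, (l * u * l⁻¹) ^ p ^ k = 1 :=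
  hu.imp fun k hk => by rw [conj_pow, hk, mul_one, mul_inv_cancel]

variable [Finite S] [Fact p.Prime]

theorem EssData.le_of_mem_normalizer (h : F.EssData p E H) {K : Subgroup (MulAut E)}
    (hK : IsPGroup p K) (hKF : K ≤ F.autGroup E) (huH : u ∈ H) (huI : u ∉ Inn E)
    (hu : ∃ k, u ^ p ^ k = 1) (hn : u ∈ normalizer (K : Set (MulAut E))) : K ≤ H := by
  obtain ⟨k, hk⟩ := hu
  exact le_sup_right.trans (h.pgroup_le (zpowers u ⊔ K) (sup_le (zpowers_le.2 (h.le huH)) hKF)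
    (isPGroup_sup_of_le_normalizer (isPGroup_zpowers_of_pow hk) hK (zpowers_le.2 hn)) u
    (mem_sup_left (mem_zpowers u)) huH huI)

/-- A `p`-subgroup normalised by `u` and a conjugate of `u` outside `H` is inner. -/
theorem EssData.le_inn_of_pair (h : F.EssData p E H) {K : Subgroup (MulAut E)}
    (hK : IsPGroup p K) (hKF : K ≤ F.autGroup E) (huH : u ∈ H) (huI : u ∉ Inn E)
    (hu : ∃ k, u ^ p ^ k = 1) (hl : l ∈ F.autGroup E) (hlH : l ∉ H)
    (hn : u ∈ normalizer (K : Set (MulAut E)))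
    (hn' : l * u * l⁻¹ ∈ normalizer (K : Set (MulAut E))) : K ≤ Inn E := fun k hk => by
  have h1 := h.le_of_mem_normalizer hK hKF huH huI hu hn
  have h2 : K.comap (MulAut.conj l).toMonoidHom ≤ H := by
    refine h.le_of_mem_normalizer (hK.comap_of_injective _ (MulAut.conj l).injective)
      (fun a ha => ?_) huH huI hu (mem_normalizer_iff.2 fun a => ?_)
    · have := (F.autGroup E).mul_mem ((F.autGroup E).mul_mem ((F.autGroup E).inv_mem hl)
        (hKF ha)) hl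
      simpa [mul_assoc] using this
    · rw [mem_comap, mem_comap, mem_normalizer_iff.1 hn']
      simp [mul_assoc]
  by_contra hkI
  refine hlH (h.mem_of_conj l hl (l⁻¹ * k * l) (h2 (by simpa [mul_assoc] using hk)) ?_
    (fun h' => hkI ?_) (by simpa [mul_assoc] using h1 hk))
  · simpa using conj_pow_eq_one l⁻¹ (exists_pow_pow_eq_one_of_mem hK hk)
  · simpa [mul_assoc] using (mem_normalizer_iff.1 (le_normalizer_inn ⊤ (mem_top l)) _).1 h'

theorem EssData.not_isPGroup_pair (h : F.EssData p E H) {R : Subgroup (MulAut E)}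
    (hR : IsPGroup p R) (hRF : R ≤ F.autGroup E) (huH : u ∈ H) (huI : u ∉ Inn E)
    (hl : l ∈ F.autGroup E) (hlH : l ∉ H) (huR : u ∈ R) (hvR : l * u * l⁻¹ ∈ R) : False :=
  hlH (h.mem_of_conj l hl u huH (exists_pow_pow_eq_one_of_mem hR huR) huI
    (h.pgroup_le R hRF hR u huR huH huI hvR))

/-- A subgroup `G₀` of the automizer, containing `u` and a conjugate of `u` outside the strongly
embedded subgroup, acting on a section of order `p ^ 2` with `p`-group kernel. -/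
structure Rk2 (F : FusionSystem S) (p : ℕ) (E : Subgroup Ω) (H G₀ : Subgroup (MulAut E))
    (θ : Ω → C) (X Y : Subgroup Ω) (u l : MulAut E) : Prop where
  data : F.EssData p E H
  hS : IsPGroup p S
  le : G₀ ≤ F.autGroup E
  sec : IsSec θ X Y
  invX : InvA G₀ X
  invY : InvA G₀ Y
  card : Nat.card C = p ^ 2
  ker : ∀ α ∈ G₀, (orderOf α).Coprime p → α ∈ secStab E X Y → α = 1
  uG : u ∈ G₀
  uH : u ∈ H
  uI : u ∉ Inn E
  up : ∃ k, u ^ p ^ k = 1
  lF : l ∈ F.autGroup E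
  lH : l ∉ H
  vG : l * u * l⁻¹ ∈ G₀

namespace Rk2
variable (h : F.Rk2 p E H G₀ θ X Y u l)
include h

theorem mulOn : MulOn G₀ (h.sec.rep : MulAut E → MulAut C) := h.sec.mulOn_rep h.invX h.invY

theorem rep_apply {α : MulAut E} (hα : α ∈ G₀) {x : Ω} (hx : x ∈ X) :
    h.sec.rep α (θ x) = θ (totA α x) := h.sec.rep_apply h.invX h.invY hα hx

theorem closure_le : closure {u, l * u * l⁻¹} ≤ G₀ :=
  (Subgroup.closure_le _).2 (by rintro _ (rfl | rfl); exacts [h.uG, h.vG])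

theorem mem_inn {α : MulAut E} (hα : α ∈ G₀) (e : h.sec.rep α = 1) : α ∈ Inn E := by
  have := finite_of_le h.data.le_top
  have hn : G₀ ≤ normalizer ((G₀ ⊓ secStab E X Y : Subgroup (MulAut E)) : Set (MulAut E)) :=
    fun a ha => mem_normalizer_fintype fun b hb => ⟨G₀.mul_mem (G₀.mul_mem ha hb.1) (G₀.inv_mem ha),
      conj_mem_secStab hb.2 (h.invX.le_stabA ha) (h.invY.le_stabA ha)⟩
  exact h.data.le_inn_of_pair (K := G₀ ⊓ secStab E X Y)
    (isPGroup_of_forall_coprime fun g hg hc => h.ker g hg.1 hc hg.2) (inf_le_left.trans h.le)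
    h.uH h.uI h.up h.lF h.lH (hn h.uG) (hn h.vG)
    ⟨hα, (h.sec.rep_eq_one_iff' h.invX h.invY hα).1 e⟩

theorem pElt_of_rep {α : MulAut E} (hα : α ∈ G₀) (e : ∃ k, h.sec.rep α ^ p ^ k = 1) :
    ∃ k, α ^ p ^ k = 1 := by
  obtain ⟨k, hk⟩ := e
  obtain ⟨j, hj⟩ := exists_pow_pow_eq_one_of_mem (isPGroup_inn (h.hS.to_le h.data.le_top))
    (h.mem_inn (pow_mem hα (p ^ k)) (by rw [h.mulOn.map_pow hα, hk]))
  exact ⟨k + j, by rw [pow_add, pow_mul, hj]⟩

theorem rep_pElt {α : MulAut E} (hα : α ∈ G₀) (e : ∃ k, α ^ p ^ k = 1) :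
    ∃ k, h.sec.rep α ^ p ^ k = 1 :=
  e.imp fun k hk => by rw [← h.mulOn.map_pow hα, hk, h.mulOn.map_one]

theorem vI : l * u * l⁻¹ ∉ Inn E := fun e =>
  h.uI ((mem_normalizer_iff.1 (le_normalizer_inn ⊤ (mem_top l)) _).2 e)

theorem rep_u_ne : h.sec.rep u ≠ 1 := fun e => h.uI (h.mem_inn h.uG e)

theorem rep_v_ne : h.sec.rep (l * u * l⁻¹) ≠ 1 := fun e => h.vI (h.mem_inn h.vG e)

theorem not_pgroup {W : Subgroup (MulAut C)} (hW : IsPGroup p W) (h1 : h.sec.rep u ∈ W)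
    (h2 : h.sec.rep (l * u * l⁻¹) ∈ W) : False :=
  h.data.not_isPGroup_pair (R := pre h.sec.rep G₀ W)
    (fun a => (h.pElt_of_rep (h.mulOn.mem_pre.1 a.2).1 (exists_pow_pow_eq_one_of_mem hW
      (h.mulOn.mem_pre.1 a.2).2)).imp fun _ => Subtype.ext)
    ((pre_le _ _ _).trans h.le) h.uH h.uI h.lF h.lH (mem_pre_of h.uG h1) (mem_pre_of h.vG h2)

theorem elemSq : ElemSq p C := elemSq_of_not_isCyclic h.card fun _ => by
  obtain ⟨k, hk⟩ := h.rep_pElt h.uG h.up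
  obtain ⟨j, hj⟩ := h.rep_pElt h.vG (conj_pow_eq_one l h.up)
  refine h.not_pgroup (W := zpowers (h.sec.rep u) ⊔ zpowers (h.sec.rep (l * u * l⁻¹)))
    (isPGroup_sup_of_le_normalizer (isPGroup_zpowers_of_pow hk) (isPGroup_zpowers_of_pow hj)
      (zpowers_le.2 (centralizer_le_normalizer _ fun a _ => ?_)))
    (mem_sup_left (mem_zpowers _)) (mem_sup_right (mem_zpowers _))
  exact (IsCyclic.mulAutMulEquiv C).injective (by rw [map_mul, map_mul, mul_comm])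

theorem mem_sup_of_rep_mem {α : MulAut E} (hα : α ∈ G₀)
    (e : h.sec.rep α ∈ zpowers (h.sec.rep u)) : α ∈ Inn E ⊔ zpowers u := by
  obtain ⟨i, hi⟩ := e
  have h1 : α * (u ^ i)⁻¹ ∈ Inn E :=
    h.mem_inn (G₀.mul_mem hα (G₀.inv_mem (zpow_mem h.uG i))) (by
      rw [h.mulOn.map_mul hα (G₀.inv_mem (zpow_mem h.uG i)), h.mulOn.map_inv (zpow_mem h.uG i),
        h.mulOn.map_zpow h.uG, ← hi, mul_inv_cancel])
  simpa using (Inn E ⊔ zpowers u).mul_mem (mem_sup_left h1)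
    (mem_sup_right (zpow_mem (mem_zpowers u) i))

theorem pow_mem_inn_of {α : MulAut E} (hα : α ∈ G₀) (e : ∃ k, α ^ p ^ k = 1) : α ^ p ∈ Inn E :=
  h.mem_inn (pow_mem hα p) (by
    rw [h.mulOn.map_pow hα, h.elemSq.pow_eq_one_of_pElt (h.rep_pElt hα e)])

theorem le_sup_of_isPGroup {R : Subgroup (MulAut E)} (hR : IsPGroup p R) (hRG : R ≤ G₀)
    (hu : u ∈ R) : R ≤ Inn E ⊔ zpowers u := fun _ hα =>
  h.mem_sup_of_rep_mem (hRG hα) (h.elemSq.le_zpowers_of_isPGroup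
    (isPGroup_img (h.mulOn.mono hRG) hR) (mem_img_of_mem hu) h.rep_u_ne (mem_img_of_mem hα))

theorem mem_sup_of_fixed {α : MulAut E} (hα : α ∈ G₀) (e : ∃ k, α ^ p ^ k = 1) {a : C}
    (ha1 : a ≠ 1) (ha : h.sec.rep u a = a) (hαa : h.sec.rep α a = a) : α ∈ Inn E ⊔ zpowers u :=
  h.mem_sup_of_rep_mem hα (h.elemSq.mem_zpowers_of_fixed_of_pElt (h.rep_pElt h.uG h.up) h.rep_u_ne
    (h.rep_pElt hα e) ha1 ha hαa)

theorem notMem_zpowers {a b : C} (ha1 : a ≠ 1) (ha : h.sec.rep u a = a) (hb1 : b ≠ 1)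
    (hb : h.sec.rep (l * u * l⁻¹) b = b) : b ∉ zpowers a := fun e => by
  obtain ⟨k, hk⟩ := h.rep_pElt h.uG h.up
  refine h.not_pgroup (isPGroup_zpowers_of_pow hk) (mem_zpowers _)
    (h.elemSq.mem_zpowers_of_fixed_of_pElt ⟨k, hk⟩ h.rep_u_ne
      (h.rep_pElt h.vG (conj_pow_eq_one l h.up)) hb1 ?_ hb)
  obtain ⟨i, rfl⟩ := e
  simp [ha]

/-- No line is invariant under `G₀`. -/
theorem not_line {a : C} (ha1 : a ≠ 1) (ha : h.sec.rep u a ∈ zpowers a)
    (ha' : h.sec.rep (l * u * l⁻¹) a ∈ zpowers a) : False :=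
  h.notMem_zpowers ha1 (h.elemSq.fix_of_mem_zpowers (h.rep_pElt h.uG h.up) ha) ha1
    (h.elemSq.fix_of_mem_zpowers (h.rep_pElt h.vG (conj_pow_eq_one l h.up)) ha') (mem_zpowers a)

theorem exists_sl2 : ∃ a b : C, a ≠ 1 ∧ b ∉ zpowers a ∧ h.sec.rep u a = a ∧
    h.sec.rep (l * u * l⁻¹) b = b ∧ ∃ φ : SL(2, ZMod p) →* MulAut C, Function.Injective φ ∧
      φ.range = img h.sec.rep (closure {u, l * u * l⁻¹}) ∧ ∀ g,
      φ g a = a ^ (g 0 0).val * b ^ (g 1 0).val ∧ φ g b = a ^ (g 0 1).val * b ^ (g 1 1).val := by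
  have hu := h.rep_pElt h.uG h.up
  have hv := h.rep_pElt h.vG (conj_pow_eq_one l h.up)
  obtain ⟨a, ha1, ha⟩ := h.elemSq.exists_fixed hu
  obtain ⟨b, hb1, hb⟩ := h.elemSq.exists_fixed hv
  have hab := h.notMem_zpowers ha1 ha hb1 hb
  obtain ⟨φ, h1, h2, h3⟩ := h.elemSq.exists_sl2_of_pair hu h.rep_u_ne hv h.rep_v_ne ha1 ha hb hab
  refine ⟨a, b, ha1, hab, ha, hb, φ, h1, ?_, h3⟩
  rw [h2]
  refine le_antisymm ((Subgroup.closure_le _).2 ?_) (img_le_iff.2 (h.mulOn.mapsTo_closure h.closure_le ?_))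
  · rintro _ (rfl | rfl) <;> exact mem_img_of_mem (subset_closure (by simp))
  · rintro _ (rfl | rfl) <;> exact subset_closure (by simp)

/-- Lifting `p'`-elements. -/
theorem exists_lift {γ : MulAut C} (hγ : γ ∈ img h.sec.rep (closure {u, l * u * l⁻¹})) {k : ℕ}
    (hk : k.Coprime p) (e : γ ^ k = 1) :
    ∃ t ∈ closure {u, l * u * l⁻¹}, (orderOf t).Coprime p ∧ h.sec.rep t = γ := by
  have := finite_of_le h.data.le_top
  obtain ⟨t, ht, rfl⟩ := (h.mulOn.mem_img_of_le h.closure_le).1 hγ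
  obtain ⟨n, h1, h2⟩ := exists_pow_coprime p t hk
  refine ⟨t ^ n, pow_mem ht n, h1, ?_⟩
  rw [h.mulOn.map_pow (h.closure_le ht), pow_eq_pow_mod n e, h2, ← pow_eq_pow_mod 1 e, pow_one]

/-- Lifts of the diagonal matrices. -/
theorem exists_diag : ∃ a b : C, a ≠ 1 ∧ b ∉ zpowers a ∧ h.sec.rep u a = a ∧
    h.sec.rep (l * u * l⁻¹) b = b ∧ ∀ m : ZMod p, m ≠ 0 →
      ∃ t ∈ closure {u, l * u * l⁻¹}, (orderOf t).Coprime p ∧ h.sec.rep t a = a ^ m.val ∧
        h.sec.rep t b = b ^ m⁻¹.val ∧ t * u * t⁻¹ ∈ Inn E ⊔ zpowers u := by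
  have hp : p.Prime := Fact.out
  obtain ⟨a, b, ha1, hab, ha, hb, φ, -, h2, h3⟩ := h.exists_sl2
  refine ⟨a, b, ha1, hab, ha, hb, fun m hm => ?_⟩
  obtain ⟨t, ht, h4, h5⟩ := h.exists_lift (γ := φ (slDiag m hm)) (h2 ▸ ⟨_, rfl⟩) (k := p - 1)
    ((Nat.coprime_self_sub_left hp.one_le).2 (Nat.coprime_one_left p))
    (by rw [← map_pow, slDiag_pow_pred, map_one])
  have htG := h.closure_le ht
  have h6 : h.sec.rep t a = a ^ m.val := by rw [h5, (h3 _).1]; simp [slDiag]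
  refine ⟨t, ht, h4, h6, by rw [h5, (h3 _).2]; simp [slDiag], ?_⟩
  refine h.mem_sup_of_fixed (G₀.mul_mem (G₀.mul_mem htG h.uG) (G₀.inv_mem htG))
    (conj_pow_eq_one t h.up) (a := h.sec.rep t a) ((map_ne_one_iff _ (MulEquiv.injective _)).2 ha1)
    (by rw [h6, map_pow, ha]) ?_
  rw [h.mulOn.map_conj htG h.uG, MulAut.mul_apply, MulAut.mul_apply, MulAut.inv_apply_self, ha]

/-- A `p'`-element inverting the section. -/
theorem exists_neg : ∃ t ∈ closure {u, l * u * l⁻¹}, (orderOf t).Coprime p ∧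
    (∀ x ∈ X, x * totA t x ∈ Y) ∧ t * u * t⁻¹ * u⁻¹ ∈ Inn E := by
  obtain ⟨a, b, ha1, hab, -, -, hd⟩ := h.exists_diag
  obtain ⟨t, ht, h1, h2, h3, -⟩ := hd (-1) (neg_ne_zero.2 one_ne_zero)
  have htG := h.closure_le ht
  let _ : CommGroup C := { (inferInstance : Group C) with mul_comm := h.elemSq.comm }
  have e : h.sec.rep t = MulEquiv.inv C := ElemSq.mulAut_ext (h.elemSq.sup_eq_top ha1 hab)
    (by rw [h2, pow_val_neg_one (h.elemSq.pow a)]; rfl)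
    (by rw [h3, inv_neg, inv_one, pow_val_neg_one (h.elemSq.pow b)]; rfl)
  have h4 := G₀.mul_mem (G₀.mul_mem htG h.uG) (G₀.inv_mem htG)
  refine ⟨t, ht, h1, fun x hx => ?_, h.mem_inn (G₀.mul_mem h4 (G₀.inv_mem h.uG)) ?_⟩
  · rw [← h.sec.ker _ (X.mul_mem hx (h.invX.mem htG hx)), h.sec.map_mul hx (h.invX.mem htG hx),
      ← h.rep_apply htG hx, e]
    exact mul_inv_cancel _
  · rw [h.mulOn.map_mul h4 (G₀.inv_mem h.uG), h.mulOn.map_conj htG h.uG, h.mulOn.map_inv h.uG,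
      mul_inv_eq_one, mul_inv_eq_iff_eq_mul, e]
    exact MulEquiv.ext fun c => (map_inv (h.sec.rep u) c).symm

/-- Transitivity on the nonidentity elements of the section. -/
theorem exists_apply_eq {c d : C} (hc : c ≠ 1) (hd : d ≠ 1) :
    ∃ t ∈ closure {u, l * u * l⁻¹}, h.sec.rep t c = d := by
  obtain ⟨a, b, ha1, hab, -, -, φ, -, h2, h3⟩ := h.exists_sl2
  have key : ∀ d : C, d ≠ 1 → ∃ g, φ g a = d := fun d hd => by
    obtain ⟨i, j, rfl⟩ := h.elemSq.exists_eq (h.elemSq.sup_eq_top ha1 hab) d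
    by_cases hi : i = 0
    · have hj : j ≠ 0 := fun e => hd (by simp [hi, e])
      exact ⟨⟨!![i, -j⁻¹; j, 0], by simp [Matrix.det_fin_two, hj]⟩, (h3 _).1⟩
    · exact ⟨⟨!![i, 0; j, i⁻¹], by simp [Matrix.det_fin_two, hi]⟩, (h3 _).1⟩
  obtain ⟨g, rfl⟩ := key c hc
  obtain ⟨g', rfl⟩ := key d hd
  obtain ⟨t, ht, e⟩ := (h.mulOn.mem_img_of_le h.closure_le).1 (h2.le ⟨g' * g⁻¹, rfl⟩ : φ (g' * g⁻¹) ∈ _)
  exact ⟨t, ht, by rw [e, map_mul, map_inv, MulAut.mul_apply, MulAut.inv_apply_self]⟩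

theorem autS_eq (hle : autInducedBy S E ≤ G₀) (hu : u ∈ autInducedBy S E) :
    autInducedBy S E = Inn E ⊔ zpowers u :=
  le_antisymm (h.le_sup_of_isPGroup (isPGroup_autInducedBy h.hS E) hle hu)
    (sup_le (inn_le_autInducedBy h.data.le_top) (zpowers_le.2 hu))

end Rk2

theorem Rk2.normalizerIn_eq {s : Ω} (h : F.Rk2 p E H G₀ θ X Y (cAut E s) l)
    (hle : autInducedBy S E ≤ G₀) (hs : s ∈ normalizerIn S E) :
    normalizerIn S E = E ⊔ zpowers s ∧ s ^ p ∈ E := by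
  have hc := h.data.ess.isCentric
  refine ⟨le_antisymm (fun w hw => ?_) (sup_le (le_normalizerIn h.data.le_top) (zpowers_le.2 hs)),
    (hc.cAut_mem_inn_iff (pow_mem hs p)).1 ?_⟩
  · obtain ⟨n, hn, i, e⟩ := (mem_sup_zpowers_of_mem_normalizer
      (le_normalizer_inn ⊤ (mem_top _))).1
      ((h.autS_eq hle (cAut_mem_autInducedBy hs)).le (cAut_mem_autInducedBy hw))
    have hsi := zpow_mem hs i
    have h1 : w * (s ^ i)⁻¹ ∈ E := (hc.cAut_mem_inn_iff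
      ((normalizerIn S E).mul_mem hw ((normalizerIn S E).inv_mem hsi))).1 (by
        rw [cAut_mul hw.2 (Subgroup.inv_mem _ hsi.2), cAut_inv hsi.2, ← e,
          (mulOn_cAut E).map_zpow hs.2, mul_inv_cancel_right]
        exact hn)
    simpa using (E ⊔ zpowers s).mul_mem (mem_sup_left h1)
      (mem_sup_right (zpow_mem (mem_zpowers s) i))
  · rw [(mulOn_cAut E).map_pow hs.2]
    exact h.pow_mem_inn_of h.uG h.up

theorem Rk2.relIndex_eq {s : Ω} (h : F.Rk2 p E H G₀ θ X Y (cAut E s) l)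
    (hle : autInducedBy S E ≤ G₀) (hs : s ∈ normalizerIn S E) :
    E.relIndex (normalizerIn S E) = p := by
  obtain ⟨h1, h2⟩ := h.normalizerIn_eq hle hs
  rw [h1]
  exact relIndex_sup_zpowers Fact.out hs.2 (fun e => h.uI (cAut_mem_inn e)) h2

/-- Elements normalising `⟨u⟩ Inn E` extend to `N_S(E)`. -/
theorem Rk2.extend (h : F.Rk2 p E H G₀ θ X Y u l) (hF : F.IsSaturated p)
    (hle : autInducedBy S E ≤ G₀) (hu : u ∈ autInducedBy S E) {t : MulAut E}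
    (ht : t ∈ F.autGroup E) (hc : (orderOf t).Coprime p)
    (hn : t * u * t⁻¹ ∈ Inn E ⊔ zpowers u) :
    ∃ β ∈ F.autGroup (normalizerIn S E), (orderOf β).Coprime p ∧ ∀ x ∈ E, totA β x = totA t x := by
  refine (h.data.ess.receptive hF h.hS).extend_normalizerIn_coprime ht hc ?_
  rw [h.autS_eq hle hu]
  intro a ha
  refine (sup_le (fun b hb => ?_) (zpowers_le.2 hn) :
    _ ≤ (Inn E ⊔ zpowers u).comap (MulAut.conj t).toMonoidHom) ha
  exact mem_sup_left ((mem_normalizer_iff.1 (le_normalizer_inn ⊤ (mem_top t)) b).1 hb)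

end Cfsg.FusionSystem
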