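import Mathlib
import Cfsg.Agent.Fus.EssBasic

/-! Groups acting on `K²` and `K³` with a Sylow subgroup acting as a root group. -/

set_option autoImplicit false
set_option linter.unusedSectionVars false

namespace Cfsg.Agent.Fus.SU

open Subgroup

section
variable {Γ X : Type*} [Group Γ] [Finite Γ] {p : ℕ}

/-- An orbit of length `p` is not fixed pointwise by a subgroup of index prime to `p`. -/
theorem cyc [MulAction Γ X] (hp : p.Prime) {P : Subgroup Γ} (hP : ¬ p ∣ P.index) {g : Γ} {w : X}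
    (h : ∀ n : ℕ, ∀ u ∈ P, u • g ^ n • w = g ^ n • w) (hg : g ^ p • w = w) : g • w = w := by
  let H : Subgroup Γ := ⨅ n : ℕ, MulAction.stabilizer Γ (g ^ n • w)
  have hH : ∀ {x}, x ∈ H ↔ ∀ n : ℕ, x • g ^ n • w = g ^ n • w := fun {x} => by
    simp only [H, mem_iInf, MulAction.mem_stabilizer_iff]
  have hn : g⁻¹ ∈ normalizer (H : Set Γ) := mem_normalizer_fintype fun x hx => hH.2 fun n => by
    rw [inv_inv, mul_smul, mul_smul, ← mul_smul g, ← pow_succ', hH.1 hx, pow_succ', mul_smul,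
      inv_smul_smul]
  have h1 := mem_subgroupOf.1 (pow_index_mem (H := H.subgroupOf (normalizer (H : Set Γ)))
    ⟨g, by simpa using inv_mem hn⟩)
  have h2 : (H.subgroupOf (normalizer (H : Set Γ))).index.Coprime p :=
    ((Nat.Prime.coprime_iff_not_dvd hp).2 fun e => hP (e.trans ((relIndex_dvd_index_of_le
      Subgroup.le_normalizer).trans (index_dvd_of_le fun u hu => hH.2 fun n => h n u hu)))).symm
  have h3 : g ^ (H.subgroupOf (normalizer (H : Set Γ))).index ∈ MulAction.stabilizer Γ w := by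
    simpa using hH.1 h1 0
  have h4 : g ^ p ∈ MulAction.stabilizer Γ w := hg
  generalize (H.subgroupOf (normalizer (H : Set Γ))).index = m at h2 h3
  have h5 := mul_mem (zpow_mem h3 (Nat.gcdA m p)) (zpow_mem h4 (Nat.gcdB m p))
  rwa [← zpow_natCast, ← zpow_natCast, ← zpow_mul, ← zpow_mul, ← zpow_add, ← Nat.gcd_eq_gcd_ab,
    h2, Nat.cast_one, zpow_one] at h5

theorem cyc_conj [MulAction Γ X] (hp : p.Prime) {P : Subgroup Γ} (hP : ¬ p ∣ P.index) {g γ : Γ}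
    {w : X} (h : ∀ n : ℕ, ∀ u ∈ P, u • γ⁻¹ • g ^ n • w = γ⁻¹ • g ^ n • w) (hg : g ^ p • w = w) :
    g • w = w := by
  have := cyc hp hP (g := γ⁻¹ * g * γ) (w := γ⁻¹ • w) (fun n u hu => by
    rw [show γ⁻¹ * g * γ = γ⁻¹ * g * γ⁻¹⁻¹ by rw [inv_inv], conj_pow, smul_smul _ γ⁻¹,
      mul_assoc, inv_mul_cancel, mul_one, mul_smul, h n u hu]) (by
    rw [show γ⁻¹ * g * γ = γ⁻¹ * g * γ⁻¹⁻¹ by rw [inv_inv], conj_pow, smul_smul _ γ⁻¹,
      mul_assoc, inv_mul_cancel, mul_one, mul_smul, hg])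
  simpa [mul_smul] using this

theorem cyc_add [AddCommGroup X] [DistribMulAction Γ X] (hp : p.Prime) {P : Subgroup Γ}
    (hP : ¬ p ∣ P.index) {g γ : Γ} {w x : X} (hw : ∀ u ∈ P, u • γ⁻¹ • w = γ⁻¹ • w)
    (hx : ∀ u ∈ P, u • γ⁻¹ • x = γ⁻¹ • x) (h1 : g • w = w + x) (h2 : g • x = x) (h3 : p • x = 0) :
    x = 0 := by
  have h4 : ∀ n : ℕ, g ^ n • w = w + n • x := fun n => by
    induction n with
    | zero => simp
    | succ n ih => rw [pow_succ', mul_smul, ih, smul_add, h1, smul_comm, h2, succ_nsmul]; abel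
  have := cyc_conj hp hP (γ := γ) (fun n u hu => by
    rw [h4, smul_add, smul_add, hw u hu, smul_comm γ⁻¹, smul_comm u, hx u hu])
    (show g ^ p • w = w by rw [h4, h3, add_zero])
  rwa [h1, add_eq_left] at this

end

/-- An automorphism group acts on an abelian quotient with invariant kernel. -/
theorem exists_action {Ω V : Type*} [Group Ω] [AddCommGroup V] {P : Subgroup Ω}
    (Γ : Subgroup (MulAut P)) (π : Ω → V) (hm : ∀ x ∈ P, ∀ y ∈ P, π (x * y) = π x + π y)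
    (hs : ∀ v, ∃ x ∈ P, π x = v) (hk : ∀ α ∈ Γ, ∀ x ∈ P, π x = 0 → π (totA α x) = 0) :
    ∃ a : DistribMulAction Γ V, ∀ α : Γ, ∀ x ∈ P, (letI := a; α • π x) = π (totA α.1 x) := by
  choose s hs hs' using hs
  have h1 : π 1 = 0 := by simpa using hm 1 P.one_mem 1 P.one_mem
  have key : ∀ α ∈ Γ, ∀ x ∈ P, π (totA α (s (π x))) = π (totA α x) := fun α hα x hx => by
    have h2 : π (x⁻¹ * s (π x)) = 0 := by
      have := hm _ (P.inv_mem hx) _ hx
      rw [inv_mul_cancel, h1] at this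
      rw [hm _ (P.inv_mem hx) _ (hs _), hs', ← this]
    have h3 := hm _ (totA_mem α hx) _ (totA_mem α (P.mul_mem (P.inv_mem hx) (hs (π x))))
    rw [hk α hα _ (P.mul_mem (P.inv_mem hx) (hs _)) h2, add_zero, ← (mulOn_totA α).map_mul hx
      (P.mul_mem (P.inv_mem hx) (hs _)), mul_inv_cancel_left] at h3
    exact h3
  refine ⟨{ smul := fun α v => π (totA α.1 (s v))
            mul_smul := fun α β v => ?_, one_smul := fun v => ?_, smul_zero := fun α => ?_
            smul_add := fun α v w => ?_ }, fun α x hx => key α.1 α.2 x hx⟩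
  · change π (totA (α.1 * β.1) _) = π (totA α.1 (s (π (totA β.1 _))))
    rw [key _ α.2 _ (totA_mem _ (hs v)), totA_mul _ _ (hs v)]
  · change π (totA (1 : MulAut P) _) = _
    rw [totA_one (hs v), hs']
  · exact hk _ α.2 _ (hs 0) (hs' 0)
  · change π (totA α.1 _) = π (totA α.1 _) + π (totA α.1 _)
    rw [← hm _ (totA_mem _ (hs v)) _ (totA_mem _ (hs w)), ← (mulOn_totA α.1).map_mul (hs v) (hs w),
      ← key _ α.2 _ (P.mul_mem (hs v) (hs w)), hm _ (hs v) _ (hs w), hs', hs']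

variable {Γ K : Type*} [Group Γ] [Finite Γ] [Field K] [Finite K] {p : ℕ} [Fact p.Prime] [CharP K p]
  {U : Subgroup Γ}

/-- A subgroup of index prime to `p` acts on `K²` as the full group of transvections. -/
structure RO (K : Type*) [Field K] [DistribMulAction Γ (K × K)] (p : ℕ) (U : Subgroup Γ) :
    Prop where
  idx : ¬ p ∣ U.index
  act : ∀ u ∈ U, ∃ s : K, ∀ t b : K, u • (t, b) = (t, b + s * t)
  ex : ∀ s : K, ∃ u ∈ U, ∀ t b : K, u • (t, b) = (t, b + s * t)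

namespace RO
variable [DistribMulAction Γ (K × K)]

theorem fix (h : RO K p U) {u : Γ} (hu : u ∈ U) (b : K) : u • ((0 : K), b) = (0, b) := by
  obtain ⟨s, hs⟩ := h.act u hu
  simp [hs]

theorem ti (h : RO K p U) {γ : Γ} {b : K} (hb : b ≠ 0) (h1 : (γ • ((0 : K), b)).1 = 0) (c : K) :
    (γ • ((0 : K), c)).1 = 0 := by
  by_contra h2
  obtain ⟨u, hu, hs⟩ := h.ex ((γ • ((0 : K), b)).2 / (γ • ((0 : K), c)).1)
  have h3 : γ • ((0 : K), b) = (0, (γ • ((0 : K), b)).2) := Prod.ext h1 rfl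
  have := cyc_add Fact.out h.idx (γ := γ) (g := u) (w := γ • ((0 : K), c)) (x := γ • ((0 : K), b))
    (fun u hu => by rw [inv_smul_smul, h.fix hu]) (fun u hu => by rw [inv_smul_smul, h.fix hu])
    (by
      conv_lhs => rw [← Prod.mk.eta (p := γ • ((0 : K), c)), hs, div_mul_cancel₀ _ h2]
      exact Prod.ext (by simp [h1]) rfl)
    (by rw [h3, h.fix hu]) (by rw [h3]; simp)
  exact hb (by simpa using (smul_eq_zero_iff_eq γ).1 this)

theorem exists_graph (h : RO K p U) {γ : Γ} (hγ : (γ • ((0 : K), (1 : K))).1 ≠ 0) :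
    ∃ φ : K →+ K, (∀ t, (γ⁻¹ • (t, φ t)).1 = 0) ∧ ∀ t b, (γ⁻¹ • (t, b)).1 = 0 → b = φ t := by
  let f : K →+ K × K := (DistribSMul.toAddMonoidHom _ γ).comp (AddMonoidHom.inr K K)
  have hf : ∀ c, f c = γ • ((0 : K), c) := fun _ => rfl
  have hi : Function.Injective ((AddMonoidHom.fst K K).comp f) :=
    (injective_iff_map_eq_zero _).2 fun c hc => by_contra fun h0 => hγ (h.ti h0 hc 1)
  let e := AddEquiv.ofBijective _ (Finite.injective_iff_bijective.1 hi)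
  have he : ∀ t, (f (e.symm t)).1 = t := fun t => e.apply_symm_apply t
  refine ⟨(AddMonoidHom.snd K K).comp (f.comp e.symm.toAddMonoidHom), fun t => ?_, fun t b h1 => ?_⟩
  · change (γ⁻¹ • (t, (f (e.symm t)).2)).1 = 0
    rw [show (t, _) = f (e.symm t) from Prod.ext (he t).symm rfl, hf, inv_smul_smul]
  · have h2 : f (γ⁻¹ • (t, b)).2 = (t, b) := by
      rw [hf, ← h1, Prod.mk.eta, smul_inv_smul]
    have h3 : (γ⁻¹ • (t, b)).2 = e.symm t := hi (by
      change (f _).1 = (f _).1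
      rw [h2, he])
    change b = (f (e.symm t)).2
    rw [← h3, h2]

/-- Any two conjugates of the axis other than the axis are conjugate under `U`. -/
theorem bruhat (h : RO K p U) {γ δ : Γ} (hγ : (γ • ((0 : K), (1 : K))).1 ≠ 0)
    (hδ : (δ • ((0 : K), (1 : K))).1 ≠ 0) : ∃ u ∈ U, ∀ c : K, ((γ⁻¹ * u * δ) • ((0 : K), c)).1 = 0 := by
  obtain ⟨φ, h1, -⟩ := h.exists_graph hγ
  obtain ⟨u, hu, hs⟩ := h.ex ((φ (δ • ((0 : K), (1 : K))).1 - (δ • ((0 : K), (1 : K))).2) /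
    (δ • ((0 : K), (1 : K))).1)
  refine ⟨u, hu, h.ti one_ne_zero ?_⟩
  rw [mul_smul, mul_smul, ← Prod.mk.eta (p := δ • ((0 : K), (1 : K))), hs, div_mul_cancel₀ _ hδ,
    add_sub_cancel, h1]

theorem partner (h : RO K p U) {γ : Γ} {φ : K →+ K} (h1 : ∀ t, (γ⁻¹ • (t, φ t)).1 = 0)
    (h2 : ∀ t b, (γ⁻¹ • (t, b)).1 = 0 → b = φ t) {s : K} (hs : s ≠ 0) :
    ∃ u ∈ U, ∀ t b, (γ * u * γ⁻¹) • (t, φ t + s * b) = (t + b, φ (t + b) + s * b) := by
  have hfix : ∀ u ∈ U, ∀ t, (γ * u * γ⁻¹) • (t, φ t) = (t, φ t) := fun u hu t => by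
    rw [mul_smul, mul_smul, ← Prod.mk.eta (p := γ⁻¹ • _), h1, h.fix hu, ← h1 t, Prod.mk.eta,
      smul_inv_smul]
  have h3 : (γ⁻¹ • ((0 : K), s)).1 ≠ 0 := fun e => hs (by simpa using h2 _ _ e)
  obtain ⟨u, hu, e⟩ := h.ex ((γ⁻¹ • ((1 : K), φ 1)).2 / (γ⁻¹ • ((0 : K), s)).1)
  obtain ⟨v, hv, e'⟩ := h.ex (-s)
  have h4 : ∀ x : K × K, (γ⁻¹ • ((γ * u * γ⁻¹) • x - x)).1 = 0 := fun x => by
    rw [smul_sub, mul_smul, mul_smul, inv_smul_smul, ← Prod.mk.eta (p := γ⁻¹ • x), e]; simp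
  have h5 : (γ * u * γ⁻¹) • ((0 : K), s) = (1, φ 1 + s) := by
    rw [mul_smul, mul_smul, ← Prod.mk.eta (p := γ⁻¹ • _), e, div_mul_cancel₀ _ h3,
      smul_eq_iff_eq_inv_smul, show ((1 : K), φ 1 + s) = (0, s) + (1, φ 1) by simp [add_comm],
      smul_add]
    exact Prod.ext (by simp [h1]) rfl
  have h6 := h.ti (γ := γ⁻¹ * v * (γ * u * γ⁻¹)) hs (by
    rw [mul_smul, mul_smul, h5, e']; simpa using h1 1)
  refine ⟨u, hu, fun t b => ?_⟩
  have h7 := h6 (s * b)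
  have h8 := h4 (0, s * b)
  rw [mul_smul, mul_smul] at h7
  rw [show (t, φ t + s * b) = (t, φ t) + (0, s * b) by simp, smul_add, hfix u hu]
  generalize (γ * u * γ⁻¹) • ((0 : K), s * b) = x at h7 h8
  obtain ⟨x, y⟩ := x
  rw [e'] at h7
  have h10 := h2 _ _ h7
  have h11 := h2 _ _ h8
  simp only [sub_zero] at h11
  obtain rfl : x = b := mul_left_cancel₀ hs (by linear_combination h11 - h10)
  exact Prod.ext rfl (by simp; linear_combination h11)

/-- The diagonal elements of `SL₂(K)` are realised. -/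
theorem diag (h : RO K p U) {γ : Γ} (hγ : (γ • ((0 : K), (1 : K))).1 ≠ 0) {l : K} (hl : l ≠ 0) :
    ∃ k ∈ normalClosure (U : Set Γ), (∀ b, k • ((0 : K), b) = (0, l * b)) ∧
      ∀ t b : K, (k • (t, b)).1 = l⁻¹ * t := by
  obtain ⟨φ, h1, h2⟩ := h.exists_graph hγ
  have key : ∀ s : K, s ≠ 0 → ∃ n ∈ normalClosure (U : Set Γ),
      (∀ b, n • ((0 : K), s * b) = (b, φ b)) ∧ ∀ t, n • (t, φ t) = (0, -(s * t)) := fun s hs => by
    obtain ⟨u, hu, e⟩ := h.partner h1 h2 hs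
    obtain ⟨v, hv, e'⟩ := h.ex (-s)
    refine ⟨v * (γ * u * γ⁻¹) * v, mul_mem (mul_mem (subset_normalClosure hv)
      (normalClosure_normal.conj_mem _ (subset_normalClosure hu) _)) (subset_normalClosure hv),
      fun b => ?_, fun t => ?_⟩
    · have := e 0 b
      simp only [map_zero, zero_add] at this
      rw [mul_smul, mul_smul, h.fix hv, this, e']; simp
    · rw [mul_smul, mul_smul, e' t, show φ t + -s * t = φ t + s * -t by ring, e, add_neg_cancel,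
        h.fix hv]
      simp
  obtain ⟨n, hn, e1, e2⟩ := key 1 one_ne_zero
  obtain ⟨m, hm, e3, e4⟩ := key (-l) (neg_ne_zero.2 hl)
  have h3 : ∀ b, (m * n) • ((0 : K), b) = (0, l * b) := fun b => by
    rw [mul_smul, ← one_mul b, e1, e4]; simp
  refine ⟨m * n, mul_mem hm hn, h3, fun t b => ?_⟩
  rw [show (t, b) = (t, φ t) + (0, b - φ t) by simp, smul_add, h3, mul_smul, e2,
    show -(1 * t) = -l * (l⁻¹ * t) by field_simp, e3]
  simp

end RO

/-- A Sylow subgroup acts on `K³` as a root group on binary quadratic forms, and a nonzero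
fixed vector stays in the fixed space under the whole group. -/
structure Cub (K : Type*) [Field K] [DistribMulAction Γ (K × K × K)] (p : ℕ) (U : Subgroup Γ)
    (d : K) : Prop where
  two : (2 : K) ≠ 0
  pg : IsPGroup p U
  idx : ¬ p ∣ U.index
  act : ∀ u ∈ U, ∃ s : K, ∀ a b c : K, u • (a, b, c) = (a, b + s * a, c + 2 * s * b + s ^ 2 * a)
  ex : ∀ s : K, ∃ u ∈ U, ∀ a b c : K, u • (a, b, c) = (a, b + s * a, c + 2 * s * b + s ^ 2 * a)
  faith : ∀ g : Γ, (∀ v : K × K × K, g • v = v) → g = 1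
  d0 : d ≠ 0
  inv : ∀ γ : Γ, ∃ c, γ • ((0 : K), (0 : K), d) = (0, 0, c)

namespace Cub
variable [DistribMulAction Γ (K × K × K)] {d : K}

theorem fix (h : Cub K p U d) {u : Γ} (hu : u ∈ U) (c : K) :
    u • ((0 : K), (0 : K), c) = (0, 0, c) := by
  obtain ⟨s, hs⟩ := h.act u hu
  simp [hs]

theorem fst (h : Cub K p U d) {u : Γ} (hu : u ∈ U) (v : K × K × K) : (u • v).1 = v.1 := by
  obtain ⟨s, hs⟩ := h.act u hu
  obtain ⟨x, y, z⟩ := v
  rw [hs]

theorem step (h : Cub K p U d) {γ : Γ} {b c c' : K} (e : γ • ((0 : K), (0 : K), c) = (0, b, c')) :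
    b = 0 := by
  by_contra hb
  obtain ⟨u, hu, hs⟩ := h.ex (d / (2 * b))
  obtain ⟨d', hd⟩ := h.inv γ⁻¹
  have := h.two
  have := cyc_add Fact.out h.idx (γ := γ) (g := u) (w := ((0 : K), b, c'))
    (x := ((0 : K), (0 : K), d)) (fun u hu => by rw [← e, inv_smul_smul, h.fix hu])
    (fun u hu => by rw [hd, h.fix hu]) (by rw [hs]; simp; field_simp) (h.fix hu d) (by simp)
  exact h.d0 (by simpa using this)

theorem step' (h : Cub K p U d) {γ : Γ} {c : K} (e : (γ • ((0 : K), (0 : K), c)).1 = 0) :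
    ∃ c', γ • ((0 : K), (0 : K), c) = (0, 0, c') :=
  ⟨_, Prod.ext e (Prod.ext (h.step (Prod.ext e rfl)) rfl)⟩

theorem not_dvd (h : Cub K p U d) {b c : K} (hb : b ≠ 0) {Y : Subgroup Γ}
    (hY : ∀ g ∈ Y, g • ((0 : K), b, c) = (0, b, c)) : ¬ p ∣ Nat.card Y := fun hd => by
  obtain ⟨⟨g, hg⟩, ho⟩ := exists_prime_orderOf_dvd_card' p hd
  rw [orderOf_mk] at ho
  obtain ⟨Q, hQ⟩ := (IsPGroup.of_card (n := 1) (by rw [Nat.card_zpowers, ho, pow_one]) :
    IsPGroup p (zpowers g)).exists_le_sylow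
  obtain ⟨δ, hδ⟩ := MulAction.exists_smul_eq Γ (h.pg.toSylow h.idx) Q
  have h1 := hQ (mem_zpowers g)
  rw [← hδ, Sylow.coe_subgroup_smul, mem_pointwise_smul_iff_inv_smul_mem] at h1
  obtain ⟨s, hs⟩ := h.act (δ⁻¹ * g * δ) (by simpa [mul_assoc] using h1)
  have hs0 : s ≠ 0 := by
    rintro rfl
    have := h.faith _ fun v => by rw [← Prod.mk.eta (p := v), ← Prod.mk.eta (p := v.2), hs]; simp
    rw [mul_assoc, inv_mul_eq_one, right_eq_mul] at this
    exact (Fact.out : p.Prime).one_lt.ne' (by rw [← ho, this, orderOf_one])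
  have h2 : (δ⁻¹ * g * δ) • δ⁻¹ • ((0 : K), b, c) = δ⁻¹ • ((0 : K), b, c) := by
    rw [mul_smul, smul_inv_smul, mul_smul, hY g hg]
  generalize e : δ⁻¹ • ((0 : K), b, c) = x at h2
  obtain ⟨x, y, z⟩ := x
  rw [hs] at h2
  simp only [Prod.mk.injEq, true_and, add_eq_left, mul_eq_zero, hs0, false_or] at h2
  obtain ⟨rfl, h2⟩ := h2
  obtain rfl : y = 0 := by simpa [h.two, hs0] using h2
  exact hb (h.step (inv_smul_eq_iff.1 e).symm)

theorem exists_ker (h : Cub K p U d) {b : K} (c : K) (hb : b ≠ 0) (D : AddSubgroup K) :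
    ∃ R : AddSubgroup (K × K × K), (∀ g : Γ, g • ((0 : K), b, c) = (0, b, c) →
      (∀ e ∈ D, g • ((0 : K), (0 : K), e) = (0, 0, e)) → ∀ v, g • v - v ∈ R) ∧
      ∀ s, 2 * s * b ∈ D → ∀ v ∈ R, (2 * s ^ 2 * v.1 ∈ D → 2 * s ^ 2 * v.1 = 0) ∧
        (v.1 = 0 → 2 * s * v.2.1 ∈ D → 2 * s * v.2.1 = 0) ∧
        (v.1 = 0 → v.2.1 = 0 → v.2.2 ∈ D → v = 0) := by
  let Y : Subgroup Γ := MulAction.stabilizer Γ ((0 : K), b, c) ⊓
    ⨅ e ∈ D, MulAction.stabilizer Γ ((0 : K), (0 : K), e)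
  have hY : ∀ {g}, g ∈ Y ↔ g • ((0 : K), b, c) = (0, b, c) ∧
      ∀ e ∈ D, g • ((0 : K), (0 : K), e) = (0, 0, e) := fun {g} => by
    simp only [Y, mem_inf, mem_iInf, MulAction.mem_stabilizer_iff]
  let _ := Fintype.ofFinite Y
  let T : K × K × K →+ K × K × K := ∑ g : Y, DistribSMul.toAddMonoidHom _ g.1
  have hT : ∀ v, T v = ∑ g : Y, g.1 • v := fun v => by simp [T]
  have h1 : ∀ e ∈ D, ((0 : K), (0 : K), e) ∈ T.ker → e = 0 := fun e he h1 => by
    rw [AddMonoidHom.mem_ker, hT, Finset.sum_congr rfl fun g _ => (hY.1 g.2).2 e he,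
      Finset.sum_const, Finset.card_univ, ← Nat.card_eq_fintype_card] at h1
    have := h.not_dvd hb fun g hg => (hY.1 hg).1
    rw [← CharP.cast_eq_zero_iff K p] at this
    have h2 := congrArg (·.2.2) h1
    simp only [Prod.smul_snd, nsmul_eq_mul, Prod.snd_zero] at h2
    exact (mul_eq_zero.1 h2).resolve_left this
  refine ⟨T.ker, fun g h1 h2 v => ?_, fun s hs v hv => ?_⟩
  · rw [AddMonoidHom.mem_ker, map_sub, hT, hT, sub_eq_zero]
    exact Fintype.sum_bijective _ (Group.mulRight_bijective (⟨g, hY.2 ⟨h1, h2⟩⟩ : Y)) _ _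
      fun x => (mul_smul _ _ _).symm
  obtain ⟨u, hu, e⟩ := h.ex s
  have h2 : ∀ v ∈ T.ker, u • v - v ∈ T.ker := fun v hv => by
    refine sub_mem ?_ hv
    let f : Y → Y := fun g => ⟨u⁻¹ * g * u, hY.2 ⟨by
      rw [mul_smul, mul_smul, inv_smul_eq_iff, e, show ((0 : K), b + s * 0, c + 2 * s * b + s ^ 2 * 0)
        = (0, b, c) + (0, 0, 2 * s * b) by simp, smul_add, (hY.1 g.2).1, (hY.1 g.2).2 _ hs],
      fun e he => by rw [mul_smul, mul_smul, h.fix hu, (hY.1 g.2).2 e he, h.fix (inv_mem hu)]⟩⟩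
    rw [AddMonoidHom.mem_ker, hT] at hv ⊢
    rw [← smul_zero u, ← hv, Finset.smul_sum]
    refine Fintype.sum_bijective f (Finite.injective_iff_bijective.1 fun x y e => Subtype.ext
      (by simpa [f] using e)) _ _ fun x => by simp [f, mul_smul]
  obtain ⟨x, y, z⟩ := v
  have h3 := h2 _ hv
  have h4 := h2 _ h3
  simp only [e, Prod.mk_sub_mk, sub_self, add_sub_cancel_left, mul_zero, add_zero] at h3 h4
  refine ⟨fun h5 => h1 _ h5 (by convert h4 using 3; ring), ?_, ?_⟩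
  · rintro (rfl : x = 0) h5
    exact h1 _ h5 (by simpa using h3)
  · rintro (rfl : x = 0) (rfl : y = 0) h5
    rw [show z = 0 from h1 _ h5 hv]; rfl

theorem key (h : Cub K p U d) {b c : K} (hb : b ≠ 0) {D : AddSubgroup K}
    {R : AddSubgroup (K × K × K)} (hR : ∀ g : Γ, g • ((0 : K), b, c) = (0, b, c) →
      (∀ e ∈ D, g • ((0 : K), (0 : K), e) = (0, 0, e)) → ∀ v, g • v - v ∈ R) {γ : Γ}
    (hD : ∀ e ∈ D, (γ⁻¹ • ((0 : K), (0 : K), e)).1 = 0) (hy : (γ⁻¹ • ((0 : K), b, c)).1 = 0)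
    (b₁ c₁ : K) : ∃ r ∈ R, r.1 = (γ • ((0 : K), b₁, c₁)).1 := by
  have := h.two
  obtain ⟨d', hd⟩ := h.inv γ⁻¹
  have hd0 : d' ≠ 0 := by
    rintro rfl
    exact h.d0 (by simpa using (smul_eq_zero_iff_eq γ⁻¹).1 hd)
  generalize e : γ⁻¹ • ((0 : K), b, c) = x at hy
  obtain ⟨_, b', c'⟩ := x
  obtain rfl : _ = (0 : K) := hy
  have hb' : b' ≠ 0 := by
    rintro rfl
    exact hb (h.step (inv_smul_eq_iff.1 e).symm)
  obtain ⟨u, hu, e1⟩ := h.ex (d / (2 * b))
  obtain ⟨v, hv, e2⟩ := h.ex (d' / (2 * b'))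
  have h1 : u • ((0 : K), b, c) = (γ * v * γ⁻¹) • ((0 : K), b, c) := by
    rw [mul_smul, mul_smul, e, e1, e2, ← inv_smul_eq_iff, show ((0 : K), b + d / (2 * b) * 0,
      c + 2 * (d / (2 * b)) * b + (d / (2 * b)) ^ 2 * 0) = (0, b, c) + (0, 0, d) by
        simp; field_simp, smul_add, e, hd]
    simp; field_simp
  have h2 := hR (u⁻¹ * (γ * v * γ⁻¹)) (by rw [mul_smul, ← h1, inv_smul_smul]) fun e he => by
    obtain ⟨e', he'⟩ := h.step' (hD e he)
    rw [mul_smul, mul_smul, mul_smul, he', h.fix hv, ← he', smul_inv_smul, h.fix (inv_mem hu)]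
  set s := d' / (2 * b')
  have hs0 : s ≠ 0 := div_ne_zero hd0 (mul_ne_zero this hb')
  refine ⟨_, h2 (γ • (b₁ / s, (c₁ - s * b₁) / (2 * s), (0 : K))), ?_⟩
  rw [Prod.fst_sub, mul_smul, h.fst (inv_mem hu), ← Prod.fst_sub, mul_smul, mul_smul, inv_smul_smul, ← smul_sub, e2]
  congr 2
  simp; constructor <;> field_simp; ring

/-- In the presence of a suitable torus the group preserves the flag. -/
theorem main (h : Cub K p U d) (hH : ∀ l : K, l ≠ 0 → ∃ g : Γ,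
      (∀ c : K, g • ((0 : K), (0 : K), c) = (0, 0, c)) ∧
      (∀ b c : K, ∃ c', g • ((0 : K), b, c) = (0, l * b, c')) ∧
      ∀ v : K × K × K, (g • v).1 = l ^ 2 * v.1) (γ : Γ) (b₀ c₀ : K) :
    (γ • ((0 : K), b₀, c₀)).1 = 0 := by
  by_contra h0
  have h2 := h.two
  let D : AddSubgroup K := ((AddMonoidHom.fst _ _).comp ((DistribSMul.toAddMonoidHom _ γ⁻¹).comp
    ((AddMonoidHom.inr K _).comp (AddMonoidHom.inr K K)))).ker
  have hD : ∀ e, e ∈ D ↔ (γ⁻¹ • ((0 : K), (0 : K), e)).1 = 0 := fun _ => Iff.rfl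
  have hd : d ∈ D := by
    obtain ⟨c, hc⟩ := h.inv γ⁻¹
    rw [hD, hc]
  let G : K × K →+ K × K × K := (DistribSMul.toAddMonoidHom _ γ).comp (AddMonoidHom.inr K _)
  have hG : ∀ x, G x = γ • ((0 : K), x) := fun _ => rfl
  have cnt : ∀ {W : Type _} [AddCommGroup W] (f : K × K × K →+ W),
      (∀ x, f (G x) = 0 → (G x).1 = 0 ∧ (G x).2.1 = 0) →
      Nat.card K * Nat.card K ≤ Nat.card D * Nat.card (f.comp G).range := fun f hf => by
    rw [← Nat.card_prod, ← (f.comp G).ker.card_mul_index, AddSubgroup.index_ker]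
    refine Nat.mul_le_mul_right _ (Nat.card_le_card_of_injective
      (fun x => ⟨(G x.1).2.2, ?_⟩) fun x y e => Subtype.ext ?_)
    · rw [hD, show ((0 : K), (0 : K), _) = G x.1 from
        Prod.ext (hf _ x.2).1.symm (Prod.ext (hf _ x.2).2.symm rfl), hG, inv_smul_smul]
    · have : G x.1 = G y.1 := Prod.ext ((hf _ x.2).1.trans (hf _ y.2).1.symm) (Prod.ext
        ((hf _ x.2).2.trans (hf _ y.2).2.symm) (congrArg Subtype.val e))
      simpa [hG] using this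
  have hq := Nat.card_pos (α := K)
  by_cases hy : ∃ x, (G x).1 = 0 ∧ (G x).2.1 ≠ 0
  · obtain ⟨x, hx, hb⟩ := hy
    generalize e : G x = y at hx hb
    obtain ⟨_, b, c⟩ := y
    obtain rfl : _ = (0 : K) := hx
    obtain ⟨R, hR, hR'⟩ := h.exists_ker c hb D
    have hs : 2 * (d / (2 * b)) * b = d := by field_simp
    replace hR' := fun v hv => (hR' _ (hs.symm ▸ hd) v hv).1
    set s := d / (2 * b)
    have hs0 : 2 * s ^ 2 ≠ 0 := mul_ne_zero h2 (pow_ne_zero _ (div_ne_zero h.d0 (mul_ne_zero h2 hb)))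
    let f : K × K × K →+ (K ⧸ D) × K := ((QuotientAddGroup.mk' D).comp
      ((AddMonoidHom.mulLeft (2 * s ^ 2)).comp (AddMonoidHom.fst _ _))).prod
      ((AddMonoidHom.fst _ _).comp (AddMonoidHom.snd _ _))
    have hf : ∀ x b', f (G x) = (0, b') → (G x).1 = 0 ∧ (G x).2.1 = b' := fun x b' hx => by
      obtain ⟨r, hr, er⟩ := h.key hb hR (fun e => (hD e).1) (by rw [← e, hG, inv_smul_smul]) x.1 x.2
      have h3 := hR' r hr (er ▸ (QuotientAddGroup.eq_zero_iff _).1 (congrArg Prod.fst hx))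
      exact ⟨er.symm.trans ((mul_eq_zero.1 h3).resolve_left hs0), congrArg Prod.snd hx⟩
    have h3 : (f.comp G).range = ⊤ := AddSubgroup.eq_top_of_le_card _ (by
      have := cnt f fun x => hf x 0
      rw [← D.card_mul_index, mul_assoc] at this
      rw [Nat.card_prod, ← D.card_mul_index]
      exact Nat.le_of_mul_le_mul_left this Nat.card_pos)
    have h4 : ∀ l : K, l ^ 2 * (γ • ((0 : K), b₀, c₀)).1 ∈ R.map (AddMonoidHom.fst _ _) := fun l => by
      rcases eq_or_ne l 0 with rfl | hl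
      · simpa using zero_mem _
      obtain ⟨g, e1, e2, e3⟩ := hH l hl
      obtain ⟨x, hx⟩ : (0, b / l) ∈ (f.comp G).range := h3 ▸ AddSubgroup.mem_top _
      obtain ⟨c', hc⟩ := e2 (b / l) (G x).2.2
      obtain ⟨u, hu, e4⟩ := h.ex ((c - c') / (2 * b))
      obtain ⟨r, hr, er⟩ := h.key hb hR (γ := u * g * γ) (fun e he => by
        rw [mul_inv_rev, mul_inv_rev, mul_smul, mul_smul, h.fix (inv_mem hu),
          inv_smul_eq_iff.2 (e1 e).symm, (hD e).1 he]) (by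
        have : (u * g * γ) • ((0 : K), x) = (0, b, c) := by
          rw [mul_smul, mul_smul, ← hG, show G x = (0, b / l, (G x).2.2) from
            Prod.ext (hf x _ hx).1 (Prod.ext (hf x _ hx).2 rfl), hc, e4]
          simp; constructor <;> field_simp; ring
        rw [← this, inv_smul_smul]) b₀ c₀
      refine ⟨r, hr, er.trans ?_⟩
      rw [mul_smul, mul_smul, h.fst hu, e3]
    generalize (γ • ((0 : K), b₀, c₀)).1 = r at h0 h4
    obtain ⟨v, hv, ev⟩ := sub_mem (h4 ((d / (2 * s ^ 2 * r) + 1) / 2))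
      (h4 ((d / (2 * s ^ 2 * r) - 1) / 2))
    have h5 : 2 * s ^ 2 * v.1 = d := by
      rw [show v.1 = _ from ev]
      have : s ≠ 0 := fun e => hs0 (by simp [e])
      field_simp; ring
    exact h.d0 (h5 ▸ hR' v hv (h5 ▸ hd))
  push Not at hy
  have h3 : D = ⊤ := AddSubgroup.eq_top_of_le_card _ (Nat.le_of_mul_le_mul_right
    ((cnt (AddMonoidHom.fst _ _) fun x hx => ⟨hx, hy x hx⟩).trans
      (Nat.mul_le_mul_left _ (AddSubgroup.card_le_card_addGroup _))) hq)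
  have h4 : ∀ e : K, ∃ e' : K, γ⁻¹ • ((0 : K), (0 : K), e) = (0, 0, e') := fun e =>
    h.step' ((hD e).1 (h3 ▸ AddSubgroup.mem_top e))
  have h5 : ∀ e' : K, ∃ e : K, γ • ((0 : K), (0 : K), e') = (0, 0, e) := fun e' => by
    choose f hf using h4
    obtain ⟨e, rfl⟩ := Finite.surjective_of_injective (f := f) (fun x y e => by
      have := hf x
      rw [e, ← hf y] at this
      simpa using this) e'
    exact ⟨e, by rw [← hf, smul_inv_smul]⟩
  have hb : b₀ ≠ 0 := by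
    rintro rfl
    obtain ⟨e, he⟩ := h5 c₀
    exact h0 (by rw [he])
  obtain ⟨τ, e1, e2, e3⟩ := hH (-1) (by simp)
  generalize e : γ • ((0 : K), b₀, c₀) = x at h0
  obtain ⟨a, b, c⟩ := x
  obtain ⟨u, hu, e4⟩ := h.ex (((τ • (a, b, c)).2.1 - b) / (2 * a))
  set s := ((τ • (a, b, c)).2.1 - b) / (2 * a) with hs
  obtain ⟨c', hc⟩ := e2 (s * a) (2 * s * b + s ^ 2 * a)
  obtain ⟨z, hz⟩ : ∃ z : K, τ • u • (a, b, c) = u • (a, b, c) + (0, 0, z) := by
    refine ⟨(τ • u • (a, b, c)).2.2 - (u • (a, b, c)).2.2, Prod.ext (by simp [e3]) (Prod.ext ?_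
      (by simp))⟩
    rw [e4, show (a, b + s * a, c + 2 * s * b + s ^ 2 * a) = (a, b, c) +
      (0, s * a, 2 * s * b + s ^ 2 * a) by simp [add_assoc], smul_add, hc]
    simp only at h0
    simp [hs]; field_simp; ring
  obtain ⟨z', hz'⟩ := h4 z
  obtain ⟨v, hv, e5⟩ := h.ex (z' / (2 * b₀))
  obtain ⟨R, hR, hR'⟩ := h.exists_ker c₀ hb ⊤
  have h6 := hR (v⁻¹ * γ⁻¹ * u⁻¹ * τ * u * γ) (by
    simp only [mul_smul]
    rw [e, hz, smul_add, inv_smul_smul, h.fix (inv_mem hu), smul_add, hz', ← e, inv_smul_smul,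
      inv_smul_eq_iff, e5]
    simp; field_simp) (fun e' _ => by
    obtain ⟨e, he⟩ := h5 e'
    simp only [mul_smul]
    rw [he, h.fix hu, e1, h.fix (inv_mem hu), ← he, inv_smul_smul, h.fix (inv_mem hv)])
    (γ⁻¹ • u⁻¹ • ((0 : K), (1 : K), (0 : K)))
  obtain ⟨h7, h8, h9⟩ := hR' 1 trivial _ h6
  replace h7 := (mul_eq_zero.1 (h7 trivial)).resolve_left (by simpa using h2)
  have h10 := h9 h7 ((mul_eq_zero.1 (h8 h7 trivial)).resolve_left (by simpa using h2)) trivial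
  obtain ⟨c₁, hc₁⟩ := e2 1 0
  simp only [mul_smul, smul_inv_smul, sub_eq_zero, inv_smul_eq_iff (g := v), hc₁] at h10
  obtain ⟨t, ht⟩ := h.act _ (inv_mem hu)
  have h11 : (γ⁻¹ • u⁻¹ • (((0 : K), (-1 * 1 : K), c₁) - (0, 1, 0))).1 = 0 := by
    rw [smul_sub, smul_sub, h10, Prod.fst_sub, h.fst hv, sub_self]
  have h12 := hy (γ⁻¹ • u⁻¹ • (((0 : K), (-1 * 1 : K), c₁) - (0, 1, 0))).2
  rw [hG, show ((0 : K), _) = γ⁻¹ • u⁻¹ • (((0 : K), (-1 * 1 : K), c₁) - (0, 1, 0)) from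
    Prod.ext h11.symm rfl, smul_inv_smul, Prod.mk_sub_mk, Prod.mk_sub_mk, ht] at h12
  exact h2 (by linear_combination (exp := 1) -(by simpa using h12 (by simp) : (-1 - 1 : K) = 0))

end Cub

end Cfsg.Agent.Fus.SU
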