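import Mathlib
import Cfsg.Agent.Fus.SpLin
import Cfsg.Agent.Fus.EssMisc
import Cfsg.Agent.Fus.Normal
import Cfsg.Agent.Fus.ToTop

/-! Essential subgroups with a natural `SL₂(K)`-section. -/

set_option autoImplicit false
set_option linter.unusedSectionVars false

namespace Cfsg.Agent.Fus.SU

open Subgroup Cfsg.FusionSystem

variable {Ω : Type*} [Group Ω] {S P : Subgroup Ω} [Finite S] {p : ℕ} [Fact p.Prime]
  {F F' : FusionSystem S}

/-- A commutator which stays central under `γ⁻¹`, of an element which becomes central under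
`γ⁻¹`, is trivial. -/
theorem cycF (hS : IsPGroup p S) (h : F.IsFullyAutomized p P) {γ : MulAut P}
    (hγ : γ ∈ F.autGroup P) {s w d : Ω} (hs : s ∈ normalizerIn S P) (hw : w ∈ P) (hd : d ∈ P)
    (e : s * w * s⁻¹ = w * d) (e2 : s * d * s⁻¹ = d) (hp : d ^ p = 1)
    (h1 : ∀ u ∈ S, u * totA γ⁻¹ w * u⁻¹ = totA γ⁻¹ w)
    (h2 : ∀ u ∈ S, u * totA γ⁻¹ d * u⁻¹ = totA γ⁻¹ d) : d = 1 := by
  have := finite_of_le h.le
  let g : F.autGroup P := ⟨cAut P s, F.cAut_mem_autGroup h.le hs⟩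
  have hg : ∀ x : P, ((g • x : P) : Ω) = s * x * s⁻¹ := fun x => coe_cAut hs.2 x
  have h4 : ∀ n : ℕ, g ^ n • (⟨w, hw⟩ : P) = ⟨w, hw⟩ * ⟨d, hd⟩ ^ n := fun n => by
    induction n with
    | zero => simp
    | succ n ih =>
      rw [pow_succ', mul_smul, ih]
      refine Subtype.ext ?_
      simp only [hg, coe_mul, coe_pow]
      rw [show s * (w * d ^ n) * s⁻¹ = s * w * s⁻¹ * (s * d * s⁻¹) ^ n by rw [conj_pow]; group,
        e, e2, pow_succ', mul_assoc]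
  have := cyc_conj Fact.out (P := (autInducedBy S P).subgroupOf (F.autGroup P)) (h.not_dvd hS)
    (g := g) (γ := ⟨γ, hγ⟩) (w := (⟨w, hw⟩ : P)) (fun n u hu => by
      obtain ⟨t, ht, et⟩ := mem_autInducedBy.1 (mem_subgroupOf.1 hu)
      refine Subtype.ext ((et _).trans ?_)
      have e3 : (((⟨γ, hγ⟩ : F.autGroup P)⁻¹ • g ^ n • (⟨w, hw⟩ : P) : P) : Ω) =
          totA γ⁻¹ w * totA γ⁻¹ d ^ n := by
        rw [h4, totA_apply _ hw, totA_apply _ hd]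
        change ((γ⁻¹ _ : P) : Ω) = _
        rw [map_mul, map_pow]; rfl
      rw [e3, show t * (totA γ⁻¹ w * totA γ⁻¹ d ^ n) * t⁻¹ =
        t * totA γ⁻¹ w * t⁻¹ * (t * totA γ⁻¹ d * t⁻¹) ^ n by rw [conj_pow]; group, h1 t ht, h2 t ht])
    (by rw [h4]; exact Subtype.ext (by simp [hp]))
  have h5 := congrArg Subtype.val this
  rwa [hg, e, mul_eq_left] at h5

/-- An automorphism stabilising a chain centralised by `S` extends to `S`. -/
theorem extend3 (hF : F.IsSaturated p) (hS : IsPGroup p S) (hP : F.IsFullyNormalized P)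
    (hn : S ≤ normalizer (P : Set Ω)) {X Y : Subgroup Ω} (hX : X ≤ P) (hY : Y ≤ X)
    (h1 : ∀ s ∈ S, ∀ x ∈ P, x⁻¹ * (s * x * s⁻¹) ∈ X) (h2 : ∀ s ∈ S, ∀ x ∈ X, x⁻¹ * (s * x * s⁻¹) ∈ Y)
    (h3 : ∀ s ∈ S, ∀ x ∈ Y, s * x * s⁻¹ = x) {k : MulAut P} (hk : k ∈ F.autGroup P)
    (kX : ∀ x ∈ X, totA k x ∈ X) (kY : ∀ x ∈ Y, totA k x ∈ Y) :
    ∃ τ, F.Iso S S τ ∧ ∀ x ∈ P, τ x = totA k x := by
  have hA := hF.fullyAutomized hS hP
  have := finite_of_le hA.le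
  let C : ℕ → Subgroup Ω := fun i => if i = 0 then P else if i = 1 then X else if i = 2 then Y else ⊥
  have hU : autInducedBy S P ≤ chainStab P C 3 := fun α hα => by
    obtain ⟨s, hs, rfl⟩ := mem_autInducedBy_iff_cAut.1 hα
    refine mem_chainStab_of le_rfl (fun i hi => ?_) fun i hi x hx => ?_
    · interval_cases i
      exacts [hX, hY, bot_le]
    · interval_cases i
      · rw [totA_cAut hs.2 hx]; exact h1 s hs.1 x hx
      · rw [totA_cAut hs.2 (hX hx)]; exact h2 s hs.1 x hx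
      · rw [totA_cAut hs.2 (hX (hY hx)), h3 s hs.1 x hx, inv_mul_cancel]; exact one_mem _
  have hle := hA.le_of_isPGroup hS ((isPGroup_chainStab (hS.to_le hA.le) (C := C) (n := 3) rfl
    bot_le).to_le inf_le_left) inf_le_right (le_inf hU (F.autInducedBy_le_autGroup hA.le))
  obtain ⟨g, hg, e⟩ := (hF.receptive_of_fullyNormalized hS hP).extend_of_aut (iso_totA hA.le hk)
    (R := S) (fun s hs => ⟨hs, hn hs⟩) fun s hs => by
      rw [← (iso_totA hA.le hk).eq_autCongr (β := k * cAut P s * k⁻¹) fun x hx => by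
        rw [totA_mul _ _ (totA_mem k hx), totA_inv_totA _ hx, totA_mul _ _ hx]]
      refine hle ⟨conj_mem_chainStab (hU (cAut_mem_autInducedBy ⟨hs, hn hs⟩)) fun i hi => ?_,
        mul_mem (mul_mem hk (F.cAut_mem_autGroup hA.le ⟨hs, hn hs⟩)) (Subgroup.inv_mem _ hk)⟩
      interval_cases i
      · exact mem_stabA_of_maps le_rfl fun x hx => totA_mem k hx
      · exact mem_stabA_of_maps hX kX
      · exact mem_stabA_of_maps (hY.trans hX) kY
      · exact (invA_bot ⊤).le_stabA (mem_top k)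
  exact ⟨g, (hg.mono le_sup_right).iso_top, e⟩

theorem restr {f : Ω → Ω} (hf : F.Iso S S f) (hP : P ≤ S) (h : ∀ x ∈ P, f x ∈ P) :
    ∃ α ∈ F.autGroup P, ∀ x ∈ P, totA α x = f x :=
  have := finite_of_le hP
  ((hf.mor.mono hP).iso_self h).exists_aut

variable {K : Type*} [Field K] [Finite K] [CharP K p]

/-- An essential normal subgroup with a section `K²` acted on by `S` as the full group of
transvections, the kernel being central in `S`. -/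
structure Fr (F : FusionSystem S) (p : ℕ) (P : Subgroup Ω) (π : Ω → K × K) : Prop where
  sat : F.IsSaturated p
  pg : IsPGroup p S
  ess : F.IsEssential p P
  norm : S ≤ normalizer (P : Set Ω)
  add : ∀ x ∈ P, ∀ y ∈ P, π (x * y) = π x + π y
  surj : ∀ v, ∃ x ∈ P, π x = v
  ker : ∀ α ∈ F.autGroup P, ∀ x ∈ P, π x = 0 → π (totA α x) = 0
  cen : ∀ s ∈ S, ∀ x ∈ P, π x = 0 → s * x * s⁻¹ = x
  act : ∀ s ∈ S, ∃ σ : K, ∀ x ∈ P, π (s * x * s⁻¹) = ((π x).1, (π x).2 + σ * (π x).1)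
  ex : ∀ σ : K, ∃ s ∈ S, ∀ x ∈ P, π (s * x * s⁻¹) = ((π x).1, (π x).2 + σ * (π x).1)

namespace Fr
variable {π : Ω → K × K}

theorem one (h : Fr F p P π) : π 1 = 0 := by simpa using h.add 1 P.one_mem 1 P.one_mem

theorem inv (h : Fr F p P π) {x : Ω} (hx : x ∈ P) : π x⁻¹ = -π x := by
  have := h.add _ (P.inv_mem hx) _ hx
  rw [inv_mul_cancel, h.one] at this
  exact eq_neg_of_add_eq_zero_left this.symm

/-- The preimage of an additive subgroup. -/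
def pre (h : Fr F p P π) (W : AddSubgroup (K × K)) : Subgroup Ω where
  carrier := {x | x ∈ P ∧ π x ∈ W}
  one_mem' := ⟨one_mem _, h.one ▸ zero_mem _⟩
  mul_mem' ha hb := ⟨mul_mem ha.1 hb.1, h.add _ ha.1 _ hb.1 ▸ add_mem ha.2 hb.2⟩
  inv_mem' ha := ⟨P.inv_mem ha.1, h.inv ha.1 ▸ neg_mem ha.2⟩

theorem nrm (h : Fr F p P π) {s : Ω} (hs : s ∈ S) : s ∈ normalizerIn S P := ⟨hs, h.norm hs⟩

theorem conj_mem (h : Fr F p P π) {s x : Ω} (hs : s ∈ S) (hx : x ∈ P) : s * x * s⁻¹ ∈ P :=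
  conj_mem_of_mem_normalizerIn (h.nrm hs) hx

theorem c1 (h : Fr F p P π) : ∀ s ∈ S, ∀ x ∈ P,
    x⁻¹ * (s * x * s⁻¹) ∈ h.pre (AddMonoidHom.fst K K).ker := fun s hs x hx => by
  obtain ⟨σ, e⟩ := h.act s hs
  refine ⟨mul_mem (P.inv_mem hx) (h.conj_mem hs hx), ?_⟩
  rw [h.add _ (P.inv_mem hx) _ (h.conj_mem hs hx), h.inv hx, e x hx, AddMonoidHom.mem_ker]
  simp

theorem c2 (h : Fr F p P π) : ∀ s ∈ S, ∀ x ∈ h.pre (AddMonoidHom.fst K K).ker,
    x⁻¹ * (s * x * s⁻¹) ∈ h.pre ⊥ := fun s hs x hx => by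
  obtain ⟨σ, e⟩ := h.act s hs
  refine ⟨mul_mem (P.inv_mem hx.1) (h.conj_mem hs hx.1), ?_⟩
  have : (π x).1 = 0 := hx.2
  rw [h.add _ (P.inv_mem hx.1) _ (h.conj_mem hs hx.1), h.inv hx.1, e x hx.1]
  simp [this, Prod.ext_iff]

theorem exists_act (h : Fr F p P π) : ∃ a : DistribMulAction (F.autGroup P) (K × K),
    (∀ α : F.autGroup P, ∀ x ∈ P, (letI := a; α • π x) = π (totA α.1 x)) ∧
      (letI := a; RO K p ((autInducedBy S P).subgroupOf (F.autGroup P))) := by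
  obtain ⟨a, ha⟩ := exists_action (F.autGroup P) π h.add h.surj h.ker
  refine ⟨a, ha, (h.ess.fullyAutomized h.sat h.pg).not_dvd h.pg, fun u hu => ?_, fun σ => ?_⟩
  · obtain ⟨s, hs, e⟩ := mem_autInducedBy_iff_cAut.1 (mem_subgroupOf.1 hu)
    obtain ⟨σ, hσ⟩ := h.act s hs.1
    refine ⟨σ, fun t b => ?_⟩
    obtain ⟨x, hx, e'⟩ := h.surj (t, b)
    rw [← e', ha u x hx, ← e, totA_cAut hs.2 hx, hσ x hx, e']
  · obtain ⟨s, hs, hσ⟩ := h.ex σ
    refine ⟨⟨cAut P s, F.cAut_mem_autGroup h.ess.le (h.nrm hs)⟩,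
      mem_subgroupOf.2 (cAut_mem_autInducedBy (h.nrm hs)), fun t b => ?_⟩
    obtain ⟨x, hx, e'⟩ := h.surj (t, b)
    rw [← e', ha _ x hx, totA_cAut (h.norm hs) hx, hσ x hx, e']

/-- `α` preserves the axis. -/
def Ax (π : Ω → K × K) (α : MulAut P) : Prop := ∀ x ∈ P, (π x).1 = 0 → (π (totA α x)).1 = 0

theorem Ax.mul {α β : MulAut P} (h : Ax π α) (h' : Ax π β) : Ax π (α * β) := fun x hx e => by
  rw [totA_mul _ _ hx]; exact h _ (totA_mem β hx) (h' x hx e)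

theorem ax_inv (h : Fr F p P π) {α : MulAut P} (ha : Ax π α) : Ax π α⁻¹ := fun x hx e =>
  have := finite_of_le h.ess.le
  (((Subgroup.inv_mem _ (mem_stabA_of_maps (X := h.pre (AddMonoidHom.fst K K).ker)
    (fun _ hy => hy.1) fun y hy => ⟨totA_mem α hy.1, ha y hy.1 hy.2⟩)) x hx).2 ⟨hx, e⟩).2

theorem ax_cAut (h : Fr F p P π) {s : Ω} (hs : s ∈ S) : Ax π (cAut P s) := fun x hx e => by
  obtain ⟨σ, e'⟩ := h.act s hs
  rw [totA_cAut (h.norm hs) hx, e' x hx, e]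

theorem mover (h : Fr F p P π) : ∃ γ ∈ F.autGroup P, ¬ Ax π γ := by
  by_contra hh
  push Not at hh
  obtain ⟨s, hs, hsP⟩ := SetLike.exists_of_lt (h.sat.lt_of_isEssential h.pg h.ess)
  exact hsP ((h.ess.isRadical h.pg).mem_of_chain3 h.pg h.ess.isCentric
    (X := h.pre (AddMonoidHom.fst K K).ker) (Y := h.pre ⊥)
    ⟨fun _ hx => hx.1, fun α hα x hx => ⟨totA_mem α hx.1, hh α hα x hx.1 hx.2⟩⟩
    ⟨fun _ hx => hx.1, fun α hα x hx => ⟨totA_mem α hx.1, h.ker α hα x hx.1 hx.2⟩⟩ (invA_bot _)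
    (fun x hx => ⟨hx.1, by simp [show π x = 0 from hx.2]⟩) bot_le bot_le (h.nrm hs) (h.c1 s hs)
    (h.c2 s hs) fun x hx => by simp [h.cen s hs x hx.1 hx.2])

theorem ti (h : Fr F p P π) {γ : MulAut P} (hγ : γ ∈ F.autGroup P) {x : Ω} (hx : x ∈ P)
    (h1 : (π x).1 = 0) (h2 : (π x).2 ≠ 0) (h3 : (π (totA γ x)).1 = 0) : Ax π γ := by
  have := finite_of_le h.ess.le
  obtain ⟨a, ha, hR⟩ := h.exists_act
  intro y hy e
  have := hR.ti (γ := ⟨γ, hγ⟩) h2 (by rw [← h1, Prod.mk.eta, ha _ x hx, h3, h1]) (π y).2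
  rwa [← e, Prod.mk.eta, ha _ y hy, e] at this

theorem extend (h : Fr F p P π) {k : MulAut P} (hk : k ∈ F.autGroup P) (hA : Ax π k) :
    ∃ τ, F.Iso S S τ ∧ ∀ x ∈ P, τ x = totA k x :=
  extend3 h.sat h.pg h.ess.isFullyNormalized h.norm (X := h.pre (AddMonoidHom.fst K K).ker)
    (Y := h.pre ⊥) (fun _ hx => hx.1) (fun x hx => ⟨hx.1, by simp [show π x = 0 from hx.2]⟩)
    h.c1 h.c2 (fun s hs x hx => h.cen s hs x hx.1 hx.2) hk
    (fun x hx => ⟨totA_mem k hx.1, hA x hx.1 hx.2⟩)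
    fun x hx => ⟨totA_mem k hx.1, h.ker k hk x hx.1 hx.2⟩

theorem ne_of_mover (h : Fr F p P π) [a : DistribMulAction (F.autGroup P) (K × K)]
    (ha : ∀ α : F.autGroup P, ∀ x ∈ P, α • π x = π (totA α.1 x)) {γ : MulAut P}
    (hγ : γ ∈ F.autGroup P) (hA : ¬ Ax π γ) :
    ((⟨γ, hγ⟩ : F.autGroup P) • ((0 : K), (1 : K))).1 ≠ 0 := fun e => by
  obtain ⟨x, hx, e'⟩ := h.surj (0, 1)
  exact hA (h.ti hγ hx (by rw [e']) (by simp [e']) (by rw [← ha ⟨γ, hγ⟩ x hx, e', e]))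

/-- The diagonal torus extends to `S`. -/
theorem torus (h : Fr F p P π) {l : K} (hl : l ≠ 0) : ∃ τ, F.Iso S S τ ∧ (∀ x ∈ P, τ x ∈ P) ∧
    (∀ x ∈ P, π x = 0 → τ x = x) ∧ (∀ x ∈ P, (π x).1 = 0 → π (τ x) = (0, l * (π x).2)) ∧
    ∀ x ∈ P, (π (τ x)).1 = l⁻¹ * (π x).1 := by
  have := finite_of_le h.ess.le
  obtain ⟨a, ha, hR⟩ := h.exists_act
  obtain ⟨γ, hγ, hA⟩ := h.mover
  obtain ⟨k, hk, e1, e2⟩ := hR.diag (h.ne_of_mover ha hγ hA) hl
  have h1 : ∀ x ∈ P, (π (totA k.1 x)).1 = l⁻¹ * (π x).1 := fun x hx => by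
    rw [← ha k x hx, ← e2 _ (π x).2]
  obtain ⟨τ, hτ, e⟩ := h.extend k.2 fun x hx e => by rw [h1 x hx, e, mul_zero]
  let L : Subgroup (F.autGroup P) :=
    { carrier := {α | ∀ x ∈ P, π x = 0 → totA α.1 x = x}
      one_mem' := fun x hx _ => totA_one hx
      mul_mem' := fun {α β} ha hb x hx e => by
        rw [coe_mul, totA_mul _ _ hx, hb x hx e, ha x hx e]
      inv_mem' := fun {α} ha x hx e => totA_inv_fix hx (ha x hx e) }
  have : L.Normal := ⟨fun α hα β x hx e => by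
    rw [coe_mul, coe_mul, totA_mul _ _ hx, totA_mul _ _ (totA_mem _ hx),
      hα _ (totA_mem _ hx) (h.ker _ β⁻¹.2 x hx e), coe_inv, totA_totA_inv _ hx]⟩
  have hL : k ∈ L := normalClosure_le_normal (N := L) (fun u hu x hx e => by
    obtain ⟨s, hs, e'⟩ := mem_autInducedBy_iff_cAut.1 (mem_subgroupOf.1 hu)
    rw [← e', totA_cAut hs.2 hx, h.cen s hs.1 x hx e]) hk
  refine ⟨τ, hτ, fun x hx => e x hx ▸ totA_mem _ hx, fun x hx e' => (e x hx).trans (hL x hx e'),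
    fun x hx e' => ?_, fun x hx => by rw [e x hx, h1 x hx]⟩
  rw [e x hx, ← ha k x hx, ← e1, ← e']

theorem bruhat (h : Fr F p P π) {γ δ : MulAut P} (hγ : γ ∈ F.autGroup P) (hδ : δ ∈ F.autGroup P)
    (h1 : ¬ Ax π γ) (h2 : ¬ Ax π δ) : ∃ s ∈ S, Ax π (γ⁻¹ * cAut P s * δ) := by
  have := finite_of_le h.ess.le
  obtain ⟨a, ha, hR⟩ := h.exists_act
  obtain ⟨u, hu, e⟩ := hR.bruhat (h.ne_of_mover ha hγ h1) (h.ne_of_mover ha hδ h2)
  obtain ⟨s, hs, e'⟩ := mem_autInducedBy_iff_cAut.1 (mem_subgroupOf.1 hu)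
  refine ⟨s, hs.1, fun x hx e'' => ?_⟩
  have := e (π x).2
  rwa [← e'', Prod.mk.eta, ha _ x hx, e'', coe_mul, coe_mul, ← e'] at this

theorem partner (h : Fr F p P π) : ∃ φ : K →+ K, ∃ γ ∈ F.autGroup P, ∃ s ∈ S,
    (∀ x ∈ P, (π x).2 = φ (π x).1 → (π (totA γ⁻¹ x)).1 = 0) ∧
    ∀ x ∈ P, π (totA (γ * cAut P s * γ⁻¹) x) =
      ((π x).1 + ((π x).2 - φ (π x).1), (π x).2 + φ ((π x).2 - φ (π x).1)) := by
  have := finite_of_le h.ess.le
  obtain ⟨a, ha, hR⟩ := h.exists_act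
  obtain ⟨γ, hγ, hA⟩ := h.mover
  obtain ⟨φ, h1, h2⟩ := hR.exists_graph (h.ne_of_mover ha hγ hA)
  obtain ⟨u, hu, e⟩ := hR.partner h1 h2 one_ne_zero
  obtain ⟨s, hs, e'⟩ := mem_autInducedBy_iff_cAut.1 (mem_subgroupOf.1 hu)
  refine ⟨φ, γ, hγ, s, hs.1, fun x hx e'' => ?_, fun x hx => ?_⟩
  · have := h1 (π x).1
    rwa [← e'', Prod.mk.eta, ha _ x hx] at this
  · have := e (π x).1 ((π x).2 - φ (π x).1)
    rw [one_mul, add_sub_cancel, Prod.mk.eta, ha _ x hx, coe_mul, coe_mul, ← e'] at this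
    exact this.trans (Prod.ext rfl (by simp; ring))

/-- An axis preserving automorphism normalises `Aut_S(P)`. -/
theorem conj_ax (h : Fr F p P π) {k : MulAut P} (hk : k ∈ F.autGroup P) (hA : Ax π k) {s : Ω}
    (hs : s ∈ S) : ∃ s' ∈ S, k * cAut P s * k⁻¹ = cAut P s' := by
  obtain ⟨τ, hτ, e⟩ := h.extend hk hA
  exact ⟨_, hτ.maps s hs,
    (hτ.mor.aut_mul_cAut h.ess.le (fun x hx => (e x hx).symm) hs (h.norm hs)).2⟩

/-- Comparison on `P`, given the comparison on `S`. -/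
theorem le_of (h : Fr F p P π) (hS : ∀ f, F.Iso S S f → F'.Mor S f) {ν : MulAut P}
    (hν : ν ∈ F.autGroup P) (hν' : ν ∈ F'.autGroup P) (hA : ¬ Ax π ν) :
    F.autGroup P ≤ F'.autGroup P := by
  have key : ∀ k ∈ F.autGroup P, Ax π k → k ∈ F'.autGroup P := fun k hk hA => by
    obtain ⟨τ, hτ, e⟩ := h.extend hk hA
    exact (mem_autGroup_iff h.ess.le).2 (((hS τ hτ).mono h.ess.le).congr e)
  intro γ hγ
  by_cases h1 : Ax π γ
  · exact key γ hγ h1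
  obtain ⟨s, hs, h2⟩ := h.bruhat hν hγ hA h1
  have h3 := key _ (mul_mem (mul_mem (Subgroup.inv_mem _ hν)
    (F.cAut_mem_autGroup h.ess.le (h.nrm hs))) hγ) h2
  exact (mul_mem_cancel_left (mul_mem (Subgroup.inv_mem _ hν')
    (F'.cAut_mem_autGroup h.ess.le (h.nrm hs)))).1 h3

/-- Two axis preserving automorphisms which agree on the axis and modulo it differ by an element
of `S`, if the two systems share a transvection. -/
theorem cmp (h : Fr F p P π) (h' : Fr F' p P π) (hab : ∀ x ∈ P, ∀ y ∈ P, x * y = y * x)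
    (hc : ∀ s ∈ S, ∀ x ∈ P, (π x).1 = 0 → s * x * s⁻¹ = x) {ν : MulAut P}
    (hν : ν ∈ F.autGroup P) (hν' : ν ∈ F'.autGroup P)
    (eν : ∀ x ∈ P, π (totA ν x) = ((π x).1 + (π x).2, (π x).2)) {β β' : MulAut P}
    (hβ : β ∈ F.autGroup P) (hβ' : β' ∈ F'.autGroup P) (hA : Ax π β) (hA' : Ax π β')
    (e1 : ∀ x ∈ P, (π x).1 = 0 → totA (β'⁻¹ * β) x = x)
    (e2 : ∀ x ∈ P, (π (totA (β'⁻¹ * β) x)).1 = (π x).1) : ∃ s ∈ S, β'⁻¹ * β = cAut P s := by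
  have := finite_of_le h.ess.le
  have cF := fun {s} (hs : s ∈ S) => F.cAut_mem_autGroup h.ess.le (h.nrm hs)
  have cF' := fun {s} (hs : s ∈ S) => F'.cAut_mem_autGroup h.ess.le (h.nrm hs)
  have nax : ∀ k, Ax π k → ¬ Ax π (k * ν) := fun k hk h1 => by
    obtain ⟨x, hx, e⟩ := h.surj (0, 1)
    have := (h.ax_inv hk).mul h1 x hx (by rw [e])
    rw [inv_mul_cancel_left, eν x hx, e] at this
    simp at this
  have n1 : ¬ Ax π ν := by simpa using nax 1 fun x hx e => by rwa [totA_one hx]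
  obtain ⟨s, hs, a1⟩ := h.bruhat hν (mul_mem hβ hν) n1 (nax _ hA)
  obtain ⟨s', hs', a2⟩ := h'.bruhat hν' (mul_mem (mul_mem (Subgroup.inv_mem _ hβ')
    (Subgroup.inv_mem _ (cF' hs))) hν') n1 (nax _ ((h.ax_inv hA').mul (h.ax_inv (h.ax_cAut hs))))
  have a3 := a2.mul a1
  set ρ := cAut P s' * (β'⁻¹ * β) with hρ
  rw [show ν⁻¹ * cAut P s' * (β'⁻¹ * (cAut P s)⁻¹ * ν) * (ν⁻¹ * cAut P s * (β * ν)) =
    ν⁻¹ * ρ * ν by rw [hρ]; group] at a3
  have f1 : ∀ x ∈ P, (π x).1 = 0 → totA ρ x = x := fun x hx e => by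
    rw [hρ, totA_mul _ _ hx, e1 x hx e, totA_cAut (h.norm hs') hx, hc s' hs' x hx e]
  have dec : ∀ y ∈ P, ∀ x ∈ P, (π y).1 = (π x).1 → totA ρ x = totA ρ y * (y⁻¹ * x) :=
    fun y hy x hx e => by
      have hz := P.mul_mem (P.inv_mem hy) hx
      rw [← f1 _ hz (by rw [h.add _ (P.inv_mem hy) _ hx, h.inv hy]; simp [e]),
        ← (mulOn_totA ρ).map_mul hy hz, mul_inv_cancel_left]
  have f2 : ∀ x ∈ P, π (totA ρ x) = π x := fun x hx => by
    obtain ⟨z, hz, e⟩ := h.surj (0, (π x).1)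
    have hy := totA_mem ν hz
    have e3 := eν z hz
    have e4 := eν _ (totA_mem (ν⁻¹ * ρ * ν) hz)
    rw [a3 z hz (by rw [e]), ← totA_mul _ _ hz, mul_assoc, mul_inv_cancel_left,
      totA_mul _ _ hz, zero_add] at e4
    have e5 : (π (totA ρ (totA ν z))).1 = (π (totA ν z)).1 := by
      obtain ⟨σ, eσ⟩ := h.act s' hs'
      rw [hρ, totA_mul _ _ hy, totA_cAut (h.norm hs') (totA_mem _ hy), eσ _ (totA_mem _ hy),
        e2 _ hy]
    rw [e] at e3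
    rw [dec _ hy x hx (by simp [e3]), h.add _ (totA_mem _ hy) _ (P.mul_mem (P.inv_mem hy) hx),
      h.add _ (P.inv_mem hy) _ hx, h.inv hy, show π (totA ρ (totA ν z)) = π (totA ν z) by
        rw [e4, e3] at e5; rw [e4, e3]; simpa using e5, add_neg_cancel_left]
  obtain ⟨s₁, hs₁, e₁⟩ := h.ex 1
  obtain ⟨s₂, hs₂, e₂⟩ := h.conj_ax (mul_mem (mul_mem (Subgroup.inv_mem _ hν) (cF hs))
    (mul_mem hβ hν)) a1 hs₁
  set g := ν * cAut P s₁ * ν⁻¹ with hg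
  have hg' : g ∈ F'.autGroup P := mul_mem (mul_mem hν' (cF' hs₁)) (Subgroup.inv_mem _ hν')
  let C : ℕ → Subgroup Ω := fun i => if i = 0 then P else if i = 1 then h.pre ⊥ else ⊥
  have hC : ∀ l ∈ F'.autGroup P, ∀ i ≤ 2, l ∈ stabA P (C i) := fun l hl i hi => by
    interval_cases i
    · exact mem_stabA_of_maps le_rfl fun x hx => totA_mem l hx
    · exact mem_stabA_of_maps (fun _ hx => hx.1) fun x hx =>
        ⟨totA_mem l hx.1, h'.ker l hl x hx.1 hx.2⟩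
    · exact (invA_bot ⊤).le_stabA (mem_top l)
  have hρC : ρ ∈ chainStab P C 2 := mem_chainStab_of le_rfl (fun i hi => by
      interval_cases i
      exacts [fun _ hx => hx.1, bot_le]) fun i hi x hx => by
    interval_cases i
    · exact ⟨mul_mem (P.inv_mem hx) (totA_mem _ hx), by
        rw [h.add _ (P.inv_mem hx) _ (totA_mem _ hx), h.inv hx, f2 x hx]; simp⟩
    · rw [f1 x hx.1 (by rw [show π x = 0 from hx.2]; rfl), inv_mul_cancel]; exact one_mem _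
  have hκ : ρ * (g * ρ⁻¹ * g⁻¹) ∈ Inn P := (h'.ess.isRadical h.pg).le_inn
    (A := chainStab P C 2 ⊓ F'.autGroup P) inf_le_right
    (fun l hl => mem_normalizer_fintype fun α hα => ⟨conj_mem_chainStab hα.1 (hC l hl),
      mul_mem (mul_mem hl hα.2) (Subgroup.inv_mem _ hl)⟩)
    ((isPGroup_chainStab (h.pg.to_le h.ess.le) (C := C) (n := 2) rfl bot_le).to_le inf_le_left)
    ⟨mul_mem hρC (conj_mem_chainStab (Subgroup.inv_mem _ hρC) (hC g hg')), by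
      rw [show ρ * (g * ρ⁻¹ * g⁻¹) = cAut P s' * β'⁻¹ * (cAut P s)⁻¹ * ν *
        (ν⁻¹ * cAut P s * (β * ν) * cAut P s₁ * (ν⁻¹ * cAut P s * (β * ν))⁻¹) *
          (cAut P s' * β'⁻¹ * (cAut P s)⁻¹ * ν)⁻¹ * g⁻¹ by rw [hρ, hg]; group, e₂]
      have := mul_mem (mul_mem (mul_mem (cF' hs') (Subgroup.inv_mem _ hβ'))
        (Subgroup.inv_mem _ (cF' hs))) hν'
      exact mul_mem (mul_mem (mul_mem this (cF' hs₂)) (Subgroup.inv_mem _ this))
        (Subgroup.inv_mem _ hg')⟩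
  obtain ⟨y, hy, ey⟩ := mem_inn_iff.1 hκ
  have h1 : ρ * (g * ρ⁻¹ * g⁻¹) = 1 := MulEquiv.ext fun x => Subtype.ext (by
    rw [ey, hab y hy x x.2]; simp)
  have h2 : ρ * g = g * ρ := by
    rw [← mul_inv_eq_one, ← h1]; group
  refine ⟨s'⁻¹, S.inv_mem hs', ?_⟩
  rw [cAut_inv (h.norm hs'), eq_inv_iff_mul_eq_one, mul_eq_one_comm, ← hρ]
  refine eq_one_of_forall_totA fun x hx => ?_
  obtain ⟨z, hz, e⟩ := h.surj (0, -(π x).1)
  have hw := totA_mem ν⁻¹ hz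
  have e3 := eν _ hw
  rw [totA_totA_inv _ hz, e, Prod.mk.injEq] at e3
  rw [dec _ (totA_mem g hz) x hx (by
    rw [hg, totA_mul _ _ hz, totA_mul _ _ hw, totA_cAut (h.norm hs₁) hw,
      eν _ (h.conj_mem hs₁ hw), e₁ _ hw]
    linear_combination -2 * e3.1 + e3.2), ← totA_mul _ _ hz, h2, totA_mul _ _ hz,
    f1 z hz (by rw [e]), mul_inv_cancel_left]

end Fr

end Cfsg.Agent.Fus.SU
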