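import Mathlib
import Cfsg.Agent.Fus.SpGen
import Cfsg.Agent.Fus.Core
import Cfsg.Agent.Fus.AutSys

/-! Fusion systems on the unipotent group of `Sp₄(K)` in odd characteristic. -/

set_option autoImplicit false
set_option linter.unusedSectionVars false

namespace Cfsg.Agent.Fus.SU

open Subgroup Cfsg.FusionSystem

section
variable {Ω : Type*} [Group Ω] {S P : Subgroup Ω} [Finite S] {p : ℕ} [Fact p.Prime]
  {F : FusionSystem S}

theorem ess_img (hP : F.IsEssential p P) {g : Ω → Ω} (hg : F.Iso S S g) :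
    F.IsEssential p (img g P) := by
  obtain ⟨b, -, hb, -⟩ := hg.inv
  exact (F.isInvariantIn_refl.isIsoVia hg hb).isEssential hP

/-- A saturated system with at most one essential subgroup is constrained. -/
theorem con_of_subsingleton (hF : F.IsSaturated p) (hS : IsPGroup p S)
    (h : ∀ P Q, F.IsEssential p P → F.IsEssential p Q → P = Q) : F.IsConstrained p := by
  refine ⟨hF, ?_⟩
  by_cases hex : ∃ E, F.IsEssential p E
  swap
  · push Not at hex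
    exact ⟨S, (hF.isNormal_top_iff hS).2 hex, F.isCentric_top⟩
  obtain ⟨E, hE⟩ := hex
  refine ⟨E, hF.isNormal_of_alperin hS ?_, hE.isCentric⟩
  rintro R (rfl | hR)
  · exact ⟨hE.le, fun g hg x hx => h _ _ (ess_img hE hg) hE ▸ mem_img_of_mem hx⟩
  · obtain rfl := h _ _ hR hE
    exact ⟨le_rfl, fun g hg => hg.maps⟩

end

/-- The unipotent group of `Sp₄(K)`. -/
@[ext] structure U4 (K : Type*) where
  t : K
  a : K
  b : K
  c : K

namespace U4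
variable {K : Type*} [Field K]

instance : Mul (U4 K) := ⟨fun x y => ⟨x.t + y.t, x.a + y.a, x.b + y.b + x.t * y.a,
  x.c + y.c + 2 * x.t * y.b + x.t ^ 2 * y.a⟩⟩
instance : One (U4 K) := ⟨⟨0, 0, 0, 0⟩⟩
instance : Inv (U4 K) := ⟨fun x => ⟨-x.t, -x.a, -x.b + x.t * x.a,
  -x.c + 2 * x.t * x.b - x.t ^ 2 * x.a⟩⟩

@[simp] theorem mul_t (x y : U4 K) : (x * y).t = x.t + y.t := rfl
@[simp] theorem mul_a (x y : U4 K) : (x * y).a = x.a + y.a := rfl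
@[simp] theorem mul_b (x y : U4 K) : (x * y).b = x.b + y.b + x.t * y.a := rfl
@[simp] theorem mul_c (x y : U4 K) :
    (x * y).c = x.c + y.c + 2 * x.t * y.b + x.t ^ 2 * y.a := rfl
@[simp] theorem one_t : (1 : U4 K).t = 0 := rfl
@[simp] theorem one_a : (1 : U4 K).a = 0 := rfl
@[simp] theorem one_b : (1 : U4 K).b = 0 := rfl
@[simp] theorem one_c : (1 : U4 K).c = 0 := rfl
@[simp] theorem inv_t (x : U4 K) : x⁻¹.t = -x.t := rfl
@[simp] theorem inv_a (x : U4 K) : x⁻¹.a = -x.a := rfl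
@[simp] theorem inv_b (x : U4 K) : x⁻¹.b = -x.b + x.t * x.a := rfl
@[simp] theorem inv_c (x : U4 K) : x⁻¹.c = -x.c + 2 * x.t * x.b - x.t ^ 2 * x.a := rfl

instance : Group (U4 K) := Group.ofLeftAxioms (fun x y z => by ext <;> simp <;> ring)
  (fun x => by ext <;> simp) fun x => by ext <;> simp <;> ring

/-- Coordinates. -/
def equivProd : U4 K ≃ K × K × K × K :=
  ⟨fun x => (x.t, x.a, x.b, x.c), fun x => ⟨x.1, x.2.1, x.2.2.1, x.2.2.2⟩, fun _ => rfl,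
    fun _ => rfl⟩

instance [Finite K] : Finite (U4 K) := Finite.of_equiv _ equivProd.symm

/-- The centre. -/
def Z : Subgroup (U4 K) where
  carrier := {x | x.t = 0 ∧ x.a = 0 ∧ x.b = 0}
  one_mem' := ⟨rfl, rfl, rfl⟩
  mul_mem' ha hb := by simp [ha.1, ha.2.1, ha.2.2, hb.1, hb.2.1, hb.2.2]
  inv_mem' ha := by simp [ha.1, ha.2.1, ha.2.2]

/-- The second centre. -/
def Z2 : Subgroup (U4 K) where
  carrier := {x | x.t = 0 ∧ x.a = 0}
  one_mem' := ⟨rfl, rfl⟩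
  mul_mem' ha hb := by simp [ha.1, ha.2, hb.1, hb.2]
  inv_mem' ha := by simp [ha.1, ha.2]

/-- The abelian subgroup of index `|K|`. -/
def A : Subgroup (U4 K) where
  carrier := {x | x.t = 0}
  one_mem' := rfl
  mul_mem' {x y} ha hb := by simp_all
  inv_mem' {x} ha := by simp_all

/-- The special subgroups of index `|K|`. -/
def M (l : K) : Subgroup (U4 K) where
  carrier := {x | x.a = l * x.t}
  one_mem' := by simp
  mul_mem' {x y} ha hb := by simp_all [mul_add]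
  inv_mem' {x} ha := by simp_all

theorem mem_Z {x : U4 K} : x ∈ Z ↔ x.t = 0 ∧ x.a = 0 ∧ x.b = 0 := Iff.rfl
theorem mem_Z2 {x : U4 K} : x ∈ Z2 ↔ x.t = 0 ∧ x.a = 0 := Iff.rfl
theorem mem_A {x : U4 K} : x ∈ A ↔ x.t = 0 := Iff.rfl
theorem mem_M {l : K} {x : U4 K} : x ∈ M l ↔ x.a = l * x.t := Iff.rfl

theorem cm_Z2 (s x : U4 K) : x⁻¹ * (s * x * s⁻¹) ∈ Z2 := by
  simp [mem_Z2]

theorem cm_Z {s x : U4 K} : x⁻¹ * (s * x * s⁻¹) ∈ Z ↔ s.t * x.a = x.t * s.a := by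
  simp only [mem_Z, mul_t, mul_a, mul_b, inv_t, inv_a, inv_b]
  exact ⟨fun h => by linear_combination h.2.2, fun h => ⟨by ring, by ring, by linear_combination h⟩⟩

theorem fix_Z (s : U4 K) {x : U4 K} (hx : x ∈ Z) : s * x * s⁻¹ = x := by
  obtain ⟨h1, h2, h3⟩ := hx
  ext <;> simp [h1, h2, h3] <;> ring

theorem comm_A {x y : U4 K} (hx : x ∈ A) (hy : y ∈ A) : x * y = y * x := by
  rw [mem_A] at hx hy
  ext <;> simp [hx, hy, add_comm]

theorem nrm {P : Subgroup (U4 K)} [Finite K] {s : U4 K} (h : ∀ x ∈ P, x⁻¹ * (s * x * s⁻¹) ∈ P) :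
    s ∈ normalizerIn ⊤ P :=
  ⟨mem_top s, mem_normalizer_fintype fun x hx => by simpa using P.mul_mem hx (h x hx)⟩

theorem inv_Z2 {P : Subgroup (U4 K)} {Γ : Subgroup (MulAut P)} (hZ : InvA Γ Z) (h2 : Z2 ≤ P)
    {x y : U4 K} (hx : x ∈ P) (hy : y ∈ P) (h : x.t * y.a ≠ y.t * x.a) : InvA Γ Z2 := by
  refine ⟨h2, fun α hα z hz => ?_⟩
  have key : ∀ w ∈ P, (totA α z).t * w.a = w.t * (totA α z).a := fun w hw => by
    have h1 := hZ.mem hα (cm_Z.2 (show z.t * (totA α⁻¹ w).a = (totA α⁻¹ w).t * z.a by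
      simp [hz.1, hz.2]))
    have hw' := totA_mem α⁻¹ hw
    rwa [(mulOn_totA α).map_mul (P.inv_mem hw') (P.mul_mem (P.mul_mem (h2 hz) hw')
      (P.inv_mem (h2 hz))), (mulOn_totA α).map_conj (h2 hz) hw', (mulOn_totA α).map_inv hw',
      totA_totA_inv _ hw, cm_Z] at h1
  have h3 := sub_ne_zero.2 h
  exact ⟨mul_left_cancel₀ h3 (by linear_combination x.t * key y hy - y.t * key x hx),
    mul_left_cancel₀ h3 (by linear_combination x.a * key y hy - y.a * key x hx)⟩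

theorem inv_Z (h2 : (2 : K) ≠ 0) {P : Subgroup (U4 K)} (Γ : Subgroup (MulAut P)) (hZ : Z ≤ P)
    {x y : U4 K} (hx : x ∈ P) (hy : y ∈ P) (h : x.t ≠ 0) (h' : y.t = 0) (h'' : y ∉ Z) :
    InvA Γ Z := by
  refine (?_ : P ⊓ centralizer (P : Set (U4 K)) = Z) ▸ (invA_top Γ).inf_centralizer (invA_top Γ)
  refine le_antisymm (fun z hz => ?_) fun z hz => ⟨hZ hz, mem_centralizer_of_conj_eq fun w _ => by
    rw [mul_inv_eq_iff_eq_mul, ← mul_inv_eq_iff_eq_mul.1 (fix_Z w hz)]⟩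
  have e1 := U4.ext_iff.1 (hz.2 x hx)
  have e2 := U4.ext_iff.1 (hz.2 y hy)
  simp only [mul_t, mul_a, mul_b, mul_c, h'] at e1 e2
  have h3 : z.t = 0 := by
    by_contra h3
    have h4 : y.a = 0 := mul_left_cancel₀ h3 (by linear_combination -e2.2.2.1)
    exact h'' ⟨h', h4, mul_left_cancel₀ (mul_ne_zero h2 h3) (by
      linear_combination -e2.2.2.2 - z.t ^ 2 * h4)⟩
  have h4 : z.a = 0 := mul_left_cancel₀ h (by linear_combination e1.2.2.1 + x.a * h3)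
  exact ⟨h3, h4, mul_left_cancel₀ (mul_ne_zero h2 h) (by
    linear_combination e1.2.2.2 + (2 * x.b + z.t * x.a) * h3 - x.t ^ 2 * h4)⟩

variable [Finite K] {p : ℕ} [Fact p.Prime] [CharP K p] {F : FusionSystem (⊤ : Subgroup (U4 K))}

theorem pow_Z {d : U4 K} (hd : d ∈ Z) : d ^ p = 1 := by
  have : ∀ n : ℕ, d ^ n = ⟨0, 0, 0, n * d.c⟩ := fun n => by
    induction n with
    | zero => ext <;> simp
    | succ n ih => rw [pow_succ, ih]; ext <;> simp [hd.1, hd.2.1, hd.2.2]; ring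
  rw [this]; ext <;> simp

theorem exists_Z (h2 : (2 : K) ≠ 0) {N : Subgroup (U4 K)} (hN : F.IsNormal N) (h0 : N ≠ ⊥) :
    ∃ d ∈ N, d ∈ Z ∧ d ≠ 1 := by
  have hc : ∀ s, ∀ x ∈ N, x⁻¹ * (s * x * s⁻¹) ∈ N := fun s x hx =>
    N.mul_mem (N.inv_mem hx) (hN.stronglyClosed.conj_mem (mem_top s) hx)
  obtain ⟨⟨n, hn⟩, hn1⟩ := (ne_bot_iff_exists_ne_one).1 h0
  by_cases h1 : n ∈ Z
  · exact ⟨n, hn, h1, fun e => hn1 (Subtype.ext e)⟩
  obtain ⟨m, hm, h3, h4⟩ : ∃ m ∈ N, m ∈ Z2 ∧ m ∉ Z := by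
    by_cases h3 : n ∈ Z2
    · exact ⟨n, hn, h3, h1⟩
    by_cases h4 : n.t = 0
    · exact ⟨_, hc ⟨1, 0, 0, 0⟩ n hn, cm_Z2 _ _, fun e => h3 ⟨h4, by simpa using cm_Z.1 e⟩⟩
    · exact ⟨_, hc ⟨0, 1, 0, 0⟩ n hn, cm_Z2 _ _, fun e => h4 (by simpa using (cm_Z.1 e).symm)⟩
  refine ⟨_, hc ⟨1, 0, 0, 0⟩ m hm, cm_Z.2 (by simp [h3.2]), fun e => h4 ⟨h3.1, h3.2, ?_⟩⟩
  simpa [h3.1, h3.2, h2] using congrArg U4.c e

theorem ess_cases (h2 : (2 : K) ≠ 0) (hS : IsPGroup p (⊤ : Subgroup (U4 K)))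
    (hF : F.IsSaturated p) {N P : Subgroup (U4 K)} (hN : F.IsNormal N) (h0 : N ≠ ⊥)
    (hP : F.IsEssential p P) : P = A ∨ ∃ l, P = M l := by
  by_cases hA : P ≤ A
  · exact .inl (le_antisymm hA fun x hx => hP.mem_of_comm (mem_top x) fun y hy => comm_A (hA hy) hx)
  obtain ⟨x, hx, hxt⟩ := SetLike.not_le_iff_exists.1 hA
  have hZ : Z ≤ P := fun z hz => hP.mem_of_comm (mem_top z) fun y _ =>
    mul_inv_eq_iff_eq_mul.1 (fix_Z y hz)
  have hR := hP.isRadical hS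
  have ch : InvA (F.autGroup P) Z → ∀ s : U4 K, (∀ y ∈ P, s.t * y.a = y.t * s.a) → s ∈ P :=
    fun hI s hs => hR.mem_of_chain2 hS hP.isCentric hI (invA_bot _) bot_le bot_le
      (nrm fun y hy => hZ (cm_Z.2 (hs y hy))) (fun y hy => cm_Z.2 (hs y hy))
      fun y hy => by simp [fix_Z s hy]
  by_cases hy : ∃ y ∈ P, y.t = 0 ∧ y ∉ Z
  · obtain ⟨y, hy, h3, h4⟩ := hy
    have hI := inv_Z h2 (F.autGroup P) hZ hx hy hxt h3 h4
    have hZ2 : Z2 ≤ P := fun s hs => ch hI s fun y _ => by simp [hs.1, hs.2]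
    by_cases h5 : ∀ y ∈ P, x.t * y.a = y.t * x.a
    · refine .inr ⟨x.a / x.t, ?_⟩
      have h6 : P ≤ M (x.a / x.t) := fun y hy => mem_M.2 (by
        rw [mem_A] at hxt; field_simp; linear_combination h5 y hy)
      exact le_antisymm h6 fun s hs => ch hI s fun y hy => by rw [mem_M.1 hs, mem_M.1 (h6 hy)]; ring
    push Not at h5
    obtain ⟨y, hy, h5⟩ := h5
    obtain ⟨s, hs, hsP⟩ := SetLike.exists_of_lt (hF.lt_of_isEssential hS hP)
    exact absurd (hR.mem_of_chain3 hS hP.isCentric (inv_Z2 hI hZ2 hx hy h5) hI (invA_bot _)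
      (fun z hz => ⟨hz.1, hz.2.1⟩) bot_le bot_le (nrm fun y _ => hZ2 (cm_Z2 s y))
      (fun y _ => cm_Z2 s y) (fun y hy => cm_Z.2 (by simp [hy.1, hy.2]))
      fun y hy => by simp [fix_Z s hy]) hsP
  exfalso
  push Not at hy
  have hNP := hN.le_of_essential hS hP
  have hNZ : N ≤ Z := fun n hn => hy n (hNP hn) (by
    simpa using (cm_Z.1 (hy _ (hNP (N.mul_mem (N.inv_mem hn) (hN.stronglyClosed.conj_mem
      (mem_top ⟨0, 1, 0, 0⟩) hn))) (by simp))).symm)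
  have hnot : ¬ InvA (F.autGroup P) Z := fun hI =>
    one_ne_zero (hy _ (ch hI ⟨0, 0, 1, 0⟩ (by simp)) rfl).2.2
  obtain ⟨γ, hγ, z, hz, hw⟩ : ∃ γ ∈ F.autGroup P, ∃ z ∈ Z, totA γ z ∉ Z := by
    by_contra hh
    push Not at hh
    exact hnot ⟨hZ, hh⟩
  obtain ⟨d, hd, hdZ, hd1⟩ := exists_Z h2 hN h0
  have hwP := totA_mem γ (hZ hz)
  have hwt : (totA γ z).t ≠ 0 := fun e => hw (hy _ hwP e)
  refine hd1 (cycF hS (hP.fullyAutomized hF hS) hγ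
    (s := ⟨0, 0, -d.c / (2 * (totA γ z).t), 0⟩) (nrm fun y _ => hZ (cm_Z.2 (by simp))) hwP
    (hNP hd) ?_ (fix_Z _ hdZ) (pow_Z hdZ) (fun u _ => ?_) fun u _ => fix_Z u (hNZ
      (hN.stronglyClosed.mem (mor_totA le_top (Subgroup.inv_mem _ hγ)) (hNP hd) hd)))
  · ext <;> simp [hdZ.1, hdZ.2.1, hdZ.2.2]
    field_simp
  · rw [totA_inv_totA _ (hZ hz), fix_Z u hz]

theorem fr_M (h2 : (2 : K) ≠ 0) (hS : IsPGroup p (⊤ : Subgroup (U4 K)))
    (hF : F.IsSaturated p) {l : K} (hP : F.IsEssential p (M l)) :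
    Fr F p (M l) fun x => (x.t, x.b - l * x.t ^ 2 / 2) := by
  have hZ : ∀ x ∈ M l, (x.t, x.b - l * x.t ^ 2 / 2) = 0 ↔ x ∈ Z := fun x hx => by
    rw [mem_M] at hx
    rw [mem_Z, Prod.mk_eq_zero]
    refine ⟨fun h => ⟨h.1, by simp [hx, h.1], by simpa [h.1] using h.2⟩, fun h => by simp [h]⟩
  have hI := inv_Z h2 (F.autGroup (M l)) (x := ⟨1, l, 0, 0⟩) (y := ⟨0, 0, 1, 0⟩)
    (fun z hz => mem_M.2 (by simp [hz.1, hz.2.1])) (by simp [mem_M]) (by simp [mem_M]) (by simp) rfl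
    (by simp [mem_Z])
  have key : ∀ s : U4 K, ∀ x ∈ M l, (s * x * s⁻¹).b = x.b + (l * s.t - s.a) * x.t :=
    fun s x hx => by simp [mem_M.1 hx]; ring
  refine ⟨hF, hS, hP, fun s _ => (nrm fun x hx => mem_M.2 (by simp)).2, fun x hx y hy => ?_,
    fun v => ⟨⟨v.1, l * v.1, v.2 + l * v.1 ^ 2 / 2, 0⟩, by simp [mem_M], by simp⟩,
    fun α hα x hx e => (hZ _ (totA_mem α hx)).2 (hI.mem hα ((hZ x hx).1 e)),
    fun s _ x hx e => fix_Z s ((hZ x hx).1 e), fun s _ => ⟨l * s.t - s.a, fun x hx => ?_⟩,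
    fun σ => ⟨⟨0, -σ, 0, 0⟩, mem_top _, fun x hx => ?_⟩⟩
  · ext <;> simp [mem_M.1 hy]
    field_simp; ring
  · rw [key s x hx]; ext <;> simp; ring
  · rw [key _ x hx]; ext <;> simp; ring

theorem torus_M (h2 : (2 : K) ≠ 0) (hS : IsPGroup p (⊤ : Subgroup (U4 K)))
    (hF : F.IsSaturated p) {l : K} (hP : F.IsEssential p (M l)) {m : K} (hm : m ≠ 0) :
    ∃ τ, F.Iso ⊤ ⊤ τ ∧ (∀ x ∈ Z, τ x = x) ∧ (∀ x ∈ Z2, τ x ∈ Z2 ∧ (τ x).b = m * x.b) ∧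
      (∀ x, m * (τ x).t = x.t) ∧ ∀ x, l * (τ x).t - (τ x).a = m ^ 2 * (l * x.t - x.a) := by
  obtain ⟨τ, hτ, h1, h3, h4, h5⟩ := (fr_M h2 hS hF hP).torus hm
  have hc : ∀ s x, τ (x⁻¹ * (s * x * s⁻¹)) = (τ x)⁻¹ * (τ s * τ x * (τ s)⁻¹) := fun s x => by
    rw [hτ.mor.map_mul (mem_top _) (mem_top _), hτ.mor.map_inv (mem_top _),
      hτ.mor.map_conj (mem_top _) (mem_top _)]
  have a1 : ∀ x ∈ Z, τ x = x := fun x hx =>
    h3 x (by simp [mem_M, hx.1, hx.2.1]) (by simp [hx.1, hx.2.2])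
  have a2 : ∀ x ∈ Z2, τ x ∈ Z2 ∧ (τ x).b = m * x.b := fun x hx => by
    have hM : x ∈ M l := by simp [mem_M, hx.1, hx.2]
    have := h4 x hM hx.1
    simp only [Prod.mk.injEq, hx.1] at this
    exact ⟨⟨this.1, by simpa [this.1] using mem_M.1 (h1 x hM)⟩, by simpa [this.1] using this.2⟩
  refine ⟨τ, hτ, a1, a2, fun s => ?_, fun s => ?_⟩
  · obtain ⟨⟨e1, e2⟩, e3⟩ := a2 ⟨0, 0, 1, 0⟩ ⟨rfl, rfl⟩
    have := congrArg U4.c ((hc s ⟨0, 0, 1, 0⟩).symm.trans (a1 _ (cm_Z.2 (by simp))))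
    simp [e1, e2, e3] at this
    exact mul_left_cancel₀ h2 (by linear_combination this)
  · have hx : (⟨1, l, 0, 0⟩ : U4 K) ∈ M l := by simp [mem_M]
    have e1 := h5 _ hx
    have e2 := mem_M.1 (h1 _ hx)
    have e3 := (a2 _ (cm_Z2 s ⟨1, l, 0, 0⟩)).2
    rw [hc] at e3
    simp only [mul_one] at e1
    simp [e1, e2] at e3
    field_simp at e3
    exact mul_left_cancel₀ hm (by linear_combination e3)

theorem agree (h2 : (2 : K) ≠ 0) (hS : IsPGroup p (⊤ : Subgroup (U4 K))) (hF : F.IsSaturated p)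
    {τ τ' : U4 K → U4 K} (hτ : F.Iso ⊤ ⊤ τ) (hτ' : F.Iso ⊤ ⊤ τ') (e1 : ∀ x, (τ x).t = (τ' x).t)
    (e2 : ∀ x, x.t = 0 → (τ x).t = 0 ∧ (τ x).a = x.a)
    (e3 : ∀ x, x.t = 0 → (τ' x).a = x.a) (x : U4 K) : (τ x).a = (τ' x).a := by
  have hI := inv_Z2 (inv_Z h2 (F.autGroup ⊤) (x := ⟨1, 0, 0, 0⟩) (y := ⟨0, 0, 1, 0⟩) le_top
    (mem_top _) (mem_top _) (by simp) rfl (by simp [mem_Z])) (x := ⟨1, 0, 0, 0⟩) (y := ⟨0, 1, 0, 0⟩)
    le_top (mem_top _) (mem_top _) (by simp)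
  obtain ⟨a, ha⟩ := exists_action (F.autGroup ⊤) (fun x : U4 K => (x.t, x.a)) (fun _ _ _ _ => rfl)
    (fun v => ⟨⟨v.1, v.2, 0, 0⟩, mem_top _, rfl⟩) fun α hα x _ e =>
      Prod.mk_eq_zero.2 (hI.mem hα (Prod.mk_eq_zero.1 e))
  let α : F.autGroup ⊤ := ⟨hτ.aut, hτ.aut_mem⟩
  let β : F.autGroup ⊤ := ⟨hτ'.aut, hτ'.aut_mem⟩
  have hα : ∀ x : U4 K, α • (x.t, x.a) = ((τ x).t, (τ x).a) := fun x => by
    rw [ha α x (mem_top _), hτ.totA_aut (mem_top _)]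
  have hβ : ∀ x : U4 K, β • (x.t, x.a) = ((τ' x).t, (τ' x).a) := fun x => by
    rw [ha β x (mem_top _), hτ'.totA_aut (mem_top _)]
  have f1 : ∀ e : K, α • ((0 : K), e) = (0, e) := fun e =>
    (hα ⟨0, e, 0, 0⟩).trans (Prod.ext (e2 _ rfl).1 (e2 _ rfl).2)
  have f2 : ∀ e : K, β • ((0 : K), e) = (0, e) := fun e =>
    (hβ ⟨0, e, 0, 0⟩).trans (Prod.ext ((e1 _).symm.trans (e2 _ rfl).1) (e3 _ rfl))
  have f3 : ∀ u ∈ (Inn (⊤ : Subgroup (U4 K))).subgroupOf (F.autGroup ⊤), ∀ v : K × K, u • v = v := fun u hu v => by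
    obtain ⟨g, -, e⟩ := mem_inn_iff.1 (mem_subgroupOf.1 hu)
    rw [show v = ((⟨v.1, v.2, 0, 0⟩ : U4 K).t, (⟨v.1, v.2, 0, 0⟩ : U4 K).a) from rfl,
      ha u _ (mem_top _), totA_apply _ (mem_top _), e]
    simp
  have := cyc_add Fact.out (P := (Inn (⊤ : Subgroup (U4 K))).subgroupOf (F.autGroup ⊤))
    (hF.not_dvd_relIndex_inn hS)
    (g := β⁻¹ * α) (γ := 1) (w := (x.t, x.a)) (x := ((0 : K), (τ x).a - (τ' x).a))
    (fun u hu => f3 u hu _) (fun u hu => f3 u hu _)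
    (by rw [mul_smul, inv_smul_eq_iff, smul_add, hα, hβ, f2, e1]; simp)
    (by rw [mul_smul, f1, inv_smul_eq_iff, f2]) (by simp)
  simpa [sub_eq_zero] using this

theorem not_both (h2 : (2 : K) ≠ 0) (hS : IsPGroup p (⊤ : Subgroup (U4 K)))
    (hF : F.IsSaturated p) {N : Subgroup (U4 K)} (hN : F.IsNormal N) (h0 : N ≠ ⊥) {l : K}
    (hP : F.IsEssential p (M l)) (hA : F.IsEssential p A) : False := by
  have hNM := hN.le_of_essential hS hP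
  have hNA := hN.le_of_essential hS hA
  have hfr := fr_M h2 hS hF hP
  have hNZ : N ≤ Z := fun n hn => by
    have h1 : n.t = 0 := hNA hn
    refine ⟨h1, by simpa [h1] using mem_M.1 (hNM hn), by_contra fun hb => ?_⟩
    obtain ⟨γ, hγ, h3⟩ := hfr.mover
    exact h3 (hfr.ti hγ (hNM hn) h1 (by simpa [h1] using hb)
      (hNA (hN.stronglyClosed.mem (mor_totA le_top hγ) (hNM hn) hn)))
  obtain ⟨d, hd, hdZ, hd1⟩ := exists_Z h2 hN h0
  obtain ⟨a, ha⟩ := exists_action (F.autGroup A) (fun x : U4 K => (x.a, x.b, x.c))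
    (fun x hx y _ => by simp [mem_A.1 hx]) (fun v => ⟨⟨0, v.1, v.2.1, v.2.2⟩, rfl, rfl⟩)
    fun α hα x hx e => by
      rw [show x = 1 by ext <;> simp_all [mem_A], (mulOn_totA α).map_one]; rfl
  have ha' : ∀ (α : F.autGroup A) (a b c : K), α • (a, b, c) = ((totA α.1 ⟨0, a, b, c⟩).a,
      (totA α.1 ⟨0, a, b, c⟩).b, (totA α.1 ⟨0, a, b, c⟩).c) := fun α a b c => ha α ⟨0, a, b, c⟩ rfl
  have hn : ∀ s : U4 K, s ∈ normalizerIn ⊤ A := fun s => nrm fun x _ => (cm_Z2 s x).1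
  have hc : ∀ (s : U4 K) (a b c : K), (⟨cAut A s, F.cAut_mem_autGroup le_top (hn s)⟩ :
      F.autGroup A) • (a, b, c) = (a, b + s.t * a, c + 2 * s.t * b + s.t ^ 2 * a) :=
    fun s a b c => by
      rw [ha', totA_cAut (hn s).2 rfl]
      ext <;> simp <;> ring
  have hC : Cub K p ((autInducedBy ⊤ A).subgroupOf (F.autGroup A)) d.c :=
    ⟨h2, (isPGroup_autInducedBy hS A).comap_subtype, (hA.fullyAutomized hF hS).not_dvd hS,
      fun u hu => by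
        obtain ⟨s, -, e⟩ := mem_autInducedBy_iff_cAut.1 (mem_subgroupOf.1 hu)
        exact ⟨s.t, fun a b c => by rw [← hc]; congr 1; exact Subtype.ext e.symm⟩,
      fun σ => ⟨_, mem_subgroupOf.2 (cAut_mem_autInducedBy (hn ⟨σ, 0, 0, 0⟩)), hc ⟨σ, 0, 0, 0⟩⟩,
      fun g hg => Subtype.ext (eq_one_of_forall_totA fun x hx => by
        have := (ha g x hx).symm.trans (hg _)
        simp only [Prod.mk.injEq] at this
        exact U4.ext ((mem_A.1 (totA_mem _ hx)).trans (mem_A.1 hx).symm) this.1 this.2.1 this.2.2),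
      fun e => hd1 (U4.ext hdZ.1 hdZ.2.1 hdZ.2.2 e), fun γ => by
        have h1 := hNZ (hN.stronglyClosed.mem (mor_totA le_top γ.2) (hNA hd) hd)
        have h3 := ha γ d (hNA hd)
        simp only [hdZ.2.1, hdZ.2.2, h1.2.1, h1.2.2] at h3
        exact ⟨_, h3⟩⟩
  have hm := hC.main fun m hm => by
    obtain ⟨τ, hτ, h1, h3, h4, h5⟩ := torus_M h2 hS hF hP hm
    have h6 : ∀ x ∈ A, τ x ∈ A := fun x hx =>
      (mul_eq_zero.1 ((h4 x).trans (mem_A.1 hx))).resolve_left hm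
    obtain ⟨α, hα, e⟩ := restr hτ le_top h6
    refine ⟨⟨α, hα⟩, fun c => ?_, fun b c => ⟨(τ ⟨0, 0, b, c⟩).c, ?_⟩, fun v => ?_⟩
    · rw [ha', e _ rfl, h1 _ ⟨rfl, rfl, rfl⟩]
    · rw [ha', e _ rfl, (h3 _ ⟨rfl, rfl⟩).1.2, (h3 _ ⟨rfl, rfl⟩).2]
    · rw [← Prod.mk.eta (p := v), ← Prod.mk.eta (p := v.2), ha', e _ rfl]
      simpa [mem_A.1 (h6 ⟨0, v.1, v.2.1, v.2.2⟩ rfl)] using h5 ⟨0, v.1, v.2.1, v.2.2⟩
  obtain ⟨s, hs, hsP⟩ := SetLike.exists_of_lt (hF.lt_of_isEssential hS hA)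
  refine hsP ((hA.isRadical hS).mem_of_chain3 hS hA.isCentric (X := Z2) (Y := Z)
    ⟨fun _ hx => hx.1, fun α hα x hx => ⟨totA_mem α hx.1, ?_⟩⟩
    ⟨fun _ hx => hx.1, fun α hα x hx => ⟨totA_mem α hx.1, ?_⟩⟩ (invA_bot _)
    (fun z hz => ⟨hz.1, hz.2.1⟩) bot_le bot_le (hn s) (fun y _ => cm_Z2 s y)
    (fun y hy => cm_Z.2 (by simp [hy.1, hy.2])) fun y hy => by simp [fix_Z s hy])
  · have := hm ⟨α, hα⟩ x.b x.c
    rwa [← hx.2, ha _ x hx.1, hx.2] at this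
  · obtain ⟨c, hc⟩ := hC.step' (hm ⟨α, hα⟩ 0 x.c)
    have := ha ⟨α, hα⟩ x hx.1
    simp only [hx.2.1, hx.2.2, hc, Prod.mk.injEq] at this
    exact ⟨this.1.symm, this.2.1.symm⟩

/-- In odd characteristic a system with a nontrivial normal subgroup is constrained. -/
theorem constrained (h2 : (2 : K) ≠ 0) (hS : IsPGroup p (⊤ : Subgroup (U4 K)))
    (hF : F.IsSaturated p) (h0 : F.core ≠ ⊥) : F.IsConstrained p := by
  have hN := F.isNormal_core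
  refine con_of_subsingleton hF hS fun P Q hP hQ => ?_
  obtain rfl | ⟨l, rfl⟩ := ess_cases h2 hS hF hN h0 hP <;>
    obtain rfl | ⟨l', rfl⟩ := ess_cases h2 hS hF hN h0 hQ
  · rfl
  · exact (not_both h2 hS hF hN h0 hQ hP).elim
  · exact (not_both h2 hS hF hN h0 hP hQ).elim
  obtain ⟨τ, hτ, -, -, h1, h3⟩ := torus_M h2 hS hF hP (neg_ne_zero.2 one_ne_zero)
  obtain ⟨τ', hτ', -, -, h1', h3'⟩ := torus_M h2 hS hF hQ (neg_ne_zero.2 one_ne_zero)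
  have := agree h2 hS hF hτ hτ' (fun x => by linear_combination h1' x - h1 x)
    (fun x hx => ⟨by linear_combination -h1 x - hx,
      by linear_combination -h3 x - l * h1 x - 2 * l * hx⟩)
    (fun x hx => by linear_combination -h3' x - l' * h1' x - 2 * l' * hx) ⟨1, 0, 0, 0⟩
  rw [show l = l' from mul_left_cancel₀ h2 (by
    linear_combination (exp := 1) -h3 ⟨1, 0, 0, 0⟩ + h3' ⟨1, 0, 0, 0⟩ - l * h1 ⟨1, 0, 0, 0⟩ +
      l' * h1' ⟨1, 0, 0, 0⟩ - this)]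

end U4

end Cfsg.Agent.Fus.SU
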