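import Mathlib
import Cfsg.Agent.Fus.SpOdd

/-! Fusion systems on the unipotent group of `Sp₄(K)` in characteristic two: the essential
subgroups and the common normal subgroup. -/

set_option autoImplicit false
set_option linter.unusedSectionVars false

namespace Cfsg.Agent.Fus.SU

open Subgroup Cfsg.FusionSystem

section Line
variable {Γ K : Type*} [Group Γ] [Finite Γ] [Field K] [Finite K] {p : ℕ} [Fact p.Prime] [CharP K p]
  {U : Subgroup Γ} [DistribMulAction Γ (K × K × K)]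

/-- `u` translates the vectors of height `τ` by `x`. -/
def Sh (u : Γ) (τ : K) (x : K × K) : Prop :=
  (∀ y : K × K, u • ((0 : K), y) = (0, y)) ∧ ∀ y : K × K, u • (τ, y) = (τ, y + x)

/-- The translations of each height form a line, and these lines cover all but two lines. -/
structure Ln (K : Type*) [Field K] [DistribMulAction Γ (K × K × K)] (p : ℕ) (U : Subgroup Γ) :
    Prop where
  idx : ¬ p ∣ U.index
  fix : ∀ u ∈ U, ∀ y : K × K, u • ((0 : K), y) = (0, y)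
  cov : ∀ x : K × K, x.1 ≠ 0 → x.2 ≠ 0 → ∃ τ : K, τ ≠ 0 ∧ ∃ u : Γ, Sh u τ x
  lam : ∀ τ : K, τ ≠ 0 → ∃ l : K × K →+ K, ∀ x, l x = 0 → ∃ u : Γ, Sh u τ x

variable (K) in
/-- The height of the image of a vector of height zero. -/
def ht (γ : Γ) : K × K →+ K :=
  (AddMonoidHom.fst _ _).comp ((DistribSMul.toAddMonoidHom _ γ).comp (AddMonoidHom.inr K _))

theorem ht_apply (γ : Γ) (x : K × K) : ht K γ x = (γ • ((0 : K), x)).1 := rfl

theorem ht_eq {γ : Γ} {x : K × K} (h : ht K γ x = 0) :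
    ((0 : K), (γ • ((0 : K), x)).2) = γ • ((0 : K), x) := Prod.ext h.symm rfl

theorem card_ht (γ : Γ) :
    Nat.card (ht K γ).ker * Nat.card (ht K γ).range = Nat.card K * Nat.card K := by
  rw [← Nat.card_prod K K, ← (ht K γ).ker.card_mul_index, AddSubgroup.index_ker]

theorem Ln.cases (h : Ln K p U) {γ : Γ} (hγ : ∃ x : K × K, ht K γ x ≠ 0) {x : K × K}
    (hx : ht K γ x = 0) : x.1 = 0 ∨ x.2 = 0 := by
  have key : ∀ y x : K × K, ht K γ x = 0 → ∀ u : Γ, Sh u (ht K γ⁻¹ y) x → x = 0 :=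
    fun y x hx u hu => by
    have := cyc_add Fact.out h.idx (γ := γ⁻¹) (g := u) (w := γ⁻¹ • ((0 : K), y))
      (x := ((0 : K), x)) (fun u hu => by rw [inv_smul_smul, h.fix u hu]) (fun u hu => by
        rw [inv_inv, ← ht_eq hx, h.fix u hu])
      ((hu.2 _).trans (Prod.ext (add_zero _).symm rfl)) (hu.1 x) (by ext <;> simp)
    exact congrArg Prod.snd this
  have hc : Nat.card (ht K γ⁻¹).ker ≤ Nat.card (ht K γ).ker :=
    Nat.card_le_card_of_injective (fun y => ⟨(γ⁻¹ • ((0 : K), y.1)).2, by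
      rw [AddMonoidHom.mem_ker, ht_apply, ht_eq y.2, smul_inv_smul]⟩) fun y z e => Subtype.ext (by
      have := (ht_eq y.2).symm.trans ((congrArg (Prod.mk 0) (congrArg Subtype.val e)).trans
        (ht_eq z.2))
      simpa using this)
  have hq := Nat.card_pos (α := K)
  obtain ⟨y, hy⟩ : ∃ y : K × K, ht K γ⁻¹ y ≠ 0 := by
    by_contra hh
    push Not at hh
    obtain ⟨z, hz⟩ := hγ
    rw [((ht K γ⁻¹).ker.eq_top_iff').2 hh, AddSubgroup.card_top] at hc
    exact hz (AddSubgroup.eq_top_of_le_card _ hc ▸ AddSubgroup.mem_top z : z ∈ (ht K γ).ker)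
  obtain ⟨l, hl⟩ := h.lam _ hy
  have h1 : Nat.card (ht K γ).ker ≤ Nat.card K :=
    Nat.card_le_card_of_injective (l.comp (ht K γ).ker.subtype) ((injective_iff_map_eq_zero _).2
      fun z hz => Subtype.ext ((hl _ hz).elim (key y _ z.2)))
  have h2 : (ht K γ⁻¹).range = ⊤ := AddSubgroup.eq_top_of_le_card _
    (Nat.le_of_mul_le_mul_left ((card_ht γ⁻¹).ge.trans (Nat.mul_le_mul_right _ (hc.trans h1))) hq)
  by_contra hh
  push Not at hh
  obtain ⟨τ, -, u, hu⟩ := h.cov x hh.1 hh.2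
  obtain ⟨z, rfl⟩ : τ ∈ (ht K γ⁻¹).range := h2 ▸ AddSubgroup.mem_top τ
  exact hh.1 (by rw [key z x hx u hu]; rfl)

theorem Ln.inv (h : Ln K p U) (hγ : ∃ γ : Γ, ∃ x : K × K, ht K γ x ≠ 0) {d : K} (hd : d ≠ 0)
    (h0 : ∀ γ : Γ, ht K γ ((0 : K), d) = 0) (γ : Γ) (c : K) :
    ∃ c', γ • ((0 : K), (0 : K), c) = (0, 0, c') := by
  have h1 : ∀ γ : Γ, (∃ x : K × K, ht K γ x ≠ 0) → ∀ x : K × K, ht K γ x = 0 → x.1 = 0 :=
    fun γ hγ x hx => by
      rcases h.cases hγ hx with e | e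
      · exact e
      have := h.cases hγ (x := x + (0, d)) (by rw [map_add, hx, h0, add_zero])
      simpa [e, hd] using this
  have h2 : ∀ γ : Γ, ∀ c : K, ht K γ ((0 : K), c) = 0 := fun γ c => by
    by_contra hc
    have hi : Function.Injective fun x : (ht K γ).ker => x.1.2 := fun x y e =>
      Subtype.ext (Prod.ext ((h1 γ ⟨_, hc⟩ _ x.2).trans (h1 γ ⟨_, hc⟩ _ y.2).symm) e)
    obtain ⟨x, rfl⟩ := (hi.bijective_of_nat_card_le (Nat.le_of_mul_le_mul_right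
      ((card_ht γ).ge.trans (Nat.mul_le_mul_left _ (AddSubgroup.card_le_card_addGroup _)))
      Nat.card_pos)).2 c
    exact hc ((congrArg (ht K γ) (show ((0 : K), x.1.2) = x.1 from
      Prod.ext (h1 γ ⟨_, hc⟩ _ x.2).symm rfl)).trans x.2)
  obtain ⟨δ, hδ⟩ := hγ
  refine ⟨_, Prod.ext (h2 γ c) (Prod.ext (h1 δ hδ _ ?_) rfl)⟩
  rw [ht_apply, ht_eq (h2 γ c), ← mul_smul, ← ht_apply, h2]

end Line

/-- The unipotent group of `Sp₄(K)` in characteristic two (`σ` the Frobenius map or its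
inverse). -/
@[ext] structure U2 {K : Type*} [Field K] (σ : K ≃+* K) where
  t : K
  a : K
  b : K
  c : K

namespace U2
variable {K : Type*} [Field K] {σ : K ≃+* K}

instance : Mul (U2 σ) := ⟨fun x y => ⟨x.t + y.t, x.a + y.a, x.b + y.b + x.t * y.a,
  x.c + y.c + σ x.t * y.a⟩⟩
instance : One (U2 σ) := ⟨⟨0, 0, 0, 0⟩⟩
instance : Inv (U2 σ) := ⟨fun x => ⟨-x.t, -x.a, -x.b + x.t * x.a, -x.c + σ x.t * x.a⟩⟩

@[simp] theorem mul_t (x y : U2 σ) : (x * y).t = x.t + y.t := rfl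
@[simp] theorem mul_a (x y : U2 σ) : (x * y).a = x.a + y.a := rfl
@[simp] theorem mul_b (x y : U2 σ) : (x * y).b = x.b + y.b + x.t * y.a := rfl
@[simp] theorem mul_c (x y : U2 σ) : (x * y).c = x.c + y.c + σ x.t * y.a := rfl
@[simp] theorem one_t : (1 : U2 σ).t = 0 := rfl
@[simp] theorem one_a : (1 : U2 σ).a = 0 := rfl
@[simp] theorem one_b : (1 : U2 σ).b = 0 := rfl
@[simp] theorem one_c : (1 : U2 σ).c = 0 := rfl
@[simp] theorem inv_t (x : U2 σ) : x⁻¹.t = -x.t := rfl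
@[simp] theorem inv_a (x : U2 σ) : x⁻¹.a = -x.a := rfl
@[simp] theorem inv_b (x : U2 σ) : x⁻¹.b = -x.b + x.t * x.a := rfl
@[simp] theorem inv_c (x : U2 σ) : x⁻¹.c = -x.c + σ x.t * x.a := rfl

instance : Group (U2 σ) := Group.ofLeftAxioms (fun x y z => by ext <;> simp <;> ring)
  (fun x => by ext <;> simp) fun x => by ext <;> simp

/-- Coordinates. -/
def equivProd : U2 σ ≃ K × K × K × K :=
  ⟨fun x => (x.t, x.a, x.b, x.c), fun x => ⟨x.1, x.2.1, x.2.2.1, x.2.2.2⟩, fun _ => rfl,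
    fun _ => rfl⟩

instance [Finite K] : Finite (U2 σ) := Finite.of_equiv _ equivProd.symm

/-- The two coordinates of the Frattini quotient. -/
def co (i : Bool) (x : U2 σ) : K := cond i x.t x.a

@[simp] theorem co_true (x : U2 σ) : co true x = x.t := rfl
@[simp] theorem co_false (x : U2 σ) : co false x = x.a := rfl

/-- The two maximal elementary abelian subgroups. -/
def A (σ : K ≃+* K) (i : Bool) : Subgroup (U2 σ) where
  carrier := {x | co (!i) x = 0}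
  one_mem' := by cases i <;> rfl
  mul_mem' {x y} ha hb := by cases i <;> simp_all
  inv_mem' {x} ha := by cases i <;> simp_all

/-- The centre. -/
def Z (σ : K ≃+* K) : Subgroup (U2 σ) where
  carrier := {x | x.t = 0 ∧ x.a = 0}
  one_mem' := ⟨rfl, rfl⟩
  mul_mem' ha hb := by simp [ha.1, ha.2, hb.1, hb.2]
  inv_mem' ha := by simp [ha.1, ha.2]

/-- A root subgroup in the centre. -/
def C (σ : K ≃+* K) : Subgroup (U2 σ) where
  carrier := {x | x.t = 0 ∧ x.a = 0 ∧ x.b = 0}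
  one_mem' := ⟨rfl, rfl, rfl⟩
  mul_mem' ha hb := by simp [ha.1, ha.2.1, ha.2.2, hb.1, hb.2.1, hb.2.2]
  inv_mem' ha := by simp [ha.1, ha.2.1, ha.2.2]

theorem mem_A {i : Bool} {x : U2 σ} : x ∈ A σ i ↔ co (!i) x = 0 := Iff.rfl
theorem mem_Z {x : U2 σ} : x ∈ Z σ ↔ x.t = 0 ∧ x.a = 0 := Iff.rfl
theorem mem_C {x : U2 σ} : x ∈ C σ ↔ x.t = 0 ∧ x.a = 0 ∧ x.b = 0 := Iff.rfl

theorem mem_Z_iff (i : Bool) {x : U2 σ} : x ∈ Z σ ↔ x ∈ A σ i ∧ co i x = 0 := by
  cases i <;> simp [mem_Z, mem_A, and_comm]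

theorem Z_le (i : Bool) : Z σ ≤ A σ i := fun _ hx => ((mem_Z_iff i).1 hx).1

theorem cm_Z (s x : U2 σ) : x⁻¹ * (s * x * s⁻¹) ∈ Z σ := by simp [mem_Z]

theorem fix_Z (s : U2 σ) {x : U2 σ} (hx : x ∈ Z σ) : s * x * s⁻¹ = x := by
  ext <;> simp [hx.1, hx.2] <;> ring

theorem comm_A {i : Bool} {x y : U2 σ} (hx : x ∈ A σ i) (hy : y ∈ A σ i) : x * y = y * x := by
  cases i <;> ext <;> simp_all [mem_A, add_comm]

theorem A_ne (i : Bool) : ¬ A σ i ≤ A σ (!i) := fun h => by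
  cases i
  · exact one_ne_zero (h (show (⟨0, 1, 0, 0⟩ : U2 σ) ∈ A σ false from rfl))
  · exact one_ne_zero (h (show (⟨1, 0, 0, 0⟩ : U2 σ) ∈ A σ true from rfl))

/-- The element of `A i` with given coordinates. -/
def el (σ : K ≃+* K) (i : Bool) (v : K × K × K) : U2 σ :=
  ⟨cond i v.1 0, cond i 0 v.1, v.2.1, v.2.2⟩

theorem el_mem (i : Bool) (v : K × K × K) : el σ i v ∈ A σ i := by cases i <;> rfl

theorem co_el (i : Bool) (v : K × K × K) : co i (el σ i v) = v.1 := by cases i <;> rfl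

variable [Finite K] [CharP K 2] {F : FusionSystem (⊤ : Subgroup (U2 σ))}

theorem nrm {P : Subgroup (U2 σ)} (h : Z σ ≤ P) (s : U2 σ) : s ∈ normalizerIn ⊤ P :=
  ⟨mem_top s, mem_normalizer_fintype fun x hx => by simpa using P.mul_mem hx (h (cm_Z s x))⟩

theorem isPGroup : IsPGroup 2 (⊤ : Subgroup (U2 σ)) := fun x => ⟨2, Subtype.ext (by
  have h2 : (2 : K) = 0 := CharTwo.two_eq_zero
  rw [coe_pow, show 2 ^ 2 = 4 from rfl, pow_succ, pow_succ, pow_succ, pow_one]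
  ext <;> simp
  · linear_combination 2 * x.1.t * h2
  · linear_combination 2 * x.1.a * h2
  · linear_combination (2 * x.1.b + 3 * x.1.t * x.1.a) * h2
  · linear_combination (2 * x.1.c + 3 * σ x.1.t * x.1.a) * h2)⟩

theorem ess_cases (hF : F.IsSaturated 2) {P : Subgroup (U2 σ)} (hP : F.IsEssential 2 P) :
    ∃ i, P = A σ i := by
  have hZ : Z σ ≤ P := fun z hz => hP.mem_of_comm (mem_top z) fun y _ =>
    mul_inv_eq_iff_eq_mul.1 (fix_Z y hz)
  obtain ⟨γ, hγ, z, hz, hw⟩ : ∃ γ ∈ F.autGroup P, ∃ z ∈ Z σ, totA γ z ∉ Z σ := by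
    by_contra hh
    push Not at hh
    obtain ⟨s, -, hsP⟩ := SetLike.exists_of_lt (hF.lt_of_isEssential isPGroup hP)
    exact hsP ((hP.isRadical isPGroup).mem_of_chain2 isPGroup hP.isCentric ⟨hZ, hh⟩ (invA_bot _)
      bot_le bot_le (nrm hZ s) (fun y _ => cm_Z s y) fun y hy => by simp [fix_Z s hy])
  have h1 : totA γ z * totA γ z = 1 := by
    rw [← (mulOn_totA γ).map_mul (hZ hz) (hZ hz), show z * z = 1 by
      ext <;> simp [hz.1, hz.2, CharTwo.add_self_eq_zero], (mulOn_totA γ).map_one]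
  have h2 : ∀ y ∈ P, totA γ z * y = y * totA γ z := fun y hy => by
    have hy' := totA_mem γ⁻¹ hy
    rw [← totA_totA_inv γ hy, ← (mulOn_totA γ).map_mul (hZ hz) hy',
      ← (mulOn_totA γ).map_mul hy' (hZ hz), mul_inv_eq_iff_eq_mul.1 (fix_Z _ hz)]
  generalize totA γ z = w at hw h1 h2
  have h3 : w.t * w.a = 0 := by simpa [CharTwo.add_self_eq_zero] using congrArg U2.b h1
  have h4 : ∀ y ∈ P, w.t * y.a = y.t * w.a := fun y hy => by
    simpa [add_comm] using congrArg U2.b (h2 y hy)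
  have key : ∀ i, P ≤ A σ i → ∃ i, P = A σ i := fun i h => ⟨i, le_antisymm h fun x hx =>
    hP.mem_of_comm (mem_top x) fun y hy => comm_A (h hy) hx⟩
  by_cases ht : w.t = 0
  · exact key false fun y hy => (mul_eq_zero.1 ((h4 y hy).symm.trans (by simp [ht]))).resolve_right
      fun e => hw ⟨ht, e⟩
  · exact key true fun y hy => (mul_eq_zero.1 ((h4 y hy).trans (by
      simp [(mul_eq_zero.1 h3).resolve_left ht]))).resolve_left ht

/-- The map `t ↦ σ t / t` is injective. -/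
def Hs (σ : K ≃+* K) : Prop := ∀ t u : K, t ≠ 0 → u ≠ 0 → u * σ t = t * σ u → t = u

theorem Hs.symm (h : Hs σ) : Hs σ.symm := fun t u ht hu e => by
  have := h (σ.symm u) (σ.symm t) (by simpa using hu) (by simpa using ht) (by simpa [mul_comm] using e)
  simpa using this.symm

theorem Hs.surj (h : Hs σ) {r : K} (hr : r ≠ 0) : ∃ u, u ≠ 0 ∧ σ u = r * u := by
  let f : {u : K // u ≠ 0} → {u : K // u ≠ 0} := fun u =>
    ⟨σ u / u, div_ne_zero (by simpa using u.2) u.2⟩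
  obtain ⟨u, hu⟩ := (Finite.injective_iff_surjective (f := f)).1 (fun x y e => Subtype.ext
    (h _ _ x.2 y.2 (by
      have := (div_eq_div_iff x.2 y.2).1 (congrArg Subtype.val e)
      linear_combination this))) ⟨r, hr⟩
  exact ⟨u, u.2, (div_eq_iff u.2).1 (congrArg Subtype.val hu)⟩

theorem exists_ln (h : Hs σ) (hF : F.IsSaturated 2) {i : Bool} (hP : F.IsEssential 2 (A σ i)) :
    ∃ a : DistribMulAction (F.autGroup (A σ i)) (K × K × K),
      (∀ α : F.autGroup (A σ i), ∀ x ∈ A σ i, (letI := a; α • (co i x, x.b, x.c)) =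
        (co i (totA α.1 x), (totA α.1 x).b, (totA α.1 x).c)) ∧
      (letI := a; Ln K 2 ((autInducedBy ⊤ (A σ i)).subgroupOf (F.autGroup (A σ i))) ∧
        ∃ γ : F.autGroup (A σ i), ∃ x : K × K, ht K γ x ≠ 0) := by
  obtain ⟨a, ha⟩ := exists_action (F.autGroup (A σ i)) (fun x : U2 σ => (co i x, x.b, x.c))
    (fun x hx y hy => by cases i <;> simp_all [mem_A]) (fun v => ⟨_, el_mem i v, by
      rw [co_el]; rfl⟩) fun α hα x hx e => by
      rw [show x = 1 by cases i <;> ext <;> simp_all [mem_A], (mulOn_totA α).map_one]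
      cases i <;> rfl
  have hn := nrm (σ := σ) (Z_le i)
  let cA : U2 σ → F.autGroup (A σ i) := fun s => ⟨cAut _ s, F.cAut_mem_autGroup le_top (hn s)⟩
  have hc : ∀ (s : U2 σ) (τ : K) (y : K × K), cA s • (τ, y) =
      (τ, y + cond i (-(s.a * τ), -(s.a * σ τ)) (s.t * τ, σ s.t * τ)) := fun s τ y => by
    have := ha (cA s) _ (el_mem i (τ, y))
    rw [co_el, totA_cAut (hn s).2 (el_mem i _)] at this
    refine this.trans ?_
    cases i <;> ext <;> simp [el] <;> ring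
  have hs : ∀ (s : U2 σ) (τ : K) (x : K × K), cond i (-(s.a * τ), -(s.a * σ τ)) (s.t * τ, σ s.t * τ) = x →
      ∃ u : F.autGroup (A σ i), Sh u τ x := fun s τ x e =>
    ⟨cA s, fun y => by rw [hc]; cases i <;> simp, fun y => by rw [hc, e]⟩
  refine ⟨a, ha, ⟨(hP.fullyAutomized hF isPGroup).not_dvd isPGroup, fun u hu y => ?_,
    fun x h1 h2 => ?_, fun τ hτ => ?_⟩, ?_⟩
  · obtain ⟨s, -, e⟩ := mem_autInducedBy_iff_cAut.1 (mem_subgroupOf.1 hu)
    rw [show u = cA s from Subtype.ext e.symm, hc]; cases i <;> simp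
  · obtain ⟨u, hu, e⟩ := h.surj (div_ne_zero h2 h1)
    cases i
    · exact ⟨x.1 / u, div_ne_zero h1 hu, hs ⟨u, 0, 0, 0⟩ _ _ (by ext <;> simp [e] <;> field_simp)⟩
    · exact ⟨u, hu, hs ⟨0, -x.1 / u, 0, 0⟩ _ _ (by ext <;> simp [e] <;> field_simp)⟩
  · cases i
    · refine ⟨AddMonoidHom.mk' (fun x => σ (x.1 / τ) * τ - x.2) fun x y => by
        simp [add_div]; ring, fun x hx => hs ⟨x.1 / τ, 0, 0, 0⟩ _ _ ?_⟩
      exact Prod.ext (by simp [hτ]) (sub_eq_zero.1 hx)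
    · refine ⟨AddMonoidHom.mk' (fun x => x.1 / τ * σ τ - x.2) fun x y => by
        simp [add_div]; ring, fun x hx => hs ⟨0, -(x.1 / τ), 0, 0⟩ _ _ ?_⟩
      exact Prod.ext (by simp [hτ]) (by simpa using sub_eq_zero.1 hx)
  · by_contra hh
    push Not at hh
    obtain ⟨s, -, hsP⟩ := SetLike.exists_of_lt (hF.lt_of_isEssential isPGroup hP)
    refine hsP ((hP.isRadical isPGroup).mem_of_chain2 isPGroup hP.isCentric
      ⟨Z_le i, fun α hα x hx => (mem_Z_iff i).2 ⟨totA_mem α (Z_le i hx), ?_⟩⟩ (invA_bot _)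
      bot_le bot_le (hn s) (fun y _ => cm_Z s y) fun y hy => by simp [fix_Z s hy])
    have := hh ⟨α, hα⟩ (x.b, x.c)
    rwa [ht_apply, ← ((mem_Z_iff i).1 hx).2, ha _ x (Z_le i hx), ((mem_Z_iff i).1 hx).2] at this

theorem le_Z {N : Subgroup (U2 σ)} (hN : F.IsNormal N) (hP : ∀ i, F.IsEssential 2 (A σ i)) :
    N ≤ Z σ := fun _ hn => ⟨hN.le_of_essential isPGroup (hP false) hn,
      hN.le_of_essential isPGroup (hP true) hn⟩

theorem line_cases (h : Hs σ) (hF : F.IsSaturated 2) {N : Subgroup (U2 σ)} (hN : F.IsNormal N)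
    (hP : ∀ i, F.IsEssential 2 (A σ i)) {d : U2 σ} (hd : d ∈ N) : d.b = 0 ∨ d.c = 0 := by
  obtain ⟨a, ha, hL, γ, hγ⟩ := exists_ln h hF (hP true)
  have hZ := le_Z hN hP
  refine hL.cases hγ (x := (d.b, d.c)) ?_
  rw [ht_apply, ← (hZ hd).1]
  exact (congrArg Prod.fst (ha γ d (Z_le _ (hZ hd)))).trans ((hZ (hN.stronglyClosed.mem
    (mor_totA le_top γ.2) (Z_le _ (hZ hd)) hd)).1.trans (hZ hd).1.symm)

theorem pres (hF : F.IsSaturated 2) (hP : ∀ i, F.IsEssential 2 (A σ i)) {τ : U2 σ → U2 σ}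
    (hτ : F.Iso ⊤ ⊤ τ) (i : Bool) : ∀ x ∈ A σ i, τ x ∈ A σ i := by
  obtain ⟨β, hβ, ho, s, -, e⟩ := hF.exists_coprime_mul_inn isPGroup hτ.aut_mem
  have hb := iso_totA le_top hβ
  have h1 : ∀ i, ∃ j, img (totA β) (A σ i) = A σ j := fun i => ess_cases hF (ess_img (hP i) hb)
  have h2 : β ^ 2 ∈ stabA ⊤ (A σ i) := mem_stabA_of_maps le_top fun x hx => by
    obtain ⟨j, hj⟩ := h1 i
    obtain ⟨k, hk⟩ := h1 j
    rw [sq, totA_mul _ _ (mem_top x)]
    have h3 : totA β (totA β x) ∈ A σ k := hk ▸ mem_img_of_mem (hj ▸ mem_img_of_mem hx)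
    by_cases h4 : k = i
    · exact h4 ▸ h3
    obtain rfl | rfl : j = i ∨ j = !i := by cases i <;> cases j <;> simp
    · exact hj ▸ mem_img_of_mem (hj ▸ mem_img_of_mem hx)
    · obtain rfl : k = !i := by cases i <;> cases k <;> simp_all
      exact absurd ((hb.mor.img_le_img_iff le_top le_top).1 (hj.trans hk.symm).le) (A_ne i)
  have h3 : β ∈ stabA ⊤ (A σ i) := zpowers_le.2 h2 (mem_zpowers_pow_iff.2 ho.symm)
  intro x hx
  have hn : s ∈ normalizer ((⊤ : Subgroup (U2 σ)) : Set (U2 σ)) := le_normalizer (mem_top s)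
  rw [← hτ.totA_aut (mem_top x), e, totA_mul _ _ (mem_top x), h3 _ (mem_top _),
    totA_cAut hn (mem_top x)]
  exact conj_mem_of_mem_normalizerIn (nrm (Z_le i) s) hx

/-- Both elementary abelian subgroups are essential and the root subgroup is normal. -/
structure Gd (F : FusionSystem (⊤ : Subgroup (U2 σ))) : Prop where
  hs : Hs σ
  sat : F.IsSaturated 2
  ess : ∀ i, F.IsEssential 2 (A σ i)
  nor : F.IsNormal (C σ)

theorem gd_of (h : Hs σ) (hF : F.IsSaturated 2) {N : Subgroup (U2 σ)} (hN : F.IsNormal N)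
    (hP : ∀ i, F.IsEssential 2 (A σ i)) {d : U2 σ} (hd : d ∈ N) (hd1 : d ≠ 1) (hb : d.b = 0) :
    Gd F := by
  have hZ := le_Z hN hP
  have hC : ∀ i, C σ ≤ A σ i := fun i x hx => Z_le i ⟨hx.1, hx.2.1⟩
  have key : ∀ i, ∀ α ∈ F.autGroup (A σ i), ∀ x ∈ C σ, totA α x ∈ C σ := fun i α hα x hx => by
    obtain ⟨a, ha, hL, hγ⟩ := exists_ln h hF (hP i)
    obtain ⟨c, hc⟩ := hL.inv hγ (d := d.c) (fun e => hd1 (U2.ext (hZ hd).1 (hZ hd).2 hb e))
      (fun γ => by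
        have := ha γ d (Z_le _ (hZ hd))
        rw [((mem_Z_iff i).1 (hZ hd)).2, hb] at this
        rw [ht_apply, this]
        exact ((mem_Z_iff i).1 (hZ (hN.stronglyClosed.mem (mor_totA le_top γ.2)
          (Z_le _ (hZ hd)) hd))).2) ⟨α, hα⟩ x.c
    have := ha ⟨α, hα⟩ x (hC i hx)
    rw [((mem_Z_iff i).1 ⟨hx.1, hx.2.1⟩).2, hx.2.2, hc, Prod.mk.injEq, Prod.mk.injEq] at this
    have h1 := (mem_Z_iff i).2 ⟨totA_mem α (hC i hx), this.1.symm⟩
    exact ⟨h1.1, h1.2, this.2.1.symm⟩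
  refine ⟨h, hF, hP, hF.isNormal_of_alperin isPGroup ?_⟩
  rintro R (rfl | hR)
  · refine ⟨le_top, fun g hg x hx => ?_⟩
    obtain ⟨α, hα, e⟩ := restr hg le_top (pres hF hP hg true)
    exact e x (hC _ hx) ▸ key _ α hα x hx
  · obtain ⟨i, rfl⟩ := ess_cases hF hR
    exact ⟨hC i, fun g hg x hx => hg.totA_aut (hC i hx) ▸ key _ _ hg.aut_mem x hx⟩

end U2

end Cfsg.Agent.Fus.SU
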