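import Mathlib
import Cfsg.Agent.Fus.SpTwoA

/-! Fusion systems on the unipotent group of `Sp₄(K)` in characteristic two: the field has at
most four elements, normal form and uniqueness. -/

set_option autoImplicit false
set_option linter.unusedSectionVars false

namespace Cfsg.Agent.Fus.SU

open Subgroup Cfsg.FusionSystem

theorem sq_scalar {K : Type*} [Field K] [Finite K] [CharP K 2] (h4 : ∀ m : K, m ^ 4 = m)
    (X : K →+ K) (hs : Function.Surjective X) : ∃ x, ∀ t, X (X t) = x * t := by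
  have hX := (injective_iff_map_eq_zero X).1 (Finite.injective_iff_surjective.2 hs)
  have h2 : (2 : K) = 0 := CharTwo.two_eq_zero
  by_cases h : ∀ t : K, t = 0 ∨ t = 1
  · exact ⟨X (X 1), fun t => by rcases h t with rfl | rfl <;> simp⟩
  push Not at h
  obtain ⟨w, h0, h1⟩ := h
  have hw : w ^ 2 + w + 1 = 0 := mul_left_cancel₀ (mul_ne_zero h0 (sub_ne_zero.2 h1))
    (by linear_combination h4 w)
  obtain ⟨u, v, e⟩ : ∃ u v : K, ∀ t, X t = u * t + v * t ^ 2 := by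
    refine ⟨X 1 + (X w + w * X 1), X w + w * X 1, fun t => ?_⟩
    have : t * (t + 1) * (t + w) * (t + (w + 1)) = 0 := by
      linear_combination h4 t + (t ^ 2 + t) * hw + (t ^ 3 * w + t ^ 3 + t ^ 2 * w) * h2
    simp only [mul_eq_zero, add_eq_zero_iff_eq_neg, CharTwo.neg_eq] at this
    rcases this with ((rfl | rfl) | rfl) | rfl
    · simp
    · linear_combination -(X w + w * X 1) * h2
    · linear_combination -(X t + t * X 1) * hw + X t * h2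
    · rw [map_add]
      linear_combination -(X w + w * X 1) * hw - (w * X w + w ^ 2 * X 1 + w * X 1) * h2
  by_cases hv : v = 0
  · exact ⟨u * u, fun t => by rw [e, e, hv]; ring⟩
  have hu : u = 0 := by
    have := hX (u / v) (by rw [e]; field_simp; linear_combination u ^ 2 * h2)
    simpa [hv] using this
  exact ⟨v ^ 3, fun t => by rw [e, e, hu]; linear_combination v ^ 3 * h4 t⟩

namespace U2
variable {K : Type*} [Field K] {σ : K ≃+* K} [Finite K] [CharP K 2]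
  {F F' : FusionSystem (⊤ : Subgroup (U2 σ))} {τ τ' : U2 σ → U2 σ}

theorem mem_C_iff (i : Bool) {x : U2 σ} (hx : x ∈ A σ i) : x ∈ C σ ↔ (co i x, x.b) = 0 := by
  cases i <;> simp_all [mem_C, mem_A]

theorem Gd.fr (h : Gd F) (i : Bool) : Fr F 2 (A σ i) fun x => (co i x, x.b) := by
  have key : ∀ s : U2 σ, ∀ x ∈ A σ i, (co i (s * x * s⁻¹), (s * x * s⁻¹).b) =
      (co i x, x.b + cond i (-s.a) s.t * co i x) := fun s x hx => by
    cases i <;> ext <;> simp_all [mem_A] <;> ring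
  refine ⟨h.sat, isPGroup, h.ess i, fun s _ => (nrm (Z_le i) s).2,
    fun x hx y hy => by cases i <;> simp_all [mem_A],
    fun v => ⟨_, el_mem i (v.1, v.2, 0), by rw [co_el]; rfl⟩,
    fun α hα x hx e => (mem_C_iff i (totA_mem α hx)).1 (h.nor.stronglyClosed.mem
      (mor_totA le_top hα) hx ((mem_C_iff i hx).2 e)),
    fun s _ x hx e => fix_Z s ((mem_Z_iff i).2 ⟨hx, congrArg Prod.fst e⟩),
    fun s _ => ⟨_, key s⟩, fun u => ⟨⟨u, -u, 0, 0⟩, mem_top _, fun x hx => ?_⟩⟩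
  rw [key _ x hx]; cases i <;> simp

theorem map_mul' (hτ : F.Iso ⊤ ⊤ τ) (x y : U2 σ) : τ (x * y) = τ x * τ y :=
  hτ.mor.map_mul (mem_top _) (mem_top _)

theorem Gd.coT (h : Gd F) (hτ : F.Iso ⊤ ⊤ τ) (s : U2 σ) :
    (τ s).t = (τ ⟨s.t, 0, 0, 0⟩).t ∧ (τ s).a = (τ ⟨0, s.a, 0, 0⟩).a := by
  have h1 := pres h.sat h.ess hτ true
  have h2 := pres h.sat h.ess hτ false
  have e : s = ⟨0, s.a, 0, 0⟩ * (⟨0, 0, s.b, s.c⟩ * ⟨s.t, 0, 0, 0⟩) := by ext <;> simp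
  have e1 : (τ ⟨0, s.a, 0, 0⟩).t = 0 := h2 _ rfl
  have e2 : (τ ⟨0, 0, s.b, s.c⟩).t = 0 := h2 _ rfl
  have e3 : (τ ⟨0, 0, s.b, s.c⟩).a = 0 := h1 _ rfl
  have e4 : (τ ⟨s.t, 0, 0, 0⟩).a = 0 := h1 _ rfl
  constructor <;> conv_lhs => rw [e, map_mul' hτ, map_mul' hτ]
  · simp [e1, e2]
  · simp [e3, e4]

theorem Gd.comm (h : Gd F) (hτ : F.Iso ⊤ ⊤ τ) (t a : K) : τ ⟨0, 0, t * a, σ t * a⟩ =
    ⟨0, 0, (τ ⟨t, 0, 0, 0⟩).t * (τ ⟨0, a, 0, 0⟩).a, σ (τ ⟨t, 0, 0, 0⟩).t * (τ ⟨0, a, 0, 0⟩).a⟩ := by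
  have e1 : (τ ⟨0, a, 0, 0⟩).t = 0 := pres h.sat h.ess hτ false _ rfl
  have e4 : (τ ⟨t, 0, 0, 0⟩).a = 0 := pres h.sat h.ess hτ true _ rfl
  rw [show (⟨0, 0, t * a, σ t * a⟩ : U2 σ) = (⟨0, a, 0, 0⟩ : U2 σ)⁻¹ *
    (⟨t, 0, 0, 0⟩ * ⟨0, a, 0, 0⟩ * (⟨t, 0, 0, 0⟩ : U2 σ)⁻¹) by ext <;> simp, map_mul' hτ,
    hτ.mor.map_inv (mem_top _), hτ.mor.map_conj (mem_top _) (mem_top _)]
  ext <;> simp [e1, e4] <;> ring

/-- `τ` acts on the Frattini quotient by the scalars `x`, `y`. -/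
def Sc (τ : U2 σ → U2 σ) (x y : K) : Prop := ∀ s, (τ s).t = x * s.t ∧ (τ s).a = y * s.a

theorem Sc.comp {x y x' y' : K} (h : Sc τ x y) (h' : Sc τ' x' y') :
    Sc (fun s => τ (τ' s)) (x * x') (y * y') := fun s => by
  rw [(h _).1, (h _).2, (h' _).1, (h' _).2, mul_assoc, mul_assoc]; exact ⟨rfl, rfl⟩

theorem Gd.sc_ne (h : Gd F) (hτ : F.Iso ⊤ ⊤ τ) {x y : K} (hs : Sc τ x y) : x ≠ 0 ∧ y ≠ 0 := by
  obtain ⟨s, -, e⟩ := hτ.surj ⟨1, 1, 0, 0⟩ (mem_top _)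
  have := hs s
  rw [e] at this
  exact ⟨by rintro rfl; simp at this, by rintro rfl; simp at this⟩

theorem Gd.actZ (h : Gd F) (hτ : F.Iso ⊤ ⊤ τ) {x y : K} (hs : Sc τ x y) (b c : K) :
    τ ⟨0, 0, b, c⟩ = ⟨0, 0, x * y * b, σ x * y * c⟩ := by
  have h1 : ∀ t a, τ ⟨0, 0, t * a, σ t * a⟩ = ⟨0, 0, x * t * (y * a), σ (x * t) * (y * a)⟩ :=
    fun t a => by rw [h.comm hτ, (hs _).1, (hs _).2]
  have h2 : ∀ c, τ ⟨0, 0, 0, c⟩ = ⟨0, 0, 0, σ x * y * c⟩ := fun c => by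
    by_cases h3 : ∀ t, σ t = t
    · have h4 : ∀ t : K, t ≠ 0 → t = 1 := fun t ht => h.hs t 1 ht one_ne_zero (by simp [h3])
      by_cases hc : c = 0
      · rw [hc, mul_zero]; exact hτ.mor.map_one
      have h5 := h.nor.stronglyClosed.mem hτ.mor (mem_top _) (show ⟨0, 0, 0, c⟩ ∈ C σ from
        ⟨rfl, rfl, rfl⟩)
      refine U2.ext h5.1 h5.2.1 h5.2.2 ((h4 _ fun e => hc ?_).trans (h4 _ ?_).symm)
      · exact congrArg U2.c ((hτ.mor.eq_one_iff (mem_top _)).1 (U2.ext h5.1 h5.2.1 h5.2.2 e))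
      · simp [(h.sc_ne hτ hs).1, (h.sc_ne hτ hs).2, hc]
    push Not at h3
    obtain ⟨t, ht⟩ := h3
    have h4 := sub_ne_zero.2 ht
    have h5 := map_mul' hτ ⟨0, 0, 0, c⟩ ⟨0, 0, 1 * (t * (c / (σ t - t))), σ 1 * (t * (c / (σ t - t)))⟩
    rw [show (_ * _ : U2 σ) = ⟨0, 0, t * (c / (σ t - t)), σ t * (c / (σ t - t))⟩ by
      ext <;> simp; field_simp; ring, h1, h1, ← mul_inv_eq_iff_eq_mul] at h5
    rw [← h5]
    ext <;> simp
    · ring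
    · field_simp; ring
  rw [show (⟨0, 0, b, c⟩ : U2 σ) = ⟨0, 0, 1 * b, σ 1 * b⟩ * ⟨0, 0, 0, c - b⟩ by ext <;> simp,
    map_mul' hτ, h1, h2]
  ext <;> simp <;> ring

theorem Gd.torus (h : Gd F) (i : Bool) {m : K} (hm : m ≠ 0) : ∃ τ, F.Iso ⊤ ⊤ τ ∧
    Sc τ (cond i m⁻¹ (m ^ 2)) (cond i (m ^ 2) m⁻¹) ∧ ∀ x ∈ C σ, τ x = x := by
  obtain ⟨τ, hτ, -, h1, h2, h3⟩ := (h.fr i).torus hm
  have h4 : ∀ b c, (τ ⟨0, 0, b, c⟩).b = m * b := fun b c =>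
    congrArg Prod.snd (h2 ⟨0, 0, b, c⟩ (Z_le i ⟨rfl, rfl⟩) (by cases i <;> rfl))
  refine ⟨τ, hτ, fun s => ?_, fun x hx => h1 x (Z_le i ⟨hx.1, hx.2.1⟩)
    ((mem_C_iff i (Z_le i ⟨hx.1, hx.2.1⟩)).1 hx)⟩
  rw [(h.coT hτ s).1, (h.coT hτ s).2]
  cases i
  · have e1 : ∀ a, (τ ⟨0, a, 0, 0⟩).a = m⁻¹ * a := fun a => h3 ⟨0, a, 0, 0⟩ rfl
    have e2 := congrArg U2.b (h.comm hτ s.t 1)
    rw [h4, e1] at e2
    refine ⟨?_, e1 _⟩
    simp only at e2 ⊢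
    field_simp at e2
    simp [← e2]
  · have e1 : ∀ t, (τ ⟨t, 0, 0, 0⟩).t = m⁻¹ * t := fun t => h3 ⟨t, 0, 0, 0⟩ rfl
    have e2 := congrArg U2.b (h.comm hτ 1 s.a)
    rw [h4, e1] at e2
    refine ⟨e1 _, ?_⟩
    simp only at e2 ⊢
    field_simp at e2
    simp [← e2]

theorem Gd.sq (h : Gd F) (m : K) : σ m = m ^ 2 ∧ m ^ 4 = m := by
  have key : ∀ (i : Bool) (m : K), m ≠ 0 → σ (cond i m⁻¹ (m ^ 2)) * cond i (m ^ 2) m⁻¹ = 1 :=
    fun i m hm => by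
      obtain ⟨τ, hτ, h1, h2⟩ := h.torus i hm
      simpa using congrArg U2.c ((h.actZ hτ h1 0 1).symm.trans (by
        simpa using h2 ⟨0, 0, 0, 1⟩ ⟨rfl, rfl, rfl⟩))
  by_cases hm : m = 0
  · simp [hm]
  have h1 := key true m hm
  have h2 := key false m hm
  have h3 : σ m ≠ 0 := by simpa using hm
  simp only [cond_true, cond_false, map_inv₀, map_pow] at h1 h2
  field_simp at h1 h2
  exact ⟨h1.symm, by linear_combination h2 + (m ^ 2 + σ m) * h1⟩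

theorem Gd.exists_sc (h : Gd F) (hτ : F.Iso ⊤ ⊤ τ) : ∃ x y, Sc τ x y := by
  obtain ⟨β, hβ, ho, s, -, e⟩ := h.sat.exists_coprime_mul_inn isPGroup hτ.aut_mem
  have hb := iso_totA le_top hβ
  obtain ⟨x, hx⟩ := sq_scalar (fun m => (h.sq m).2) (AddMonoidHom.mk'
    (fun t => (totA β ⟨t, 0, 0, 0⟩).t) fun t u => by
      rw [← mul_t, ← map_mul' hb]; congr 2; ext <;> simp) fun t => by
    obtain ⟨y, -, e⟩ := hb.surj ⟨t, 0, 0, 0⟩ (mem_top _)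
    exact ⟨y.t, (h.coT hb y).1.symm.trans (congrArg U2.t e)⟩
  obtain ⟨y, hy⟩ := sq_scalar (fun m => (h.sq m).2) (AddMonoidHom.mk'
    (fun t => (totA β ⟨0, t, 0, 0⟩).a) fun t u => by
      rw [← mul_a, ← map_mul' hb]; congr 2; ext <;> simp) fun t => by
    obtain ⟨y, -, e⟩ := hb.surj ⟨0, t, 0, 0⟩ (mem_top _)
    exact ⟨y.a, (h.coT hb y).2.symm.trans (congrArg U2.a e)⟩
  have h2 : ∀ k : ℕ, Sc (totA ((β ^ 2) ^ k)) (x ^ k) (y ^ k) := fun k => by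
    induction k with
    | zero => exact fun s => by simp [totA_one (mem_top s)]
    | succ k ih =>
      intro s
      rw [totA_pow_succ _ _ (mem_top s), _root_.sq, totA_mul _ _ (mem_top _), ← _root_.sq,
        (h.coT hb (totA β _)).1, (h.coT hb (totA β _)).2, (h.coT hb (totA ((β ^ 2) ^ k) s)).1,
        (h.coT hb (totA ((β ^ 2) ^ k) s)).2]
      exact ⟨(hx _).trans (by rw [(ih s).1]; ring), (hy _).trans (by rw [(ih s).2]; ring)⟩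
  obtain ⟨k, hk⟩ := mem_powers_iff_mem_zpowers.2 ((mem_zpowers_pow_iff (k := 2)).2 ho.symm)
  refine ⟨x ^ k, y ^ k, fun z => ?_⟩
  have hn : s ∈ normalizer ((⊤ : Subgroup (U2 σ)) : Set (U2 σ)) := le_normalizer (mem_top s)
  rw [← hτ.totA_aut (mem_top z), e, totA_mul _ _ (mem_top z), totA_cAut hn (mem_top z), ← hk]
  simpa using h2 k (s * z * s⁻¹)

/-- The root subgroup is centralised by `Aut_F(S)`. -/
def Cen (F : FusionSystem (⊤ : Subgroup (U2 σ))) : Prop :=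
  ∀ τ, F.Iso ⊤ ⊤ τ → ∀ z ∈ C σ, τ z = z

theorem Gd.cube (h : Gd F) {x : K} (hx : x ≠ 0) : x ^ 3 = 1 :=
  mul_left_cancel₀ hx (by linear_combination (h.sq x).2)

theorem Gd.fix_of (h : Gd F) (hτ : F.Iso ⊤ ⊤ τ) {x : K} (hs : Sc τ x x) {z : U2 σ}
    (hz : z ∈ C σ) : τ z = z := by
  rw [show z = ⟨0, 0, 0, z.c⟩ from U2.ext hz.1 hz.2.1 hz.2.2 rfl, h.actZ hτ hs, (h.sq x).1,
    ← pow_succ, h.cube (h.sc_ne hτ hs).1, mul_zero, one_mul]

theorem Gd.eq_of_fix (h : Gd F) (hτ : F.Iso ⊤ ⊤ τ) {x y : K} (hs : Sc τ x y) {z : U2 σ}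
    (hz : z ∈ C σ) (h1 : z ≠ 1) (e : τ z = z) : y = x := by
  rw [show z = ⟨0, 0, 0, z.c⟩ from U2.ext hz.1 hz.2.1 hz.2.2 rfl, h.actZ hτ hs, (h.sq x).1] at e
  have h2 : z.c ≠ 0 := fun e => h1 (U2.ext hz.1 hz.2.1 hz.2.2 e)
  have h3 := mul_right_cancel₀ h2 ((congrArg U2.c e).trans (one_mul _).symm)
  linear_combination x * h3 - y * h.cube (h.sc_ne hτ hs).1

theorem Gd.exists_same (h : Gd F) (h' : Gd F') (hc : Cen F' → Cen F) (hτ : F.Iso ⊤ ⊤ τ)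
    {x y : K} (hs : Sc τ x y) : ∃ τ', F'.Iso ⊤ ⊤ τ' ∧ Sc τ' x y := by
  have h1 : ∀ m : K, m ≠ 0 → ∃ τ', F'.Iso ⊤ ⊤ τ' ∧ Sc τ' m m := fun m hm => by
    obtain ⟨τ', h1, h2, -⟩ := h'.torus true (inv_ne_zero hm)
    refine ⟨τ', h1, ?_⟩
    simpa [show (m ^ 2)⁻¹ = m from inv_eq_of_mul_eq_one_right (by
      linear_combination h.cube hm)] using h2
  obtain ⟨hx, hy⟩ := h.sc_ne hτ hs
  by_cases e : y = x
  · exact e ▸ h1 x hx
  obtain ⟨ρ, hρ, u, v, h2, h3⟩ : ∃ ρ, F'.Iso ⊤ ⊤ ρ ∧ ∃ u v, Sc ρ u v ∧ v ≠ u := by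
    by_contra hh
    push Not at hh
    refine e (h.eq_of_fix hτ hs (z := ⟨0, 0, 0, 1⟩) ⟨rfl, rfl, rfl⟩
      (fun e => one_ne_zero (congrArg U2.c e)) (hc (fun ρ hρ z hz => ?_) τ hτ _ ⟨rfl, rfl, rfl⟩))
    obtain ⟨u, v, h2⟩ := h'.exists_sc hρ
    obtain rfl := hh ρ hρ u v h2
    exact h'.fix_of hρ h2 hz
  obtain ⟨hu, hv⟩ := h'.sc_ne hρ h2
  have h4 : ∀ {x y : K}, x ≠ 0 → y ≠ 0 → y ≠ x → y ^ 2 + x * y + x ^ 2 = 0 := fun hx hy e =>
    mul_left_cancel₀ (sub_ne_zero.2 e) (by linear_combination h.cube hy - h.cube hx)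
  have h5 : (y * u - x * v) * (y * u ^ 2 - x * v ^ 2) = 0 := by
    linear_combination h4 hx hy e + y ^ 2 * h.cube hu + (x ^ 2 + x * y) * h.cube hv -
      x * y * v * h4 hu hv h3
  rcases mul_eq_zero.1 h5 with h6 | h6
  · obtain ⟨δ, hδ, h7⟩ := h1 (x / u) (div_ne_zero hx hu)
    refine ⟨_, hδ.comp hρ, ?_⟩
    convert h7.comp h2 using 1 <;> field_simp
    linear_combination h6
  · obtain ⟨δ, hδ, h7⟩ := h1 (x / u ^ 2) (div_ne_zero hx (pow_ne_zero _ hu))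
    refine ⟨_, hδ.comp (hρ.comp hρ), ?_⟩
    convert h7.comp (h2.comp h2) using 1 <;> field_simp
    linear_combination h6

/-- The standard transvections. -/
def nu (i : Bool) (x : U2 σ) : U2 σ := ⟨cond i (x.t + x.b) x.t, cond i x.a (x.a + x.b), x.b, x.c⟩

theorem nu_mem {i : Bool} {x : U2 σ} (hx : x ∈ A σ i) : nu i x ∈ A σ i := by
  cases i <;> exact hx

theorem exists_nu {i : Bool} (h1 : F.Mor (A σ i) (nu i)) (h2 : F'.Mor (A σ i) (nu i)) :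
    ∃ ν ∈ F.autGroup (A σ i), ν ∈ F'.autGroup (A σ i) ∧ ∀ x ∈ A σ i,
      (co i (totA ν x), (totA ν x).b) = (co i x + x.b, x.b) := by
  obtain ⟨ν, hν, e⟩ := (h1.iso_self fun _ => nu_mem).exists_aut
  exact ⟨ν, hν, (mem_autGroup_iff le_top).2 (h2.congr fun x hx => (e x hx).symm), fun x hx => by
    rw [e x hx]; cases i <;> rfl⟩

theorem Gd.top_le (h : Gd F) (h' : Gd F') (hc : Cen F' → Cen F) (h1 : ∀ i, F.Mor (A σ i) (nu i))
    (h2 : ∀ i, F'.Mor (A σ i) (nu i)) (hτ : F.Iso ⊤ ⊤ τ) : F'.Mor ⊤ τ := by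
  obtain ⟨x, y, hs⟩ := h.exists_sc hτ
  obtain ⟨τ', hτ', hs'⟩ := h.exists_same h' hc hτ hs
  obtain ⟨hx, hy⟩ := h.sc_ne hτ hs
  have key : ∀ i, ∃ s, ∀ z ∈ A σ i, τ z = τ' (s * z * s⁻¹) := fun i => by
    obtain ⟨ν, hν, hν', e⟩ := exists_nu (h1 i) (h2 i)
    obtain ⟨β, hβ, e1⟩ := restr hτ le_top (pres h.sat h.ess hτ i)
    obtain ⟨β', hβ', e2⟩ := restr hτ' le_top (pres h'.sat h'.ess hτ' i)
    have e3 : ∀ z ∈ A σ i, τ' (totA (β'⁻¹ * β) z) = τ z := fun z hz => by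
      rw [← e2 _ (totA_mem _ hz), ← totA_mul _ _ hz, mul_inv_cancel_left, e1 z hz]
    obtain ⟨s, -, e4⟩ := (h.fr i).cmp (h'.fr i) (fun _ hx _ hy => comm_A hx hy)
      (fun s _ z hz e => fix_Z s ((mem_Z_iff i).2 ⟨hz, e⟩)) hν hν' e hβ hβ'
      (fun z hz e => by
        rw [e1 z hz]; cases i
        · exact (hs z).2.trans (by rw [show z.a = 0 from e, mul_zero])
        · exact (hs z).1.trans (by rw [show z.t = 0 from e, mul_zero]))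
      (fun z hz e => by
        rw [e2 z hz]; cases i
        · exact (hs' z).2.trans (by rw [show z.a = 0 from e, mul_zero])
        · exact (hs' z).1.trans (by rw [show z.t = 0 from e, mul_zero]))
      (fun z hz e => hτ'.mor.inj (mem_top _) (mem_top _) (by
        have h3 := (mem_Z_iff i).2 ⟨hz, e⟩
        rw [e3 z hz, show z = ⟨0, 0, z.b, z.c⟩ from U2.ext h3.1 h3.2 rfl rfl, h.actZ hτ hs,
          h'.actZ hτ' hs']))
      fun z hz => by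
        have h3 := hs' (totA (β'⁻¹ * β) z)
        rw [e3 z hz, (hs z).1, (hs z).2] at h3
        cases i
        · exact (mul_left_cancel₀ hy h3.2).symm
        · exact (mul_left_cancel₀ hx h3.1).symm
    exact ⟨s, fun z hz => by rw [← e3 z hz, e4, totA_cAut (nrm (Z_le i) s).2 hz]⟩
  obtain ⟨s₁, e₁⟩ := key true
  obtain ⟨s₂, e₂⟩ := key false
  refine (hτ'.mor.comp (F'.mor_conj le_rfl (mem_top ⟨s₂.t, s₁.a, 0, 0⟩))
    fun _ _ => mem_top _).congr fun z _ => ?_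
  rw [show z = ⟨0, z.a, z.b, z.c⟩ * ⟨z.t, 0, 0, 0⟩ by ext <;> simp, map_mul' hτ, e₁ ⟨z.t, 0, 0, 0⟩ rfl,
    e₂ ⟨0, z.a, z.b, z.c⟩ rfl, ← map_mul' hτ']
  congr 1
  ext <;> simp <;> ring

theorem Gd.le (h : Gd F) (h' : Gd F') (hc : Cen F' → Cen F) (h1 : ∀ i, F.Mor (A σ i) (nu i))
    (h2 : ∀ i, F'.Mor (A σ i) (nu i)) : F ≤ F' := by
  refine le_iff_mor.2 fun P f hf => h.sat.mor_of_alperin isPGroup (fun R g hR hg => ?_) hf
  obtain rfl | hR := hR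
  · exact h.top_le h' hc h1 h2 hg
  obtain ⟨i, rfl⟩ := ess_cases h.sat hR
  obtain ⟨ν, hν, hν', e⟩ := exists_nu (h1 i) (h2 i)
  refine (mor_totA le_top ((h.fr i).le_of (fun f hf => h.top_le h' hc h1 h2 hf) hν hν'
    (fun h3 => ?_) hg.aut_mem)).congr fun x hx => hg.totA_aut hx
  have := (congrArg Prod.fst (e _ (el_mem i (0, 1, 0)))).symm.trans
    (h3 _ (el_mem i (0, 1, 0)) (co_el _ _))
  rw [co_el] at this
  simp [el] at this

theorem exists_via {G G' : Type*} [Group G] [Group G'] [Finite G] (F : FusionSystem (⊤ : Subgroup G))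
    (e : G ≃* G') : ∃ E : FusionSystem (⊤ : Subgroup G'), F.IsIsoVia E e e.symm :=
  F.exists_isIsoVia (fun x _ y _ => map_mul e x y)
    ((img_eq_map e.toMonoidHom ⊤).trans (map_top_of_surjective _ e.surjective))
    fun x _ => e.symm_apply_apply x

/-- A central automorphism. -/
def cenAut (φ ψ : Bool → K →+ K) : U2 σ ≃* U2 σ where
  toFun x := ⟨x.t, x.a, x.b - φ true x.t - φ false x.a, x.c - ψ true x.t - ψ false x.a⟩
  invFun x := ⟨x.t, x.a, x.b + φ true x.t + φ false x.a, x.c + ψ true x.t + ψ false x.a⟩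
  left_inv x := by ext <;> simp; ring_nf; ring
  right_inv x := by ext <;> simp <;> ring
  map_mul' x y := by ext <;> simp <;> ring

theorem Gd.normal_form (h : Gd F) : ∃ (E : FusionSystem (⊤ : Subgroup (U2 σ))) (e : U2 σ ≃* U2 σ),
    F.IsIsoVia E e e.symm ∧ Gd E ∧ (∀ i, E.Mor (A σ i) (nu i)) ∧ ∀ z ∈ C σ, e z = z := by
  have key : ∀ i, ∃ φ ψ : K →+ K, ∃ g, F.Mor (A σ i) g ∧ ∀ x ∈ A σ i, g x ∈ A σ i ∧
      co i (g x) = co i x + (x.b - φ (co i x)) ∧ (g x).b = x.b + φ (x.b - φ (co i x)) ∧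
      (g x).c = x.c + ψ (x.b - φ (co i x)) := fun i => by
    obtain ⟨φ, γ, hγ, s, -, h1, h2⟩ := (h.fr i).partner
    have hn := nrm (Z_le i) s
    have hg := mor_totA le_top (mul_mem (mul_mem hγ (F.cAut_mem_autGroup le_top hn))
      (Subgroup.inv_mem _ hγ))
    have h3 : ∀ x ∈ A σ i, x.b = φ (co i x) → totA (γ * cAut _ s * γ⁻¹) x = x := fun x hx e => by
      rw [totA_mul _ _ hx, totA_mul _ _ (totA_mem _ hx), totA_cAut hn.2 (totA_mem _ hx),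
        fix_Z s ((mem_Z_iff i).2 ⟨totA_mem _ hx, h1 x hx e⟩), totA_totA_inv _ hx]
    have h4 : ∀ x ∈ A σ i, ∀ y ∈ A σ i, (x * y).c = x.c + y.c := fun x hx y hy => by
      cases i <;> simp_all [mem_A]
    have h5 : ∀ b : K, (⟨0, 0, b, 0⟩ : U2 σ) ∈ A σ i := fun b => Z_le i ⟨rfl, rfl⟩
    refine ⟨φ, AddMonoidHom.mk' (fun b => U2.c (totA (γ * cAut _ s * γ⁻¹) ⟨0, 0, b, 0⟩))
      fun b b' => ?_,
      _, hg, fun x hx => ⟨totA_mem _ hx, congrArg Prod.fst (h2 x hx), congrArg Prod.snd (h2 x hx), ?_⟩⟩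
    · rw [← h4 _ (totA_mem _ (h5 _)) _ (totA_mem _ (h5 _)), ← hg.map_mul (h5 _) (h5 _)]
      congr 2; ext <;> simp
    · have h6 : (⟨x.t, x.a, φ (co i x), x.c⟩ : U2 σ) ∈ A σ i := by cases i <;> exact hx
      conv_lhs => rw [show x = ⟨x.t, x.a, φ (co i x), x.c⟩ * ⟨0, 0, x.b - φ (co i x), 0⟩ by
        ext <;> simp, hg.map_mul h6 (h5 _), h3 _ h6 (by cases i <;> rfl),
        h4 _ h6 _ (totA_mem _ (h5 _))]
      rfl
  choose φ ψ g hg e using key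
  obtain ⟨E, hE⟩ := exists_via F (cenAut (σ := σ) φ ψ)
  have hA : ∀ i, img (cenAut φ ψ) (A σ i) = A σ i := fun i => Subgroup.ext fun x => by
    rw [hE.mem_img le_top]; cases i <;> simp [mem_A, cenAut]
  have hC : img (cenAut φ ψ) (C σ) = C σ := Subgroup.ext fun x => by
    rw [hE.mem_img le_top]
    simp only [mem_top, mem_C, cenAut, true_and, MulEquiv.symm_mk, MulEquiv.coe_mk,
      Equiv.coe_fn_symm_mk]
    exact and_congr_right fun h1 => and_congr_right fun h2 => by simp [h1, h2]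
  refine ⟨E, _, hE, ⟨h.hs, hE.isSaturated h.sat isPGroup, fun i => hA i ▸ hE.isEssential (h.ess i),
    hC ▸ hE.isNormal h.nor⟩, fun i => hA i ▸ hE.mor_of_compat (hg i) fun x hx => ?_,
    fun z hz => by ext <;> simp [cenAut, hz.1, hz.2.1]⟩
  obtain ⟨e1, e2, e3, e4⟩ := e i x hx
  cases i <;> simp only [mem_A, co_true, co_false, Bool.not_true, Bool.not_false] at hx e1 e2 e3 e4 <;>
    ext <;> simp [nu, cenAut, hx, e1, e2, e3, e4] <;> ring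

end U2

end Cfsg.Agent.Fus.SU
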