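import Mathlib
import Cfsg.Agent.Fus.SpTwoB
import Cfsg.Agent.Fus.MxMain
import Cfsg.Agent.S5259
import Cfsg.Agent.S2088
import Cfsg.Agent.Ch.UniversalCover
import Cfsg.Agent.GT.TransferEval
import Cfsg.Agent.Cl.Transport
import Cfsg.Agent.Cl.LinearBasic

/-! The groups `PSL₃(2) × 2`, `2²·PSL₃(4)` and `2²·PSL₃(4).3` as models. -/

set_option autoImplicit false
set_option linter.unusedSectionVars false

namespace Cfsg.Agent.Fus.SU

open Subgroup Cfsg.FusionSystem Matrix Cfsg.Agent.S5259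

section PSL
variable {K : Type*} [Field K]

/-- The image of a unitriangular matrix in `PSL₃(K)`. -/
def pu (t a b : K) : ProjectiveSpecialLinearGroup (Fin 3) K := QuotientGroup.mk (ut t a b)

theorem pu_mul (a b c a' b' c' : K) :
    pu a b c * pu a' b' c' = pu (a + a') (b + b') (c + c' + a * b') := by
  rw [pu, pu, ← QuotientGroup.mk_mul, ut_mul]; rfl

theorem pu_zero : pu (0 : K) 0 0 = 1 :=
  mul_left_cancel (a := pu (0 : K) 0 0) (by simp [pu_mul])

theorem pu_eq_one {a b c : K} : pu a b c = 1 ↔ a = 0 ∧ b = 0 ∧ c = 0 := by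
  refine ⟨fun h => ?_, by rintro ⟨rfl, rfl, rfl⟩; exact pu_zero⟩
  obtain ⟨r, -, e⟩ := Matrix.SpecialLinearGroup.mem_center_iff.1
    ((QuotientGroup.eq_one_iff (ut a b c)).1 h)
  have := congrArg (fun m : Matrix (Fin 3) (Fin 3) K => (m 0 1, m 1 2, m 0 2)) e
  simpa [ut, eq_comm] using this

theorem pu_inj {a b c a' b' c' : K} (h : pu a b c = pu a' b' c') : a = a' ∧ b = b' ∧ c = c' := by
  have h1 : pu a b c * pu (-a') (-b') (-c' + a' * b') = 1 := by
    rw [h, pu_mul, pu_eq_one]; exact ⟨by ring, by ring, by ring⟩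
  rw [pu_mul, pu_eq_one] at h1
  exact ⟨by linear_combination h1.1, by linear_combination h1.2.1,
    by linear_combination h1.2.2 + b' * h1.1⟩

/-- The image of a matrix of determinant one in `PSL₃(K)`. -/
def pm (m : Matrix (Fin 3) (Fin 3) K) (hm : m.det = 1) : ProjectiveSpecialLinearGroup (Fin 3) K :=
  QuotientGroup.mk ⟨m, hm⟩

theorem pu_conj (m : Matrix (Fin 3) (Fin 3) K) (hm : m.det = 1) {a b c a' b' c' : K}
    (h : m * (ut a b c).1 = (ut a' b' c').1 * m) :
    pm m hm * pu a b c * (pm m hm)⁻¹ = pu a' b' c' :=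
  mul_inv_eq_iff_eq_mul.2 (congrArg QuotientGroup.mk (Subtype.ext h))

theorem exists_w1 : ∃ l : ProjectiveSpecialLinearGroup (Fin 3) K, ∀ b, l * pu 0 0 b * l⁻¹ = pu b 0 0 :=
  ⟨pm !![1, 0, 0; 0, 0, 1; 0, -1, 0] (by simp [det_fin_three]), fun b => pu_conj _ _ (by
    ext i j; fin_cases i <;> fin_cases j <;> simp [ut, mul_apply, Fin.sum_univ_three])⟩

theorem exists_w2 : ∃ l : ProjectiveSpecialLinearGroup (Fin 3) K, ∀ b, l * pu 0 0 b * l⁻¹ = pu 0 b 0 :=
  ⟨pm !![0, -1, 0; 1, 0, 0; 0, 0, 1] (by simp [det_fin_three]), fun b => pu_conj _ _ (by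
    ext i j; fin_cases i <;> fin_cases j <;> simp [ut, mul_apply, Fin.sum_univ_three])⟩

theorem conj_pu {t a b : K} (h0 : t = 0 ∨ a = 0) (h1 : pu t a b ≠ 1) :
    ∃ l : ProjectiveSpecialLinearGroup (Fin 3) K, l * pu 0 0 1 * l⁻¹ = pu t a b := by
  rw [Ne, pu_eq_one] at h1
  by_cases hb : b = 0
  · subst hb
    rcases h0 with rfl | rfl
    · have ha : a ≠ 0 := fun e => h1 ⟨rfl, e, rfl⟩
      exact ⟨_, pu_conj !![0, -a⁻¹, 0; a, 0, 0; 0, 0, 1] (by simp [det_fin_three, ha]) (by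
        ext i j; fin_cases i <;> fin_cases j <;> simp [ut, mul_apply, Fin.sum_univ_three])⟩
    · have ha : t ≠ 0 := fun e => h1 ⟨e, rfl, rfl⟩
      exact ⟨_, pu_conj !![1, 0, 0; 0, 0, t⁻¹; 0, -t, 0] (by simp [det_fin_three, ha]) (by
        ext i j; fin_cases i <;> fin_cases j <;> simp [ut, mul_apply, Fin.sum_univ_three, ha])⟩
  rcases h0 with rfl | rfl
  · exact ⟨_, pu_conj !![b, 0, 0; a, b⁻¹, 0; 0, 0, 1] (by simp [det_fin_three, hb]) (by
      ext i j; fin_cases i <;> fin_cases j <;> simp [ut, mul_apply, Fin.sum_univ_three])⟩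
  · exact ⟨_, pu_conj !![1, 0, 0; 0, b, 0; 0, -t, b⁻¹] (by simp [det_fin_three, hb]) (by
      ext i j; fin_cases i <;> fin_cases j <;> simp [ut, mul_apply, Fin.sum_univ_three, hb, mul_comm])⟩

/-- The unitriangular subgroup of `PSL₃(K)`. -/
def pU (K : Type*) [Field K] : Subgroup (ProjectiveSpecialLinearGroup (Fin 3) K) :=
  (LF.uG (LF.slφ 3 K) id).map (QuotientGroup.mk' _)

theorem mem_pU {g : ProjectiveSpecialLinearGroup (Fin 3) K} :
    g ∈ pU K ↔ ∃ a b c, g = pu a b c := by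
  refine ⟨?_, by rintro ⟨a, b, c, rfl⟩; exact ⟨_, mem_uG_iff.2 ⟨a, b, c, rfl⟩, rfl⟩⟩
  rintro ⟨x, hx, rfl⟩
  obtain ⟨a, b, c, rfl⟩ := mem_uG_iff.1 hx
  exact ⟨a, b, c, rfl⟩

theorem exists_eta {w : K} (hw : w ^ 3 = 1) : ∃ η : ProjectiveSpecialLinearGroup (Fin 3) K ≃*
    ProjectiveSpecialLinearGroup (Fin 3) K,
    (∀ a b c, η (pu a b c) = pu a (w * b) (w * c)) ∧ ∀ x, η (η (η x)) = x := by
  let D : GL (Fin 3) K := ⟨diagonal ![1, 1, w ^ 2], diagonal ![1, 1, w],
    by ext i j; fin_cases i <;> fin_cases j <;> simp [← pow_succ, hw],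
    by ext i j; fin_cases i <;> fin_cases j <;> simp [← pow_succ', hw]⟩
  have hD : ∀ (g : SpecialLinearGroup (Fin 3) K) i j, (Cl.slConj _ K D g).1 i j =
      ![1, 1, w ^ 2] i * g.1 i j * ![1, 1, w] j := fun g i j => by
    rw [Cl.coe_slConj]
    change (diagonal _ * g.1 * diagonal _ : Matrix _ _ K) i j = _
    rw [mul_diagonal, diagonal_mul]
  refine ⟨QuotientGroup.congr _ _ (Cl.slConj _ K D)
    (characteristic_iff_map_eq.1 inferInstance _), fun a b c => congrArg QuotientGroup.mk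
      (Subtype.ext ?_), fun x => ?_⟩
  · ext i j
    erw [hD]
    fin_cases i <;> fin_cases j <;> simp [ut, mul_comm, ← pow_succ', hw]
  · obtain ⟨g, rfl⟩ := QuotientGroup.mk_surjective x
    refine congrArg QuotientGroup.mk (Subtype.ext ?_)
    ext i j
    erw [hD, hD, hD]
    fin_cases i <;> fin_cases j <;> simp <;>
      first
      | linear_combination g.1 _ _ * hw
      | linear_combination g.1 _ _ * (w ^ 3 + 1) * hw
      | linear_combination g.1 _ _ * (w ^ 6 + w ^ 3 + 1) * hw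

variable [Fintype K] [CharP K 2]

theorem pU_index : ¬ 2 ∣ (pU K).index := fun h =>
  LF.sl_full.not_dvd_index SpecialLinearGroup.toGL_injective
    (h.trans (index_map_dvd _ (QuotientGroup.mk'_surjective _)))

theorem pU_isPGroup : IsPGroup 2 (pU K) := (LF.isPGroup_uG SpecialLinearGroup.toGL_injective).map _

end PSL

universe u

theorem exists_cover {K : Type u} [Field K] [Fintype K] (hK : Fintype.card K = 4) :
    ∃ (G : Type u) (_ : Group G) (_ : Finite G) (π : G →* ProjectiveSpecialLinearGroup (Fin 3) K),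
      Group.IsPerfect G ∧ Function.Surjective π ∧ π.ker ≤ center G ∧ (∀ x ∈ π.ker, x * x = 1) ∧
      4 ≤ Nat.card π.ker ∧ ∀ η : ProjectiveSpecialLinearGroup (Fin 3) K ≃*
        ProjectiveSpecialLinearGroup (Fin 3) K, ∃ θ : G →* G, ∀ x, π (θ x) = η (π x) := by
  have hA := S2088.result hK
  obtain ⟨Γ, _, _, σ, hσ, ⟨f⟩⟩ := hA.1
  have : Group.IsPerfect (Matrix.SpecialLinearGroup (Fin 3) K) := Cl.sl_isPerfect (.inl (by simp))
  have : Group.IsPerfect (ProjectiveSpecialLinearGroup (Fin 3) K) :=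
    Group.IsPerfect.ofSurjective (QuotientGroup.mk'_surjective _)
  have := Ch.isPerfect_of_isStemExtension hσ
  let M : Subgroup Γ :=
    { carrier := {x | ∃ y ∈ σ.ker, y * y = x}
      one_mem' := ⟨1, one_mem _, mul_one 1⟩
      mul_mem' := by
        rintro _ _ ⟨y, hy, rfl⟩ ⟨z, hz, rfl⟩
        exact ⟨y * z, mul_mem hy hz, by
          rw [mul_assoc, ← mul_assoc z, ← mem_center_iff.1 (hσ.2.1 hz) y]; group⟩
      inv_mem' := by
        rintro _ ⟨y, hy, rfl⟩
        exact ⟨y⁻¹, σ.ker.inv_mem hy, (_root_.mul_inv_rev y y).symm⟩ }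
  have hM : M ≤ σ.ker := by
    rintro _ ⟨y, hy, rfl⟩
    exact mul_mem hy hy
  have : M.Normal := ⟨fun x hx g => by rwa [mem_center_iff.1 (hσ.2.1 (hM hx)) g, mul_inv_cancel_right]⟩
  let π := QuotientGroup.lift M σ hM
  have hs : Function.Surjective π := fun y =>
    (hσ.1 y).imp' (QuotientGroup.mk (s := M)) fun _ h => h
  have hc : π.ker ≤ Subgroup.center _ := fun x hx => mem_center_iff.2 fun g => by
    obtain ⟨x, rfl⟩ := QuotientGroup.mk_surjective x
    obtain ⟨g, rfl⟩ := QuotientGroup.mk_surjective g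
    exact congrArg QuotientGroup.mk (mem_center_iff.1 (hσ.2.1 hx) g)
  have h2 : ∀ x ∈ π.ker, x * x = 1 := fun x hx => by
    obtain ⟨x, rfl⟩ := QuotientGroup.mk_surjective x
    exact (QuotientGroup.eq_one_iff (x * x)).2 ⟨x, hx, rfl⟩
  refine ⟨Γ ⧸ M, inferInstance, inferInstance, π,
    Group.IsPerfect.ofSurjective (QuotientGroup.mk'_surjective _), hs, hc, h2, ?_, fun η => ?_⟩
  · let v : Fin 2 × Fin 2 → Multiplicative (ZMod 3 × ZMod 4 × ZMod 4) := fun i =>
      Multiplicative.ofAdd (0, (i.1.1 : ZMod 4), (i.2.1 : ZMod 4))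
    have hv : ∀ i j y, y * y = (v i)⁻¹ * v j → i = j := by decide +kernel
    refine le_trans (by simp) (Nat.card_le_card_of_injective
      (fun i => (⟨QuotientGroup.mk (f.symm (v i)).1, (f.symm (v i)).2⟩ : π.ker)) fun i j e => ?_)
    obtain ⟨y, hy, e'⟩ := QuotientGroup.eq.1 (congrArg Subtype.val e)
    refine hv i j (f ⟨y, hy⟩) ?_
    rw [← map_mul, show (⟨y, hy⟩ * ⟨y, hy⟩ : σ.ker) = (f.symm (v i))⁻¹ * f.symm (v j) from
      Subtype.ext e']
    simp
  · obtain ⟨θ, hθ⟩ := Ch.exists_lift_of_cover hA hσ (Nat.card_congr f.toEquiv)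
      (ξ := η.symm.toMonoidHom.comp π) (η.symm.surjective.comp hs) fun x hx => hc (by simpa using hx)
    have h3 : ∀ x, π (θ x) = η (σ x) := fun x => η.symm_apply_eq.1 (DFunLike.congr_fun hθ x)
    refine ⟨QuotientGroup.lift M θ ?_, fun x => ?_⟩
    · rintro _ ⟨y, hy, rfl⟩
      rw [MonoidHom.mem_ker, map_mul, h2 _ (by rw [MonoidHom.mem_ker, h3, hy, map_one])]
    · obtain ⟨x, rfl⟩ := QuotientGroup.mk_surjective x
      exact h3 x

section Cover
variable {K G : Type*} [Field K] [Fintype K] [CharP K 2] [Group G] [Finite G]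
  {π : G →* ProjectiveSpecialLinearGroup (Fin 3) K}

theorem comm_of_sq {g h : G} (h1 : g * g = 1) (h2 : h * h = 1) (h3 : g * h * (g * h) = 1) :
    g * h = h * g := by
  rw [← mul_inv_eq_one, _root_.mul_inv_rev, inv_eq_of_mul_eq_one_right h1,
    inv_eq_of_mul_eq_one_right h2, h3]

theorem sq_eq_one (hs : Function.Surjective π) (hc : π.ker ≤ center G)
    (h2 : ∀ x ∈ π.ker, x * x = 1) {w : K} (h0 : w ≠ 0) (h1 : w + 1 ≠ 0) {g : G} {t a b : K}
    (h : t = 0 ∨ a = 0) (e : π g = pu t a b) : g * g = 1 := by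
  obtain ⟨z, hz⟩ := hs (pu 0 0 1)
  have hzz : z * z ∈ π.ker := by
    rw [MonoidHom.mem_ker, map_mul, hz, pu_mul, pu_eq_one]; simp [CharTwo.add_self_eq_zero]
  have cen := mem_center_iff.1 (hc hzz)
  have key : ∀ {g t a b}, t = 0 ∨ a = 0 → π g = pu t a b → π g ≠ 1 → g * g = z * z :=
    fun {g t a b} h e hg => by
      obtain ⟨l, hl⟩ := conj_pu h (e ▸ hg)
      obtain ⟨l, rfl⟩ := hs l
      have h3 : (l * z * l⁻¹)⁻¹ * g ∈ π.ker := by
        rw [MonoidHom.mem_ker, map_mul, map_inv, map_mul, map_mul, map_inv, hz, hl, e, inv_mul_cancel]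
      have h4 := mem_center_iff.1 (hc h3)
      have h5 := h2 _ h3
      generalize hk : (l * z * l⁻¹)⁻¹ * g = k at h4 h5
      rw [inv_mul_eq_iff_eq_mul.1 hk, mul_assoc _ k, ← mul_assoc k, ← h4, mul_assoc _ k, h5,
        mul_one, show l * z * l⁻¹ * (l * z * l⁻¹) = l * (z * z) * l⁻¹ by group, cen,
        mul_inv_cancel_right]
  by_cases hg : π g = 1
  · exact h2 g hg
  rw [key h e hg]
  obtain ⟨x, hx⟩ := hs (pu 1 0 0)
  obtain ⟨y, hy⟩ := hs (pu 0 0 w)
  have ex := key (.inr rfl) hx (by simp [hx, pu_eq_one])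
  have k2 : ∀ {y b}, π y = pu 0 0 b → b ≠ 0 → x * y = z * z * (y * x) := fun {y b} e hb => by
    have e1 := key (.inr rfl) e (by simp [e, pu_eq_one, hb])
    have e2 := key (g := x * y) (.inr rfl) (by rw [map_mul, hx, e, pu_mul, add_zero (0 : K)])
      (by simp [hx, e, pu_mul, pu_eq_one])
    have := h2 _ hzz
    generalize z * z = c at *
    apply mul_right_cancel (b := x * y)
    rw [e2, mul_assoc, mul_assoc, ← mul_assoc x, ex, ← mul_assoc y, cen, mul_assoc c, e1, this,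
      mul_one]
  have e1 := k2 hz one_ne_zero
  have e2 := k2 hy h0
  have e3 := k2 (y := y * z) (by rw [map_mul, hy, hz, pu_mul]; simp) h1
  have := h2 _ hzz
  generalize z * z = c at *
  rw [← mul_assoc, e2, mul_assoc, mul_assoc, e1, ← mul_assoc y, cen, mul_assoc c y, ← mul_assoc c c,
    this, one_mul, ← mul_assoc y, right_eq_mul] at e3
  exact e3

theorem exists_sec (hs : Function.Surjective π) {w : K} (hw : w ^ 2 + w + 1 = 0)
    (h4 : ∀ m : K, m ^ 4 = m) {v : K → ProjectiveSpecialLinearGroup (Fin 3) K}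
    (hv : ∀ t u, v (t + u) = v t * v u) (hq : ∀ g t, π g = v t → g * g = 1) :
    ∃ s : K → G, (∀ t u, s (t + u) = s t * s u) ∧ ∀ t, π (s t) = v t := by
  classical
  have h2 : (2 : K) = 0 := CharTwo.two_eq_zero
  have h0 : v 0 = 1 := mul_left_cancel (a := v 0) (by rw [← hv, add_zero, mul_one])
  have key : ∀ (l m : K), ∃ g : G, π g = v m ∧ ∃ s : K → G, (∀ t u, s (t + u) = s t * s u) ∧
      ∀ t, (s t = 1 ∨ s t = g) ∧ π (s t) = v ((l * t + (l * t) ^ 2) * m) := fun l m => by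
    obtain ⟨g, hg⟩ := hs (v m)
    have h1 : ∀ t, l * t + (l * t) ^ 2 = 0 ∨ l * t + (l * t) ^ 2 = 1 := fun t => by
      rw [← sub_eq_zero (b := 1), ← mul_eq_zero]
      linear_combination h4 (l * t) + (l * t) ^ 3 * h2
    refine ⟨g, hg, fun t => if l * t + (l * t) ^ 2 = 0 then 1 else g, fun t u => ?_, fun t => ?_⟩
    · have : l * (t + u) + (l * (t + u)) ^ 2 = (l * t + (l * t) ^ 2) + (l * u + (l * u) ^ 2) := by
        linear_combination l ^ 2 * t * u * h2
      simp only [this]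
      rcases h1 t with e | e <;> rcases h1 u with e' | e' <;>
        simp [e, e', CharTwo.add_self_eq_zero, hq g m hg]
    · rcases h1 t with e | e <;> simp [e, h0, hg]
  obtain ⟨g, hg, s, e1, e2⟩ := key (w ^ 2) 1
  obtain ⟨g', hg', s', e1', e2'⟩ := key 1 w
  have hc := comm_of_sq (hq _ _ hg) (hq _ _ hg') (hq _ _ (by rw [map_mul, hg, hg', ← hv]))
  refine ⟨fun t => s t * s' t, fun t u => ?_, fun t => ?_⟩
  · have : s u * s' t = s' t * s u := by
      rcases (e2 u).1 with e | e <;> rcases (e2' t).1 with e' | e' <;> simp [e, e', hc]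
    simp only [e1, e1']
    rw [mul_assoc, ← mul_assoc (s u), this]; group
  · rw [map_mul, (e2 t).2, (e2' t).2, ← hv]
    congr 1
    linear_combination t * hw + t ^ 2 * h4 w + (w * t ^ 2 - t) * h2

theorem exists_f [Group.IsPerfect G] (hs : Function.Surjective π) (hc : π.ker ≤ center G)
    (h2 : ∀ x ∈ π.ker, x * x = 1) (hk : Nat.card K ≤ Nat.card π.ker) {w : K}
    (hw : w ^ 2 + w + 1 = 0) (h4 : ∀ m : K, m ^ 4 = m) {σ : K ≃+* K} (hσ : ∀ m, σ m = m ^ 2) :
    ∃ f : U2 σ →* G, Function.Injective f ∧ (∀ x, π (f x) = pu x.t x.a x.b) ∧ π.ker ≤ f.range := by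
  have two : (2 : K) = 0 := CharTwo.two_eq_zero
  have hq := fun {g t a b} => sq_eq_one hs hc h2 (w := w) (by rintro rfl; simp at hw)
    (fun e => one_ne_zero (by linear_combination hw - w * e)) (g := g) (t := t) (a := a) (b := b)
  obtain ⟨s, s1, s2⟩ := exists_sec hs hw h4 (v := fun t => pu t 0 0) (fun t u => by simp [pu_mul])
    fun g t => hq (.inr rfl)
  obtain ⟨r, r1, r2⟩ := exists_sec hs hw h4 (v := fun t => pu 0 t 0) (fun t u => by simp [pu_mul])
    fun g t => hq (.inl rfl)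
  have cm : ∀ {g t a b z c}, t = 0 ∨ a = 0 → π g = pu t a b → π z = pu 0 0 c → g * z = z * g :=
    fun h e e' => comm_of_sq (hq h e) (hq (.inl rfl) e') (hq (by simpa using h)
      (by rw [map_mul, e, e', pu_mul, add_zero, add_zero]))
  let β : K → K → G := fun t a => s t * r a * (s t)⁻¹ * (r a)⁻¹
  have hβ : ∀ t a, π (β t a) = pu 0 0 (t * a) := fun t a => by
    simp only [β, map_mul, map_inv, s2, r2, mul_inv_eq_iff_eq_mul, pu_mul]; simp
  have b1 : ∀ t u a, β (t + u) a = β t a * β u a := fun t u a => by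
    rw [cm (.inl rfl) (hβ t a) (hβ u a), show β (t + u) a = s t * β u a * (r a * (s t)⁻¹ * (r a)⁻¹) by
      simp only [β, s1]; group, cm (.inr rfl) (s2 t) (hβ u a)]
    simp only [β]; group
  have b2 : ∀ t a u, β t (a + u) = β t a * β t u := fun t a u => by
    rw [show β t (a + u) = β t a * (r a * β t u) * (r a)⁻¹ by simp only [β, r1]; group,
      cm (.inl rfl) (r2 a) (hβ t u)]
    group
  have b0 : ∀ t, β t 0 = 1 := fun t => mul_left_cancel (a := β t 0) (by rw [← b2, add_zero, mul_one])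
  let ψ : K → K → G := fun b c => β 1 (b + w * (b + c)) * β w (b + c)
  have hψ : ∀ b c, π (ψ b c) = pu 0 0 b := fun b c => by
    simp only [ψ, map_mul, hβ, pu_mul]
    congr 1
    · simp
    · simp
    · linear_combination w * (b + c) * two
  have p1 : ∀ b c b' c', ψ (b + b') (c + c') = ψ b c * ψ b' c' := fun b c b' c' => by
    simp only [ψ]
    rw [show b + b' + w * (b + b' + (c + c')) = b + w * (b + c) + (b' + w * (b' + c')) by ring,
      show b + b' + (c + c') = b + c + (b' + c') by ring, b2 1 (b + _), b2 w (b + c), mul_assoc,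
      mul_assoc (β 1 (b + _)), ← mul_assoc (β 1 (b' + _)),
      cm (.inl rfl) (hβ 1 (b' + _)) (hβ w (b + c)), mul_assoc (β w _)]
  have p2 : ∀ t a, ψ (t * a) (σ t * a) = β t a := fun t a => by
    have : t * (t + 1) * (t + w) * (t + (w + 1)) = 0 := by
      linear_combination h4 t + (t ^ 2 + t) * hw + (t ^ 3 * w + t ^ 3 + t ^ 2 * w) * two
    simp only [mul_eq_zero, add_eq_zero_iff_eq_neg, CharTwo.neg_eq] at this
    simp only [ψ, hσ]
    rcases this with ((rfl | rfl) | rfl) | rfl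
    · rw [show β 0 a = 1 from mul_left_cancel (a := β 0 a) (by rw [← b1, add_zero, mul_one])]
      simp [b0]
    · simp [CharTwo.add_self_eq_zero, b0]
    · rw [show t * a + t ^ 2 * a = a by linear_combination a * hw - a * two,
        CharTwo.add_self_eq_zero, b0, one_mul]
    · rw [show (w + 1) * a + (w + 1) ^ 2 * a = a by linear_combination a * hw + w * a * two,
        show (w + 1) * a + w * a = a by linear_combination w * a * two, ← b1, add_comm]
  let f : U2 σ →* G := MonoidHom.mk' (fun x => ψ x.b x.c * r x.a * s x.t) fun x y => by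
    simp only [U2.mul_t, U2.mul_a, U2.mul_b, U2.mul_c, p1, p2, r1, s1]
    rw [mul_assoc (ψ y.b y.c), ← mul_assoc (_ * s x.t), mul_assoc _ (s x.t),
      cm (.inr rfl) (s2 _) (hψ y.b y.c), ← mul_assoc _ (ψ y.b y.c), mul_assoc _ (r x.a) (ψ y.b y.c),
      cm (.inl rfl) (r2 _) (hψ y.b y.c), mul_assoc _ (β _ _), ← mul_assoc (β _ _),
      ← cm (.inl rfl) (r2 x.a) (hβ x.t y.a)]
    simp only [β]; group
  have hf : ∀ x, π (f x) = pu x.t x.a x.b := fun x => by
    simp only [f, MonoidHom.mk'_apply, map_mul, hψ, r2, s2, pu_mul]; simp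
  have hk2 : IsPGroup 2 π.ker := fun x => ⟨1, Subtype.ext (by simpa [sq] using h2 x x.2)⟩
  let T : Sylow 2 G := (pU_isPGroup.comap_of_ker_isPGroup π hk2).toSylow
    (by rw [index_comap_of_surjective _ hs]; exact pU_index)
  have hT : ∀ g ∈ (T : Subgroup G), ∃ x, ∃ k ∈ center G, g = f x * k := fun g hg => by
    obtain ⟨a, b, c, e⟩ := mem_pU.1 hg
    exact ⟨⟨a, b, c, 0⟩, (f ⟨a, b, c, 0⟩)⁻¹ * g, hc (by
      rw [MonoidHom.mem_ker, map_mul, map_inv, hf, e, inv_mul_cancel]), by simp⟩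
  have hr : π.ker ≤ f.range := fun k hk => commutator_le.2 (fun g hg h hh => by
      obtain ⟨x, k, hk, rfl⟩ := hT g hg
      obtain ⟨y, l, hl, rfl⟩ := hT h hh
      refine ⟨x * y * x⁻¹ * y⁻¹, ?_⟩
      rw [commutatorElement_def, show f x * k * (f y * l) * (f x * k)⁻¹ * (f y * l)⁻¹ =
        f x * (k * (f y * l) * k⁻¹) * ((f x)⁻¹ * l⁻¹) * (f y)⁻¹ by group, ← mem_center_iff.1 hk,
        mem_center_iff.1 (Subgroup.inv_mem _ hl)]
      simp only [map_mul, map_inv]; group)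
    (GT.Tr.sylow_inf_commutator_inf_center_le T ⟨⟨show π k ∈ pU K from hk ▸ one_mem _,
      Group.IsPerfect.commutator_eq_top (G := G) ▸ mem_top k⟩, hc hk⟩)
  refine ⟨f, (injective_iff_map_eq_one f).2 fun x hx => ?_, hf, hr⟩
  have h5 := pu_eq_one.1 ((hf x).symm.trans (by rw [hx, map_one]))
  have h6 : Function.Surjective fun c : K => (⟨f ⟨0, 0, 0, c⟩, (hf _).trans pu_zero⟩ : π.ker) :=
    fun k => by
      obtain ⟨y, hy⟩ := hr k.2
      have h7 := pu_eq_one.1 ((hf y).symm.trans (by rw [hy]; exact k.2))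
      exact ⟨y.c, Subtype.ext (Eq.trans (congrArg f (U2.ext h7.1.symm h7.2.1.symm h7.2.2.symm rfl)) hy)⟩
  exact U2.ext h5.1 h5.2.1 h5.2.2 ((h6.bijective_of_nat_card_le hk).1 (Subtype.ext
    ((congrArg f (show ⟨0, 0, 0, x.c⟩ = x from U2.ext h5.1.symm h5.2.1.symm h5.2.2.symm rfl)).trans
      (hx.trans (map_one f).symm))))

end Cover

end Cfsg.Agent.Fus.SU
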