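import Mathlib
import Cfsg.Agent.Fus.SpTwoC

/-! Fusion systems on the unipotent group of `Sp₄(K)` in characteristic two with a nontrivial
normal subgroup are realizable. -/

set_option autoImplicit false
set_option linter.unusedSectionVars false

namespace Cfsg.Agent.Fus.SU

open Subgroup Cfsg.FusionSystem MG

universe u v

theorem isRealizable_of {Ω : Type u} [Group Ω] {S : Subgroup Ω} {F : FusionSystem S} {G : Type*}
    [Group G] [Finite G] (h : RealizedIn F G) (hS : IsPGroup 2 S) : F.IsRealizable 2 := by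
  obtain ⟨θ, h, e⟩ := h
  let π : G ≃* Shrink.{u} G := Shrink.mulEquiv.symm
  have := Finite.of_equiv _ π.toEquiv
  have : RealizedIn F (Shrink.{u} G) := ⟨_, h.quot hS e π.toMonoidHom π.surjective (by
    rw [π.toMonoidHom.ker_eq_bot_iff.2 π.injective, inf_bot_eq]), by
      rwa [h.img_comp_hom, index_map_of_bijective π.bijective]⟩
  exact ⟨_, inferInstance, inferInstance, this.exists hS⟩

namespace U2
variable {K : Type v} [Field K] {σ : K ≃+* K} [Fintype K] [CharP K 2]
  {F F' : FusionSystem (⊤ : Subgroup (U2 σ))}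

theorem ess_all (hF : F.IsSaturated 2) (hn : ¬ F.IsConstrained 2) (i : Bool) :
    F.IsEssential 2 (A σ i) := by
  by_contra h
  refine hn (con_of_subsingleton hF isPGroup fun P Q hP hQ => ?_)
  obtain ⟨j, rfl⟩ := ess_cases hF hP
  obtain ⟨k, rfl⟩ := ess_cases hF hQ
  cases i <;> cases j <;> cases k <;> simp_all

theorem not_con {f g : U2 σ → U2 σ} (hf : F.Mor (Z σ) f) (hg : F.Mor (Z σ) g) {z : U2 σ}
    (hz : z ∈ Z σ) (h : f z * g z ≠ g z * f z) : ¬ F.IsConstrained 2 := by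
  rintro ⟨-, Q, hQ, hc⟩
  have hzQ : z ∈ Q := hc.mem (mem_top z) fun y _ => mul_inv_eq_iff_eq_mul.1 (fix_Z y hz)
  obtain ⟨k, hk, e, e'⟩ := hQ.extend hf
  obtain ⟨y, hy, e''⟩ := (hk.mem_img le_sup_right).1
    (e'.symm ▸ hQ.stronglyClosed.mem hg hz hzQ : g z ∈ img k Q)
  refine h ?_
  rw [← e z hz, ← e'', hk.commute_iff (mem_sup_left hz) (mem_sup_right hy),
    ← mul_inv_eq_iff_eq_mul.1 (fix_Z y hz)]

theorem model (hσ : Hs σ) {G₀ G : Type*} [Group G₀] [Group G] [Finite G]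
    {π : G₀ →* Matrix.ProjectiveSpecialLinearGroup (Fin 3) K} (hs : Function.Surjective π)
    {f : U2 σ →* G₀} (hf : Function.Injective f) (hπ : ∀ x, π (f x) = pu x.t x.a x.b)
    (hk : π.ker ≤ f.range) {j : G₀ →* G} (hj : Function.Injective j) (hi : ¬ 2 ∣ j.range.index)
    (hn : ∀ g : G, ∀ k ∈ π.ker, ∃ k' ∈ π.ker, j k' = g * j k * g⁻¹) :
    ∃ F : FusionSystem (⊤ : Subgroup (U2 σ)), Gd F ∧ F.Realizes (j.comp f) ⊤ ∧ RealizedIn F G := by
  have hr : f.range = (pU K).comap π := le_antisymm (by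
    rintro _ ⟨x, rfl⟩
    exact mem_pU.2 ⟨_, _, _, hπ x⟩) fun g hg => by
      obtain ⟨a, b, c, e⟩ := mem_pU.1 hg
      simpa using mul_mem (⟨⟨a, b, c, 0⟩, rfl⟩ : _ ∈ f.range) (hk (show (f ⟨a, b, c, 0⟩)⁻¹ * g ∈ π.ker by
        rw [MonoidHom.mem_ker, map_mul, map_inv, hπ, e, inv_mul_cancel]))
  have hT : img (j.comp f) ⊤ = f.range.map j := by
    rw [img_eq_map, ← map_map, MonoidHom.range_eq_map]
  have hidx : ¬ 2 ∣ (img (j.comp f) ⊤).index := by
    rw [hT, index_map_of_injective _ hj, hr, index_comap_of_surjective _ hs]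
    exact Nat.prime_two.not_dvd_mul pU_index hi
  obtain ⟨F, hF⟩ := (groupFusionSystem (j.comp f).range).exists_isIsoVia_equiv
    (MonoidHom.ofInjective (f := j.comp f) (hj.comp hf)).symm
  have hR : F.Realizes (j.comp f) ⊤ := (hF.symm.realizes realizes_group).congr fun _ _ => rfl
  have hsat := hR.isSaturated isPGroup (by rwa [relIndex_top_right])
  have key : ∀ (l : Matrix.ProjectiveSpecialLinearGroup (Fin 3) K) (t a : K → K),
      (∀ b, l * pu 0 0 b * l⁻¹ = pu (t b) (a b) 0) → ∃ g, F.Mor (Z σ) g ∧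
        (g ⟨0, 0, 1, 0⟩).t = t 1 ∧ (g ⟨0, 0, 1, 0⟩).a = a 1 := fun l t a hl => by
    obtain ⟨l, rfl⟩ := hs l
    obtain ⟨g, hg, e⟩ := hR.exists_mor (P := Z σ) le_top (mem_top (j l)) fun x hx => by
      rw [hT, hr]
      exact ⟨l * f x * l⁻¹, mem_pU.2 ⟨_, _, _, by
        rw [map_mul, map_mul, map_inv, hπ, hx.1, hx.2, hl]⟩, by simp⟩
    have := congrArg π (hj ((e ⟨0, 0, 1, 0⟩ ⟨rfl, rfl⟩).trans (by
      simp : _ = j (l * f ⟨0, 0, 1, 0⟩ * l⁻¹))))
    rw [map_mul, map_mul, map_inv, hπ, hπ, hl] at this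
    exact ⟨g, hg, (pu_inj this).1, (pu_inj this).2.1⟩
  obtain ⟨l₁, h₁⟩ := exists_w1 (K := K)
  obtain ⟨l₂, h₂⟩ := exists_w2 (K := K)
  obtain ⟨g₁, m₁, e₁, e₁'⟩ := key l₁ id (fun _ => 0) h₁
  obtain ⟨g₂, m₂, e₂, e₂'⟩ := key l₂ (fun _ => 0) id h₂
  have hC : img (j.comp f) (C σ) = π.ker.map j := by
    rw [img_eq_map, ← map_map]
    congr 1
    refine le_antisymm ?_ fun k h => ?_
    · rintro _ ⟨x, hx, rfl⟩
      exact (hπ x).trans (pu_eq_one.2 hx)
    · obtain ⟨x, rfl⟩ := hk h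
      exact ⟨x, pu_eq_one.1 ((hπ x).symm.trans h), rfl⟩
  refine ⟨F, gd_of hσ hsat (N := C σ) (hR.isNormal le_top fun g _ => mem_normalizer_fintype ?_)
    (ess_all hsat (not_con m₁ m₂ (z := ⟨0, 0, 1, 0⟩) ⟨rfl, rfl⟩ fun e => ?_)) (d := ⟨0, 0, 0, 1⟩)
    ⟨rfl, rfl, rfl⟩ (fun e => one_ne_zero (congrArg U2.c e)) rfl, hR, _, hR, hidx⟩
  · rw [hC]
    rintro _ ⟨k, h, rfl⟩
    exact hn g k h
  · simpa [e₁, e₁', e₂, e₂', add_comm] using congrArg U2.b e

theorem cen_iff {e : U2 σ ≃* U2 σ} (h : F.IsIsoVia F' e e.symm) (he : ∀ z ∈ C σ, e z = z) :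
    Cen F ↔ Cen F' := by
  refine ⟨fun hc τ hτ z hz => ?_, fun hc τ hτ z hz => ?_⟩
  · have := h.symm.iso_push hτ
    rw [h.symm.img_top] at this
    have := hc _ this z hz
    rwa [he z hz, e.symm_apply_eq, he z hz] at this
  · have := h.iso_push hτ
    rw [h.img_top] at this
    have := hc _ this z hz
    rw [e.symm_apply_eq.2 (he z hz).symm] at this
    exact e.injective (this.trans (he z hz).symm)

theorem Gd.real_of (h : Gd F) (h' : Gd F') (hc : Cen F ↔ Cen F') {G : Type*} [Group G]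
    (hr : RealizedIn F' G) : RealizedIn F G := by
  obtain ⟨E, e, h1, h2, h3, h4⟩ := h.normal_form
  obtain ⟨E', e', h1', h2', h3', h4'⟩ := h'.normal_form
  have := (cen_iff h1 h4).symm.trans (hc.trans (cen_iff h1' h4'))
  obtain rfl := le_antisymm' (h2.le h2' this.2 h3 h3') (h2'.le h2 this.1 h3' h3)
  exact (hr.of_iso h1'.symm).of_iso h1

theorem Gd.real (h : Gd F) : ∃ (G : Type v) (_ : Group G) (_ : Finite G), RealizedIn F G := by
  have two : (2 : K) = 0 := CharTwo.two_eq_zero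
  by_cases hK : ∀ t : K, t = 0 ∨ t = 1
  · have h1 : ∀ {F : FusionSystem (⊤ : Subgroup (U2 σ))}, Gd F → Cen F := fun h τ hτ z hz => by
      obtain ⟨x, y, hs⟩ := h.exists_sc hτ
      obtain rfl := (hK x).resolve_left (h.sc_ne hτ hs).1
      obtain rfl := (hK y).resolve_left (h.sc_ne hτ hs).2
      exact h.fix_of hτ hs hz
    have h2 : ∀ t, σ t = t := fun t => by rcases hK t with rfl | rfl <;> simp
    let f : U2 σ →* Matrix.ProjectiveSpecialLinearGroup (Fin 3) K × Multiplicative K :=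
      MonoidHom.mk' (fun x => (pu x.t x.a x.b, Multiplicative.ofAdd (x.c - x.b))) fun x y =>
        Prod.ext (pu_mul ..).symm (congrArg Multiplicative.ofAdd (by simp [h2]; ring))
    obtain ⟨F', h3, -, h4⟩ := model h.hs (π := MonoidHom.fst _ _) (f := f) Prod.fst_surjective
      (fun x y e => by
        obtain ⟨e1, e2, e3⟩ := pu_inj (congrArg Prod.fst e)
        exact U2.ext e1 e2 e3 (by simpa [f, e3] using congrArg Prod.snd e))
      (fun _ => rfl) (fun k hk => ⟨⟨0, 0, 0, k.2.toAdd⟩, Prod.ext (pu_zero.trans hk.symm)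
        (by simp [f])⟩) (j := MonoidHom.id _) Function.injective_id
      (by rw [(MonoidHom.id _).range_eq_top_of_surjective Function.surjective_id]; simp)
      fun g k hk => ⟨_, (MonoidHom.normal_ker _).conj_mem k hk g, rfl⟩
    exact ⟨_, inferInstance, inferInstance, h.real_of h3 (iff_of_true (h1 h) (h1 h3)) h4⟩
  push Not at hK
  obtain ⟨w, h0, h1⟩ := hK
  have h4 := fun m => (h.sq m).2
  have hw : w ^ 2 + w + 1 = 0 := mul_left_cancel₀ (mul_ne_zero h0 (sub_ne_zero.2 h1))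
    (by linear_combination h4 w)
  have hK : Fintype.card K = 4 := by
    classical
    rw [← Finset.card_univ, show (Finset.univ : Finset K) = {0, 1, w, w + 1} from
      Finset.ext fun t => by
        have : t * (t + 1) * (t + w) * (t + (w + 1)) = 0 := by
          linear_combination h4 t + (t ^ 2 + t) * hw + (t ^ 3 * w + t ^ 3 + t ^ 2 * w) * two
        simpa only [mul_eq_zero, add_eq_zero_iff_eq_neg, CharTwo.neg_eq, Finset.mem_univ,
          Finset.mem_insert, Finset.mem_singleton, true_iff, or_assoc] using this]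
    refine Finset.card_eq_four.2 ⟨_, _, _, _, zero_ne_one, h0.symm, fun e => h1 ?_, h1.symm,
      by simpa using h0, by simp, rfl⟩
    linear_combination -e - two
  obtain ⟨G, _, _, π, _, hs, hc, h2, hk, hη⟩ := exists_cover hK
  obtain ⟨f, f1, f2, f3⟩ := exists_f hs hc h2 (by rwa [Nat.card_eq_fintype_card, hK]) hw h4
    fun m => (h.sq m).1
  by_cases hC : Cen F
  · obtain ⟨F', h3, h5, h6⟩ := model h.hs hs f1 f2 f3 (j := MonoidHom.id _) Function.injective_id
      (by rw [(MonoidHom.id _).range_eq_top_of_surjective Function.surjective_id]; simp)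
      fun g k hk => ⟨_, (MonoidHom.normal_ker _).conj_mem k hk g, rfl⟩
    refine ⟨_, inferInstance, inferInstance, h.real_of h3 (iff_of_true hC fun τ hτ z hz => ?_) h6⟩
    obtain ⟨g, -, e⟩ := h5.exists_conj hτ.mor
    exact f1 ((e z (mem_top z)).trans (mul_inv_eq_iff_eq_mul.2
      (mem_center_iff.1 (hc ((f2 z).trans (pu_eq_one.2 hz))) g)))
  obtain ⟨η, η1, η2⟩ := exists_eta (h.cube h0)
  obtain ⟨θ, hθ⟩ := hη η
  have hθ3 : ∀ x, θ (θ (θ x)) = x := fun x => DFunLike.congr_fun (Ch.lift_unique_of_isPerfect hc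
    (η₁ := θ.comp (θ.comp θ)) (η₂ := MonoidHom.id G) (MonoidHom.ext fun x => by
      simp [hθ, η2])) x
  let α : MulAut G := MulEquiv.ofBijective θ (Finite.injective_iff_bijective.1
    (Function.LeftInverse.injective (g := fun x => θ (θ x)) hθ3))
  have hα : α ^ 3 = 1 := MulEquiv.ext hθ3
  have := Finite.of_equiv _ (SemidirectProduct.equivProd (φ := (zpowers α).subtype)).symm
  obtain ⟨F', h3, h5, h6⟩ := model h.hs hs f1 f2 f3
    (j := (SemidirectProduct.inl : G →* G ⋊[(zpowers α).subtype] zpowers α))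
    SemidirectProduct.inl_injective (by
      rw [SemidirectProduct.range_inl_eq_ker_rightHom, index_ker,
        MonoidHom.range_eq_top.2 SemidirectProduct.rightHom_surjective, card_top, Nat.card_zpowers]
      exact fun e => absurd (e.trans (orderOf_dvd_of_pow_eq_one hα)) (by decide))
    fun g k hk => by
      obtain ⟨n, hn⟩ := mem_powers_iff_mem_zpowers.2 g.right.2
      have h7 : ∀ n : ℕ, (α ^ n) k ∈ π.ker := fun n => by
        induction n with
        | zero => exact hk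
        | succ n ih => rw [pow_succ']; exact (hθ _).trans ((congrArg η ih).trans (map_one η))
      refine ⟨_, (MonoidHom.normal_ker _).conj_mem _ (h7 n) g.left, ?_⟩
      rw [show α ^ n = (zpowers α).subtype g.right from hn, map_mul, map_mul, map_inv,
        SemidirectProduct.inl_aut]
      conv_rhs => rw [← SemidirectProduct.inl_left_mul_inr_right g]
      simp only [map_inv]; group
  refine ⟨_, inferInstance, inferInstance, h.real_of h3 (iff_of_false hC fun hC' => h1 ?_) h6⟩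
  have h7 : ∀ x, SemidirectProduct.inr ⟨α, mem_zpowers α⟩ * (SemidirectProduct.inl.comp f) x *
      (SemidirectProduct.inr ⟨α, mem_zpowers α⟩ : G ⋊[(zpowers α).subtype] zpowers α)⁻¹ =
      SemidirectProduct.inl (θ (f x)) := fun x => by
    rw [← map_inv, MonoidHom.comp_apply, ← SemidirectProduct.inl_aut]; rfl
  obtain ⟨τ, hτ, e⟩ := h5.exists_mor le_rfl (mem_top _) fun x _ => by
    obtain ⟨y, hy⟩ := f3 (show (f ⟨x.t, w * x.a, w * x.b, 0⟩)⁻¹ * θ (f x) ∈ π.ker by
      rw [MonoidHom.mem_ker, map_mul, map_inv, hθ, f2, f2, η1, inv_mul_cancel])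
    rw [h7, ← mul_inv_cancel_left (f ⟨x.t, w * x.a, w * x.b, 0⟩) (θ _), ← hy, ← map_mul]
    exact mem_img_of_mem (mem_top _)
  refine h3.eq_of_fix hτ.iso_top (fun x => ?_) (z := ⟨0, 0, 0, 1⟩) ⟨rfl, rfl, rfl⟩
    (fun e => one_ne_zero (congrArg U2.c e)) (hC' τ hτ.iso_top _ ⟨rfl, rfl, rfl⟩)
  have := congrArg π (SemidirectProduct.inl_injective ((e x (mem_top x)).trans (h7 x)))
  rw [hθ, f2, f2, η1] at this
  exact ⟨(pu_inj this).1.trans (one_mul _).symm, (pu_inj this).2.1⟩

/-- The isomorphism exchanging the two root subgroups in the centre. -/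
def swap (σ : K ≃+* K) : U2 σ ≃* U2 σ.symm where
  toFun x := ⟨σ x.t, x.a, x.c, x.b⟩
  invFun x := ⟨σ.symm x.t, x.a, x.c, x.b⟩
  left_inv x := by ext <;> simp
  right_inv x := by ext <;> simp
  map_mul' x y := by ext <;> simp

theorem real (hσ : Hs σ) (hF : F.IsSaturated 2) (h0 : F.core ≠ ⊥) (hn : ¬ F.IsConstrained 2) :
    ∃ (G : Type v) (_ : Group G) (_ : Finite G), RealizedIn F G := by
  have hP := ess_all hF hn
  obtain ⟨⟨d, hd⟩, hd1⟩ := (ne_bot_iff_exists_ne_one).1 h0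
  replace hd1 : d ≠ 1 := fun e => hd1 (Subtype.ext e)
  rcases line_cases hσ hF F.isNormal_core hP hd with e | e
  · exact (gd_of hσ hF F.isNormal_core hP hd hd1 e).real
  obtain ⟨E, hE⟩ := exists_via F (swap σ)
  have hs := hE.isSaturated hF isPGroup
  obtain ⟨G, _, _, h⟩ := (gd_of hσ.symm hs (hE.isNormal F.isNormal_core)
    (ess_all hs fun h => hn (hE.symm.isConstrained isPGroup h)) (mem_img_of_mem hd)
    (by simpa using hd1) e).real
  exact ⟨G, inferInstance, inferInstance, h.of_iso hE⟩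

end U2

end Cfsg.Agent.Fus.SU
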